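import Mathlib
import Cfsg.Agent.Helper15.SL2A
import Cfsg.Agent.Helper11.Virtual1
import Cfsg.Agent.Helper11.ConjChar

/-!
# `SL₂(q)`, `q` odd: the irreducible characters (helper15)
-/

set_option autoImplicit false

namespace Cfsg.Agent.Helper15.SL2B

open Cfsg Matrix
open scoped ComplexConjugate
open Cfsg.Agent.Helper15.SL2A
open Cfsg.Agent.S2433 (Bor mem_Bor)
open Cfsg.Agent.S2432 (char_sum_one char_sum_ne)
open Cfsg.Agent.S2508 (Zm Zm_coe Zm_center Zm_ne_one center_odd)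
open Cfsg.Agent.S2430 (two_ne_zero_of_odd)

section Generic
universe u
variable {G : Type u} [Group G] [Fintype G]

/-- a generalized character of norm one with positive degree is irreducible -/
theorem irr_of_norm_one {θ : G → ℂ} (hθ : IsGeneralizedCharacter G θ)
    (h1 : classInner θ θ = 1) (n : ℕ) (hn : n ≠ 0) (hdeg : θ 1 = n) : IsIrrCharacter G θ := by
  obtain ⟨ψ, h | h⟩ := Helper11.virtual_norm_one hθ h1
  · rw [h]
    exact ψ.2
  · exfalso
    have h2 := Helper25.irr_one_eq_degree ψ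
    have h3 : θ 1 = -(ψ : G → ℂ) 1 := by rw [h]; rfl
    rw [hdeg, h2] at h3
    have h5 : ((n + charDegree (ψ : G → ℂ) : ℕ) : ℂ) = 0 := by
      push_cast
      rw [h3]
      ring
    have h4 : n + charDegree (ψ : G → ℂ) = 0 := by exact_mod_cast h5
    omega

/-- two irreducible characters with nonzero inner product are equal -/
lemma irr_eq_of_inner_ne {χ ψ : G → ℂ} (hχ : IsIrrCharacter G χ) (hψ : IsIrrCharacter G ψ)
    (h : classInner χ ψ ≠ 0) : χ = ψ := by
  by_contra hne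
  apply h
  exact Helper1.classInner_irr_ne ⟨χ, hχ⟩ ⟨ψ, hψ⟩ (fun h' => hne (congrArg Subtype.val h'))

lemma irr_inner_self {χ : G → ℂ} (hχ : IsIrrCharacter G χ) : classInner χ χ = 1 :=
  Helper1.classInner_irr_self ⟨χ, hχ⟩

/-- characters with a common irreducible constituent are not orthogonal -/
lemma inner_ne_zero_of_common {A B χ : G → ℂ} (hA : IsCharacter G A) (hB : IsCharacter G B)
    (hχ : IsIrrCharacter G χ) (h1 : classInner A χ ≠ 0) (h2 : classInner B χ ≠ 0) :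
    classInner A B ≠ 0 := by
  classical
  have hmA : ∀ ψ : IrrCharacter G, ∃ m : ℕ, classInner A (ψ : G → ℂ) = m := fun ψ =>
    Helper2.classInner_char_nat hA (Helper2.isCharacter_of_isIrrCharacter ψ.2)
  have hmB : ∀ ψ : IrrCharacter G, ∃ m : ℕ, classInner B (ψ : G → ℂ) = m := fun ψ =>
    Helper2.classInner_char_nat hB (Helper2.isCharacter_of_isIrrCharacter ψ.2)
  choose mA hmA using hmA
  choose mB hmB using hmB
  have hpar := Helper2.classInner_eq_sum_mul (Helper2.isClassFunction_of_isCharacter hA) B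
  intro h0
  rw [hpar] at h0
  have hsum : ∑ ψ : IrrCharacter G, mA ψ * mB ψ = 0 := by
    have h5 : ((∑ ψ : IrrCharacter G, mA ψ * mB ψ : ℕ) : ℂ) = 0 := by
      rw [← h0]
      push_cast
      apply Finset.sum_congr rfl
      intro ψ _
      rw [hmA, hmB, Complex.conj_natCast]
    exact_mod_cast h5
  have hz := (Finset.sum_eq_zero_iff.mp hsum) ⟨χ, hχ⟩ (Finset.mem_univ _)
  rcases Nat.mul_eq_zero.mp hz with h | h
  · apply h1
    have := hmA ⟨χ, hχ⟩
    rw [h] at this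
    simpa using this
  · apply h2
    have := hmB ⟨χ, hχ⟩
    rw [h] at this
    simpa using this

lemma inner_nat_of_char_irr {A χ : G → ℂ} (hA : IsCharacter G A) (hχ : IsIrrCharacter G χ) :
    ∃ m : ℕ, classInner A χ = m :=
  Helper2.classInner_char_nat hA (Helper2.isCharacter_of_isIrrCharacter hχ)

lemma inner_int_of_gen_irr {A χ : G → ℂ} (hA : IsGeneralizedCharacter G A)
    (hχ : IsIrrCharacter G χ) : ∃ m : ℤ, classInner A χ = m :=
  (Helper2.isGeneralizedCharacter_iff.mp hA).2 ⟨χ, hχ⟩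

lemma irr_one_nat {χ : G → ℂ} (hχ : IsIrrCharacter G χ) : ∃ n : ℕ, n ≠ 0 ∧ χ 1 = n :=
  ⟨charDegree χ, (Helper25.irr_degree_pos ⟨χ, hχ⟩).ne', Helper25.irr_one_eq_degree ⟨χ, hχ⟩⟩

end Generic

section Main
variable {F : Type*} [Field F] [Fintype F] [DecidableEq F]

local notation "SL" => Matrix.SpecialLinearGroup (Fin 2) F
local notation "qq" => (Fintype.card F : ℂ)

/-- the trivial character -/
def triv : SL → ℂ := fun _ => 1

lemma triv_apply (g : SL) : triv g = 1 := rfl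

lemma triv_irr : IsIrrCharacter SL (triv (F := F)) := (Helper25.trivChar SL).2

open Classical in
lemma inner_RR (hodd : Odd (Fintype.card F)) (α β : MulChar F ℂ) :
    classInner (R α) (R β) = (if α = β then 1 else 0) + (if α = β⁻¹ then 1 else 0) :=
  Cfsg.Agent.S2432.result hodd α β

open Classical in
lemma inner_R_triv (α : MulChar F ℂ) :
    classInner (R α) (triv (F := F)) = if α = 1 then 1 else 0 := by
  have hcf : IsClassFunction SL (triv (F := F)) := fun _ _ => rfl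
  rw [inner_R α triv hcf]
  have hq0 := q_ne_zero (F := F)
  have hq1 := q_sub_one_ne_zero (F := F)
  have e : ∀ u : Fˣ, ∑ c : F, α (u : F) * conj (triv (bm u c)) = qq * α (u : F) := by
    intro u
    simp only [triv_apply, map_one, mul_one, Finset.sum_const, Finset.card_univ, nsmul_eq_mul]
  rw [Finset.sum_congr rfl (fun u _ => e u), ← Finset.mul_sum]
  split_ifs with h
  · rw [char_sum_one α h]
    field_simp
  · rw [char_sum_ne α h, mul_zero, mul_zero]

/-- the Steinberg character -/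
noncomputable def St : SL → ℂ := fun g => R (1 : MulChar F ℂ) g - 1

lemma St_apply (g : SL) : St g = R (1 : MulChar F ℂ) g - 1 := rfl

lemma St_eq : (St (F := F)) = R (1 : MulChar F ℂ) - triv := rfl

lemma R_one_one (hodd : Odd (Fintype.card F)) : R (1 : MulChar F ℂ) (1 : SL) = qq + 1 := by
  have := R_one_bm_central hodd (1 : Fˣ) (mul_one 1)
  rwa [bm_one] at this

lemma St_irr (hodd : Odd (Fintype.card F)) : IsIrrCharacter SL (St (F := F)) := by
  classical
  have hgen : IsGeneralizedCharacter SL (St (F := F)) :=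
    ⟨R 1, triv, R_char 1, Helper2.isCharacter_of_isIrrCharacter triv_irr, St_eq⟩
  have h1 : classInner (R (1 : MulChar F ℂ)) (triv (F := F)) = 1 := by
    rw [inner_R_triv, if_pos rfl]
  have h2 : classInner (triv (F := F)) (R (1 : MulChar F ℂ)) = 1 := by
    rw [Helper2.classInner_conj_symm, h1, map_one]
  have h3 : classInner (R (1 : MulChar F ℂ)) (R (1 : MulChar F ℂ)) = 2 := by
    rw [inner_RR hodd, if_pos rfl, if_pos (by rw [inv_one])]
    norm_num
  have hnorm : classInner (St (F := F)) St = 1 := by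
    rw [St_eq, Helper2.classInner_sub_left, Helper2.classInner_sub_right,
      Helper2.classInner_sub_right, h1, h2, h3, irr_inner_self triv_irr]
    norm_num
  apply irr_of_norm_one hgen hnorm (Fintype.card F) Fintype.card_ne_zero
  rw [St_apply, R_one_one hodd]
  ring

lemma St_one (hodd : Odd (Fintype.card F)) : St (1 : SL) = qq := by
  rw [St_apply, R_one_one hodd]
  ring



lemma neg_one_ne_one_F (hodd : Odd (Fintype.card F)) : (-1 : F) ≠ 1 := by
  have h2 : (2 : F) ≠ 0 := two_ne_zero_of_odd (Nat.odd_iff.mp hodd)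
  intro h
  apply h2
  linear_combination (-1 : F) * h

lemma exists_alpha (hodd : Odd (Fintype.card F)) (s : ℂ) (hs : s = 1 ∨ s = -1) :
    ∃ α : MulChar F ℂ, α (-1 : F) = s := by
  rcases hs with rfl | rfl
  · refine ⟨1, ?_⟩
    have : ((-1 : Fˣ) : F) = -1 := by simp
    rw [← this, MulChar.one_apply_coe]
  · obtain ⟨χ, hχ⟩ :=
      MulChar.exists_apply_ne_one_of_hasEnoughRootsOfUnity F ℂ (neg_one_ne_one_F hodd)
    refine ⟨χ, ?_⟩
    have hsq : χ (-1) * χ (-1) = 1 := by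
      rw [← map_mul]
      simp
    have h3 : (χ (-1) - 1) * (χ (-1) + 1) = 0 := by linear_combination hsq
    rcases mul_eq_zero.mp h3 with h | h
    · exact absurd (sub_eq_zero.mp h) hχ
    · exact eq_neg_of_add_eq_zero_left h

/-- the value of `θ` at the central involution -/
noncomputable def thz {C : Subgroup SL} (hC : NST C) (θ : C →* ℂˣ) : ℂ :=
  ((θ ⟨Zm F, hC.zm⟩ : ℂˣ) : ℂ)

lemma thz_def {C : Subgroup SL} (hC : NST C) (θ : C →* ℂˣ) :
    thz hC θ = ((θ ⟨Zm F, hC.zm⟩ : ℂˣ) : ℂ) := rfl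

lemma thz_sq {C : Subgroup SL} (hC : NST C) (θ : C →* ℂˣ) : thz hC θ * thz hC θ = 1 := by
  have h : (⟨Zm F, hC.zm⟩ : C) * ⟨Zm F, hC.zm⟩ = 1 := Subtype.ext zm_mul_self
  rw [thz_def, ← Units.val_mul, ← map_mul, h, map_one, Units.val_one]

lemma thz_cases {C : Subgroup SL} (hC : NST C) (θ : C →* ℂˣ) :
    thz hC θ = 1 ∨ thz hC θ = -1 := by
  have h3 : (thz hC θ - 1) * (thz hC θ + 1) = 0 := by linear_combination thz_sq hC θ
  rcases mul_eq_zero.mp h3 with h | h
  · left; exact sub_eq_zero.mp h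
  · right; exact eq_neg_of_add_eq_zero_left h

lemma thz_conj {C : Subgroup SL} (hC : NST C) (θ : C →* ℂˣ) : conj (thz hC θ) = thz hC θ := by
  rcases thz_cases hC θ with h | h <;> rw [h] <;> simp

lemma thz_one {C : Subgroup SL} (hC : NST C) : thz hC (1 : C →* ℂˣ) = 1 := by
  rw [thz_def, MonoidHom.one_apply, Units.val_one]

/-- a multiplicative character with the same central sign as `θ` -/
noncomputable def alphaOf (hodd : Odd (Fintype.card F)) {C : Subgroup SL} (hC : NST C)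
    (θ : C →* ℂˣ) : MulChar F ℂ :=
  Classical.choose (exists_alpha hodd (thz hC θ) (thz_cases hC θ))

lemma alphaOf_spec (hodd : Odd (Fintype.card F)) {C : Subgroup SL} (hC : NST C)
    (θ : C →* ℂˣ) : alphaOf hodd hC θ (-1 : F) = thz hC θ :=
  Classical.choose_spec (exists_alpha hodd (thz hC θ) (thz_cases hC θ))

/-- the discrete series (generalized) character attached to `θ` -/
noncomputable def Xc (hodd : Odd (Fintype.card F)) {C : Subgroup SL} (hC : NST C)
    (θ : C →* ℂˣ) : SL → ℂ :=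
  fun g => (R (1 : MulChar F ℂ) g - 2) * R (alphaOf hodd hC θ) g - Ith C θ g

lemma Xc_apply (hodd : Odd (Fintype.card F)) {C : Subgroup SL} (hC : NST C) (θ : C →* ℂˣ) (g : SL) : Xc hodd hC θ g =
    (R (1 : MulChar F ℂ) g - 2) * R (alphaOf hodd hC θ) g - Ith C θ g := rfl

lemma Xc_gen (hodd : Odd (Fintype.card F)) {C : Subgroup SL} (hC : NST C) (θ : C →* ℂˣ) : IsGeneralizedCharacter SL (Xc hodd hC θ) :=
  ⟨R 1 * R (alphaOf hodd hC θ), R (alphaOf hodd hC θ) + R (alphaOf hodd hC θ) + Ith C θ,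
    Helper2.isCharacter_mul (R_char 1) (R_char _),
    Helper2.isCharacter_add (Helper2.isCharacter_add (R_char _) (R_char _)) (Ith_char C θ), by
      funext g
      simp only [Xc_apply, Pi.sub_apply, Pi.mul_apply, Pi.add_apply]
      ring⟩

lemma Xc_cf (hodd : Odd (Fintype.card F)) {C : Subgroup SL} (hC : NST C) (θ : C →* ℂˣ) : IsClassFunction SL (Xc hodd hC θ) :=
  (Helper2.isGeneralizedCharacter_iff.mp (Xc_gen hodd hC θ)).1

lemma Xc_one (hodd : Odd (Fintype.card F)) {C : Subgroup SL} (hC : NST C) (θ : C →* ℂˣ) : Xc hodd hC θ 1 = qq - 1 := by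
  have h1 := R_bm_central hodd (alphaOf hodd hC θ) (1 : Fˣ) (mul_one 1)
  rw [bm_one, Units.val_one, map_one, mul_one] at h1
  have h2 := Ith_central hC θ 1 (Subgroup.one_mem _) (Subgroup.one_mem C)
  have h3 : (⟨1, Subgroup.one_mem C⟩ : C) = 1 := rfl
  rw [h3, map_one, Units.val_one, mul_one] at h2
  rw [Xc_apply, R_one_one hodd, h1, h2]
  ring

lemma Xc_zm (hodd : Odd (Fintype.card F)) {C : Subgroup SL} (hC : NST C) (θ : C →* ℂˣ) : Xc hodd hC θ (Zm F) = (qq - 1) * thz hC θ := by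
  have hm : (-1 : Fˣ) * (-1) = 1 := by simp
  have h0 := R_one_bm_central hodd (-1 : Fˣ) hm
  have h1 := R_bm_central hodd (alphaOf hodd hC θ) (-1 : Fˣ) hm
  have e : ((-1 : Fˣ) : F) = -1 := by simp
  rw [bm_neg_one] at h0
  rw [bm_neg_one, e, alphaOf_spec] at h1
  have h2 := Ith_central hC θ (Zm F) (Zm_center F) hC.zm
  rw [← thz_def hC θ] at h2
  rw [Xc_apply, h0, h1, h2]
  ring

lemma Xc_bm_split (hodd : Odd (Fintype.card F)) {C : Subgroup SL} (hC : NST C) (θ : C →* ℂˣ)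
    (a : Fˣ) (c : F) (ha : a * a ≠ 1) : Xc hodd hC θ (bm a c) = 0 := by
  rw [Xc_apply, R_one_bm_split hodd a c ha,
    Ith_eig hC θ _ (bm_ne_one_of_a c ha) (bm_ne_zm_of_a c ha) (not_noEig_bm a c)]
  ring

lemma Xc_bm_one (hodd : Odd (Fintype.card F)) {C : Subgroup SL} (hC : NST C) (θ : C →* ℂˣ)
    (c : F) (hc : c ≠ 0) : Xc hodd hC θ (bm 1 c) = -1 := by
  rw [Xc_apply, R_one_bm_unip hodd 1 c (mul_one 1) hc,
    R_bm_unip hodd _ 1 c (mul_one 1) hc, Units.val_one, map_one,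
    Ith_eig hC θ _ (bm_ne_one_of_c 1 hc) (bm_ne_zm_of_c 1 hc) (not_noEig_bm 1 c)]
  ring

lemma Xc_bm_neg (hodd : Odd (Fintype.card F)) {C : Subgroup SL} (hC : NST C) (θ : C →* ℂˣ)
    (c : F) (hc : c ≠ 0) : Xc hodd hC θ (bm (-1) c) = -(thz hC θ) := by
  have hm : (-1 : Fˣ) * (-1) = 1 := by simp
  have e : ((-1 : Fˣ) : F) = -1 := by simp
  rw [Xc_apply, R_one_bm_unip hodd (-1) c hm hc,
    R_bm_unip hodd _ (-1) c hm hc, e, alphaOf_spec,
    Ith_eig hC θ _ (bm_ne_one_of_c _ hc) (bm_ne_zm_of_c _ hc) (not_noEig_bm _ c)]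
  ring

lemma Xc_torus (hodd : Odd (Fintype.card F)) {C : Subgroup SL} (hC : NST C) (θ : C →* ℂˣ)
    (c : SL) (hc : c ∈ C) (h1 : c ≠ 1) (hz : c ≠ Zm F) :
    Xc hodd hC θ c = -(((θ ⟨c, hc⟩ : ℂˣ) : ℂ) + (((θ ⟨c, hc⟩)⁻¹ : ℂˣ) : ℂ)) := by
  have hne := hC.noeig c hc h1 hz
  rw [Xc_apply, R_noEig hodd _ c hne, R_noEig hodd _ c hne, Ith_torus hC θ c hc h1 hz]
  ring

lemma conj_zm_mul (x g : SL) : x⁻¹ * (Zm F * g) * x = Zm F * (x⁻¹ * g * x) := by
  calc x⁻¹ * (Zm F * g) * x = (x⁻¹ * Zm F) * g * x := by group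
    _ = (Zm F * x⁻¹) * g * x := by rw [zm_mul]
    _ = Zm F * (x⁻¹ * g * x) := by group

lemma zm_mul_10 (y : SL) : (Zm F * y).1 1 0 = -(y.1 1 0) := by
  rw [mul_10, zm_10, zm_11]; ring

lemma zm_mul_00 (y : SL) : (Zm F * y).1 0 0 = -(y.1 0 0) := by
  rw [mul_00, zm_00, zm_01]; ring

lemma R_zm_mul (α : MulChar F ℂ) (g : SL) : R α (Zm F * g) = α (-1 : F) * R α g := by
  have h1 := Cfsg.Agent.S2433.ind_eq (fun y : SL => α (y.1 0 0)) (Zm F * g)
  have h2 := Cfsg.Agent.S2433.ind_eq (fun y : SL => α (y.1 0 0)) g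
  have key : ∀ x : SL, (if (x⁻¹ * (Zm F * g) * x).1 1 0 = 0 then
      α ((x⁻¹ * (Zm F * g) * x).1 0 0) else 0) =
      α (-1 : F) * (if (x⁻¹ * g * x).1 1 0 = 0 then α ((x⁻¹ * g * x).1 0 0) else 0) := by
    intro x
    rw [conj_zm_mul, zm_mul_10, zm_mul_00]
    by_cases h : (x⁻¹ * g * x).1 1 0 = 0
    · rw [if_pos (by rw [h, neg_zero]), if_pos h, ← map_mul]
      congr 1
      ring
    · rw [if_neg (by rwa [neg_eq_zero]), if_neg h, mul_zero]
  rw [R_def, h1, h2, Finset.sum_congr rfl (fun x _ => key x), ← Finset.mul_sum]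
  ring

lemma Ith_zm_mul {C : Subgroup SL} (hC : NST C) (θ : C →* ℂˣ) (g : SL) :
    Ith C θ (Zm F * g) = thz hC θ * Ith C θ g := by
  classical
  have key : ∀ x : SL, (if h : x⁻¹ * (Zm F * g) * x ∈ C then ((θ ⟨_, h⟩ : ℂˣ) : ℂ) else 0) =
      thz hC θ * (if h : x⁻¹ * g * x ∈ C then ((θ ⟨_, h⟩ : ℂˣ) : ℂ) else 0) := by
    intro x
    by_cases h : x⁻¹ * g * x ∈ C
    · have hm : x⁻¹ * (Zm F * g) * x ∈ C := by
        rw [conj_zm_mul]
        exact Subgroup.mul_mem C hC.zm h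
      have e : (⟨x⁻¹ * (Zm F * g) * x, hm⟩ : C) = ⟨Zm F, hC.zm⟩ * ⟨x⁻¹ * g * x, h⟩ :=
        Subtype.ext (conj_zm_mul x g)
      rw [dif_pos hm, dif_pos h, e, map_mul, Units.val_mul, thz_def]
    · have hm : x⁻¹ * (Zm F * g) * x ∉ C := by
        rw [conj_zm_mul]
        intro h'
        exact h ((Subgroup.mul_mem_cancel_left C hC.zm).mp h')
      rw [dif_neg hm, dif_neg h, mul_zero]
  rw [Ith_eq, Ith_eq, Finset.sum_congr rfl (fun x _ => key x), ← Finset.mul_sum]
  ring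

lemma R_one_zm_mul (g : SL) : R (1 : MulChar F ℂ) (Zm F * g) = R 1 g := by
  have e : ((-1 : Fˣ) : F) = -1 := by simp
  rw [R_zm_mul, ← e, MulChar.one_apply_coe, one_mul]

lemma Xc_zm_mul (hodd : Odd (Fintype.card F)) {C : Subgroup SL} (hC : NST C) (θ : C →* ℂˣ)
    (g : SL) : Xc hodd hC θ (Zm F * g) = thz hC θ * Xc hodd hC θ g := by
  rw [Xc_apply, Xc_apply, R_one_zm_mul, R_zm_mul, Ith_zm_mul hC, alphaOf_spec]
  ring

lemma sum_split_zero (f : F → ℂ) : ∑ c : F, f c = f 0 + ∑ c : F, (if c = 0 then 0 else f c) := by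
  have e : ∀ c : F, f c = (if c = 0 then f 0 else 0) + (if c = 0 then 0 else f c) := by
    intro c
    by_cases hc : c = 0
    · subst hc; simp
    · simp [hc]
  rw [Finset.sum_congr rfl (fun c _ => e c), Finset.sum_add_distrib,
    Finset.sum_ite_eq' Finset.univ (0 : F) (fun _ => f 0), if_pos (Finset.mem_univ _)]

lemma sum_ite_const_F (K : ℂ) : ∑ c : F, (if c = 0 then 0 else K) = (qq - 1) * K := by
  have h := sum_split_zero (fun _ : F => K)
  rw [Finset.sum_const, Finset.card_univ, nsmul_eq_mul] at h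
  linear_combination (-1 : ℂ) * h

/-- a class function whose sums over the cosets of `U` in `B` vanish is orthogonal to all
`R(β)` -/
lemma inner_R_cusp (β : MulChar F ℂ) (χ : SL → ℂ) (hχ : IsClassFunction SL χ)
    (h : ∀ u : Fˣ, ∑ c : F, χ (bm u c) = 0) : classInner (R β) χ = 0 := by
  rw [inner_R β χ hχ, Finset.sum_eq_zero, mul_zero]
  intro u _
  rw [← Finset.mul_sum, ← map_sum, h u, map_zero, mul_zero]

lemma Xc_sum_bm (hodd : Odd (Fintype.card F)) {C : Subgroup SL} (hC : NST C) (θ : C →* ℂˣ)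
    (u : Fˣ) : ∑ c : F, Xc hodd hC θ (bm u c) = 0 := by
  by_cases hu : u * u = 1
  · rw [sum_split_zero]
    rcases unit_sq_one u hu with rfl | rfl
    · have e : ∀ c : F, (if c = 0 then 0 else Xc hodd hC θ (bm 1 c)) =
          (if c = 0 then 0 else (-1 : ℂ)) := by
        intro c
        by_cases hc : c = 0
        · rw [if_pos hc, if_pos hc]
        · rw [if_neg hc, if_neg hc, Xc_bm_one hodd hC θ c hc]
      rw [Finset.sum_congr rfl (fun c _ => e c), sum_ite_const_F, bm_one, Xc_one]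
      ring
    · have e : ∀ c : F, (if c = 0 then 0 else Xc hodd hC θ (bm (-1) c)) =
          (if c = 0 then 0 else -(thz hC θ)) := by
        intro c
        by_cases hc : c = 0
        · rw [if_pos hc, if_pos hc]
        · rw [if_neg hc, if_neg hc, Xc_bm_neg hodd hC θ c hc]
      rw [Finset.sum_congr rfl (fun c _ => e c), sum_ite_const_F, bm_neg_one, Xc_zm]
      ring
  · apply Finset.sum_eq_zero
    intro c _
    exact Xc_bm_split hodd hC θ u c hu

lemma inner_R_Xc (hodd : Odd (Fintype.card F)) {C : Subgroup SL} (hC : NST C) (θ : C →* ℂˣ)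
    (β : MulChar F ℂ) : classInner (R β) (Xc hodd hC θ) = 0 :=
  inner_R_cusp β _ (Xc_cf hodd hC θ) (Xc_sum_bm hodd hC θ)

lemma inner_Xc_R (hodd : Odd (Fintype.card F)) {C : Subgroup SL} (hC : NST C) (θ : C →* ℂˣ)
    (β : MulChar F ℂ) : classInner (Xc hodd hC θ) (R β) = 0 := by
  rw [Helper2.classInner_conj_symm, inner_R_Xc, map_zero]

lemma sum_torus {C : Subgroup SL} (hC : NST C) [DecidablePred (· ∈ C)] [Fintype C]
    (h2 : (2 : F) ≠ 0) (Φ : SL → ℂ) (f : C → ℂ)
    (h : ∀ c (hc : c ∈ C), c ≠ 1 → c ≠ Zm F → Φ c = f ⟨c, hc⟩) :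
    ∑ c : SL, (if c ∈ C ∧ c ≠ 1 ∧ c ≠ Zm F then Φ c else 0) =
      ∑ c : C, f c - f 1 - f ⟨Zm F, hC.zm⟩ := by
  have hZ1 : Zm F ≠ 1 := Zm_ne_one h2
  have e1 : ∑ c : C, f c = ∑ g : SL, (if hg : g ∈ C then f ⟨g, hg⟩ else 0) := by
    have e2 := sum_subgroup C (fun g : SL => if hg : g ∈ C then f ⟨g, hg⟩ else 0)
    have e3 : ∀ c : C, f c = (fun g : SL => if hg : g ∈ C then f ⟨g, hg⟩ else 0) c := by
      intro c
      simp only
      rw [dif_pos c.2]
    rw [Finset.sum_congr rfl (fun c _ => e3 c)]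
    refine e2.trans ?_
    apply Finset.sum_congr rfl
    intro g _
    by_cases hg : g ∈ C
    · rw [if_pos hg]
    · rw [if_neg hg, dif_neg hg]
  have e : ∀ c : SL, (if c ∈ C ∧ c ≠ 1 ∧ c ≠ Zm F then Φ c else 0) =
      (if hc : c ∈ C then f ⟨c, hc⟩ else 0) - (if c = 1 then f 1 else 0)
        - (if c = Zm F then f ⟨Zm F, hC.zm⟩ else 0) := by
    intro c
    by_cases h1 : c = 1
    · subst h1
      have e4 : (⟨1, Subgroup.one_mem C⟩ : C) = 1 := rfl
      rw [if_neg (by simp), dif_pos (Subgroup.one_mem C), if_pos rfl, if_neg (Ne.symm hZ1), e4]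
      ring
    · by_cases hz : c = Zm F
      · subst hz
        rw [if_neg (by simp), dif_pos hC.zm, if_neg hZ1, if_pos rfl]
        ring
      · by_cases hc : c ∈ C
        · rw [if_pos ⟨hc, h1, hz⟩, dif_pos hc, if_neg h1, if_neg hz, h c hc h1 hz]
          ring
        · rw [if_neg (fun h => hc h.1), dif_neg hc, if_neg h1, if_neg hz]
          ring
  rw [Finset.sum_congr rfl (fun c _ => e c), Finset.sum_sub_distrib, Finset.sum_sub_distrib,
    ← e1, Finset.sum_ite_eq', Finset.sum_ite_eq', if_pos (Finset.mem_univ _),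
    if_pos (Finset.mem_univ _)]

/-! ### the inner products of the discrete series -/

lemma hom_sum {C : Subgroup SL} (hC : NST C) [Fintype C] (ψ : C →* ℂˣ) [Decidable (ψ = 1)] :
    ∑ c : C, ((ψ c : ℂˣ) : ℂ) = if ψ = 1 then qq + 1 else 0 := by
  split_ifs with h
  · subst h
    rw [hom_sum_one, ← Nat.card_eq_fintype_card, hC.card]
    push_cast
    ring
  · exact hom_sum_ne ψ h

open Classical in
theorem inner_XX (hodd : Odd (Fintype.card F)) {C : Subgroup SL} (hC : NST C)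
    (θ θ' : C →* ℂˣ) :
    classInner (Xc hodd hC θ) (Xc hodd hC θ') =
      (if θ = θ' then 1 else 0) + (if θ = θ'⁻¹ then 1 else 0) := by
  have h2 : (2 : F) ≠ 0 := two_ne_zero_of_odd (Nat.odd_iff.mp hodd)
  have hq0 := q_ne_zero (F := F)
  have hq1 := q_sub_one_ne_zero (F := F)
  have hq2 := q_add_one_ne_zero (F := F)
  haveI : Fintype C := Fintype.ofFinite C
  have ht := thz_sq hC θ
  have ht' := thz_sq hC θ'
  have hΦ : IsClassFunction SL (fun g => Xc hodd hC θ g * conj (Xc hodd hC θ' g)) := by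
    intro g h
    show Xc hodd hC θ (h * g * h⁻¹) * conj (Xc hodd hC θ' (h * g * h⁻¹)) = _
    rw [Xc_cf hodd hC θ g h, Xc_cf hodd hC θ' g h]
  have hint := integration hodd hC _ hΦ
  beta_reduce at hint
  have p1 : Xc hodd hC θ 1 * conj (Xc hodd hC θ' 1) = (qq - 1) ^ 2 := by
    rw [Xc_one, Xc_one, map_sub, map_one, Complex.conj_natCast]
    ring
  have p2 : Xc hodd hC θ (Zm F) * conj (Xc hodd hC θ' (Zm F)) =
      (qq - 1) ^ 2 * (thz hC θ * thz hC θ') := by
    rw [Xc_zm, Xc_zm, map_mul, map_sub, map_one, Complex.conj_natCast, thz_conj]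
    ring
  have p3 : ∑ c : F, (if c = 0 then 0 else
      (Xc hodd hC θ (bm 1 c) * conj (Xc hodd hC θ' (bm 1 c)) +
        Xc hodd hC θ (bm (-1) c) * conj (Xc hodd hC θ' (bm (-1) c)))) =
      (qq - 1) * (1 + thz hC θ * thz hC θ') := by
    have e : ∀ c : F, (if c = 0 then 0 else
        (Xc hodd hC θ (bm 1 c) * conj (Xc hodd hC θ' (bm 1 c)) +
          Xc hodd hC θ (bm (-1) c) * conj (Xc hodd hC θ' (bm (-1) c)))) =
        (if c = 0 then 0 else (1 + thz hC θ * thz hC θ')) := by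
      intro c
      by_cases hc : c = 0
      · rw [if_pos hc, if_pos hc]
      · rw [if_neg hc, if_neg hc, Xc_bm_one hodd hC θ c hc, Xc_bm_one hodd hC θ' c hc,
          Xc_bm_neg hodd hC θ c hc, Xc_bm_neg hodd hC θ' c hc, map_neg, map_neg, map_one,
          thz_conj]
        ring
    rw [Finset.sum_congr rfl (fun c _ => e c), sum_ite_const_F]
  have p4 : ∑ a : Fˣ, (if a * a = 1 then 0 else
      Xc hodd hC θ (bm a 0) * conj (Xc hodd hC θ' (bm a 0))) = 0 := by
    apply Finset.sum_eq_zero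
    intro a _
    by_cases ha : a * a = 1
    · rw [if_pos ha]
    · rw [if_neg ha, Xc_bm_split hodd hC θ a 0 ha, zero_mul]
  have p5 := sum_torus hC h2 (fun g => Xc hodd hC θ g * conj (Xc hodd hC θ' g))
    (fun c => (((θ * θ'⁻¹) c : ℂˣ) : ℂ) + (((θ * θ') c : ℂˣ) : ℂ) +
      (((θ⁻¹ * θ'⁻¹) c : ℂˣ) : ℂ) + (((θ⁻¹ * θ') c : ℂˣ) : ℂ)) (by
      intro c hc h1 hz
      have hb : conj ((θ' ⟨c, hc⟩ : ℂˣ) : ℂ) = (((θ' ⟨c, hc⟩ : ℂˣ) : ℂ))⁻¹ := by
        rw [hom_conj, Units.val_inv_eq_inv_val]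
      simp only [Xc_torus hodd hC θ c hc h1 hz, Xc_torus hodd hC θ' c hc h1 hz,
        MonoidHom.mul_apply, MonoidHom.inv_apply, Units.val_mul, Units.val_inv_eq_inv_val,
        map_neg, map_add, map_inv₀, hb, inv_inv]
      ring)
  beta_reduce at p5
  have p6 : ∑ c : C, ((((θ * θ'⁻¹) c : ℂˣ) : ℂ) + (((θ * θ') c : ℂˣ) : ℂ) +
      (((θ⁻¹ * θ'⁻¹) c : ℂˣ) : ℂ) + (((θ⁻¹ * θ') c : ℂˣ) : ℂ)) =
      2 * (qq + 1) * ((if θ = θ' then 1 else 0) + (if θ = θ'⁻¹ then 1 else 0)) := by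
    rw [Finset.sum_add_distrib, Finset.sum_add_distrib, Finset.sum_add_distrib, hom_sum hC,
      hom_sum hC, hom_sum hC, hom_sum hC]
    have c1 : (θ * θ'⁻¹ = 1) ↔ θ = θ' := mul_inv_eq_one (G := C →* ℂˣ)
    have c2 : (θ * θ' = 1) ↔ θ = θ'⁻¹ := mul_eq_one_iff_eq_inv (G := C →* ℂˣ)
    have c3 : (θ⁻¹ * θ'⁻¹ = 1) ↔ θ = θ'⁻¹ := inv_mul_eq_one (G := C →* ℂˣ)
    have c4 : (θ⁻¹ * θ' = 1) ↔ θ = θ' := inv_mul_eq_one (G := C →* ℂˣ)
    simp only [c1, c2, c3, c4]
    split_ifs <;> ring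
  have p7 : ((((θ * θ'⁻¹) (1 : C) : ℂˣ) : ℂ) + (((θ * θ') (1 : C) : ℂˣ) : ℂ) +
      (((θ⁻¹ * θ'⁻¹) (1 : C) : ℂˣ) : ℂ) + (((θ⁻¹ * θ') (1 : C) : ℂˣ) : ℂ)) = 4 := by
    simp only [map_one, Units.val_one]
    norm_num
  have p8 : ((((θ * θ'⁻¹) (⟨Zm F, hC.zm⟩ : C) : ℂˣ) : ℂ) +
      (((θ * θ') (⟨Zm F, hC.zm⟩ : C) : ℂˣ) : ℂ) +
      (((θ⁻¹ * θ'⁻¹) (⟨Zm F, hC.zm⟩ : C) : ℂˣ) : ℂ) +
      (((θ⁻¹ * θ') (⟨Zm F, hC.zm⟩ : C) : ℂˣ) : ℂ)) = 4 * (thz hC θ * thz hC θ') := by
    have i1 : (thz hC θ)⁻¹ = thz hC θ := inv_eq_of_mul_eq_one_left ht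
    have i2 : (thz hC θ')⁻¹ = thz hC θ' := inv_eq_of_mul_eq_one_left ht'
    simp only [MonoidHom.mul_apply, MonoidHom.inv_apply, Units.val_mul,
      Units.val_inv_eq_inv_val, ← thz_def hC θ, ← thz_def hC θ', i1, i2]
    ring
  rw [classInner_def', card_SL_cast, hint, p1, p2, p3, p4, p5, p6, p7, p8]
  have hne : qq * (qq - 1) * (qq + 1) ≠ 0 := mul_ne_zero (mul_ne_zero hq0 hq1) hq2
  have h4 : thz hC θ * thz hC θ' * (thz hC θ * thz hC θ') = 1 := by
    linear_combination (thz hC θ' * thz hC θ') * ht + ht'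
  split_ifs <;> field_simp <;> ring

/-! ### duality for finite abelian groups and for `F` -/

section Dual
variable {A : Type*} [Group A] [Finite A]

lemma dual_exists (hcomm : ∀ a b : A, a * b = b * a) {a : A} (ha : a ≠ 1) :
    ∃ θ : A →* ℂˣ, θ a ≠ 1 := by
  letI : CommGroup A := { (inferInstance : Group A) with mul_comm := hcomm }
  exact CommGroup.exists_apply_ne_one_of_hasEnoughRootsOfUnity A ℂ ha

lemma dual_card (hcomm : ∀ a b : A, a * b = b * a) : Nat.card (A →* ℂˣ) = Nat.card A := by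
  letI : CommGroup A := { (inferInstance : Group A) with mul_comm := hcomm }
  exact CommGroup.card_monoidHom_of_hasEnoughRootsOfUnity A ℂ

lemma dual_equiv (hcomm : ∀ a b : A, a * b = b * a) : Nonempty ((A →* ℂˣ) ≃* A) := by
  letI : CommGroup A := { (inferInstance : Group A) with mul_comm := hcomm }
  exact CommGroup.monoidHom_mulEquiv_of_hasEnoughRootsOfUnity A ℂ

lemma dual_sum (hcomm : ∀ a b : A, a * b = b * a) [Fintype (A →* ℂˣ)] {a : A} (ha : a ≠ 1) :
    ∑ θ : A →* ℂˣ, ((θ a : ℂˣ) : ℂ) = 0 := by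
  obtain ⟨θ₀, h0⟩ := dual_exists hcomm ha
  have e : ∑ θ : A →* ℂˣ, ((θ a : ℂˣ) : ℂ) =
      ((θ₀ a : ℂˣ) : ℂ) * ∑ θ : A →* ℂˣ, ((θ a : ℂˣ) : ℂ) := by
    rw [Finset.mul_sum]
    exact (Fintype.sum_equiv (Equiv.mulLeft θ₀)
      (fun θ : A →* ℂˣ => ((θ₀ a : ℂˣ) : ℂ) * ((θ a : ℂˣ) : ℂ))
      (fun θ : A →* ℂˣ => ((θ a : ℂˣ) : ℂ)) (fun θ => by
        simp only [Equiv.coe_mulLeft, MonoidHom.mul_apply, Units.val_mul])).symm
  have h1 : ((θ₀ a : ℂˣ) : ℂ) ≠ 1 := fun h => h0 (Units.val_eq_one.mp h)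
  have h3 : (((θ₀ a : ℂˣ) : ℂ) - 1) * ∑ θ : A →* ℂˣ, ((θ a : ℂˣ) : ℂ) = 0 := by
    linear_combination (-1 : ℂ) * e
  rcases mul_eq_zero.mp h3 with h | h
  · exact absurd (sub_eq_zero.mp h) h1
  · exact h

lemma dual_sum_one (hcomm : ∀ a b : A, a * b = b * a) [Fintype (A →* ℂˣ)] :
    ∑ θ : A →* ℂˣ, ((θ (1 : A) : ℂˣ) : ℂ) = (Nat.card A : ℂ) := by
  simp only [map_one, Units.val_one, Finset.sum_const, Finset.card_univ, nsmul_eq_mul, mul_one]
  rw [← Nat.card_eq_fintype_card, dual_card hcomm]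

end Dual

lemma th_sum {C : Subgroup SL} (hC : NST C) [Fintype (C →* ℂˣ)] {c : C} (hc : c ≠ 1) :
    ∑ θ : C →* ℂˣ, ((θ c : ℂˣ) : ℂ) = 0 :=
  dual_sum (A := C) (fun a b => Subtype.ext (hC.comm a a.2 b b.2)) hc

lemma th_card {C : Subgroup SL} (hC : NST C) [Fintype (C →* ℂˣ)] :
    (Fintype.card (C →* ℂˣ) : ℂ) = qq + 1 := by
  rw [← Nat.card_eq_fintype_card,
    dual_card (A := C) (fun a b => Subtype.ext (hC.comm a a.2 b b.2)), hC.card]
  push_cast
  ring

lemma mulchar_sum [Fintype (MulChar F ℂ)] {u : Fˣ} (hu : u ≠ 1) :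
    ∑ α : MulChar F ℂ, α (u : F) = 0 := by
  have hu' : (u : F) ≠ 1 := fun h => hu (Units.val_eq_one.mp h)
  obtain ⟨χ, hχ⟩ := MulChar.exists_apply_ne_one_of_hasEnoughRootsOfUnity F ℂ hu'
  have e : ∑ α : MulChar F ℂ, α (u : F) = χ (u : F) * ∑ α : MulChar F ℂ, α (u : F) := by
    rw [Finset.mul_sum]
    exact (Fintype.sum_equiv (Equiv.mulLeft χ) (fun α : MulChar F ℂ => χ (u : F) * α (u : F))
      (fun α : MulChar F ℂ => α (u : F)) (fun α => by
        simp only [Equiv.coe_mulLeft, MulChar.mul_apply])).symm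
  have h3 : (χ (u : F) - 1) * ∑ α : MulChar F ℂ, α (u : F) = 0 := by
    linear_combination (-1 : ℂ) * e
  rcases mul_eq_zero.mp h3 with h | h
  · exact absurd (sub_eq_zero.mp h) hχ
  · exact h

lemma mulchar_card [Fintype (MulChar F ℂ)] : (Fintype.card (MulChar F ℂ) : ℂ) = qq - 1 := by
  have h := MulChar.card_eq_card_units_of_hasEnoughRootsOfUnity F ℂ
  rw [Nat.card_eq_fintype_card, Nat.card_eq_fintype_card, Fintype.card_units] at h
  rw [h, Nat.cast_sub Fintype.card_pos, Nat.cast_one]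

open Classical in
lemma mulchar_sum' [Fintype (MulChar F ℂ)] (u : Fˣ) :
    ∑ α : MulChar F ℂ, α (u : F) = if u = 1 then qq - 1 else 0 := by
  split_ifs with h
  · subst h
    simp only [Units.val_one, map_one, Finset.sum_const, Finset.card_univ, nsmul_eq_mul,
      mul_one]
    exact mulchar_card
  · exact mulchar_sum h

/-! ### the quadratic characters -/

/-- the quadratic character, complex valued -/
noncomputable def al0 : MulChar F ℂ := (quadraticChar F).ringHomComp (Int.castRingHom ℂ)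

lemma al0_apply (a : F) : al0 a = ((quadraticChar F a : ℤ) : ℂ) := rfl

lemma al0_sq : (al0 (F := F)) ^ 2 = 1 :=
  ((quadraticChar_isQuadratic F).comp (Int.castRingHom ℂ)).sq_eq_one

lemma al0_isSquare {a : F} (ha : a ≠ 0) (h : IsSquare a) : al0 a = 1 := by
  rw [al0_apply, (quadraticChar_one_iff_isSquare ha).mpr h, Int.cast_one]

lemma al0_not_isSquare {a : F} (h : ¬IsSquare a) : al0 a = -1 := by
  rw [al0_apply, quadraticChar_neg_one_iff_not_isSquare.mpr h, Int.cast_neg, Int.cast_one]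

lemma ringChar_ne_two (hodd : Odd (Fintype.card F)) : ringChar F ≠ 2 := by
  intro h
  rw [FiniteField.even_card_iff_char_two] at h
  have := Nat.odd_iff.mp hodd
  omega

lemma exists_nonsquare (hodd : Odd (Fintype.card F)) : ∃ ν : Fˣ, ¬IsSquare (ν : F) := by
  obtain ⟨a, ha⟩ := FiniteField.exists_nonsquare (ringChar_ne_two hodd)
  have ha0 : a ≠ 0 := by
    rintro rfl
    exact ha ⟨0, by simp⟩
  exact ⟨Units.mk0 a ha0, ha⟩

lemma al0_ne_one (hodd : Odd (Fintype.card F)) : (al0 (F := F)) ≠ 1 := by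
  obtain ⟨ν, hν⟩ := exists_nonsquare hodd
  intro h
  have h1 := al0_not_isSquare hν
  rw [h, MulChar.one_apply_coe] at h1
  norm_num at h1

lemma al0_unique {α : MulChar F ℂ} (h1 : α ≠ 1) (h2 : α ^ 2 = 1) : α = al0 := by
  have hsq : ∀ u : Fˣ, α (u : F) * α (u : F) = 1 := by
    intro u
    have := MulChar.pow_apply_coe α 2 u
    rw [h2, MulChar.one_apply_coe] at this
    rw [← pow_two, ← this]
  have hcases : ∀ u : Fˣ, α (u : F) = 1 ∨ α (u : F) = -1 := by
    intro u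
    have h3 : (α (u : F) - 1) * (α (u : F) + 1) = 0 := by linear_combination hsq u
    rcases mul_eq_zero.mp h3 with h | h
    · left; exact sub_eq_zero.mp h
    · right; exact eq_neg_of_add_eq_zero_left h
  have hsquare : ∀ u : Fˣ, IsSquare (u : F) → α (u : F) = 1 := by
    intro u ⟨r, hr⟩
    have hr0 : r ≠ 0 := by
      rintro rfl
      rw [mul_zero] at hr
      exact u.ne_zero hr
    have : (u : F) = ((Units.mk0 r hr0 : Fˣ) : F) * ((Units.mk0 r hr0 : Fˣ) : F) := hr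
    rw [this, map_mul]
    exact hsq _
  obtain ⟨ν, hν⟩ : ∃ ν : Fˣ, α (ν : F) ≠ 1 := by
    by_contra hcon
    push Not at hcon
    apply h1
    apply MulChar.ext
    intro a
    rw [hcon a, MulChar.one_apply_coe]
  have hν1 : α (ν : F) = -1 := (hcases ν).resolve_left hν
  have hνns : ¬IsSquare (ν : F) := fun h => hν (hsquare ν h)
  apply MulChar.ext
  intro u
  by_cases hu : IsSquare (u : F)
  · rw [hsquare u hu, al0_isSquare u.ne_zero hu]
  · rw [al0_not_isSquare hu]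
    have h5 : IsSquare ((u * ν : Fˣ) : F) := by
      rw [← quadraticChar_one_iff_isSquare (Units.ne_zero _), Units.val_mul, map_mul,
        quadraticChar_neg_one_iff_not_isSquare.mpr hu,
        quadraticChar_neg_one_iff_not_isSquare.mpr hνns]
      norm_num
    have h6 := hsquare (u * ν) h5
    rw [Units.val_mul, map_mul, hν1] at h6
    linear_combination (-1 : ℂ) * h6

lemma exists_th0 (hodd : Odd (Fintype.card F)) {C : Subgroup SL} (hC : NST C) :
    ∃ θ₀ : C →* ℂˣ, θ₀ ≠ 1 ∧ θ₀ ^ 2 = 1 ∧ ∀ θ : C →* ℂˣ, θ ≠ 1 → θ ^ 2 = 1 → θ = θ₀ := by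
  have h2 : (2 : F) ≠ 0 := two_ne_zero_of_odd (Nat.odd_iff.mp hodd)
  obtain ⟨e⟩ := dual_equiv (A := C) (fun a b => Subtype.ext (hC.comm a a.2 b b.2))
  have hz1 : (⟨Zm F, hC.zm⟩ : C) ≠ 1 := fun h => Zm_ne_one h2 (congrArg Subtype.val h)
  have hzz : (⟨Zm F, hC.zm⟩ : C) * ⟨Zm F, hC.zm⟩ = 1 := Subtype.ext zm_mul_self
  refine ⟨e.symm ⟨Zm F, hC.zm⟩, ?_, ?_, ?_⟩
  · intro h
    apply hz1
    have := congrArg e h
    rwa [e.apply_symm_apply, map_one] at this
  · rw [← map_pow, pow_two, hzz, map_one]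
  · intro θ h1 h2'
    have h3 : e θ * e θ = 1 := by
      have h6 : e (θ ^ 2) = 1 := by rw [h2', map_one]
      rwa [pow_two, map_mul] at h6
    have h4 : e θ ≠ 1 := by
      intro h
      apply h1
      apply e.injective
      rw [h, map_one]
    rcases Cfsg.Agent.S2429.sq_one_cases h2 (e θ).1 (congrArg Subtype.val h3) with h | h
    · exact absurd (Subtype.ext h) h4
    · have h5 : e θ = ⟨Zm F, hC.zm⟩ := Subtype.ext h
      rw [← h5, e.symm_apply_apply]

/-- the character of order two of the nonsplit torus -/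
noncomputable def th0 (hodd : Odd (Fintype.card F)) {C : Subgroup SL} (hC : NST C) : C →* ℂˣ :=
  Classical.choose (exists_th0 hodd hC)

lemma th0_ne_one (hodd : Odd (Fintype.card F)) {C : Subgroup SL} (hC : NST C) :
    th0 hodd hC ≠ 1 := (Classical.choose_spec (exists_th0 hodd hC)).1

lemma th0_sq (hodd : Odd (Fintype.card F)) {C : Subgroup SL} (hC : NST C) :
    th0 hodd hC ^ 2 = 1 := (Classical.choose_spec (exists_th0 hodd hC)).2.1

lemma th0_unique (hodd : Odd (Fintype.card F)) {C : Subgroup SL} (hC : NST C)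
    {θ : C →* ℂˣ} (h1 : θ ≠ 1) (h2 : θ ^ 2 = 1) : θ = th0 hodd hC :=
  (Classical.choose_spec (exists_th0 hodd hC)).2.2 θ h1 h2

/-! ### values of the quadratic character of the torus, and the sign fact -/

open Classical in
lemma th0_apply (hodd : Odd (Fintype.card F)) {C : Subgroup SL} (hC : NST C) (c : SL)
    (hc : c ∈ C) :
    ((th0 hodd hC ⟨c, hc⟩ : ℂˣ) : ℂ) =
      if c ^ ((Fintype.card F + 1) / 2) = 1 then 1 else -1 := by
  obtain ⟨g₀, hord, hCeq⟩ := hC.gen
  have hg₀ : g₀ ∈ C := by rw [hCeq]; exact Subgroup.mem_zpowers g₀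
  obtain ⟨m, hm⟩ : ∃ m, Fintype.card F + 1 = 2 * m := by
    obtain ⟨t, ht⟩ := hodd
    exact ⟨t + 1, by omega⟩
  have hm0 : m ≠ 0 := by omega
  have hdiv : (Fintype.card F + 1) / 2 = m := by omega
  have hγ2 : th0 hodd hC ⟨g₀, hg₀⟩ * th0 hodd hC ⟨g₀, hg₀⟩ = 1 := by
    have h := congrArg (fun θ : C →* ℂˣ => θ ⟨g₀, hg₀⟩) (th0_sq hodd hC)
    simp only [pow_two, MonoidHom.mul_apply, MonoidHom.one_apply] at h
    exact h
  have hc2 : ((th0 hodd hC ⟨g₀, hg₀⟩ : ℂˣ) : ℂ) * ((th0 hodd hC ⟨g₀, hg₀⟩ : ℂˣ) : ℂ) = 1 := by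
    rw [← Units.val_mul, hγ2, Units.val_one]
  have hγ : ((th0 hodd hC ⟨g₀, hg₀⟩ : ℂˣ) : ℂ) = -1 := by
    have h3 : (((th0 hodd hC ⟨g₀, hg₀⟩ : ℂˣ) : ℂ) - 1) *
        (((th0 hodd hC ⟨g₀, hg₀⟩ : ℂˣ) : ℂ) + 1) = 0 := by linear_combination hc2
    rcases mul_eq_zero.mp h3 with h | h
    · exfalso
      apply th0_ne_one hodd hC
      have h1 : th0 hodd hC ⟨g₀, hg₀⟩ = 1 :=
        Units.ext (by rw [Units.val_one]; exact sub_eq_zero.mp h)
      apply MonoidHom.ext
      intro x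
      have hx : (x : SL) ∈ Subgroup.zpowers g₀ := by
        rw [← hCeq]
        exact x.2
      obtain ⟨k, hk⟩ := Subgroup.mem_zpowers_iff.mp hx
      have hx' : x = (⟨g₀, hg₀⟩ : C) ^ k :=
        Subtype.ext (by rw [Subgroup.coe_zpow]; exact hk.symm)
      rw [hx', map_zpow, h1, _root_.one_zpow, MonoidHom.one_apply]
    · exact eq_neg_of_add_eq_zero_left h
  obtain ⟨k, hk⟩ : ∃ k : ℤ, g₀ ^ k = c := by
    have hc' := hc
    rw [hCeq] at hc'
    exact Subgroup.mem_zpowers_iff.mp hc'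
  have hcγ : (⟨c, hc⟩ : C) = (⟨g₀, hg₀⟩ : C) ^ k :=
    Subtype.ext (by rw [Subgroup.coe_zpow]; exact hk.symm)
  have hval : ((th0 hodd hC ⟨c, hc⟩ : ℂˣ) : ℂ) = (-1 : ℂ) ^ k := by
    rw [hcγ, map_zpow, Units.val_zpow_eq_zpow_val, hγ]
  have hpow : g₀ ^ (2 * m) = 1 := by
    rw [← hm, ← hord]
    exact pow_orderOf_eq_one g₀
  rw [hdiv, hval]
  rcases Int.even_or_odd k with ⟨j, hj⟩ | ⟨j, hj⟩
  · have h1 : c ^ m = 1 := by
      rw [← hk, hj, ← zpow_natCast, ← _root_.zpow_mul]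
      have e : (j + j) * (m : ℤ) = ((2 * m : ℕ) : ℤ) * j := by push_cast; ring
      rw [e, _root_.zpow_mul, zpow_natCast, hpow, _root_.one_zpow]
    rw [if_pos h1, Even.neg_one_zpow ⟨j, hj⟩]
  · have h1 : c ^ m ≠ 1 := by
      have e1 : c ^ m = g₀ ^ m := by
        rw [← hk, hj, ← zpow_natCast, ← _root_.zpow_mul]
        have e : (2 * j + 1) * (m : ℤ) = ((2 * m : ℕ) : ℤ) * j + (m : ℤ) := by push_cast; ring
        rw [e, _root_.zpow_add, _root_.zpow_mul, zpow_natCast, hpow, _root_.one_zpow, one_mul,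
          zpow_natCast]
      rw [e1]
      apply pow_ne_one_of_lt_orderOf hm0
      rw [hord]
      omega
    rw [if_neg h1, Odd.neg_one_zpow ⟨j, hj⟩]

lemma al0_neg_one_cases : al0 (-1 : F) = 1 ∨ al0 (-1 : F) = -1 := by
  by_cases h : IsSquare (-1 : F)
  · left
    exact al0_isSquare (neg_ne_zero.mpr one_ne_zero) h
  · right
    exact al0_not_isSquare h

lemma sign_fact (hodd : Odd (Fintype.card F)) {C : Subgroup SL} (hC : NST C) :
    al0 (-1 : F) ≠ thz hC (th0 hodd hC) := by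
  classical
  have h2 : (2 : F) ≠ 0 := two_ne_zero_of_odd (Nat.odd_iff.mp hodd)
  have hZ1 : Zm F ≠ 1 := Zm_ne_one h2
  rw [thz_def, th0_apply hodd hC (Zm F) hC.zm]
  obtain ⟨t, ht⟩ := hodd
  by_cases h4 : Fintype.card F % 4 = 3
  · have hns : ¬IsSquare (-1 : F) := fun h => (FiniteField.isSquare_neg_one_iff.mp h) h4
    have hz : Zm F ^ ((Fintype.card F + 1) / 2) = 1 := by
      obtain ⟨j, hj⟩ : ∃ j, (Fintype.card F + 1) / 2 = 2 * j :=
        ⟨(Fintype.card F + 1) / 4, by omega⟩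
      rw [hj, pow_mul, pow_two, zm_mul_self, one_pow]
    rw [al0_not_isSquare hns, if_pos hz]
    norm_num
  · have hs : IsSquare (-1 : F) := FiniteField.isSquare_neg_one_iff.mpr h4
    have hz : Zm F ^ ((Fintype.card F + 1) / 2) ≠ 1 := by
      obtain ⟨j, hj⟩ : ∃ j, (Fintype.card F + 1) / 2 = 2 * j + 1 :=
        ⟨(Fintype.card F + 1) / 4, by omega⟩
      rw [hj, pow_succ, pow_mul, pow_two, zm_mul_self, one_pow, one_mul]
      exact hZ1
    rw [al0_isSquare (neg_ne_zero.mpr one_ne_zero) hs, if_neg hz]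
    norm_num

/-! ### the regular character -/

lemma neg_one_unit_ne (hodd : Odd (Fintype.card F)) : (-1 : Fˣ) ≠ 1 := by
  intro h
  apply neg_one_ne_one_F hodd
  have := congrArg Units.val h
  rwa [Units.val_neg, Units.val_one] at this

lemma sum_R_bm (hodd : Odd (Fintype.card F)) [Fintype (MulChar F ℂ)] (a : Fˣ) (c : F) :
    ∑ α : MulChar F ℂ, R α (bm a c) =
      if a = 1 then (if c = 0 then (qq + 1) * (qq - 1) else qq - 1) else 0 := by
  have hm1 := neg_one_unit_ne hodd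
  by_cases ha : a * a = 1
  · rcases unit_sq_one a ha with rfl | rfl
    · rw [if_pos rfl]
      by_cases hc : c = 0
      · subst hc
        rw [if_pos rfl]
        have e : ∀ α : MulChar F ℂ, R α (bm 1 0) = (qq + 1) := by
          intro α
          rw [R_bm_central hodd α 1 (mul_one 1), Units.val_one, map_one, mul_one]
        rw [Finset.sum_congr rfl (fun α _ => e α), Finset.sum_const, Finset.card_univ,
          nsmul_eq_mul, mulchar_card]
        ring
      · rw [if_neg hc]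
        have e : ∀ α : MulChar F ℂ, R α (bm 1 c) = 1 := by
          intro α
          rw [R_bm_unip hodd α 1 c (mul_one 1) hc, Units.val_one, map_one]
        rw [Finset.sum_congr rfl (fun α _ => e α), Finset.sum_const, Finset.card_univ,
          nsmul_eq_mul, mulchar_card, mul_one]
    · rw [if_neg hm1]
      by_cases hc : c = 0
      · subst hc
        have e : ∀ α : MulChar F ℂ, R α (bm (-1) 0) = (qq + 1) * α ((-1 : Fˣ) : F) :=
          fun α => R_bm_central hodd α (-1) ha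
        rw [Finset.sum_congr rfl (fun α _ => e α), ← Finset.mul_sum, mulchar_sum hm1, mul_zero]
      · have e : ∀ α : MulChar F ℂ, R α (bm (-1) c) = α ((-1 : Fˣ) : F) :=
          fun α => R_bm_unip hodd α (-1) c ha hc
        rw [Finset.sum_congr rfl (fun α _ => e α), mulchar_sum hm1]
  · have h1 : a ≠ 1 := by
      rintro rfl
      exact ha (mul_one 1)
    have h1' : a⁻¹ ≠ 1 := by
      rw [Ne, inv_eq_one]
      exact h1
    rw [if_neg h1]
    have e : ∀ α : MulChar F ℂ, R α (bm a c) = α (a : F) + α ((a⁻¹ : Fˣ) : F) :=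
      fun α => R_bm_split hodd α a c ha
    rw [Finset.sum_congr rfl (fun α _ => e α), Finset.sum_add_distrib, mulchar_sum h1,
      mulchar_sum h1', add_zero]

lemma sum_thz {C : Subgroup SL} (hC : NST C) (h2 : (2 : F) ≠ 0) [Fintype (C →* ℂˣ)] :
    ∑ θ : C →* ℂˣ, thz hC θ = 0 := by
  have hz1 : (⟨Zm F, hC.zm⟩ : C) ≠ 1 := fun h => Zm_ne_one h2 (congrArg Subtype.val h)
  exact th_sum hC hz1

lemma sum_X_bm (hodd : Odd (Fintype.card F)) {C : Subgroup SL} (hC : NST C)
    [Fintype (C →* ℂˣ)] (a : Fˣ) (c : F) :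
    ∑ θ : C →* ℂˣ, Xc hodd hC θ (bm a c) =
      if a = 1 then (if c = 0 then (qq - 1) * (qq + 1) else -(qq + 1)) else 0 := by
  have h2 : (2 : F) ≠ 0 := two_ne_zero_of_odd (Nat.odd_iff.mp hodd)
  have hm1 := neg_one_unit_ne hodd
  by_cases ha : a * a = 1
  · rcases unit_sq_one a ha with rfl | rfl
    · rw [if_pos rfl]
      by_cases hc : c = 0
      · subst hc
        rw [if_pos rfl]
        have e : ∀ θ : C →* ℂˣ, Xc hodd hC θ (bm 1 0) = (qq - 1) := by
          intro θ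
          rw [bm_one, Xc_one]
        rw [Finset.sum_congr rfl (fun θ _ => e θ), Finset.sum_const, Finset.card_univ,
          nsmul_eq_mul, th_card hC]
        ring
      · rw [if_neg hc]
        have e : ∀ θ : C →* ℂˣ, Xc hodd hC θ (bm 1 c) = -1 :=
          fun θ => Xc_bm_one hodd hC θ c hc
        rw [Finset.sum_congr rfl (fun θ _ => e θ), Finset.sum_const, Finset.card_univ,
          nsmul_eq_mul, th_card hC]
        ring
    · rw [if_neg hm1]
      by_cases hc : c = 0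
      · subst hc
        have e : ∀ θ : C →* ℂˣ, Xc hodd hC θ (bm (-1) 0) = (qq - 1) * thz hC θ := by
          intro θ
          rw [bm_neg_one, Xc_zm]
        rw [Finset.sum_congr rfl (fun θ _ => e θ), ← Finset.mul_sum, sum_thz hC h2, mul_zero]
      · have e : ∀ θ : C →* ℂˣ, Xc hodd hC θ (bm (-1) c) = -(thz hC θ) :=
          fun θ => Xc_bm_neg hodd hC θ c hc
        rw [Finset.sum_congr rfl (fun θ _ => e θ), Finset.sum_neg_distrib, sum_thz hC h2,
          neg_zero]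
  · have h1 : a ≠ 1 := by
      rintro rfl
      exact ha (mul_one 1)
    rw [if_neg h1]
    apply Finset.sum_eq_zero
    intro θ _
    exact Xc_bm_split hodd hC θ a c ha

lemma sum_X_torus (hodd : Odd (Fintype.card F)) {C : Subgroup SL} (hC : NST C)
    [Fintype (C →* ℂˣ)] (c : SL) (hc : c ∈ C) (h1 : c ≠ 1) (hz : c ≠ Zm F) :
    ∑ θ : C →* ℂˣ, Xc hodd hC θ c = 0 := by
  have e : ∀ θ : C →* ℂˣ, Xc hodd hC θ c =
      -(((θ ⟨c, hc⟩ : ℂˣ) : ℂ) + ((θ ((⟨c, hc⟩ : C)⁻¹) : ℂˣ) : ℂ)) := by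
    intro θ
    rw [Xc_torus hodd hC θ c hc h1 hz, map_inv]
  have hc1 : (⟨c, hc⟩ : C) ≠ 1 := fun h => h1 (congrArg Subtype.val h)
  have hc2 : (⟨c, hc⟩ : C)⁻¹ ≠ 1 := by
    rw [Ne, inv_eq_one]
    exact hc1
  rw [Finset.sum_congr rfl (fun θ _ => e θ), Finset.sum_neg_distrib, Finset.sum_add_distrib,
    th_sum hC hc1, th_sum hC hc2]
  ring

open Classical in
theorem reg_identity (hodd : Odd (Fintype.card F)) {C : Subgroup SL} (hC : NST C)
    [Fintype (MulChar F ℂ)] [Fintype (C →* ℂˣ)] :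
    (fun g : SL => ((qq + 1) / 2) * ∑ α : MulChar F ℂ, R α g +
      ((qq - 1) / 2) * ∑ θ : C →* ℂˣ, Xc hodd hC θ g) =
      (fun g : SL => if g = 1 then qq * (qq - 1) * (qq + 1) else 0) := by
  apply cf_ext hC
  · intro g h
    simp only
    rw [Finset.sum_congr rfl (fun α _ => R_cf α g h),
      Finset.sum_congr rfl (fun θ _ => Xc_cf hodd hC θ g h)]
  · intro g h
    simp only [_root_.conj_eq_one_iff]
  · intro a c
    rw [sum_R_bm hodd, sum_X_bm hodd hC]
    by_cases ha : a = 1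
    · subst ha
      by_cases hc : c = 0
      · subst hc
        rw [if_pos rfl, if_pos rfl, if_pos rfl, if_pos rfl, if_pos bm_one]
        ring
      · rw [if_pos rfl, if_neg hc, if_pos rfl, if_neg hc, if_neg (bm_ne_one_of_c 1 hc)]
        ring
    · have hne : bm a c ≠ 1 := by
        intro h
        apply ha
        have := congrArg (fun g : SL => g.1 0 0) h
        simp only [bm_00, one_00] at this
        exact Units.ext this
      rw [if_neg ha, if_neg ha, if_neg hne]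
      ring
  · intro c hc h1 hz
    have e : ∀ α : MulChar F ℂ, R α c = 0 := fun α => R_noEig hodd α c (hC.noeig c hc h1 hz)
    rw [Finset.sum_congr rfl (fun α _ => e α), Finset.sum_const_zero,
      sum_X_torus hodd hC c hc h1 hz, if_neg h1]
    ring

theorem degree_formula (hodd : Odd (Fintype.card F)) {C : Subgroup SL} (hC : NST C)
    [Fintype (MulChar F ℂ)] [Fintype (C →* ℂˣ)] (χ : SL → ℂ) :
    conj (χ 1) = ((qq + 1) / 2) * ∑ α : MulChar F ℂ, classInner (R α) χ +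
      ((qq - 1) / 2) * ∑ θ : C →* ℂˣ, classInner (Xc hodd hC θ) χ := by
  classical
  have hq0 := q_ne_zero (F := F)
  have hq1 := q_sub_one_ne_zero (F := F)
  have hq2 := q_add_one_ne_zero (F := F)
  have hreg := reg_identity hodd hC
  have e1 : (fun g : SL => ((qq + 1) / 2) * ∑ α : MulChar F ℂ, R α g +
      ((qq - 1) / 2) * ∑ θ : C →* ℂˣ, Xc hodd hC θ g) =
      ((qq + 1) / 2) • (∑ α : MulChar F ℂ, R α) +
        ((qq - 1) / 2) • (∑ θ : C →* ℂˣ, Xc hodd hC θ) := by
    funext g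
    simp only [Pi.add_apply, Pi.smul_apply, Finset.sum_apply, smul_eq_mul]
  have e2 : classInner (fun g : SL => if g = 1 then qq * (qq - 1) * (qq + 1) else 0) χ =
      conj (χ 1) := by
    rw [classInner_def', card_SL_cast]
    have e3 : ∀ g : SL, (if g = 1 then qq * (qq - 1) * (qq + 1) else 0) * conj (χ g) =
        if g = 1 then qq * (qq - 1) * (qq + 1) * conj (χ 1) else 0 := by
      intro g
      by_cases hg : g = 1
      · subst hg
        rw [if_pos rfl, if_pos rfl]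
      · rw [if_neg hg, if_neg hg, zero_mul]
    rw [Finset.sum_congr rfl (fun g _ => e3 g), Finset.sum_ite_eq', if_pos (Finset.mem_univ _)]
    field_simp
  rw [← e2, ← hreg, e1, Helper2.classInner_add_left, Helper2.classInner_smul_left,
    Helper2.classInner_smul_left, Helper2.classInner_sum_left, Helper2.classInner_sum_left]

theorem sum_inner_R [Fintype (MulChar F ℂ)] (χ : SL → ℂ) (hχ : IsClassFunction SL χ) :
    ∑ α : MulChar F ℂ, classInner (R α) χ = qq⁻¹ * ∑ c : F, conj (χ (bm 1 c)) := by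
  classical
  have hq0 := q_ne_zero (F := F)
  have hq1 := q_sub_one_ne_zero (F := F)
  have e : ∀ α : MulChar F ℂ, classInner (R α) χ =
      (qq * (qq - 1))⁻¹ * ∑ u : Fˣ, ∑ c : F, α (u : F) * conj (χ (bm u c)) :=
    fun α => inner_R α χ hχ
  rw [Finset.sum_congr rfl (fun α _ => e α), ← Finset.mul_sum, Finset.sum_comm]
  have e2 : ∀ u : Fˣ, ∑ α : MulChar F ℂ, ∑ c : F, α (u : F) * conj (χ (bm u c)) =
      if u = 1 then (qq - 1) * ∑ c : F, conj (χ (bm 1 c)) else 0 := by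
    intro u
    have e3 : ∀ α : MulChar F ℂ, ∑ c : F, α (u : F) * conj (χ (bm u c)) =
        α (u : F) * ∑ c : F, conj (χ (bm u c)) := fun α => (Finset.mul_sum _ _ _).symm
    rw [Finset.sum_congr rfl (fun α _ => e3 α), ← Finset.sum_mul, mulchar_sum' u]
    split_ifs with h
    · subst h
      rfl
    · rw [zero_mul]
  rw [Finset.sum_congr rfl (fun u _ => e2 u), Finset.sum_ite_eq', if_pos (Finset.mem_univ _)]
  field_simp

/-! ### `X(1) = St - 1` and central signs -/

lemma Xc_one_eq (hodd : Odd (Fintype.card F)) {C : Subgroup SL} (hC : NST C) :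
    Xc hodd hC (1 : C →* ℂˣ) = St - triv := by
  apply cf_ext hC (Xc_cf hodd hC 1)
  · intro g h
    simp only [Pi.sub_apply, St_apply, triv_apply, R_cf 1 g h]
  · intro a c
    simp only [Pi.sub_apply, St_apply, triv_apply]
    by_cases ha : a * a = 1
    · rcases unit_sq_one a ha with rfl | rfl
      · by_cases hc : c = 0
        · subst hc
          have h1 := Xc_one hodd hC (1 : C →* ℂˣ)
          rw [← bm_one] at h1
          rw [h1, R_one_bm_central hodd 1 (mul_one 1)]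
          ring
        · rw [Xc_bm_one hodd hC 1 c hc, R_one_bm_unip hodd 1 c (mul_one 1) hc]
          ring
      · by_cases hc : c = 0
        · subst hc
          have h1 := Xc_zm hodd hC (1 : C →* ℂˣ)
          rw [← bm_neg_one] at h1
          rw [h1, thz_one, R_one_bm_central hodd (-1) ha]
          ring
        · rw [Xc_bm_neg hodd hC 1 c hc, thz_one, R_one_bm_unip hodd (-1) c ha hc]
          ring
    · rw [Xc_bm_split hodd hC 1 a c ha, R_one_bm_split hodd a c ha]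
      ring
  · intro c hc h1 hz
    simp only [Pi.sub_apply, St_apply, triv_apply]
    rw [Xc_torus hodd hC 1 c hc h1 hz, R_noEig hodd 1 c (hC.noeig c hc h1 hz)]
    simp only [MonoidHom.one_apply, inv_one, Units.val_one]
    ring

lemma inner_central_sign {A χ : SL → ℂ} {s ω : ℂ} (hs : s = 1 ∨ s = -1) (hω : ω = 1 ∨ ω = -1)
    (hA : ∀ g, A (Zm F * g) = s * A g) (hχ : ∀ g, χ (Zm F * g) = ω * χ g)
    (hne : classInner A χ ≠ 0) : ω = s := by
  have hω' : conj ω = ω := by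
    rcases hω with h | h <;> rw [h] <;> simp
  have key : ∑ g : SL, A g * conj (χ g) = s * ω * ∑ g : SL, A g * conj (χ g) := by
    rw [Finset.mul_sum]
    refine (Fintype.sum_equiv (Equiv.mulLeft (Zm F)) (fun g => s * ω * (A g * conj (χ g)))
      (fun g => A g * conj (χ g)) ?_).symm
    intro g
    simp only [Equiv.coe_mulLeft]
    rw [hA, hχ, map_mul, hω']
    ring
  have h3 : (1 - s * ω) * classInner A χ = 0 := by
    rw [classInner_def']
    linear_combination (Nat.card SL : ℂ)⁻¹ * key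
  rcases mul_eq_zero.mp h3 with h | h
  · rcases hs with rfl | rfl <;> rcases hω with rfl | rfl
    · rfl
    · exfalso
      norm_num at h
    · exfalso
      norm_num at h
    · rfl
  · exact absurd h hne

lemma not_both (hodd : Odd (Fintype.card F)) {C : Subgroup SL} (hC : NST C) {χ : SL → ℂ}
    (hχ : IsIrrCharacter SL χ) (h1 : classInner (R (al0 (F := F))) χ ≠ 0)
    (h2 : classInner (Xc hodd hC (th0 hodd hC)) χ ≠ 0) : False := by
  obtain ⟨ω, hω, hωχ⟩ := irr_central_sign hχ (Zm F) (Zm_center F) zm_mul_self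
  have e1 := inner_central_sign al0_neg_one_cases hω (R_zm_mul al0) hωχ h1
  have e2 := inner_central_sign (thz_cases hC _) hω (Xc_zm_mul hodd hC _) hωχ h2
  exact sign_fact hodd hC (e1.symm.trans e2)

/-! ### the classification of the irreducible characters -/

lemma al0_inv : (al0 (F := F))⁻¹ = al0 := by
  have h : (al0 (F := F)) * al0 = 1 := by
    rw [← pow_two]
    exact al0_sq
  exact (eq_inv_of_mul_eq_one_left h).symm

lemma th0_inv (hodd : Odd (Fintype.card F)) {C : Subgroup SL} (hC : NST C) :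
    (th0 hodd hC)⁻¹ = th0 hodd hC := by
  apply MonoidHom.ext
  intro c
  have h := congrArg (fun θ : C →* ℂˣ => θ c) (th0_sq hodd hC)
  simp only [pow_two, MonoidHom.mul_apply, MonoidHom.one_apply] at h
  rw [MonoidHom.inv_apply]
  exact (eq_inv_of_mul_eq_one_left h).symm

lemma sq_ne_iff_ne_inv {G : Type*} [Group G] (a : G) : a ^ 2 ≠ 1 ↔ a ≠ a⁻¹ := by
  rw [not_iff_not, pow_two]
  exact mul_eq_one_iff_eq_inv

lemma card_ge_three (hodd : Odd (Fintype.card F)) : 3 ≤ Fintype.card F := by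
  have h1 : 1 < Fintype.card F := Fintype.one_lt_card
  obtain ⟨t, ht⟩ := hodd
  omega

lemma R_one_val (hodd : Odd (Fintype.card F)) (β : MulChar F ℂ) : R β (1 : SL) = qq + 1 := by
  have h := R_bm_central hodd β 1 (mul_one 1)
  rwa [bm_one, Units.val_one, map_one, mul_one] at h

open Classical in
lemma R_irr (hodd : Odd (Fintype.card F)) (β : MulChar F ℂ) (hβ : β ^ 2 ≠ 1) :
    IsIrrCharacter SL (R β) := by
  apply Helper2.isIrrCharacter_of_classInner_self (R_char β)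
  rw [inner_RR hodd, if_pos rfl, if_neg ((sq_ne_iff_ne_inv β).mp hβ)]
  norm_num

open Classical in
lemma Xc_irr (hodd : Odd (Fintype.card F)) {C : Subgroup SL} (hC : NST C) (θ : C →* ℂˣ)
    (hθ : θ ^ 2 ≠ 1) : IsIrrCharacter SL (Xc hodd hC θ) := by
  have hq := card_ge_three hodd
  have hnorm : classInner (Xc hodd hC θ) (Xc hodd hC θ) = 1 := by
    rw [inner_XX, if_pos rfl, if_neg ((sq_ne_iff_ne_inv (G := C →* ℂˣ) θ).mp hθ)]
    norm_num
  apply irr_of_norm_one (Xc_gen hodd hC θ) hnorm (Fintype.card F - 1) (by omega)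
  rw [Xc_one, Nat.cast_sub (by omega), Nat.cast_one]

lemma R_one_eq : R (1 : MulChar F ℂ) = triv + St := by
  funext g
  simp only [Pi.add_apply, St_apply, triv_apply]
  ring

open Classical in
lemma inner_R_St (hodd : Odd (Fintype.card F)) (α : MulChar F ℂ) :
    classInner (R α) (St (F := F)) = if α = 1 then 1 else 0 := by
  rw [St_eq, Helper2.classInner_sub_right, inner_RR hodd, inner_R_triv]
  by_cases h : α = 1
  · subst h
    rw [if_pos rfl, if_pos inv_one.symm]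
    norm_num
  · rw [if_neg h, if_neg (by rw [inv_one]; exact h)]
    norm_num

open Classical in
lemma inner_X_triv_St (hodd : Odd (Fintype.card F)) {C : Subgroup SL} (hC : NST C)
    (θ : C →* ℂˣ) :
    classInner (Xc hodd hC θ) (triv (F := F)) = (if θ = 1 then -1 else 0) ∧
      classInner (Xc hodd hC θ) (St (F := F)) = (if θ = 1 then 1 else 0) := by
  have hinv : (1 : C →* ℂˣ)⁻¹ = 1 :=
    MonoidHom.ext fun c => by rw [MonoidHom.inv_apply, MonoidHom.one_apply, inv_one]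
  have h1 : classInner (Xc hodd hC θ) (St (F := F)) - classInner (Xc hodd hC θ) (triv (F := F)) =
      (if θ = 1 then 1 else 0) + (if θ = 1 then 1 else 0) := by
    rw [← Helper2.classInner_sub_right, ← Xc_one_eq hodd hC, inner_XX, hinv]
  have h2 : classInner (Xc hodd hC θ) (triv (F := F)) + classInner (Xc hodd hC θ) (St (F := F))
      = 0 := by
    rw [← Helper2.classInner_add_right, ← R_one_eq, inner_Xc_R]
  constructor
  · split_ifs at h1 ⊢ with h <;> linear_combination (h2 - h1) / 2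
  · split_ifs at h1 ⊢ with h <;> linear_combination (h2 + h1) / 2

lemma irr_inner_cases {G : Type*} [Group G] [Fintype G] {χ ψ : G → ℂ} (hχ : IsIrrCharacter G χ)
    (hψ : IsIrrCharacter G ψ) : classInner χ ψ = 0 ∨ classInner χ ψ = 1 := by
  by_cases h : χ = ψ
  · right
    rw [h]
    exact irr_inner_self hψ
  · left
    by_contra h'
    exact h (irr_eq_of_inner_ne hχ hψ h')

lemma eq_triv_or_St (hodd : Odd (Fintype.card F)) {χ : SL → ℂ} (hχ : IsIrrCharacter SL χ)
    (h : classInner (R (1 : MulChar F ℂ)) χ ≠ 0) : χ = triv ∨ χ = St := by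
  by_contra hcon
  push Not at hcon
  apply h
  rw [R_one_eq, Helper2.classInner_add_left]
  have h1 : classInner (triv (F := F)) χ = 0 := by
    by_contra h'
    exact hcon.1 (irr_eq_of_inner_ne triv_irr hχ h').symm
  have h2 : classInner (St (F := F)) χ = 0 := by
    by_contra h'
    exact hcon.2 (irr_eq_of_inner_ne (St_irr hodd) hχ h').symm
  rw [h1, h2, add_zero]

theorem R_al0_decomp (hodd : Odd (Fintype.card F)) :
    ∃ ψ₁ ψ₂ : SL → ℂ, IsIrrCharacter SL ψ₁ ∧ IsIrrCharacter SL ψ₂ ∧ ψ₁ ≠ ψ₂ ∧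
      R (al0 (F := F)) = ψ₁ + ψ₂ := by
  classical
  have hgen : IsGeneralizedCharacter SL (R (al0 (F := F))) :=
    ⟨R al0, 0, R_char _, Helper2.isCharacter_zero, (sub_zero _).symm⟩
  have hnorm : classInner (R (al0 (F := F))) (R al0) = 2 := by
    rw [inner_RR hodd, if_pos rfl, if_pos al0_inv.symm]
    norm_num
  obtain ⟨ψ₁, ψ₂, e₁, e₂, hne, he₁, he₂, hdec, hi₁, hi₂, -⟩ := virtual_norm_two' hgen hnorm
  obtain ⟨m₁, hm₁⟩ := inner_nat_of_char_irr (R_char (al0 (F := F))) ψ₁.2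
  obtain ⟨m₂, hm₂⟩ := inner_nat_of_char_irr (R_char (al0 (F := F))) ψ₂.2
  have h1 : e₁ = 1 := by
    rcases he₁ with h | h
    · exact h
    · exfalso
      have h3 : (m₁ : ℂ) = -1 := by rw [← hm₁, hi₁, h]
      have h4 : ((m₁ + 1 : ℕ) : ℂ) = 0 := by
        push_cast
        rw [h3]
        ring
      exact Nat.succ_ne_zero m₁ (by exact_mod_cast h4)
  have h2 : e₂ = 1 := by
    rcases he₂ with h | h
    · exact h
    · exfalso
      have h3 : (m₂ : ℂ) = -1 := by rw [← hm₂, hi₂, h]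
      have h4 : ((m₂ + 1 : ℕ) : ℂ) = 0 := by
        push_cast
        rw [h3]
        ring
      exact Nat.succ_ne_zero m₂ (by exact_mod_cast h4)
  refine ⟨ψ₁, ψ₂, ψ₁.2, ψ₂.2, fun h => hne (Subtype.ext h), ?_⟩
  rw [hdec, h1, h2, one_smul, one_smul]

open Classical in
theorem typeP (hodd : Odd (Fintype.card F)) {C : Subgroup SL} (hC : NST C) {χ : SL → ℂ}
    (hχ : IsIrrCharacter SL χ) (h : classInner (R (al0 (F := F))) χ ≠ 0) :
    classInner (R (al0 (F := F))) χ = 1 ∧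
    (∀ β : MulChar F ℂ, classInner (R β) χ = if β = al0 then 1 else 0) ∧
    (∀ θ : C →* ℂˣ, classInner (Xc hodd hC θ) χ = 0) ∧ χ 1 = (qq + 1) / 2 := by
  haveI : Fintype (MulChar F ℂ) := Fintype.ofFinite _
  haveI : Fintype (C →* ℂˣ) := Fintype.ofFinite _
  have hi : classInner (R (al0 (F := F))) χ = 1 := by
    obtain ⟨ψ₁, ψ₂, i1, i2, hne, hdec⟩ := R_al0_decomp (F := F) hodd
    rw [hdec, Helper2.classInner_add_left] at h ⊢
    rcases irr_inner_cases i1 hχ with h1 | h1 <;> rcases irr_inner_cases i2 hχ with h2 | h2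
    · rw [h1, h2, add_zero] at h
      exact absurd rfl h
    · rw [h1, h2, zero_add]
    · rw [h1, h2, add_zero]
    · exfalso
      apply hne
      have e1 := irr_eq_of_inner_ne i1 hχ (by rw [h1]; exact one_ne_zero)
      have e2 := irr_eq_of_inner_ne i2 hχ (by rw [h2]; exact one_ne_zero)
      rw [e1, e2]
  have hii : ∀ β : MulChar F ℂ, classInner (R β) χ = if β = al0 then 1 else 0 := by
    intro β
    by_cases hβ : β = al0
    · rw [if_pos hβ, hβ, hi]
    · rw [if_neg hβ]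
      by_contra h'
      have h3 := inner_ne_zero_of_common (R_char β) (R_char al0) hχ h' h
      apply h3
      rw [inner_RR hodd, if_neg hβ, if_neg (by rw [al0_inv]; exact hβ), add_zero]
  have hiii : ∀ θ : C →* ℂˣ, classInner (Xc hodd hC θ) χ = 0 := by
    intro θ
    by_cases hθ2 : θ ^ 2 = 1
    · by_cases hθ1 : θ = 1
      · subst hθ1
        rw [Xc_one_eq, Helper2.classInner_sub_left]
        have h1 : classInner (St (F := F)) χ = 0 := by
          by_contra h'
          have e := irr_eq_of_inner_ne (St_irr hodd) hχ h'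
          apply h
          rw [← e, inner_R_St hodd, if_neg (al0_ne_one hodd)]
        have h2 : classInner (triv (F := F)) χ = 0 := by
          by_contra h'
          have e := irr_eq_of_inner_ne triv_irr hχ h'
          apply h
          rw [← e, inner_R_triv, if_neg (al0_ne_one hodd)]
        rw [h1, h2, sub_zero]
      · have e := th0_unique hodd hC hθ1 hθ2
        by_contra h'
        rw [e] at h'
        exact not_both hodd hC hχ h h'
    · by_contra h'
      have e := irr_eq_of_inner_ne (Xc_irr hodd hC θ hθ2) hχ h'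
      apply h
      rw [← e, inner_R_Xc]
  refine ⟨hi, hii, hiii, ?_⟩
  have hd := degree_formula hodd hC χ
  obtain ⟨n, -, hn⟩ := irr_one_nat hχ
  rw [hn, Complex.conj_natCast, Finset.sum_congr rfl (fun β _ => hii β), Finset.sum_ite_eq',
    if_pos (Finset.mem_univ _), Finset.sum_congr rfl (fun θ _ => hiii θ),
    Finset.sum_const_zero] at hd
  rw [hn, hd]
  ring

open Classical in
theorem typeM_of_cusp (hodd : Odd (Fintype.card F)) {C : Subgroup SL} (hC : NST C) {χ : SL → ℂ}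
    (hχ : IsIrrCharacter SL χ) (hcusp : ∀ β : MulChar F ℂ, classInner (R β) χ = 0) :
    (∃ θ : C →* ℂˣ, θ ^ 2 ≠ 1 ∧ χ = Xc hodd hC θ) ∨
    (classInner (Xc hodd hC (th0 hodd hC)) χ = 1 ∧
      (∀ θ : C →* ℂˣ, θ ≠ th0 hodd hC → classInner (Xc hodd hC θ) χ = 0) ∧
      χ 1 = (qq - 1) / 2) := by
  haveI : Fintype (MulChar F ℂ) := Fintype.ofFinite _
  haveI : Fintype (C →* ℂˣ) := Fintype.ofFinite _
  have hq := card_ge_three hodd
  by_cases hex : ∃ θ : C →* ℂˣ, θ ^ 2 ≠ 1 ∧ classInner (Xc hodd hC θ) χ ≠ 0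
  · left
    obtain ⟨θ, hθ, hne⟩ := hex
    exact ⟨θ, hθ, (irr_eq_of_inner_ne (Xc_irr hodd hC θ hθ) hχ hne).symm⟩
  · right
    push Not at hex
    have hb : ∀ θ : C →* ℂˣ, θ ≠ th0 hodd hC → classInner (Xc hodd hC θ) χ = 0 := by
      intro θ hθ
      by_cases hθ2 : θ ^ 2 = 1
      · by_cases hθ1 : θ = 1
        · subst hθ1
          rw [Xc_one_eq, Helper2.classInner_sub_left]
          have h1 : classInner (St (F := F)) χ = 0 := by
            by_contra h'
            have e := irr_eq_of_inner_ne (St_irr hodd) hχ h'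
            have h5 := hcusp 1
            rw [← e, inner_R_St hodd, if_pos rfl] at h5
            exact one_ne_zero h5
          have h2 : classInner (triv (F := F)) χ = 0 := by
            by_contra h'
            have e := irr_eq_of_inner_ne triv_irr hχ h'
            have h5 := hcusp 1
            rw [← e, inner_R_triv, if_pos rfl] at h5
            exact one_ne_zero h5
          rw [h1, h2, sub_zero]
        · exact absurd (th0_unique hodd hC hθ1 hθ2) hθ
      · exact hex θ hθ2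
    have hd := degree_formula hodd hC χ
    obtain ⟨n, hn0, hn⟩ := irr_one_nat hχ
    have hsum : ∑ θ : C →* ℂˣ, classInner (Xc hodd hC θ) χ =
        classInner (Xc hodd hC (th0 hodd hC)) χ := by
      rw [Finset.sum_eq_single (th0 hodd hC)]
      · intro θ _ hθ
        exact hb θ hθ
      · intro h
        exact absurd (Finset.mem_univ _) h
    rw [hn, Complex.conj_natCast, Finset.sum_congr rfl (fun β _ => hcusp β),
      Finset.sum_const_zero, hsum, mul_zero, zero_add] at hd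
    have hv : classInner (Xc hodd hC (th0 hodd hC)) χ = 0 ∨
        classInner (Xc hodd hC (th0 hodd hC)) χ = 1 ∨
        classInner (Xc hodd hC (th0 hodd hC)) χ = -1 := by
      have hnorm : classInner (Xc hodd hC (th0 hodd hC)) (Xc hodd hC (th0 hodd hC)) = 2 := by
        rw [inner_XX, if_pos rfl, if_pos (th0_inv hodd hC).symm]
        norm_num
      obtain ⟨ψ₁, ψ₂, e₁, e₂, hne, he₁, he₂, hdec, hi₁, hi₂, hoth⟩ :=
        virtual_norm_two' (Xc_gen hodd hC _) hnorm
      by_cases c1 : (⟨χ, hχ⟩ : IrrCharacter SL) = ψ₁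
      · have e : classInner (Xc hodd hC (th0 hodd hC)) χ = e₁ := by rw [← hi₁, ← c1]
        rw [e]
        rcases he₁ with h | h
        · right; left; exact h
        · right; right; exact h
      · by_cases c2 : (⟨χ, hχ⟩ : IrrCharacter SL) = ψ₂
        · have e : classInner (Xc hodd hC (th0 hodd hC)) χ = e₂ := by rw [← hi₂, ← c2]
          rw [e]
          rcases he₂ with h | h
          · right; left; exact h
          · right; right; exact h
        · left
          exact hoth ⟨χ, hχ⟩ c1 c2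
    rcases hv with hv | hv | hv
    · exfalso
      rw [hv, mul_zero] at hd
      exact hn0 (by exact_mod_cast hd)
    · refine ⟨hv, hb, ?_⟩
      rw [hn, hd, hv, mul_one]
    · exfalso
      rw [hv] at hd
      have h5 : ((2 * n + (Fintype.card F - 1) : ℕ) : ℂ) = 0 := by
        push_cast [Nat.cast_sub (by omega : 1 ≤ Fintype.card F)]
        rw [hd]
        ring
      have h6 : 2 * n + (Fintype.card F - 1) = 0 := by exact_mod_cast h5
      omega

/-- the classification of the irreducible characters of `SL₂(q)`, `q` odd -/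
theorem classify (hodd : Odd (Fintype.card F)) {C : Subgroup SL} (hC : NST C) {χ : SL → ℂ}
    (hχ : IsIrrCharacter SL χ) :
    χ = triv ∨ χ = St ∨ (∃ β : MulChar F ℂ, β ^ 2 ≠ 1 ∧ χ = R β) ∨
    (classInner (R (al0 (F := F))) χ ≠ 0) ∨
    (∃ θ : C →* ℂˣ, θ ^ 2 ≠ 1 ∧ χ = Xc hodd hC θ) ∨
    ((∀ β : MulChar F ℂ, classInner (R β) χ = 0) ∧
      classInner (Xc hodd hC (th0 hodd hC)) χ = 1 ∧
      (∀ θ : C →* ℂˣ, θ ≠ th0 hodd hC → classInner (Xc hodd hC θ) χ = 0) ∧
      χ 1 = (qq - 1) / 2) := by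
  by_cases hA : ∃ β : MulChar F ℂ, classInner (R β) χ ≠ 0
  · obtain ⟨β, hβ⟩ := hA
    by_cases h1 : β = 1
    · subst h1
      rcases eq_triv_or_St hodd hχ hβ with h | h
      · left; exact h
      · right; left; exact h
    · by_cases h2 : β ^ 2 = 1
      · right; right; right; left
        rw [← al0_unique h1 h2]
        exact hβ
      · right; right; left
        exact ⟨β, h2, (irr_eq_of_inner_ne (R_irr hodd β h2) hχ hβ).symm⟩
  · push Not at hA
    rcases typeM_of_cusp hodd hC hχ hA with h | ⟨h1, h2, h3⟩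
    · right; right; right; right; left; exact h
    · right; right; right; right; right
      exact ⟨hA, h1, h2, h3⟩

/-! ### the diagonal automorphism -/

/-- conjugation by `diag(ν, 1)`, as a function -/
def sigFun (ν : Fˣ) (g : SL) : SL :=
  ⟨!![g.1 0 0, (ν : F) * g.1 0 1; ((ν⁻¹ : Fˣ) : F) * g.1 1 0, g.1 1 1], by
    have h := g.2
    rw [Matrix.det_fin_two] at h
    rw [Matrix.det_fin_two_of]
    have hν : (ν : F) * ((ν⁻¹ : Fˣ) : F) = 1 := by
      rw [← Units.val_mul, mul_inv_cancel, Units.val_one]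
    linear_combination h - g.1 0 1 * g.1 1 0 * hν⟩

lemma sigFun_00 (ν : Fˣ) (g : SL) : (sigFun ν g).1 0 0 = g.1 0 0 := by simp [sigFun]
lemma sigFun_01 (ν : Fˣ) (g : SL) : (sigFun ν g).1 0 1 = (ν : F) * g.1 0 1 := by simp [sigFun]
lemma sigFun_10 (ν : Fˣ) (g : SL) : (sigFun ν g).1 1 0 = ((ν⁻¹ : Fˣ) : F) * g.1 1 0 := by
  simp [sigFun]
lemma sigFun_11 (ν : Fˣ) (g : SL) : (sigFun ν g).1 1 1 = g.1 1 1 := by simp [sigFun]

lemma sigFun_mul (ν : Fˣ) (x y : SL) : sigFun ν (x * y) = sigFun ν x * sigFun ν y := by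
  have hν : ((ν⁻¹ : Fˣ) : F) * (ν : F) = 1 := by
    rw [← Units.val_mul, inv_mul_cancel, Units.val_one]
  apply sl_ext
  · rw [sigFun_00, mul_00, mul_00, sigFun_00, sigFun_00, sigFun_01, sigFun_10]
    linear_combination (-(x.1 0 1 * y.1 1 0)) * hν
  · rw [sigFun_01, mul_01, mul_01, sigFun_00, sigFun_01, sigFun_01, sigFun_11]
    ring
  · rw [sigFun_10, mul_10, mul_10, sigFun_10, sigFun_00, sigFun_11, sigFun_10]
    ring
  · rw [sigFun_11, mul_11, mul_11, sigFun_10, sigFun_01, sigFun_11, sigFun_11]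
    linear_combination (-(x.1 1 0 * y.1 0 1)) * hν

lemma sigFun_inv (ν : Fˣ) (g : SL) : sigFun ν⁻¹ (sigFun ν g) = g := by
  have hν : ((ν⁻¹ : Fˣ) : F) * (ν : F) = 1 := by
    rw [← Units.val_mul, inv_mul_cancel, Units.val_one]
  apply sl_ext
  · rw [sigFun_00, sigFun_00]
  · rw [sigFun_01, sigFun_01, ← mul_assoc, hν, one_mul]
  · rw [sigFun_10, sigFun_10, inv_inv, ← mul_assoc, mul_comm (ν : F), hν, one_mul]
  · rw [sigFun_11, sigFun_11]

/-- the diagonal automorphism of `SL₂` -/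
def sig (ν : Fˣ) : SL ≃* SL where
  toFun := sigFun ν
  invFun := sigFun ν⁻¹
  left_inv := sigFun_inv ν
  right_inv := fun g => by
    have := sigFun_inv ν⁻¹ g
    rwa [inv_inv] at this
  map_mul' := sigFun_mul ν

lemma sig_apply (ν : Fˣ) (g : SL) : sig ν g = sigFun ν g := rfl

lemma sig_bm (ν : Fˣ) (a : Fˣ) (c : F) : sig ν (bm a c) = bm a ((ν : F) * c) := by
  apply sl_ext
  · rw [sig_apply, sigFun_00, bm_00, bm_00]
  · rw [sig_apply, sigFun_01, bm_01, bm_01]
  · rw [sig_apply, sigFun_10, bm_10, bm_10, mul_zero]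
  · rw [sig_apply, sigFun_11, bm_11, bm_11]

lemma sig_trace (ν : Fˣ) (g : SL) : (sig ν g).1.trace = g.1.trace := by
  rw [Matrix.trace_fin_two, Matrix.trace_fin_two, sig_apply, sigFun_00, sigFun_11]

lemma sig_zm (ν : Fˣ) : sig ν (Zm F) = Zm F := by
  rw [← bm_neg_one, sig_bm, mul_zero]

lemma nst_pow_eq_one {C : Subgroup SL} (hC : NST C) {c : SL} (hc : c ∈ C) :
    c ^ (Fintype.card F + 1) = 1 := by
  have h := pow_card_eq_one' (G := C) (x := ⟨c, hc⟩)
  rw [hC.card] at h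
  have h' : ((⟨c, hc⟩ : C) ^ (Fintype.card F + 1) : C).1 = (1 : C).1 := congrArg Subtype.val h
  rw [Subgroup.coe_pow] at h'
  exact h'

lemma cf_sig_torus (hodd : Odd (Fintype.card F)) {C : Subgroup SL} (hC : NST C) {Φ : SL → ℂ}
    (hΦ : IsClassFunction SL Φ) (ν : Fˣ) (c : SL) (hc : c ∈ C) (h1 : c ≠ 1) (hz : c ≠ Zm F) :
    Φ (sig ν c) = Φ c := by
  have hodd' := Nat.odd_iff.mp hodd
  have hs4 := Cfsg.Agent.S2430.trace_ne_of_pow hodd' c _ (nst_pow_eq_one hC hc) (Or.inr rfl)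
    (not_center h1 hz)
  obtain ⟨P, hP⟩ := Cfsg.Agent.S2455.conj_of_trace c (sig ν c) c.1.trace rfl (sig_trace ν c) hs4
    (Cfsg.Agent.S2455.univ_odd hodd' _ hs4)
  rw [← hP]
  exact hΦ c P

lemma cf_sig_noEig (hodd : Odd (Fintype.card F)) {C : Subgroup SL} (hC : NST C) {Φ : SL → ℂ}
    (hΦ : IsClassFunction SL Φ) (ν : Fˣ) (g : SL) (hg : NoEig g) : Φ (sig ν g) = Φ g := by
  obtain ⟨x, hx⟩ := hC.conj g hg
  have hne := noEig_conj hg x
  have h1 := cf_sig_torus hodd hC hΦ ν _ hx (ne_one_of_noEig hne) (ne_zm_of_noEig hne)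
  rw [map_mul, map_mul, map_inv, cf_conj' hΦ, cf_conj' hΦ] at h1
  exact h1

lemma cf_sig_inv (hodd : Odd (Fintype.card F)) {C : Subgroup SL} (hC : NST C) {Φ : SL → ℂ}
    (hΦ : IsClassFunction SL Φ) (ν : Fˣ)
    (h : ∀ (a : Fˣ) (c : F), Φ (bm a ((ν : F) * c)) = Φ (bm a c)) (g : SL) :
    Φ (sig ν g) = Φ g := by
  by_cases hg : NoEig g
  · exact cf_sig_noEig hodd hC hΦ ν g hg
  · obtain ⟨x, a, c, hx⟩ := exists_conj_bm g hg
    have h1 : Φ (sig ν (x⁻¹ * g * x)) = Φ (x⁻¹ * g * x) := by rw [hx, sig_bm, h]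
    rw [map_mul, map_mul, map_inv, cf_conj' hΦ, cf_conj' hΦ] at h1
    exact h1

lemma R_bm_scale (hodd : Odd (Fintype.card F)) (α : MulChar F ℂ) (a : Fˣ) (c : F) (s : Fˣ) :
    R α (bm a ((s : F) * c)) = R α (bm a c) := by
  by_cases ha : a * a = 1
  · by_cases hc : c = 0
    · rw [hc, mul_zero]
    · rw [R_bm_unip hodd α a _ ha (mul_ne_zero s.ne_zero hc), R_bm_unip hodd α a c ha hc]
  · rw [R_bm_split hodd α a _ ha, R_bm_split hodd α a c ha]

lemma Xc_bm_scale (hodd : Odd (Fintype.card F)) {C : Subgroup SL} (hC : NST C) (θ : C →* ℂˣ)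
    (a : Fˣ) (c : F) (s : Fˣ) :
    Xc hodd hC θ (bm a ((s : F) * c)) = Xc hodd hC θ (bm a c) := by
  by_cases ha : a * a = 1
  · by_cases hc : c = 0
    · rw [hc, mul_zero]
    · rcases unit_sq_one a ha with rfl | rfl
      · rw [Xc_bm_one hodd hC θ _ (mul_ne_zero s.ne_zero hc), Xc_bm_one hodd hC θ c hc]
      · rw [Xc_bm_neg hodd hC θ _ (mul_ne_zero s.ne_zero hc), Xc_bm_neg hodd hC θ c hc]
  · rw [Xc_bm_split hodd hC θ a _ ha, Xc_bm_split hodd hC θ a c ha]

lemma R_sig (hodd : Odd (Fintype.card F)) (α : MulChar F ℂ) (ν : Fˣ) (g : SL) :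
    R α (sig ν g) = R α g := by
  obtain ⟨C, hC⟩ := exists_nst (F := F) hodd
  exact cf_sig_inv hodd hC (R_cf α) ν (fun a c => R_bm_scale hodd α a c ν) g

lemma Xc_sig (hodd : Odd (Fintype.card F)) {C : Subgroup SL} (hC : NST C) (θ : C →* ℂˣ)
    (ν : Fˣ) (g : SL) : Xc hodd hC θ (sig ν g) = Xc hodd hC θ g :=
  cf_sig_inv hodd hC (Xc_cf hodd hC θ) ν (fun a c => Xc_bm_scale hodd hC θ a c ν) g

lemma sq_or_nonsq (ν : Fˣ) (hν : ¬IsSquare (ν : F)) (c : F) (hc : c ≠ 0) :
    ∃ s : Fˣ, c = (s : F) ^ 2 ∨ c = (s : F) ^ 2 * (ν : F) := by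
  by_cases h : IsSquare c
  · obtain ⟨r, hr⟩ := h
    have hr0 : r ≠ 0 := by
      rintro rfl
      rw [mul_zero] at hr
      exact hc hr
    exact ⟨Units.mk0 r hr0, Or.inl (by rw [Units.val_mk0, hr, pow_two])⟩
  · have hne : c * ((ν⁻¹ : Fˣ) : F) ≠ 0 := mul_ne_zero hc (Units.ne_zero _)
    have h5 : IsSquare (c * ((ν⁻¹ : Fˣ) : F)) := by
      rw [← quadraticChar_one_iff_isSquare hne]
      have h6 : quadraticChar F (c * ((ν⁻¹ : Fˣ) : F)) * quadraticChar F (ν : F) =
          quadraticChar F c := by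
        rw [← map_mul, mul_assoc, ← Units.val_mul, inv_mul_cancel, Units.val_one, mul_one]
      rw [quadraticChar_neg_one_iff_not_isSquare.mpr hν,
        quadraticChar_neg_one_iff_not_isSquare.mpr h] at h6
      linarith
    obtain ⟨r, hr⟩ := h5
    have hr0 : r ≠ 0 := by
      rintro rfl
      rw [mul_zero] at hr
      exact hne hr
    refine ⟨Units.mk0 r hr0, Or.inr ?_⟩
    rw [Units.val_mk0, pow_two, ← hr, mul_assoc, ← Units.val_mul, inv_mul_cancel, Units.val_one,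
      mul_one]

lemma unip_sq {ψ : SL → ℂ} (hcf : IsClassFunction SL ψ) (s : Fˣ) :
    ψ (bm 1 ((s : F) ^ 2)) = ψ (bm 1 1) := by
  have h := cf_bm_sq hcf 1 1 s
  rwa [mul_one] at h

lemma unip_const {ψ : SL → ℂ} (hcf : IsClassFunction SL ψ) (ν : Fˣ) (hν : ¬IsSquare (ν : F))
    (hinv : ∀ g, ψ (sig ν g) = ψ g) (c : F) (hc : c ≠ 0) : ψ (bm 1 c) = ψ (bm 1 1) := by
  obtain ⟨s, hs | hs⟩ := sq_or_nonsq ν hν c hc
  · rw [hs, unip_sq hcf]
  · rw [hs, cf_bm_sq hcf 1 (ν : F) s]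
    have := hinv (bm 1 1)
    rw [sig_bm, mul_one] at this
    exact this

lemma half_not_integral : ¬ IsIntegral ℤ ((1 : ℂ) / 2) := by
  intro h
  have h' : IsIntegral ℤ (((1 : ℕ) : ℂ) / ((2 : ℕ) : ℂ)) := by
    push_cast
    exact h
  have h2 := Helper1.dvd_of_isIntegral_div 1 2 (by norm_num) h'
  omega

lemma twist_aux {Θ ψ₁ ψ₂ : SL → ℂ} (h1 : IsIrrCharacter SL ψ₁) (h2 : IsIrrCharacter SL ψ₂)
    (hΘ : Θ = ψ₁ + ψ₂) (ν : Fˣ) (hinv : ∀ g, Θ (sig ν g) = Θ g)
    (hne : (fun g => ψ₁ (sig ν g)) ≠ ψ₁) : (fun g => ψ₁ (sig ν g)) = ψ₂ := by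
  have i1 : IsIrrCharacter SL (fun g => ψ₁ (sig ν g)) :=
    Cfsg.Agent.Helper11.isIrrCharacter_comp_mulEquiv (sig ν) h1
  have i2 : IsIrrCharacter SL (fun g => ψ₂ (sig ν g)) :=
    Cfsg.Agent.Helper11.isIrrCharacter_comp_mulEquiv (sig ν) h2
  have hΘ' : Θ = (fun g => ψ₁ (sig ν g)) + (fun g => ψ₂ (sig ν g)) := by
    funext g
    rw [← hinv g, hΘ]
    rfl
  by_contra hcon
  have e1 : classInner ψ₁ (fun g => ψ₁ (sig ν g)) = 0 := by
    by_contra h'
    exact hne (irr_eq_of_inner_ne h1 i1 h').symm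
  have e2 : classInner ψ₂ (fun g => ψ₁ (sig ν g)) = 0 := by
    by_contra h'
    exact hcon (irr_eq_of_inner_ne h2 i1 h').symm
  have e3 : classInner Θ (fun g => ψ₁ (sig ν g)) = 0 := by
    rw [hΘ, Helper2.classInner_add_left, e1, e2, add_zero]
  rw [hΘ', Helper2.classInner_add_left, irr_inner_self i1] at e3
  rcases irr_inner_cases i2 i1 with h | h
  · rw [h] at e3
    norm_num at e3
  · rw [h] at e3
    norm_num at e3

/-- the two constituents of `R(α₀)` are swapped by the diagonal automorphism -/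
theorem twistP (hodd : Odd (Fintype.card F)) {C : Subgroup SL} (hC : NST C) {χ : SL → ℂ}
    (hχ : IsIrrCharacter SL χ) (h : classInner (R (al0 (F := F))) χ ≠ 0) (ν : Fˣ)
    (hν : ¬IsSquare (ν : F)) :
    IsIrrCharacter SL (fun g => χ (sig ν g)) ∧ (fun g => χ (sig ν g)) ≠ χ ∧
      R (al0 (F := F)) = χ + (fun g => χ (sig ν g)) := by
  classical
  haveI : Fintype (MulChar F ℂ) := Fintype.ofFinite _
  have hq0 := q_ne_zero (F := F)
  have hq1 := q_sub_one_ne_zero (F := F)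
  have hcf := Helper2.isClassFunction_of_isCharacter (Helper2.isCharacter_of_isIrrCharacter hχ)
  have hne : (fun g => χ (sig ν g)) ≠ χ := by
    intro heq
    have hinv : ∀ g, χ (sig ν g) = χ g := fun g => congrFun heq g
    obtain ⟨-, hall, -, hdeg⟩ := typeP hodd hC hχ h
    have hm := sum_inner_R χ hcf
    have hl : ∑ α : MulChar F ℂ, classInner (R α) χ = 1 := by
      rw [Finset.sum_congr rfl (fun α _ => hall α), Finset.sum_ite_eq',
        if_pos (Finset.mem_univ _)]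
    have hr : ∑ c : F, conj (χ (bm 1 c)) = conj (χ 1) + (qq - 1) * conj (χ (bm 1 1)) := by
      have e : ∀ c : F, (if c = 0 then 0 else conj (χ (bm 1 c))) =
          if c = 0 then 0 else conj (χ (bm 1 1)) := by
        intro c
        by_cases hc : c = 0
        · rw [if_pos hc, if_pos hc]
        · rw [if_neg hc, if_neg hc, unip_const hcf ν hν hinv c hc]
      rw [sum_split_zero, bm_one, Finset.sum_congr rfl (fun c _ => e c), sum_ite_const_F]
    rw [hl, hr, hdeg] at hm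
    have hconj : conj ((qq + 1) / 2) = (qq + 1) / 2 := by
      rw [map_div₀, map_add, Complex.conj_natCast, map_one, map_ofNat]
    rw [hconj] at hm
    have h6 : qq = (qq + 1) / 2 + (qq - 1) * conj (χ (bm 1 1)) := by
      have := congrArg (fun z => qq * z) hm
      beta_reduce at this
      rw [mul_one, mul_inv_cancel_left₀ hq0] at this
      exact this
    have h5 : (qq - 1) * (conj (χ (bm 1 1)) - 1 / 2) = 0 := by linear_combination (-1 : ℂ) * h6
    have hx : conj (χ (bm 1 1)) = 1 / 2 := by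
      rcases mul_eq_zero.mp h5 with h' | h'
      · exact absurd h' hq1
      · exact sub_eq_zero.mp h'
    have hx' : χ (bm 1 1) = 1 / 2 := by
      have := congrArg conj hx
      rw [Complex.conj_conj, map_div₀, map_one, map_ofNat] at this
      exact this
    apply half_not_integral
    rw [← hx']
    exact Helper25.char_isIntegral (Helper2.isCharacter_of_isIrrCharacter hχ) _
  refine ⟨Cfsg.Agent.Helper11.isIrrCharacter_comp_mulEquiv (sig ν) hχ, hne, ?_⟩
  obtain ⟨ψ₁, ψ₂, i1, i2, hne12, hdec⟩ := R_al0_decomp (F := F) hodd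
  have hinvR : ∀ g, R (al0 (F := F)) (sig ν g) = R al0 g := fun g => R_sig hodd al0 ν g
  have hor : χ = ψ₁ ∨ χ = ψ₂ := by
    by_contra hcon
    push Not at hcon
    apply h
    rw [hdec, Helper2.classInner_add_left]
    have e1 : classInner ψ₁ χ = 0 := by
      by_contra h'
      exact hcon.1 (irr_eq_of_inner_ne i1 hχ h').symm
    have e2 : classInner ψ₂ χ = 0 := by
      by_contra h'
      exact hcon.2 (irr_eq_of_inner_ne i2 hχ h').symm
    rw [e1, e2, add_zero]
  rcases hor with hor | hor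
  · rw [hor] at hne ⊢
    rw [twist_aux i1 i2 hdec ν hinvR hne]
    exact hdec
  · rw [hor] at hne ⊢
    rw [twist_aux i2 i1 (by rw [hdec, add_comm]) ν hinvR hne]
    rw [hdec, add_comm]

open Classical in
lemma inner_X_th0_cases (hodd : Odd (Fintype.card F)) {C : Subgroup SL} (hC : NST C)
    {χ : SL → ℂ} (hχ : IsIrrCharacter SL χ) :
    classInner (Xc hodd hC (th0 hodd hC)) χ = 0 ∨
      classInner (Xc hodd hC (th0 hodd hC)) χ = 1 := by
  rcases classify hodd hC hχ with h | h | ⟨β, -, h⟩ | h | ⟨θ, hθ, h⟩ | ⟨-, h, -⟩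
  · left
    rw [h, (inner_X_triv_St hodd hC _).1, if_neg (th0_ne_one hodd hC)]
  · left
    rw [h, (inner_X_triv_St hodd hC _).2, if_neg (th0_ne_one hodd hC)]
  · left
    rw [h, inner_Xc_R]
  · left
    exact (typeP hodd hC hχ h).2.2.1 _
  · left
    have n1 : th0 hodd hC ≠ θ := by
      intro e
      apply hθ
      rw [← e]
      exact th0_sq hodd hC
    have n2 : th0 hodd hC ≠ θ⁻¹ := by
      intro e
      apply n1
      apply MonoidHom.ext
      intro c
      have h1 := congrArg (fun x : C →* ℂˣ => x c) e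
      have h2 := congrArg (fun x : C →* ℂˣ => x c) (th0_inv hodd hC)
      simp only [MonoidHom.inv_apply] at h1 h2
      rw [← h2, h1, inv_inv]
    rw [h, inner_XX, if_neg n1, if_neg n2, add_zero]
  · right
    exact h

theorem Xc_th0_decomp (hodd : Odd (Fintype.card F)) {C : Subgroup SL} (hC : NST C) :
    ∃ ψ₁ ψ₂ : SL → ℂ, IsIrrCharacter SL ψ₁ ∧ IsIrrCharacter SL ψ₂ ∧ ψ₁ ≠ ψ₂ ∧
      Xc hodd hC (th0 hodd hC) = ψ₁ + ψ₂ := by
  classical
  have hnorm : classInner (Xc hodd hC (th0 hodd hC)) (Xc hodd hC (th0 hodd hC)) = 2 := by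
    rw [inner_XX, if_pos rfl, if_pos (th0_inv hodd hC).symm]
    norm_num
  obtain ⟨ψ₁, ψ₂, e₁, e₂, hne, he₁, he₂, hdec, hi₁, hi₂, -⟩ :=
    virtual_norm_two' (Xc_gen hodd hC _) hnorm
  have h1 : e₁ = 1 := by
    rcases he₁ with h | h
    · exact h
    · exfalso
      rcases inner_X_th0_cases hodd hC ψ₁.2 with h' | h'
      · rw [hi₁, h] at h'
        norm_num at h'
      · rw [hi₁, h] at h'
        norm_num at h'
  have h2 : e₂ = 1 := by
    rcases he₂ with h | h
    · exact h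
    · exfalso
      rcases inner_X_th0_cases hodd hC ψ₂.2 with h' | h'
      · rw [hi₂, h] at h'
        norm_num at h'
      · rw [hi₂, h] at h'
        norm_num at h'
  refine ⟨ψ₁, ψ₂, ψ₁.2, ψ₂.2, fun h => hne (Subtype.ext h), ?_⟩
  rw [hdec, h1, h2, one_smul, one_smul]

/-- the two constituents of `X(θ₀)` are swapped by the diagonal automorphism -/
theorem twistM (hodd : Odd (Fintype.card F)) {C : Subgroup SL} (hC : NST C) {χ : SL → ℂ}
    (hχ : IsIrrCharacter SL χ) (hcusp : ∀ β : MulChar F ℂ, classInner (R β) χ = 0)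
    (hb : classInner (Xc hodd hC (th0 hodd hC)) χ = 1) (hdeg : χ 1 = (qq - 1) / 2) (ν : Fˣ)
    (hν : ¬IsSquare (ν : F)) :
    IsIrrCharacter SL (fun g => χ (sig ν g)) ∧ (fun g => χ (sig ν g)) ≠ χ ∧
      Xc hodd hC (th0 hodd hC) = χ + (fun g => χ (sig ν g)) := by
  classical
  haveI : Fintype (MulChar F ℂ) := Fintype.ofFinite _
  have hq0 := q_ne_zero (F := F)
  have hq1 := q_sub_one_ne_zero (F := F)
  have hcf := Helper2.isClassFunction_of_isCharacter (Helper2.isCharacter_of_isIrrCharacter hχ)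
  have hne : (fun g => χ (sig ν g)) ≠ χ := by
    intro heq
    have hinv : ∀ g, χ (sig ν g) = χ g := fun g => congrFun heq g
    have hm := sum_inner_R χ hcf
    have hl : ∑ α : MulChar F ℂ, classInner (R α) χ = 0 := by
      rw [Finset.sum_congr rfl (fun α _ => hcusp α), Finset.sum_const_zero]
    have hr : ∑ c : F, conj (χ (bm 1 c)) = conj (χ 1) + (qq - 1) * conj (χ (bm 1 1)) := by
      have e : ∀ c : F, (if c = 0 then 0 else conj (χ (bm 1 c))) =
          if c = 0 then 0 else conj (χ (bm 1 1)) := by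
        intro c
        by_cases hc : c = 0
        · rw [if_pos hc, if_pos hc]
        · rw [if_neg hc, if_neg hc, unip_const hcf ν hν hinv c hc]
      rw [sum_split_zero, bm_one, Finset.sum_congr rfl (fun c _ => e c), sum_ite_const_F]
    rw [hl, hr, hdeg] at hm
    have hconj : conj ((qq - 1) / 2) = (qq - 1) / 2 := by
      rw [map_div₀, map_sub, Complex.conj_natCast, map_one, map_ofNat]
    rw [hconj] at hm
    have h6 : 0 = (qq - 1) / 2 + (qq - 1) * conj (χ (bm 1 1)) := by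
      have := congrArg (fun z => qq * z) hm
      beta_reduce at this
      rw [mul_zero, mul_inv_cancel_left₀ hq0] at this
      exact this
    have h5 : (qq - 1) * (conj (χ (bm 1 1)) + 1 / 2) = 0 := by linear_combination (-1 : ℂ) * h6
    have hx : conj (χ (bm 1 1)) = -(1 / 2) := by
      rcases mul_eq_zero.mp h5 with h' | h'
      · exact absurd h' hq1
      · exact eq_neg_of_add_eq_zero_left h'
    have hx' : -χ (bm 1 1) = 1 / 2 := by
      have := congrArg conj hx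
      rw [Complex.conj_conj, map_neg, map_div₀, map_one, map_ofNat] at this
      rw [this, neg_neg]
    apply half_not_integral
    rw [← hx']
    exact (Helper25.char_isIntegral (Helper2.isCharacter_of_isIrrCharacter hχ) _).neg
  refine ⟨Cfsg.Agent.Helper11.isIrrCharacter_comp_mulEquiv (sig ν) hχ, hne, ?_⟩
  obtain ⟨ψ₁, ψ₂, i1, i2, hne12, hdec⟩ := Xc_th0_decomp hodd hC
  have hinvX : ∀ g, Xc hodd hC (th0 hodd hC) (sig ν g) = Xc hodd hC (th0 hodd hC) g :=
    fun g => Xc_sig hodd hC _ ν g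
  have hor : χ = ψ₁ ∨ χ = ψ₂ := by
    by_contra hcon
    push Not at hcon
    have e1 : classInner ψ₁ χ = 0 := by
      by_contra h'
      exact hcon.1 (irr_eq_of_inner_ne i1 hχ h').symm
    have e2 : classInner ψ₂ χ = 0 := by
      by_contra h'
      exact hcon.2 (irr_eq_of_inner_ne i2 hχ h').symm
    rw [hdec, Helper2.classInner_add_left, e1, e2, add_zero] at hb
    exact zero_ne_one hb
  rcases hor with hor | hor
  · rw [hor] at hne ⊢
    rw [twist_aux i1 i2 hdec ν hinvX hne]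
    exact hdec
  · rw [hor] at hne ⊢
    rw [twist_aux i2 i1 (by rw [hdec, add_comm]) ν hinvX hne]
    rw [hdec, add_comm]

/-! ### degrees -/

lemma half_add_cast (hodd : Odd (Fintype.card F)) :
    (((Fintype.card F + 1) / 2 : ℕ) : ℂ) = (qq + 1) / 2 := by
  obtain ⟨t, ht⟩ := hodd
  have e : (Fintype.card F + 1) / 2 = t + 1 := by omega
  rw [e, ht]
  push_cast
  ring

lemma half_sub_cast (hodd : Odd (Fintype.card F)) :
    (((Fintype.card F - 1) / 2 : ℕ) : ℂ) = (qq - 1) / 2 := by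
  obtain ⟨t, ht⟩ := hodd
  have e : (Fintype.card F - 1) / 2 = t := by omega
  rw [e, ht]
  push_cast
  ring

/-- the classification, with the degrees as natural numbers -/
theorem classify_deg (hodd : Odd (Fintype.card F)) {C : Subgroup SL} (hC : NST C) {χ : SL → ℂ}
    (hχ : IsIrrCharacter SL χ) :
    ∃ n : ℕ, χ 1 = (n : ℂ) ∧
    ((χ = triv ∧ n = 1) ∨ (χ = St ∧ n = Fintype.card F) ∨
     ((∃ β : MulChar F ℂ, β ^ 2 ≠ 1 ∧ χ = R β) ∧ n = Fintype.card F + 1) ∨
     (classInner (R (al0 (F := F))) χ ≠ 0 ∧ n = (Fintype.card F + 1) / 2) ∨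
     ((∃ θ : C →* ℂˣ, θ ^ 2 ≠ 1 ∧ χ = Xc hodd hC θ) ∧ n = Fintype.card F - 1) ∨
     (((∀ β : MulChar F ℂ, classInner (R β) χ = 0) ∧
        classInner (Xc hodd hC (th0 hodd hC)) χ = 1 ∧
        (∀ θ : C →* ℂˣ, θ ≠ th0 hodd hC → classInner (Xc hodd hC θ) χ = 0) ∧
        χ 1 = (qq - 1) / 2) ∧ n = (Fintype.card F - 1) / 2)) := by
  have hq := card_ge_three hodd
  rcases classify hodd hC hχ with h | h | ⟨β, hβ, h⟩ | h | ⟨θ, hθ, h⟩ | h
  · refine ⟨1, ?_, Or.inl ⟨h, rfl⟩⟩
    rw [h, triv_apply, Nat.cast_one]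
  · refine ⟨Fintype.card F, ?_, Or.inr (Or.inl ⟨h, rfl⟩)⟩
    rw [h, St_one hodd]
  · refine ⟨Fintype.card F + 1, ?_, Or.inr (Or.inr (Or.inl ⟨⟨β, hβ, h⟩, rfl⟩))⟩
    rw [h, R_one_val hodd, Nat.cast_add, Nat.cast_one]
  · refine ⟨(Fintype.card F + 1) / 2, ?_, Or.inr (Or.inr (Or.inr (Or.inl ⟨h, rfl⟩)))⟩
    rw [(typeP hodd hC hχ h).2.2.2, half_add_cast hodd]
  · refine ⟨Fintype.card F - 1, ?_, Or.inr (Or.inr (Or.inr (Or.inr (Or.inl ⟨⟨θ, hθ, h⟩, rfl⟩))))⟩
    rw [h, Xc_one, Nat.cast_sub (by omega), Nat.cast_one]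
  · refine ⟨(Fintype.card F - 1) / 2, ?_, Or.inr (Or.inr (Or.inr (Or.inr (Or.inr ⟨h, rfl⟩))))⟩
    rw [h.2.2.2, half_sub_cast hodd]

/-! ### character values of the exceptional characters -/

lemma half_val {Θ χ : SL → ℂ} {ν : Fˣ} (hΘ : Θ = χ + fun g => χ (sig ν g)) (g : SL)
    (hg : χ (sig ν g) = χ g) : χ g = Θ g / 2 := by
  have h := congrFun hΘ g
  simp only [Pi.add_apply] at h
  rw [hg] at h
  rw [h]
  ring

lemma al0_inv_apply (a : Fˣ) : al0 ((a⁻¹ : Fˣ) : F) = al0 (a : F) := by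
  have h1 : al0 (a : F) * al0 ((a⁻¹ : Fˣ) : F) = 1 := by
    rw [← map_mul, ← Units.val_mul, mul_inv_cancel, Units.val_one, map_one]
  have h2 : al0 (a : F) * al0 (a : F) = 1 := by
    have := MulChar.pow_apply_coe (al0 (F := F)) 2 a
    rw [al0_sq, MulChar.one_apply_coe] at this
    rw [← pow_two, ← this]
  have h3 : al0 (a : F) ≠ 0 := by
    intro h
    rw [h, zero_mul] at h2
    exact zero_ne_one h2
  exact mul_left_cancel₀ h3 (h1.trans h2.symm)

theorem typeP_split (hodd : Odd (Fintype.card F)) {C : Subgroup SL} (hC : NST C) {χ : SL → ℂ}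
    (hχ : IsIrrCharacter SL χ) (h : classInner (R (al0 (F := F))) χ ≠ 0) (a : Fˣ) (c : F)
    (ha : a * a ≠ 1) : χ (bm a c) = al0 (a : F) := by
  obtain ⟨ν, hν⟩ := exists_nonsquare hodd
  obtain ⟨-, -, hdec⟩ := twistP hodd hC hχ h ν hν
  have hcf := Helper2.isClassFunction_of_isCharacter (Helper2.isCharacter_of_isIrrCharacter hχ)
  have hg : χ (sig ν (bm a 0)) = χ (bm a 0) := by rw [sig_bm, mul_zero]
  rw [cf_bm_split hcf a c ha, half_val hdec _ hg, R_bm_split hodd al0 a 0 ha, al0_inv_apply]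
  ring

theorem typeP_noEig (hodd : Odd (Fintype.card F)) {C : Subgroup SL} (hC : NST C) {χ : SL → ℂ}
    (hχ : IsIrrCharacter SL χ) (h : classInner (R (al0 (F := F))) χ ≠ 0) (g : SL)
    (hg : NoEig g) : χ g = 0 := by
  obtain ⟨ν, hν⟩ := exists_nonsquare hodd
  obtain ⟨-, -, hdec⟩ := twistP hodd hC hχ h ν hν
  have hcf := Helper2.isClassFunction_of_isCharacter (Helper2.isCharacter_of_isIrrCharacter hχ)
  rw [half_val hdec g (cf_sig_noEig hodd hC hcf ν g hg), R_noEig hodd al0 g hg, zero_div]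

theorem typeM_split (hodd : Odd (Fintype.card F)) {C : Subgroup SL} (hC : NST C) {χ : SL → ℂ}
    (hχ : IsIrrCharacter SL χ) (hcusp : ∀ β : MulChar F ℂ, classInner (R β) χ = 0)
    (hb : classInner (Xc hodd hC (th0 hodd hC)) χ = 1) (hdeg : χ 1 = (qq - 1) / 2)
    (a : Fˣ) (c : F) (ha : a * a ≠ 1) : χ (bm a c) = 0 := by
  obtain ⟨ν, hν⟩ := exists_nonsquare hodd
  obtain ⟨-, -, hdec⟩ := twistM hodd hC hχ hcusp hb hdeg ν hν
  have hcf := Helper2.isClassFunction_of_isCharacter (Helper2.isCharacter_of_isIrrCharacter hχ)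
  have hg : χ (sig ν (bm a 0)) = χ (bm a 0) := by rw [sig_bm, mul_zero]
  rw [cf_bm_split hcf a c ha, half_val hdec _ hg, Xc_bm_split hodd hC _ a 0 ha, zero_div]

theorem typeM_torus (hodd : Odd (Fintype.card F)) {C : Subgroup SL} (hC : NST C) {χ : SL → ℂ}
    (hχ : IsIrrCharacter SL χ) (hcusp : ∀ β : MulChar F ℂ, classInner (R β) χ = 0)
    (hb : classInner (Xc hodd hC (th0 hodd hC)) χ = 1) (hdeg : χ 1 = (qq - 1) / 2)
    (c : SL) (hc : c ∈ C) (h1 : c ≠ 1) (hz : c ≠ Zm F) :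
    χ c = -((th0 hodd hC ⟨c, hc⟩ : ℂˣ) : ℂ) := by
  obtain ⟨ν, hν⟩ := exists_nonsquare hodd
  obtain ⟨-, -, hdec⟩ := twistM hodd hC hχ hcusp hb hdeg ν hν
  have hcf := Helper2.isClassFunction_of_isCharacter (Helper2.isCharacter_of_isIrrCharacter hχ)
  rw [half_val hdec c (cf_sig_torus hodd hC hcf ν c hc h1 hz), Xc_torus hodd hC _ c hc h1 hz]
  have h2 := congrArg (fun x : C →* ℂˣ => x ⟨c, hc⟩) (th0_inv hodd hC)
  simp only [MonoidHom.inv_apply] at h2
  rw [h2]
  ring

lemma conj_unip {χ : SL → ℂ} (hχ : IsCharacter SL χ) (c : F) :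
    conj (χ (bm 1 c)) = χ (bm 1 (-c)) := by
  have e : (bm 1 c : SL)⁻¹ = bm 1 (-c) := by
    apply inv_eq_of_mul_eq_one_right
    have e2 : ((1 : Fˣ) : F) * (-c) + c * (((1 : Fˣ)⁻¹ : Fˣ) : F) = 0 := by simp
    rw [bm_mul, e2, mul_one, bm_one]
  rw [← e, Helper25.char_inv hχ]

/-- the difference of the values at the two unipotent classes has norm `q` -/
theorem twist_norm (hodd : Odd (Fintype.card F)) {C : Subgroup SL} (hC : NST C) {χ : SL → ℂ}
    (hχ : IsIrrCharacter SL χ) (ν : Fˣ) (hν : ¬IsSquare (ν : F))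
    (hne : (fun g => χ (sig ν g)) ≠ χ) :
    (χ (bm 1 1) - χ (bm 1 (ν : F))) * conj (χ (bm 1 1) - χ (bm 1 (ν : F))) = qq := by
  classical
  have hq0 := q_ne_zero (F := F)
  have hq1 := q_sub_one_ne_zero (F := F)
  have hq2 := q_add_one_ne_zero (F := F)
  have hcf := Helper2.isClassFunction_of_isCharacter (Helper2.isCharacter_of_isIrrCharacter hχ)
  have i' : IsIrrCharacter SL (fun g => χ (sig ν g)) :=
    Cfsg.Agent.Helper11.isIrrCharacter_comp_mulEquiv (sig ν) hχ
  have hcf' := Helper2.isClassFunction_of_isCharacter (Helper2.isCharacter_of_isIrrCharacter i')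
  obtain ⟨ω, hω, hωχ⟩ := irr_central_sign hχ (Zm F) (Zm_center F) zm_mul_self
  have hωω : ω * conj ω = 1 := by
    rcases hω with h | h <;> rw [h] <;> simp
  have hΦ : IsClassFunction SL
      (fun g => (χ g - χ (sig ν g)) * conj (χ g - χ (sig ν g))) := by
    intro g h
    have e1 : χ (sig ν (h * g * h⁻¹)) = χ (sig ν g) := hcf' g h
    show (χ (h * g * h⁻¹) - χ (sig ν (h * g * h⁻¹))) *
      conj (χ (h * g * h⁻¹) - χ (sig ν (h * g * h⁻¹))) = _
    rw [hcf g h, e1]
  have hint := integration hodd hC _ hΦ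
  beta_reduce at hint
  have p1 : (χ 1 - χ (sig ν 1)) * conj (χ 1 - χ (sig ν 1)) = 0 := by
    rw [map_one, sub_self, zero_mul]
  have p2 : (χ (Zm F) - χ (sig ν (Zm F))) * conj (χ (Zm F) - χ (sig ν (Zm F))) = 0 := by
    rw [sig_zm, sub_self, zero_mul]
  have hunip : ∀ c : F, c ≠ 0 → (χ (bm 1 c) - χ (sig ν (bm 1 c))) *
      conj (χ (bm 1 c) - χ (sig ν (bm 1 c))) =
      (χ (bm 1 1) - χ (bm 1 (ν : F))) * conj (χ (bm 1 1) - χ (bm 1 (ν : F))) := by
    intro c hc
    rw [sig_bm]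
    obtain ⟨s, hs | hs⟩ := sq_or_nonsq ν hν c hc
    · have e1 : χ (bm 1 c) = χ (bm 1 1) := by rw [hs, unip_sq hcf]
      have e2 : χ (bm 1 ((ν : F) * c)) = χ (bm 1 (ν : F)) := by
        rw [hs, mul_comm, cf_bm_sq hcf 1 (ν : F) s]
      rw [e1, e2]
    · have e1 : χ (bm 1 c) = χ (bm 1 (ν : F)) := by rw [hs, cf_bm_sq hcf 1 (ν : F) s]
      have e2 : χ (bm 1 ((ν : F) * c)) = χ (bm 1 1) := by
        have e3 : (ν : F) * c = ((s * ν : Fˣ) : F) ^ 2 := by
          rw [hs, Units.val_mul]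
          ring
        rw [e3, unip_sq hcf]
      rw [e1, e2, ← neg_sub (χ (bm 1 1)) (χ (bm 1 (ν : F))), map_neg, neg_mul_neg]
  have hzm : ∀ g : SL, (χ (Zm F * g) - χ (sig ν (Zm F * g))) *
      conj (χ (Zm F * g) - χ (sig ν (Zm F * g))) =
      (χ g - χ (sig ν g)) * conj (χ g - χ (sig ν g)) := by
    intro g
    rw [map_mul, sig_zm, hωχ, hωχ, ← mul_sub, map_mul]
    linear_combination ((χ g - χ (sig ν g)) * conj (χ g - χ (sig ν g))) * hωω
  have p3 : ∑ c : F, (if c = 0 then 0 else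
      ((χ (bm 1 c) - χ (sig ν (bm 1 c))) * conj (χ (bm 1 c) - χ (sig ν (bm 1 c))) +
        (χ (bm (-1) c) - χ (sig ν (bm (-1) c))) *
          conj (χ (bm (-1) c) - χ (sig ν (bm (-1) c))))) =
      (qq - 1) * (2 * ((χ (bm 1 1) - χ (bm 1 (ν : F))) *
        conj (χ (bm 1 1) - χ (bm 1 (ν : F))))) := by
    have e : ∀ c : F, (if c = 0 then 0 else
        ((χ (bm 1 c) - χ (sig ν (bm 1 c))) * conj (χ (bm 1 c) - χ (sig ν (bm 1 c))) +
          (χ (bm (-1) c) - χ (sig ν (bm (-1) c))) *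
            conj (χ (bm (-1) c) - χ (sig ν (bm (-1) c))))) =
        (if c = 0 then 0 else (2 * ((χ (bm 1 1) - χ (bm 1 (ν : F))) *
          conj (χ (bm 1 1) - χ (bm 1 (ν : F)))))) := by
      intro c
      by_cases hc : c = 0
      · rw [if_pos hc, if_pos hc]
      · rw [if_neg hc, if_neg hc]
        have e1 : (-1 : Fˣ) * 1 = -1 := mul_one _
        have e2 : ((-1 : Fˣ) : F) * (-c) + 0 * (((1 : Fˣ)⁻¹ : Fˣ) : F) = c := by simp
        have e3 : Zm F * bm 1 (-c) = bm (-1) c := by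
          rw [← bm_neg_one, bm_mul, e1, e2]
        rw [← e3, hzm, hunip c hc, hunip (-c) (neg_ne_zero.mpr hc)]
        ring
    rw [Finset.sum_congr rfl (fun c _ => e c), sum_ite_const_F]
  have p4 : ∑ a : Fˣ, (if a * a = 1 then 0 else
      (χ (bm a 0) - χ (sig ν (bm a 0))) * conj (χ (bm a 0) - χ (sig ν (bm a 0)))) = 0 := by
    apply Finset.sum_eq_zero
    intro a _
    by_cases ha : a * a = 1
    · rw [if_pos ha]
    · rw [if_neg ha, sig_bm, mul_zero, sub_self, zero_mul]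
  have p5 : ∑ c : SL, (if c ∈ C ∧ c ≠ 1 ∧ c ≠ Zm F then
      (χ c - χ (sig ν c)) * conj (χ c - χ (sig ν c)) else 0) = 0 := by
    apply Finset.sum_eq_zero
    intro c _
    by_cases hc : c ∈ C ∧ c ≠ 1 ∧ c ≠ Zm F
    · rw [if_pos hc, cf_sig_torus hodd hC hcf ν c hc.1 hc.2.1 hc.2.2, sub_self, zero_mul]
    · rw [if_neg hc]
  have h01 : classInner χ (fun g => χ (sig ν g)) = 0 := by
    by_contra h'
    exact hne (irr_eq_of_inner_ne hχ i' h').symm
  have h10 : classInner (fun g => χ (sig ν g)) χ = 0 := by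
    by_contra h'
    exact hne (irr_eq_of_inner_ne i' hχ h')
  have hnorm : classInner (fun g => χ g - χ (sig ν g)) (fun g => χ g - χ (sig ν g)) = 2 := by
    have e : (fun g => χ g - χ (sig ν g)) = χ - (fun g => χ (sig ν g)) := rfl
    rw [e, Helper2.classInner_sub_left, Helper2.classInner_sub_right,
      Helper2.classInner_sub_right, irr_inner_self hχ, irr_inner_self i', h01, h10]
    norm_num
  rw [classInner_def', card_SL_cast, hint, p1, p2, p3, p4, p5] at hnorm
  have hne3 : qq * (qq - 1) * (qq + 1) ≠ 0 := mul_ne_zero (mul_ne_zero hq0 hq1) hq2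
  rw [inv_mul_eq_iff_eq_mul₀ hne3] at hnorm
  have h8 : (qq + 1) * ((qq - 1) * ((χ (bm 1 1) - χ (bm 1 (ν : F))) *
      conj (χ (bm 1 1) - χ (bm 1 (ν : F))) - qq)) = 0 := by
    linear_combination hnorm / 2
  rcases mul_eq_zero.mp h8 with h | h
  · exact absurd h hq2
  · rcases mul_eq_zero.mp h with h | h
    · exact absurd h hq1
    · exact sub_eq_zero.mp h

/-- summation over the unipotent radical -/
lemma sum_U (χ : SL → ℂ) :
    ∑ g : SL, (if g.1 1 0 = 0 ∧ g.1 0 0 = 1 ∧ g.1 1 1 = 1 then χ g else 0) =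
      ∑ c : F, χ (bm 1 c) := by
  have key : ∀ g : SL, g.1 1 0 = 0 ∧ g.1 0 0 = 1 ∧ g.1 1 1 = 1 → bm 1 (g.1 0 1) = g := by
    intro g hg
    obtain ⟨h10, h00, h11⟩ := hg
    apply sl_ext
    · rw [bm_00, Units.val_one, h00]
    · rw [bm_01]
    · rw [bm_10, h10]
    · rw [bm_11, inv_one, Units.val_one, h11]
  rw [← Finset.sum_filter]
  refine Finset.sum_bij' (fun g _ => g.1 0 1) (fun c _ => bm 1 c) ?_ ?_ ?_ ?_ ?_
  · intro g _
    exact Finset.mem_univ _
  · intro c _
    rw [Finset.mem_filter]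
    refine ⟨Finset.mem_univ _, bm_10 1 c, ?_, ?_⟩
    · rw [bm_00, Units.val_one]
    · rw [bm_11, inv_one, Units.val_one]
  · intro g hg
    rw [Finset.mem_filter] at hg
    exact key g hg.2
  · intro c _
    exact bm_01 1 c
  · intro g hg
    rw [Finset.mem_filter] at hg
    rw [key g hg.2]

end Main

end Cfsg.Agent.Helper15.SL2B
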