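import Mathlib
import Cfsg.Agent.Helper15.SL2B

/-!
# `SL₂(q)`, `q` odd: further consequences of the character table (helper15)
-/

set_option autoImplicit false

namespace Cfsg.Agent.Helper15.SL2C

open Cfsg Matrix
open scoped ComplexConjugate
open Cfsg.Agent.Helper15.SL2A Cfsg.Agent.Helper15.SL2B
open Cfsg.Agent.S2508 (Zm Zm_coe Zm_center Zm_ne_one center_odd)
open Cfsg.Agent.S2430 (two_ne_zero_of_odd)

section Main
variable {F : Type*} [Field F] [Fintype F] [DecidableEq F]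

local notation "SL" => Matrix.SpecialLinearGroup (Fin 2) F
local notation "qq" => (Fintype.card F : ℂ)

lemma torus_sq_three {C : Subgroup SL} (hC : NST C) (h2 : (2 : F) ≠ 0)
    (hq3 : Fintype.card F = 3) {c : SL} (hc : c ∈ C) (h1 : c ≠ 1) (hz : c ≠ Zm F) :
    c * c = Zm F := by
  have h4 : c ^ 4 = 1 := by
    have := nst_pow_eq_one hC hc
    rwa [hq3] at this
  have e5 : (c * c) * (c * c) = c ^ 4 := by
    simp only [pow_succ, pow_zero, one_mul, mul_assoc]
  have h5 : (c * c) * (c * c) = 1 := by rw [e5, h4]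
  rcases Cfsg.Agent.S2429.sq_one_cases h2 (c * c) h5 with h | h
  · rcases Cfsg.Agent.S2429.sq_one_cases h2 c h with h' | h'
    · exact absurd h' h1
    · exact absurd h' hz
  · exact h

lemma Xc_noEig_three (hodd : Odd (Fintype.card F)) {C : Subgroup SL} (hC : NST C)
    (hq3 : Fintype.card F = 3) (θ : C →* ℂˣ) (hθ : θ ^ 2 ≠ 1) (g : SL) (hg : NoEig g) :
    Xc hodd hC θ g = 0 := by
  have h2 : (2 : F) ≠ 0 := two_ne_zero_of_odd (Nat.odd_iff.mp hodd)
  have hthz : thz hC θ = -1 := by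
    rcases thz_cases hC θ with h | h
    · exfalso
      apply hθ
      apply MonoidHom.ext
      intro c
      rw [MonoidHom.pow_apply, MonoidHom.one_apply]
      by_cases h1 : (c : SL) = 1
      · have e : c = 1 := Subtype.ext h1
        rw [e, map_one, one_pow]
      · by_cases hz : (c : SL) = Zm F
        · have e : c ^ 2 = 1 := by
            apply Subtype.ext
            rw [Subgroup.coe_pow, hz, pow_two, zm_mul_self]
            rfl
          rw [← map_pow, e, map_one]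
        · have e : c ^ 2 = ⟨Zm F, hC.zm⟩ := by
            apply Subtype.ext
            rw [Subgroup.coe_pow, pow_two]
            exact torus_sq_three hC h2 hq3 c.2 h1 hz
          rw [← map_pow, e]
          exact Units.ext (by rw [Units.val_one]; exact h)
    · exact h
  obtain ⟨x, hx⟩ := hC.conj g hg
  have hne' := noEig_conj hg x
  have h1 := ne_one_of_noEig hne'
  have hz := ne_zm_of_noEig hne'
  rw [← cf_conj' (Xc_cf hodd hC θ) x g, Xc_torus hodd hC θ _ hx h1 hz]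
  have hk : ((θ ⟨_, hx⟩ : ℂˣ) : ℂ) * ((θ ⟨_, hx⟩ : ℂˣ) : ℂ) = -1 := by
    have e : (⟨_, hx⟩ : C) * ⟨_, hx⟩ = ⟨Zm F, hC.zm⟩ :=
      Subtype.ext (torus_sq_three hC h2 hq3 hx h1 hz)
    rw [← Units.val_mul, ← map_mul, e]
    exact hthz
  have hinv : (((θ ⟨_, hx⟩)⁻¹ : ℂˣ) : ℂ) = -((θ ⟨_, hx⟩ : ℂˣ) : ℂ) := by
    rw [Units.val_inv_eq_inv_val]
    apply inv_eq_of_mul_eq_one_right
    linear_combination (-1 : ℂ) * hk
  rw [hinv]
  ring

lemma sum_unip_eq [Fintype (MulChar F ℂ)] {χ : SL → ℂ} (hχ : IsClassFunction SL χ) :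
    ∑ c : F, χ (bm 1 c) = qq * conj (∑ α : MulChar F ℂ, classInner (R α) χ) := by
  have hq0 := q_ne_zero (F := F)
  rw [sum_inner_R χ hχ, map_mul, map_inv₀, Complex.conj_natCast, map_sum]
  simp only [Complex.conj_conj]
  rw [mul_inv_cancel_left₀ hq0]

theorem typeP_pair (hodd : Odd (Fintype.card F)) {C : Subgroup SL} (hC : NST C)
    {χ₁ χ₂ : SL → ℂ} (h1 : IsIrrCharacter SL χ₁) (h2 : IsIrrCharacter SL χ₂) (hne : χ₁ ≠ χ₂)
    (hP1 : classInner (R (al0 (F := F))) χ₁ ≠ 0) (hP2 : classInner (R (al0 (F := F))) χ₂ ≠ 0) :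
    R (al0 (F := F)) = χ₁ + χ₂ := by
  obtain ⟨ν, hν⟩ := exists_nonsquare hodd
  obtain ⟨i', -, hdec⟩ := twistP hodd hC h1 hP1 ν hν
  have e1 : classInner χ₁ χ₂ = 0 := by
    by_contra h'
    exact hne (irr_eq_of_inner_ne h1 h2 h')
  have e2 : (fun g => χ₁ (sig ν g)) = χ₂ := by
    by_contra hcon
    have e3 : classInner (fun g => χ₁ (sig ν g)) χ₂ = 0 := by
      by_contra h'
      exact hcon (irr_eq_of_inner_ne i' h2 h')
    apply hP2
    rw [hdec, Helper2.classInner_add_left, e1, e3, add_zero]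
  rw [← e2]
  exact hdec

open Classical in
theorem typeM_of_ne (hodd : Odd (Fintype.card F)) {C : Subgroup SL} (hC : NST C) {χ : SL → ℂ}
    (hχ : IsIrrCharacter SL χ) (h : classInner (Xc hodd hC (th0 hodd hC)) χ ≠ 0) :
    (∀ β : MulChar F ℂ, classInner (R β) χ = 0) ∧
      classInner (Xc hodd hC (th0 hodd hC)) χ = 1 ∧
      (∀ θ : C →* ℂˣ, θ ≠ th0 hodd hC → classInner (Xc hodd hC θ) χ = 0) ∧
      χ 1 = (qq - 1) / 2 := by
  rcases classify hodd hC hχ with h' | h' | ⟨β, -, h'⟩ | h' | ⟨θ, hθ, h'⟩ | h'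
  · exfalso
    apply h
    rw [h', (inner_X_triv_St hodd hC _).1, if_neg (th0_ne_one hodd hC)]
  · exfalso
    apply h
    rw [h', (inner_X_triv_St hodd hC _).2, if_neg (th0_ne_one hodd hC)]
  · exfalso
    apply h
    rw [h', inner_Xc_R]
  · exfalso
    exact h ((typeP hodd hC hχ h').2.2.1 _)
  · exfalso
    apply h
    have n1 : th0 hodd hC ≠ θ := by
      intro e
      apply hθ
      rw [← e]
      exact th0_sq hodd hC
    have n2 : th0 hodd hC ≠ θ⁻¹ := by
      intro e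
      apply n1
      apply MonoidHom.ext
      intro c
      have h1 := congrArg (fun x : C →* ℂˣ => x c) e
      have h2 := congrArg (fun x : C →* ℂˣ => x c) (th0_inv hodd hC)
      simp only [MonoidHom.inv_apply] at h1 h2
      rw [← h2, h1, inv_inv]
    rw [h', inner_XX, if_neg n1, if_neg n2, add_zero]
  · exact h'

theorem typeM_pair (hodd : Odd (Fintype.card F)) {C : Subgroup SL} (hC : NST C)
    {χ₁ χ₂ : SL → ℂ} (h1 : IsIrrCharacter SL χ₁) (h2 : IsIrrCharacter SL χ₂) (hne : χ₁ ≠ χ₂)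
    (hM1 : classInner (Xc hodd hC (th0 hodd hC)) χ₁ ≠ 0)
    (hM2 : classInner (Xc hodd hC (th0 hodd hC)) χ₂ ≠ 0) :
    Xc hodd hC (th0 hodd hC) = χ₁ + χ₂ := by
  obtain ⟨ν, hν⟩ := exists_nonsquare hodd
  obtain ⟨hcusp, hb, -, hdeg⟩ := typeM_of_ne hodd hC h1 hM1
  obtain ⟨i', -, hdec⟩ := twistM hodd hC h1 hcusp hb hdeg ν hν
  have e1 : classInner χ₁ χ₂ = 0 := by
    by_contra h'
    exact hne (irr_eq_of_inner_ne h1 h2 h')
  have e2 : (fun g => χ₁ (sig ν g)) = χ₂ := by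
    by_contra hcon
    have e3 : classInner (fun g => χ₁ (sig ν g)) χ₂ = 0 := by
      by_contra h'
      exact hcon (irr_eq_of_inner_ne i' h2 h')
    apply hM2
    rw [hdec, Helper2.classInner_add_left, e1, e3, add_zero]
  rw [← e2]
  exact hdec

lemma unip_conj_diff (hodd : Odd (Fintype.card F)) {χ : SL → ℂ} (hχ : IsIrrCharacter SL χ)
    (ν : Fˣ) (hν : ¬IsSquare (ν : F)) :
    conj (χ (bm 1 1) - χ (bm 1 (ν : F))) =
      (-1 : ℂ) ^ ((Fintype.card F - 1) / 2) * (χ (bm 1 1) - χ (bm 1 (ν : F))) := by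
  have hch := Helper2.isCharacter_of_isIrrCharacter hχ
  have hcf := Helper2.isClassFunction_of_isCharacter hch
  obtain ⟨t, ht⟩ := id hodd
  rw [map_sub, conj_unip hch, conj_unip hch]
  have hm1 : (-1 : F) ≠ 0 := neg_ne_zero.mpr one_ne_zero
  by_cases hs : IsSquare (-1 : F)
  · have h4 : Fintype.card F % 4 ≠ 3 := FiniteField.isSquare_neg_one_iff.mp hs
    obtain ⟨r, hr⟩ := hs
    have hr0 : r ≠ 0 := by
      rintro rfl
      rw [mul_zero] at hr
      exact hm1 hr
    have e1 : (-1 : F) = ((Units.mk0 r hr0 : Fˣ) : F) ^ 2 := by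
      rw [Units.val_mk0, pow_two]
      exact hr
    have e2 : -(ν : F) = ((Units.mk0 r hr0 : Fˣ) : F) ^ 2 * (ν : F) := by
      rw [← e1]
      ring
    obtain ⟨k, hk⟩ : ∃ k, (Fintype.card F - 1) / 2 = 2 * k :=
      ⟨(Fintype.card F - 1) / 4, by omega⟩
    have e3 : ((-1 : ℂ) ^ 2) ^ k = 1 := by norm_num
    rw [e2, cf_bm_sq hcf 1 (ν : F), e1, unip_sq hcf, hk, pow_mul, e3, one_mul]
  · have h4 : Fintype.card F % 4 = 3 := by
      by_contra h
      exact hs (FiniteField.isSquare_neg_one_iff.mpr h)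
    obtain ⟨k, hk⟩ : ∃ k, (Fintype.card F - 1) / 2 = 2 * k + 1 :=
      ⟨(Fintype.card F - 1) / 4, by omega⟩
    have e3 : ((-1 : ℂ) ^ 2) ^ k = 1 := by norm_num
    obtain ⟨s, hs' | hs'⟩ := sq_or_nonsq ν hν (-1) hm1
    · exfalso
      apply hs
      exact ⟨(s : F), by rw [hs', pow_two]⟩
    · have e2 : -(ν : F) = ((s * ν : Fˣ) : F) ^ 2 := by
        rw [Units.val_mul]
        linear_combination (ν : F) * hs'
      rw [e2, unip_sq hcf, hs', cf_bm_sq hcf 1 (ν : F), hk, pow_succ, pow_mul, e3]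
      ring

end Main

end Cfsg.Agent.Helper15.SL2C
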