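import Mathlib
import Cfsg.Agent.Helper15.SL2C
import Cfsg.Agent.Helper1.CharClass

/-!
# `SL₂(q)`, `q` odd: counting the irreducible characters (helper15)
-/

set_option autoImplicit false

namespace Cfsg.Agent.Helper15.SL2D

open Cfsg Matrix
open scoped ComplexConjugate
open Cfsg.Agent.Helper15.SL2A Cfsg.Agent.Helper15.SL2B Cfsg.Agent.Helper15.SL2C
open Cfsg.Agent.S2508 (Zm Zm_coe Zm_center Zm_ne_one center_odd)
open Cfsg.Agent.S2430 (two_ne_zero_of_odd)

section Count

lemma card_two_to_one {A B : Type*} [Finite A] [Finite B] (f : A → B)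
    (hf : Function.Surjective f) (inv : A → A) (hinv : ∀ a, inv a ≠ a)
    (hfib : ∀ a a', f a = f a' ↔ (a' = a ∨ a' = inv a)) : Nat.card A = 2 * Nat.card B := by
  classical
  haveI : Fintype B := Fintype.ofFinite B
  have e := Nat.card_congr (Equiv.sigmaFiberEquiv f)
  have hfiber : ∀ b : B, Nat.card {a // f a = b} = 2 := by
    intro b
    obtain ⟨a, rfl⟩ := hf b
    rw [Nat.card_eq_two_iff]
    refine ⟨⟨a, rfl⟩, ⟨inv a, ((hfib a (inv a)).mpr (Or.inr rfl)).symm⟩, ?_, ?_⟩
    · intro h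
      exact hinv a (congrArg Subtype.val h).symm
    · ext ⟨a', ha'⟩
      simp only [Set.mem_insert_iff, Set.mem_singleton_iff, Set.mem_univ, iff_true]
      rcases (hfib a a').mp ha'.symm with h | h
      · left
        exact Subtype.ext h
      · right
        exact Subtype.ext h
  rw [← e, Nat.card_sigma, Finset.sum_congr rfl (fun b _ => hfiber b), Finset.sum_const,
    Finset.card_univ, smul_eq_mul, Nat.card_eq_fintype_card, mul_comm]

lemma card_compl_two {A : Type*} [Finite A] (p : A → Prop) (x y : A) (hx : p x) (hy : p y)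
    (hxy : x ≠ y) (hall : ∀ a, p a → a = x ∨ a = y) :
    Nat.card {a // ¬ p a} = Nat.card A - 2 := by
  classical
  haveI : Fintype A := Fintype.ofFinite A
  have h2 : Nat.card {a // p a} = 2 := by
    rw [Nat.card_eq_two_iff]
    refine ⟨⟨x, hx⟩, ⟨y, hy⟩, fun h => hxy (congrArg Subtype.val h), ?_⟩
    ext ⟨a, ha⟩
    simp only [Set.mem_insert_iff, Set.mem_singleton_iff, Set.mem_univ, iff_true]
    rcases hall a ha with h | h
    · left
      exact Subtype.ext h
    · right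
      exact Subtype.ext h
  have h3 : Fintype.card {a // ¬ p a} = Fintype.card A - Fintype.card {a // p a} :=
    Fintype.card_subtype_compl p
  rw [Nat.card_eq_fintype_card, h3, ← Nat.card_eq_fintype_card (α := {a // p a}), h2,
    ← Nat.card_eq_fintype_card]

lemma card_one_of {A : Type*} (p : A → Prop) (x : A) (hx : p x) (hall : ∀ a, p a → a = x) :
    Nat.card {a // p a} = 1 := by
  rw [Nat.card_eq_one_iff_exists]
  exact ⟨⟨x, hx⟩, fun y => Subtype.ext (hall y.1 y.2)⟩

lemma card_two_of {A : Type*} (p : A → Prop) (x y : A) (hx : p x) (hy : p y) (hxy : x ≠ y)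
    (hall : ∀ a, p a → a = x ∨ a = y) : Nat.card {a // p a} = 2 := by
  rw [Nat.card_eq_two_iff]
  refine ⟨⟨x, hx⟩, ⟨y, hy⟩, fun h => hxy (congrArg Subtype.val h), ?_⟩
  ext ⟨a, ha⟩
  simp only [Set.mem_insert_iff, Set.mem_singleton_iff, Set.mem_univ, iff_true]
  rcases hall a ha with h | h
  · left
    exact Subtype.ext h
  · right
    exact Subtype.ext h

end Count

section Main
variable {F : Type*} [Field F] [Fintype F] [DecidableEq F]

local notation "SL" => Matrix.SpecialLinearGroup (Fin 2) F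
local notation "qq" => (Fintype.card F : ℂ)

lemma card_mulchar_sq_ne (hodd : Odd (Fintype.card F)) :
    Nat.card {β : MulChar F ℂ // β ^ 2 ≠ 1} = Fintype.card F - 3 := by
  have h : Nat.card {β : MulChar F ℂ // β ^ 2 ≠ 1} = Nat.card (MulChar F ℂ) - 2 :=
    card_compl_two (fun β : MulChar F ℂ => β ^ 2 = 1) 1 al0 (one_pow 2) al0_sq
      (al0_ne_one hodd).symm (fun β hβ => by
        by_cases h1 : β = 1
        · left
          exact h1
        · right
          exact al0_unique h1 hβ)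
  have hc : Nat.card (MulChar F ℂ) = Fintype.card F - 1 := by
    rw [MulChar.card_eq_card_units_of_hasEnoughRootsOfUnity F ℂ, Nat.card_eq_fintype_card,
      Fintype.card_units]
  rw [h, hc]
  omega

lemma card_th_sq_ne (hodd : Odd (Fintype.card F)) {C : Subgroup SL} (hC : NST C) :
    Nat.card {θ : C →* ℂˣ // θ ^ 2 ≠ 1} = Fintype.card F - 1 := by
  have h : Nat.card {θ : C →* ℂˣ // θ ^ 2 ≠ 1} = Nat.card (C →* ℂˣ) - 2 :=
    card_compl_two (fun θ : C →* ℂˣ => θ ^ 2 = 1) 1 (th0 hodd hC)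
      (MonoidHom.ext fun c => by rw [MonoidHom.pow_apply, MonoidHom.one_apply, one_pow])
      (th0_sq hodd hC)
      (th0_ne_one hodd hC).symm (fun θ hθ => by
        by_cases h1 : θ = 1
        · left
          exact h1
        · right
          exact th0_unique hodd hC h1 hθ)
  rw [h, dual_card (A := C) (fun a b => Subtype.ext (hC.comm a a.2 b b.2)), hC.card]
  omega

open Classical in
theorem card_typeR (hodd : Odd (Fintype.card F)) :
    Nat.card {χ : IrrCharacter SL // ∃ β : MulChar F ℂ, β ^ 2 ≠ 1 ∧ (χ : SL → ℂ) = R β} =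
      (Fintype.card F - 3) / 2 := by
  have hinvsq : ∀ β : MulChar F ℂ, β ^ 2 ≠ 1 → β⁻¹ ^ 2 ≠ 1 := by
    intro β hβ h
    apply hβ
    rw [inv_pow, inv_eq_one] at h
    exact h
  have key := card_two_to_one
    (fun β : {β : MulChar F ℂ // β ^ 2 ≠ 1} =>
      (⟨⟨R β.1, R_irr hodd β.1 β.2⟩, β.1, β.2, rfl⟩ :
        {χ : IrrCharacter SL // ∃ β : MulChar F ℂ, β ^ 2 ≠ 1 ∧ (χ : SL → ℂ) = R β}))
    (by
      rintro ⟨χ, β, hβ, h⟩
      exact ⟨⟨β, hβ⟩, Subtype.ext (Subtype.ext h.symm)⟩)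
    (fun β => ⟨β.1⁻¹, hinvsq β.1 β.2⟩)
    (by
      intro β h
      have h' : β.1⁻¹ = β.1 := congrArg Subtype.val h
      exact (sq_ne_iff_ne_inv β.1).mp β.2 h'.symm)
    (by
      intro β β'
      constructor
      · intro h
        have h1 : R β.1 = R β'.1 := congrArg (fun x : {χ : IrrCharacter SL //
          ∃ β : MulChar F ℂ, β ^ 2 ≠ 1 ∧ (χ : SL → ℂ) = R β} => (x.1 : SL → ℂ)) h
        have h2 : classInner (R β'.1) (R β.1) = 1 := by
          rw [← h1]
          exact irr_inner_self (R_irr hodd β.1 β.2)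
        rw [inner_RR hodd] at h2
        by_cases c1 : β'.1 = β.1
        · left
          exact Subtype.ext c1
        · by_cases c2 : β'.1 = β.1⁻¹
          · right
            exact Subtype.ext c2
          · rw [if_neg c1, if_neg c2] at h2
            norm_num at h2
      · rintro (h | h)
        · rw [h]
        · apply Subtype.ext
          apply Subtype.ext
          show R β.1 = R β'.1
          have h' : β'.1 = β.1⁻¹ := congrArg Subtype.val h
          have h'' : β.1 = β'.1⁻¹ := by rw [h', inv_inv]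
          apply irr_eq_of_inner_ne (R_irr hodd β.1 β.2) (R_irr hodd β'.1 β'.2)
          rw [inner_RR hodd, if_pos h'']
          split_ifs <;> norm_num)
  rw [card_mulchar_sq_ne hodd] at key
  omega

open Classical in
theorem card_typeX (hodd : Odd (Fintype.card F)) {C : Subgroup SL} (hC : NST C) :
    Nat.card {χ : IrrCharacter SL //
      ∃ θ : C →* ℂˣ, θ ^ 2 ≠ 1 ∧ (χ : SL → ℂ) = Xc hodd hC θ} = (Fintype.card F - 1) / 2 := by
  have hinvinv : ∀ θ : C →* ℂˣ, θ⁻¹⁻¹ = θ := by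
    intro θ
    apply MonoidHom.ext
    intro c
    rw [MonoidHom.inv_apply, MonoidHom.inv_apply, inv_inv]
  have hsqinv : ∀ θ : C →* ℂˣ, θ ^ 2 ≠ 1 → θ ≠ θ⁻¹ := by
    intro θ hθ h
    apply hθ
    apply MonoidHom.ext
    intro c
    have h1 := congrArg (fun x : C →* ℂˣ => x c) h
    simp only [MonoidHom.inv_apply] at h1
    rw [MonoidHom.pow_apply, MonoidHom.one_apply, pow_two]
    exact mul_eq_one_iff_eq_inv.mpr h1
  have hinvsq : ∀ θ : C →* ℂˣ, θ ^ 2 ≠ 1 → θ⁻¹ ^ 2 ≠ 1 := by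
    intro θ hθ h
    apply hθ
    apply MonoidHom.ext
    intro c
    have h1 := congrArg (fun x : C →* ℂˣ => x c) h
    simp only [MonoidHom.pow_apply, MonoidHom.inv_apply, MonoidHom.one_apply, inv_pow,
      inv_eq_one] at h1
    rw [MonoidHom.pow_apply, MonoidHom.one_apply]
    exact h1
  have key := card_two_to_one
    (fun θ : {θ : C →* ℂˣ // θ ^ 2 ≠ 1} =>
      (⟨⟨Xc hodd hC θ.1, Xc_irr hodd hC θ.1 θ.2⟩, θ.1, θ.2, rfl⟩ :
        {χ : IrrCharacter SL // ∃ θ : C →* ℂˣ, θ ^ 2 ≠ 1 ∧ (χ : SL → ℂ) = Xc hodd hC θ}))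
    (by
      rintro ⟨χ, θ, hθ, h⟩
      exact ⟨⟨θ, hθ⟩, Subtype.ext (Subtype.ext h.symm)⟩)
    (fun θ => ⟨θ.1⁻¹, hinvsq θ.1 θ.2⟩)
    (by
      intro θ h
      have h' : θ.1⁻¹ = θ.1 := congrArg Subtype.val h
      exact hsqinv θ.1 θ.2 h'.symm)
    (by
      intro θ θ'
      constructor
      · intro h
        have h1 : Xc hodd hC θ.1 = Xc hodd hC θ'.1 := congrArg (fun x : {χ : IrrCharacter SL //
          ∃ θ : C →* ℂˣ, θ ^ 2 ≠ 1 ∧ (χ : SL → ℂ) = Xc hodd hC θ} => (x.1 : SL → ℂ)) h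
        have h2 : classInner (Xc hodd hC θ'.1) (Xc hodd hC θ.1) = 1 := by
          rw [← h1]
          exact irr_inner_self (Xc_irr hodd hC θ.1 θ.2)
        rw [inner_XX] at h2
        by_cases c1 : θ'.1 = θ.1
        · left
          exact Subtype.ext c1
        · by_cases c2 : θ'.1 = θ.1⁻¹
          · right
            exact Subtype.ext c2
          · rw [if_neg c1, if_neg c2] at h2
            norm_num at h2
      · rintro (h | h)
        · rw [h]
        · apply Subtype.ext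
          apply Subtype.ext
          show Xc hodd hC θ.1 = Xc hodd hC θ'.1
          have h' : θ'.1 = θ.1⁻¹ := congrArg Subtype.val h
          have h'' : θ.1 = θ'.1⁻¹ := by rw [h', hinvinv]
          apply irr_eq_of_inner_ne (Xc_irr hodd hC θ.1 θ.2) (Xc_irr hodd hC θ'.1 θ'.2)
          rw [inner_XX, if_pos h'']
          split_ifs <;> norm_num)
  rw [card_th_sq_ne hodd hC] at key
  have hq := card_ge_three hodd
  omega

theorem card_typeP (hodd : Odd (Fintype.card F)) :
    Nat.card {χ : IrrCharacter SL // classInner (R (al0 (F := F))) (χ : SL → ℂ) ≠ 0} = 2 := by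
  obtain ⟨ψ₁, ψ₂, i1, i2, hne, hdec⟩ := R_al0_decomp (F := F) hodd
  have e12 : classInner ψ₁ ψ₂ = 0 := by
    by_contra h'
    exact hne (irr_eq_of_inner_ne i1 i2 h')
  have e21 : classInner ψ₂ ψ₁ = 0 := by
    by_contra h'
    exact hne (irr_eq_of_inner_ne i2 i1 h').symm
  apply card_two_of _ (⟨ψ₁, i1⟩ : IrrCharacter SL) ⟨ψ₂, i2⟩
  · show classInner (R (al0 (F := F))) ψ₁ ≠ 0
    rw [hdec, Helper2.classInner_add_left, irr_inner_self i1, e21, add_zero]
    exact one_ne_zero
  · show classInner (R (al0 (F := F))) ψ₂ ≠ 0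
    rw [hdec, Helper2.classInner_add_left, irr_inner_self i2, e12, zero_add]
    exact one_ne_zero
  · intro h
    exact hne (congrArg Subtype.val h)
  · intro χ hχ
    by_contra hcon
    push Not at hcon
    apply hχ
    have e1 : classInner ψ₁ (χ : SL → ℂ) = 0 := by
      by_contra h'
      exact hcon.1 (Subtype.ext (irr_eq_of_inner_ne i1 χ.2 h').symm)
    have e2 : classInner ψ₂ (χ : SL → ℂ) = 0 := by
      by_contra h'
      exact hcon.2 (Subtype.ext (irr_eq_of_inner_ne i2 χ.2 h').symm)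
    rw [hdec, Helper2.classInner_add_left, e1, e2, add_zero]

theorem card_typeM (hodd : Odd (Fintype.card F)) {C : Subgroup SL} (hC : NST C) :
    Nat.card {χ : IrrCharacter SL //
      classInner (Xc hodd hC (th0 hodd hC)) (χ : SL → ℂ) ≠ 0} = 2 := by
  obtain ⟨ψ₁, ψ₂, i1, i2, hne, hdec⟩ := Xc_th0_decomp hodd hC
  have e12 : classInner ψ₁ ψ₂ = 0 := by
    by_contra h'
    exact hne (irr_eq_of_inner_ne i1 i2 h')
  have e21 : classInner ψ₂ ψ₁ = 0 := by
    by_contra h'
    exact hne (irr_eq_of_inner_ne i2 i1 h').symm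
  apply card_two_of _ (⟨ψ₁, i1⟩ : IrrCharacter SL) ⟨ψ₂, i2⟩
  · show classInner (Xc hodd hC (th0 hodd hC)) ψ₁ ≠ 0
    rw [hdec, Helper2.classInner_add_left, irr_inner_self i1, e21, add_zero]
    exact one_ne_zero
  · show classInner (Xc hodd hC (th0 hodd hC)) ψ₂ ≠ 0
    rw [hdec, Helper2.classInner_add_left, irr_inner_self i2, e12, zero_add]
    exact one_ne_zero
  · intro h
    exact hne (congrArg Subtype.val h)
  · intro χ hχ
    by_contra hcon
    push Not at hcon
    apply hχ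
    have e1 : classInner ψ₁ (χ : SL → ℂ) = 0 := by
      by_contra h'
      exact hcon.1 (Subtype.ext (irr_eq_of_inner_ne i1 χ.2 h').symm)
    have e2 : classInner ψ₂ (χ : SL → ℂ) = 0 := by
      by_contra h'
      exact hcon.2 (Subtype.ext (irr_eq_of_inner_ne i2 χ.2 h').symm)
    rw [hdec, Helper2.classInner_add_left, e1, e2, add_zero]


open Classical in
/-- the number of irreducible characters of `SL₂(q)`, `q` odd -/
theorem card_irr_SL (hodd : Odd (Fintype.card F)) :
    Nat.card (IrrCharacter SL) = Fintype.card F + 4 := by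
  obtain ⟨C, hC⟩ := exists_nst (F := F) hodd
  have hq := card_ge_three hodd
  have hne0 : qq ≠ 0 := q_ne_zero (F := F)
  have hne1 : qq ≠ 1 := by
    intro h
    have : Fintype.card F = 1 := by exact_mod_cast h
    omega
  have hne2 : qq ≠ 2 := by
    intro h
    have : Fintype.card F = 2 := by exact_mod_cast h
    omega
  have e01 : ∀ χ : IrrCharacter SL, (χ : SL → ℂ) = triv → (χ : SL → ℂ) = St → False := by
    intro χ h0 h1
    have := congrFun (h0.symm.trans h1) 1
    rw [triv_apply, St_one hodd] at this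
    exact hne1 this.symm
  have e02 : ∀ χ : IrrCharacter SL, (χ : SL → ℂ) = triv →
      (∃ β : MulChar F ℂ, β ^ 2 ≠ 1 ∧ (χ : SL → ℂ) = R β) → False := by
    rintro χ h0 ⟨β, hβ, h2⟩
    have := congrFun (h0.symm.trans h2) 1
    rw [triv_apply, R_one_val hodd] at this
    exact hne0 (by linear_combination (-1 : ℂ) * this)
  have e03 : ∀ χ : IrrCharacter SL, (χ : SL → ℂ) = triv →
      classInner (R (al0 (F := F))) (χ : SL → ℂ) ≠ 0 → False := by
    intro χ h0 h3
    apply h3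
    rw [h0, inner_R_triv, if_neg (al0_ne_one hodd)]
  have e04 : ∀ χ : IrrCharacter SL, (χ : SL → ℂ) = triv →
      (∃ θ : C →* ℂˣ, θ ^ 2 ≠ 1 ∧ (χ : SL → ℂ) = Xc hodd hC θ) → False := by
    rintro χ h0 ⟨θ, hθ, h4⟩
    have := congrFun (h0.symm.trans h4) 1
    rw [triv_apply, Xc_one] at this
    exact hne2 (by linear_combination (-1 : ℂ) * this)
  have e05 : ∀ χ : IrrCharacter SL, (χ : SL → ℂ) = triv →
      classInner (Xc hodd hC (th0 hodd hC)) (χ : SL → ℂ) ≠ 0 → False := by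
    intro χ h0 h5
    apply h5
    rw [h0, (inner_X_triv_St hodd hC _).1, if_neg (th0_ne_one hodd hC)]
  have e12 : ∀ χ : IrrCharacter SL, (χ : SL → ℂ) = St →
      (∃ β : MulChar F ℂ, β ^ 2 ≠ 1 ∧ (χ : SL → ℂ) = R β) → False := by
    rintro χ h1 ⟨β, hβ, h2⟩
    have := congrFun (h1.symm.trans h2) 1
    rw [St_one hodd, R_one_val hodd] at this
    exact one_ne_zero (by linear_combination (-1 : ℂ) * this : (1 : ℂ) = 0)
  have e13 : ∀ χ : IrrCharacter SL, (χ : SL → ℂ) = St →
      classInner (R (al0 (F := F))) (χ : SL → ℂ) ≠ 0 → False := by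
    intro χ h1 h3
    apply h3
    rw [h1, inner_R_St hodd, if_neg (al0_ne_one hodd)]
  have e14 : ∀ χ : IrrCharacter SL, (χ : SL → ℂ) = St →
      (∃ θ : C →* ℂˣ, θ ^ 2 ≠ 1 ∧ (χ : SL → ℂ) = Xc hodd hC θ) → False := by
    rintro χ h1 ⟨θ, hθ, h4⟩
    have := congrFun (h1.symm.trans h4) 1
    rw [St_one hodd, Xc_one] at this
    exact one_ne_zero (by linear_combination this : (1 : ℂ) = 0)
  have e15 : ∀ χ : IrrCharacter SL, (χ : SL → ℂ) = St →
      classInner (Xc hodd hC (th0 hodd hC)) (χ : SL → ℂ) ≠ 0 → False := by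
    intro χ h1 h5
    apply h5
    rw [h1, (inner_X_triv_St hodd hC _).2, if_neg (th0_ne_one hodd hC)]
  have e23 : ∀ χ : IrrCharacter SL, (∃ β : MulChar F ℂ, β ^ 2 ≠ 1 ∧ (χ : SL → ℂ) = R β) →
      classInner (R (al0 (F := F))) (χ : SL → ℂ) ≠ 0 → False := by
    rintro χ ⟨β, hβ, h2⟩ h3
    apply h3
    have n1 : al0 ≠ β := by
      intro e
      apply hβ
      rw [← e]
      exact al0_sq
    have n2 : al0 ≠ β⁻¹ := by
      intro e
      apply n1
      rw [← al0_inv, e, inv_inv]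
    rw [h2, inner_RR hodd, if_neg n1, if_neg n2, add_zero]
  have e24 : ∀ χ : IrrCharacter SL, (∃ β : MulChar F ℂ, β ^ 2 ≠ 1 ∧ (χ : SL → ℂ) = R β) →
      (∃ θ : C →* ℂˣ, θ ^ 2 ≠ 1 ∧ (χ : SL → ℂ) = Xc hodd hC θ) → False := by
    rintro χ ⟨β, hβ, h2⟩ ⟨θ, hθ, h4⟩
    have := congrFun (h2.symm.trans h4) 1
    rw [R_one_val hodd, Xc_one] at this
    exact two_ne_zero (by linear_combination this : (2 : ℂ) = 0)
  have e25 : ∀ χ : IrrCharacter SL, (∃ β : MulChar F ℂ, β ^ 2 ≠ 1 ∧ (χ : SL → ℂ) = R β) →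
      classInner (Xc hodd hC (th0 hodd hC)) (χ : SL → ℂ) ≠ 0 → False := by
    rintro χ ⟨β, hβ, h2⟩ h5
    apply h5
    rw [h2, inner_Xc_R]
  have e34 : ∀ χ : IrrCharacter SL, classInner (R (al0 (F := F))) (χ : SL → ℂ) ≠ 0 →
      (∃ θ : C →* ℂˣ, θ ^ 2 ≠ 1 ∧ (χ : SL → ℂ) = Xc hodd hC θ) → False := by
    rintro χ h3 ⟨θ, hθ, h4⟩
    apply h3
    rw [h4, inner_R_Xc]
  have e35 : ∀ χ : IrrCharacter SL, classInner (R (al0 (F := F))) (χ : SL → ℂ) ≠ 0 →
      classInner (Xc hodd hC (th0 hodd hC)) (χ : SL → ℂ) ≠ 0 → False := by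
    intro χ h3 h5
    exact not_both hodd hC χ.2 h3 h5
  have e45 : ∀ χ : IrrCharacter SL,
      (∃ θ : C →* ℂˣ, θ ^ 2 ≠ 1 ∧ (χ : SL → ℂ) = Xc hodd hC θ) →
      classInner (Xc hodd hC (th0 hodd hC)) (χ : SL → ℂ) ≠ 0 → False := by
    rintro χ ⟨θ, hθ, h4⟩ h5
    have hz := (typeM_of_ne hodd hC χ.2 h5).2.2.1 θ (by
      intro e
      apply hθ
      rw [e]
      exact th0_sq hodd hC)
    rw [h4, irr_inner_self (Xc_irr hodd hC θ hθ)] at hz
    exact one_ne_zero hz
  have hcount : ∀ χ : IrrCharacter SL,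
      (if (χ : SL → ℂ) = triv then 1 else 0) + (if (χ : SL → ℂ) = St then 1 else 0) +
      (if ∃ β : MulChar F ℂ, β ^ 2 ≠ 1 ∧ (χ : SL → ℂ) = R β then 1 else 0) +
      (if classInner (R (al0 (F := F))) (χ : SL → ℂ) ≠ 0 then 1 else 0) +
      (if ∃ θ : C →* ℂˣ, θ ^ 2 ≠ 1 ∧ (χ : SL → ℂ) = Xc hodd hC θ then 1 else 0) +
      (if classInner (Xc hodd hC (th0 hodd hC)) (χ : SL → ℂ) ≠ 0 then 1 else 0) = 1 := by
    intro χ
    rcases classify hodd hC χ.2 with h | h | h | h | h | h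
    · rw [if_pos h, if_neg (fun h' => e01 χ h h'), if_neg (fun h' => e02 χ h h'),
        if_neg (fun h' => e03 χ h h'), if_neg (fun h' => e04 χ h h'),
        if_neg (fun h' => e05 χ h h')]
    · rw [if_neg (fun h' => e01 χ h' h), if_pos h, if_neg (e12 χ h), if_neg (e13 χ h),
        if_neg (e14 χ h), if_neg (e15 χ h)]
    · rw [if_neg (fun h' => e02 χ h' h), if_neg (fun h' => e12 χ h' h), if_pos h,
        if_neg (e23 χ h), if_neg (e24 χ h), if_neg (e25 χ h)]
    · rw [if_neg (fun h' => e03 χ h' h), if_neg (fun h' => e13 χ h' h),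
        if_neg (fun h' => e23 χ h' h), if_pos h, if_neg (e34 χ h), if_neg (e35 χ h)]
    · rw [if_neg (fun h' => e04 χ h' h), if_neg (fun h' => e14 χ h' h),
        if_neg (fun h' => e24 χ h' h), if_neg (fun h' => e34 χ h' h), if_pos h,
        if_neg (e45 χ h)]
    · have h5 : classInner (Xc hodd hC (th0 hodd hC)) (χ : SL → ℂ) ≠ 0 := by
        rw [h.2.1]
        exact one_ne_zero
      rw [if_neg (fun h' => e05 χ h' h5), if_neg (fun h' => e15 χ h' h5),
        if_neg (fun h' => e25 χ h' h5), if_neg (fun h' => e35 χ h' h5),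
        if_neg (fun h' => e45 χ h' h5), if_pos h5]
  have hsum : ∀ p : IrrCharacter SL → Prop,
      Nat.card {χ // p χ} = ∑ χ : IrrCharacter SL, if p χ then 1 else 0 := by
    intro p
    rw [Nat.card_eq_fintype_card, Fintype.card_subtype, Finset.card_filter]
  have htot : Nat.card (IrrCharacter SL) = ∑ χ : IrrCharacter SL, 1 := by
    rw [Nat.card_eq_fintype_card, Finset.sum_const, Finset.card_univ, smul_eq_mul, mul_one]
  have c0 : Nat.card {χ : IrrCharacter SL // (χ : SL → ℂ) = triv} = 1 :=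
    card_one_of _ ⟨triv, triv_irr⟩ rfl (fun χ h => Subtype.ext h)
  have c1 : Nat.card {χ : IrrCharacter SL // (χ : SL → ℂ) = St} = 1 :=
    card_one_of _ ⟨St, St_irr hodd⟩ rfl (fun χ h => Subtype.ext h)
  have c2 := card_typeR (F := F) hodd
  have c3 := card_typeP (F := F) hodd
  have c4 := card_typeX hodd hC
  have c5 := card_typeM hodd hC
  rw [hsum] at c0 c1 c2 c3 c4 c5
  rw [htot, ← Finset.sum_congr rfl (fun χ _ => hcount χ)]
  simp only [Finset.sum_add_distrib]
  have s0 : (∑ x : IrrCharacter SL, if (x : SL → ℂ) = triv then 1 else 0) = 1 := by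
    convert c0
  have s1 : (∑ x : IrrCharacter SL, if (x : SL → ℂ) = St then 1 else 0) = 1 := by
    convert c1
  have s2 : (∑ x : IrrCharacter SL,
      if ∃ β : MulChar F ℂ, β ^ 2 ≠ 1 ∧ (x : SL → ℂ) = R β then 1 else 0) =
      (Fintype.card F - 3) / 2 := by
    convert c2
  have s3 : (∑ x : IrrCharacter SL,
      if classInner (R (al0 (F := F))) (x : SL → ℂ) ≠ 0 then 1 else 0) = 2 := by
    convert c3
  have s4 : (∑ x : IrrCharacter SL,
      if ∃ θ : C →* ℂˣ, θ ^ 2 ≠ 1 ∧ (x : SL → ℂ) = Xc hodd hC θ then 1 else 0) =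
      (Fintype.card F - 1) / 2 := by
    convert c4
  have s5 : (∑ x : IrrCharacter SL,
      if classInner (Xc hodd hC (th0 hodd hC)) (x : SL → ℂ) ≠ 0 then 1 else 0) = 2 := by
    convert c5
  rw [s0, s1, s2, s3, s4, s5]
  obtain ⟨t, ht⟩ := id hodd
  omega

end Main

end Cfsg.Agent.Helper15.SL2D
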