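import Mathlib
import Cfsg.Agent.Helper9.SL2b
import Cfsg.Agent.S2430

/-!
# Central products of two copies of `SL₂` over odd fields (helper15)

`L₁ ≅ SL₂(q₁)`, `L₂ ≅ SL₂(q₂)` commuting elementwise with `L₁ ∩ L₂ = ⟨j⟩`.  The elements of
`L₁L₂` with square `j` are those of `L₁ ∪ L₂`; this gives the involution classes of `L₁L₂` and
the action of an element normalising `L₁L₂` on the pair `{L₁, L₂}`.
-/

set_option autoImplicit false
open scoped MatrixGroups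

namespace Cfsg.Agent.Helper15.CP

open Cfsg.Agent.Helper9 (sl2J_h9 sl2J_val_h9 sl2_invol_h9 sl2_conj_J_h9)

section SL2
variable {F : Type*} [Field F]

/-- a second element of order 4 -/
def J2 (F : Type*) [Field F] : SL(2, F) :=
  ⟨!![1, -2; 1, -1], by rw [Matrix.det_fin_two_of]; ring⟩

lemma J_sq : sl2J_h9 F * sl2J_h9 F = -1 :=
  (Cfsg.Agent.Helper9.sl2_sq_eq_neg_one_iff_h9 _).mpr (by
    show (!![0, -1; 1, 0] : Matrix (Fin 2) (Fin 2) F) 0 0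
      + (!![0, -1; 1, 0] : Matrix (Fin 2) (Fin 2) F) 1 1 = 0
    simp)

lemma J2_sq : J2 F * J2 F = -1 :=
  (Cfsg.Agent.Helper9.sl2_sq_eq_neg_one_iff_h9 _).mpr (by
    show (!![1, -2; 1, -1] : Matrix (Fin 2) (Fin 2) F) 0 0
      + (!![1, -2; 1, -1] : Matrix (Fin 2) (Fin 2) F) 1 1 = 0
    simp)

lemma cent_sq (B : SL(2, F)) (h : ∀ A : SL(2, F), A * A = -1 → A * B = B * A) :
    B = 1 ∨ B = -1 := by
  have h1 := h _ J_sq
  have h2 := h _ J2_sq
  obtain ⟨-, hdet⟩ := Cfsg.Agent.Helper9.sl2_entries_h9 B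
  obtain ⟨m00, m01, -, -⟩ := Cfsg.Agent.Helper9.sl2_mul_entries_h9 (sl2J_h9 F) B
  obtain ⟨k00, k01, -, -⟩ := Cfsg.Agent.Helper9.sl2_mul_entries_h9 B (sl2J_h9 F)
  obtain ⟨m00', -, -, -⟩ := Cfsg.Agent.Helper9.sl2_mul_entries_h9 (J2 F) B
  obtain ⟨k00', -, -, -⟩ := Cfsg.Agent.Helper9.sl2_mul_entries_h9 B (J2 F)
  have j00 : (sl2J_h9 F).1 0 0 = 0 := rfl
  have j01 : (sl2J_h9 F).1 0 1 = -1 := rfl
  have j10 : (sl2J_h9 F).1 1 0 = 1 := rfl
  have j11 : (sl2J_h9 F).1 1 1 = 0 := rfl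
  have i00 : (J2 F).1 0 0 = 1 := rfl
  have i01 : (J2 F).1 0 1 = -2 := rfl
  have i10 : (J2 F).1 1 0 = 1 := rfl
  have e1 : (sl2J_h9 F * B).1 0 0 = (B * sl2J_h9 F).1 0 0 := by rw [h1]
  have e2 : (sl2J_h9 F * B).1 0 1 = (B * sl2J_h9 F).1 0 1 := by rw [h1]
  have e3 : (J2 F * B).1 0 0 = (B * J2 F).1 0 0 := by rw [h2]
  rw [m00, k00, j00, j01, j10] at e1
  rw [m01, k01, j00, j01, j11] at e2
  rw [m00', k00', i00, i01, i10] at e3
  have hz : B.1 1 0 = 0 := by linear_combination e1 - e3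
  have hy : B.1 0 1 = 0 := by linear_combination -e1 - hz
  have hw : B.1 1 1 = B.1 0 0 := by linear_combination -e2
  rw [hy, hw] at hdet
  have hx : (B.1 0 0 - 1) * (B.1 0 0 + 1) = 0 := by linear_combination hdet
  obtain ⟨o00, o01, o10, o11⟩ := Cfsg.Agent.Helper9.sl2_one_entries_h9 (F := F)
  obtain ⟨n00, n01, n10, n11⟩ := Cfsg.Agent.Helper9.sl2_neg_entries_h9 (1 : SL(2, F))
  rcases mul_eq_zero.mp hx with h3 | h3
  · left
    apply Cfsg.Agent.Helper9.sl2_ext_h9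
    · rw [o00]; linear_combination h3
    · rw [o01, hy]
    · rw [o10, hz]
    · rw [o11, hw]; linear_combination h3
  · right
    apply Cfsg.Agent.Helper9.sl2_ext_h9
    · rw [n00, o00]; linear_combination h3
    · rw [n01, o01, hy, neg_zero]
    · rw [n10, o10, hz, neg_zero]
    · rw [n11, o11, hw]; linear_combination h3

end SL2

section Gen
variable {G : Type*} [Group G]

/-- the properties of `SL₂(q)`, `q` odd, with central involution `j`, that are used -/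
structure QS (L : Subgroup G) (j : G) : Prop where
  hj : j ∈ L
  sq_one : ∀ a ∈ L, a * a = 1 → a = 1 ∨ a = j
  exists_sq : ∃ a ∈ L, a * a = j
  conj : ∀ a ∈ L, ∀ a' ∈ L, a * a = j → a' * a' = j → ∃ g ∈ L, g * a * g⁻¹ = a'
  cent : ∀ b ∈ L, (∀ a ∈ L, a * a = j → a * b = b * a) → b = 1 ∨ b = j

lemma qs_of_iso {F : Type*} [Field F] [Fintype F] (hF : Odd (Fintype.card F)) (L : Subgroup G)
    (e : ↥L ≃* SL(2, F)) (j : G) (hjL : j ∈ L) (hj1 : j ≠ 1) (hjj : j * j = 1) : QS L j := by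
  have hF' : Fintype.card F % 2 = 1 := Nat.odd_iff.mp hF
  have h2 : (2 : F) ≠ 0 := Cfsg.Agent.S2430.two_ne_zero_of_odd hF'
  have hej : e ⟨j, hjL⟩ = -1 := by
    have h1 : e ⟨j, hjL⟩ * e ⟨j, hjL⟩ = 1 := by
      rw [← map_mul, ← map_one e]
      congr 1
      exact Subtype.ext hjj
    rcases sl2_invol_h9 h2 _ h1 with h | h
    · exfalso
      apply hj1
      have := e.injective (h.trans (map_one e).symm)
      exact congrArg Subtype.val this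
    · exact h
  have key : ∀ a : L, (a : G) * a = j ↔ e a * e a = -1 := by
    intro a
    rw [← hej, ← map_mul]
    constructor
    · intro h
      congr 1
      exact Subtype.ext h
    · intro h
      exact congrArg Subtype.val (e.injective h)
  refine ⟨hjL, ?_, ?_, ?_, ?_⟩
  · intro a ha haa
    have h1 : e ⟨a, ha⟩ * e ⟨a, ha⟩ = 1 := by
      rw [← map_mul, ← map_one e]
      congr 1
      exact Subtype.ext haa
    rcases sl2_invol_h9 h2 _ h1 with h | h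
    · left
      have := e.injective (h.trans (map_one e).symm)
      exact congrArg Subtype.val this
    · right
      have := e.injective (h.trans hej.symm)
      exact congrArg Subtype.val this
  · refine ⟨(e.symm (sl2J_h9 F) : G), (e.symm (sl2J_h9 F)).2, ?_⟩
    rw [key, e.apply_symm_apply]
    exact J_sq
  · intro a ha a' ha' haa haa'
    obtain ⟨P, hP⟩ := sl2_conj_J_h9 hF' h2 (e ⟨a, ha⟩) ((key ⟨a, ha⟩).mp haa)
    obtain ⟨P', hP'⟩ := sl2_conj_J_h9 hF' h2 (e ⟨a', ha'⟩) ((key ⟨a', ha'⟩).mp haa')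
    refine ⟨(e.symm (P' * P⁻¹) : G), (e.symm (P' * P⁻¹)).2, ?_⟩
    have h3 : e.symm (P' * P⁻¹) * ⟨a, ha⟩ * (e.symm (P' * P⁻¹))⁻¹ = ⟨a', ha'⟩ := by
      apply e.injective
      rw [map_mul, map_mul, map_inv, e.apply_symm_apply, hP, hP']
      group
    exact congrArg Subtype.val h3
  · intro b hb hcomm
    have h3 : e ⟨b, hb⟩ = 1 ∨ e ⟨b, hb⟩ = -1 := by
      apply cent_sq
      intro A hA
      have h4 := hcomm (e.symm A : G) (e.symm A).2
        ((key _).mpr (by rw [e.apply_symm_apply]; exact hA))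
      have h5 : e.symm A * ⟨b, hb⟩ = ⟨b, hb⟩ * e.symm A := Subtype.ext h4
      have h6 := congrArg e h5
      rwa [map_mul, map_mul, e.apply_symm_apply] at h6
    rcases h3 with h | h
    · left
      have := e.injective (h.trans (map_one e).symm)
      exact congrArg Subtype.val this
    · right
      have := e.injective (h.trans hej.symm)
      exact congrArg Subtype.val this

lemma j_facts (j : G) (hj : orderOf j = 2) : j * j = 1 ∧ j ≠ 1 := by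
  constructor
  · rw [← sq, ← hj]; exact pow_orderOf_eq_one j
  · rintro rfl; rw [orderOf_one] at hj; omega

lemma mem_zp (j : G) (hj : orderOf j = 2) (g : G) (hg : g ∈ Subgroup.zpowers j) :
    g = 1 ∨ g = j := by
  obtain ⟨k, rfl⟩ := hg
  show j ^ k = 1 ∨ j ^ k = j
  rw [← zpow_mod_orderOf, hj]
  rcases Int.emod_two_eq_zero_or_one k with h | h
  · left; rw [show k % ((2 : ℕ) : ℤ) = 0 from h, zpow_zero]
  · right; rw [show k % ((2 : ℕ) : ℤ) = 1 from h, zpow_one]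

variable (L₁ L₂ : Subgroup G) (j : G)

lemma mem_inter (hj : orderOf j = 2) (hm : L₁ ⊓ L₂ = Subgroup.zpowers j) (g : G)
    (h1 : g ∈ L₁) (h2 : g ∈ L₂) : g = 1 ∨ g = j :=
  mem_zp j hj g (hm ▸ Subgroup.mem_inf.mpr ⟨h1, h2⟩)

lemma j_mem (hm : L₁ ⊓ L₂ = Subgroup.zpowers j) : j ∈ L₁ ∧ j ∈ L₂ := by
  have : j ∈ L₁ ⊓ L₂ := by rw [hm]; exact Subgroup.mem_zpowers j
  exact Subgroup.mem_inf.mp this

lemma sup_prod (hc : ∀ x ∈ L₁, ∀ y ∈ L₂, x * y = y * x) (g : G) (hg : g ∈ L₁ ⊔ L₂) :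
    ∃ a ∈ L₁, ∃ b ∈ L₂, g = a * b := by
  let M : Subgroup G :=
    { carrier := {g | ∃ a ∈ L₁, ∃ b ∈ L₂, g = a * b}
      mul_mem' := by
        rintro _ _ ⟨a, ha, b, hb, rfl⟩ ⟨a', ha', b', hb', rfl⟩
        refine ⟨a * a', mul_mem ha ha', b * b', mul_mem hb hb', ?_⟩
        calc a * b * (a' * b') = a * (b * a') * b' := by group
          _ = a * (a' * b) * b' := by rw [hc a' ha' b hb]
          _ = a * a' * (b * b') := by group
      one_mem' := ⟨1, one_mem _, 1, one_mem _, (mul_one 1).symm⟩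
      inv_mem' := by
        rintro _ ⟨a, ha, b, hb, rfl⟩
        refine ⟨a⁻¹, inv_mem ha, b⁻¹, inv_mem hb, ?_⟩
        rw [mul_inv_rev, hc a⁻¹ (inv_mem ha) b⁻¹ (inv_mem hb)] }
  have h : L₁ ⊔ L₂ ≤ M := sup_le (fun a ha => ⟨a, ha, 1, one_mem _, (mul_one a).symm⟩)
    (fun b hb => ⟨1, one_mem _, b, hb, (one_mul b).symm⟩)
  exact h hg

variable {L₁ L₂ j}

lemma sq_prod (hc : ∀ x ∈ L₁, ∀ y ∈ L₂, x * y = y * x) {a b : G} (ha : a ∈ L₁) (hb : b ∈ L₂) :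
    (a * b) * (a * b) = (a * a) * (b * b) := by
  calc a * b * (a * b) = a * (b * a) * b := by group
    _ = a * (a * b) * b := by rw [hc a ha b hb]
    _ = a * a * (b * b) := by group

lemma sq_j_cases (h1 : QS L₁ j) (h2 : QS L₂ j) (hc : ∀ x ∈ L₁, ∀ y ∈ L₂, x * y = y * x)
    (hj : orderOf j = 2) (hm : L₁ ⊓ L₂ = Subgroup.zpowers j) (y : G) (hy : y ∈ L₁ ⊔ L₂)
    (hyy : y * y = j) : y ∈ L₁ ∨ y ∈ L₂ := by
  obtain ⟨a, ha, b, hb, rfl⟩ := sup_prod L₁ L₂ hc y hy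
  rw [sq_prod hc ha hb] at hyy
  have haa : a * a = j * (b * b)⁻¹ := by rw [← hyy]; group
  have hmem : a * a ∈ L₂ := by rw [haa]; exact mul_mem h2.hj (inv_mem (mul_mem hb hb))
  rcases mem_inter L₁ L₂ j hj hm (a * a) (mul_mem ha ha) hmem with h | h
  · right
    rcases h1.sq_one a ha h with h' | h'
    · rw [h', one_mul]; exact hb
    · rw [h']; exact mul_mem h2.hj hb
  · left
    have hbb : b * b = 1 := by rw [h] at hyy; exact mul_eq_left.mp hyy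
    rcases h2.sq_one b hb hbb with h' | h'
    · rw [h', mul_one]; exact ha
    · rw [h']; exact mul_mem ha h1.hj

lemma sq_one_cases (h1 : QS L₁ j) (h2 : QS L₂ j) (hc : ∀ x ∈ L₁, ∀ y ∈ L₂, x * y = y * x)
    (hj : orderOf j = 2) (hm : L₁ ⊓ L₂ = Subgroup.zpowers j) (y : G) (hy : y ∈ L₁ ⊔ L₂)
    (hyy : y * y = 1) :
    y = 1 ∨ y = j ∨ ∃ a ∈ L₁, ∃ b ∈ L₂, a * a = j ∧ b * b = j ∧ y = a * b := by
  obtain ⟨hjj, hj1⟩ := j_facts j hj
  obtain ⟨a, ha, b, hb, rfl⟩ := sup_prod L₁ L₂ hc y hy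
  rw [sq_prod hc ha hb] at hyy
  have haa : a * a = (b * b)⁻¹ := eq_inv_of_mul_eq_one_left hyy
  have hmem : a * a ∈ L₂ := by rw [haa]; exact inv_mem (mul_mem hb hb)
  rcases mem_inter L₁ L₂ j hj hm (a * a) (mul_mem ha ha) hmem with h | h
  · have hbb : b * b = 1 := by rw [h, one_mul] at hyy; exact hyy
    rcases h1.sq_one a ha h with h' | h' <;> rcases h2.sq_one b hb hbb with h'' | h''
    · left; rw [h', h'', mul_one]
    · right; left; rw [h', h'', one_mul]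
    · right; left; rw [h', h'', mul_one]
    · left; rw [h', h'', hjj]
  · right; right
    refine ⟨a, ha, b, hb, h, ?_, rfl⟩
    rw [h] at hyy
    have hb2 : b * b = j⁻¹ := eq_inv_of_mul_eq_one_right hyy
    rw [hb2]
    exact inv_eq_of_mul_eq_one_right hjj

lemma sq_not_mem (h1 : QS L₁ j) (hj : orderOf j = 2) (hm : L₁ ⊓ L₂ = Subgroup.zpowers j)
    (a : G) (ha : a ∈ L₁) (haa : a * a = j) : a ∉ L₂ := by
  obtain ⟨hjj, hj1⟩ := j_facts j hj
  intro h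
  rcases mem_inter L₁ L₂ j hj hm a ha h with h' | h'
  · rw [h', one_mul] at haa; exact hj1 haa.symm
  · rw [h', hjj] at haa; exact hj1 haa.symm

lemma mem_left_of_comm (L₁ L₂ : Subgroup G) (h2 : QS L₂ j) (hjL : j ∈ L₁)
    (hc : ∀ x ∈ L₁, ∀ y ∈ L₂, x * y = y * x) (g : G) (hg : g ∈ L₁ ⊔ L₂)
    (hcomm : ∀ s ∈ L₂, s * s = j → s * g = g * s) : g ∈ L₁ := by
  obtain ⟨a, ha, b, hb, rfl⟩ := sup_prod L₁ L₂ hc g hg
  have hb' : b = 1 ∨ b = j := by
    apply h2.cent b hb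
    intro s hs hss
    have h3 := hcomm s hs hss
    have h4 : s * a = a * s := (hc a ha s hs).symm
    have h5 : a * (s * b) = a * (b * s) := by
      calc a * (s * b) = (a * s) * b := by group
        _ = (s * a) * b := by rw [h4]
        _ = s * (a * b) := by group
        _ = a * b * s := h3
        _ = a * (b * s) := by group
    exact mul_left_cancel h5
  rcases hb' with h | h
  · rw [h, mul_one]; exact ha
  · rw [h]; exact mul_mem ha hjL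

lemma comm_cases {L : Subgroup G} (h : QS L j) (hjj : j * j = 1) (a a' : G) (ha : a ∈ L)
    (ha' : a' ∈ L) (haa : a * a = j) (haa' : a' * a' = j) (hcm : a * a' = a' * a) :
    a' = a ∨ a' = j * a := by
  have h1 : (a' * a⁻¹) * (a' * a⁻¹) = 1 := by
    have hcm' : a⁻¹ * a' = a' * a⁻¹ := by
      calc a⁻¹ * a' = a⁻¹ * (a' * a) * a⁻¹ := by group
        _ = a⁻¹ * (a * a') * a⁻¹ := by rw [hcm]
        _ = a' * a⁻¹ := by group
    calc a' * a⁻¹ * (a' * a⁻¹) = a' * (a⁻¹ * a') * a⁻¹ := by group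
      _ = a' * (a' * a⁻¹) * a⁻¹ := by rw [hcm']
      _ = (a' * a') * (a * a)⁻¹ := by group
      _ = 1 := by rw [haa, haa', mul_inv_cancel]
  rcases h.sq_one _ (mul_mem ha' (inv_mem ha)) h1 with h2 | h2
  · left; exact mul_inv_eq_one.mp h2
  · right; exact mul_inv_eq_iff_eq_mul.mp h2

/-- the involution classes of `L₁L₂` -/
theorem two_classes (L₁ L₂ : Subgroup G) (j : G) (h1 : QS L₁ j) (h2 : QS L₂ j)
    (hc : ∀ x ∈ L₁, ∀ y ∈ L₂, x * y = y * x) (hj : orderOf j = 2)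
    (hm : L₁ ⊓ L₂ = Subgroup.zpowers j) :
    ∃ x ∈ L₁ ⊔ L₂, orderOf x = 2 ∧ x ≠ j ∧
      ∀ y ∈ L₁ ⊔ L₂, orderOf y = 2 → y = j ∨ ∃ g ∈ L₁ ⊔ L₂, g * x * g⁻¹ = y := by
  obtain ⟨hjj, hj1⟩ := j_facts j hj
  obtain ⟨a₀, ha₀, haa₀⟩ := h1.exists_sq
  obtain ⟨b₀, hb₀, hbb₀⟩ := h2.exists_sq
  have hL1 : L₁ ≤ L₁ ⊔ L₂ := le_sup_left
  have hL2 : L₂ ≤ L₁ ⊔ L₂ := le_sup_right
  have ha₀' : a₀ ∉ L₂ := sq_not_mem h1 hj hm a₀ ha₀ haa₀
  have hx2 : (a₀ * b₀) * (a₀ * b₀) = 1 := by rw [sq_prod hc ha₀ hb₀, haa₀, hbb₀, hjj]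
  refine ⟨a₀ * b₀, mul_mem (hL1 ha₀) (hL2 hb₀), ?_, ?_, ?_⟩
  · apply orderOf_eq_prime
    · rw [sq]; exact hx2
    · intro h
      apply ha₀'
      have e : a₀ = b₀⁻¹ := eq_inv_of_mul_eq_one_left h
      rw [e]; exact inv_mem hb₀
  · intro h
    apply ha₀'
    have e : a₀ = j * b₀⁻¹ := by rw [← h]; group
    rw [e]; exact mul_mem h2.hj (inv_mem hb₀)
  · intro y hy hy2
    have hyy : y * y = 1 := by rw [← sq, ← hy2]; exact pow_orderOf_eq_one y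
    have hy1 : y ≠ 1 := by rintro rfl; rw [orderOf_one] at hy2; omega
    rcases sq_one_cases h1 h2 hc hj hm y hy hyy with h | h | ⟨a, ha, b, hb, haa, hbb, rfl⟩
    · exact absurd h hy1
    · left; exact h
    · right
      obtain ⟨g₁, hg₁, hga⟩ := h1.conj a₀ ha₀ a ha haa₀ haa
      obtain ⟨g₂, hg₂, hgb⟩ := h2.conj b₀ hb₀ b hb hbb₀ hbb
      refine ⟨g₁ * g₂, mul_mem (hL1 hg₁) (hL2 hg₂), ?_⟩
      rw [← hga, ← hgb]
      have e1 : g₂ * a₀ = a₀ * g₂ := (hc a₀ ha₀ g₂ hg₂).symm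
      have e2 : g₂ * b₀ * g₂⁻¹ * g₁⁻¹ = g₁⁻¹ * (g₂ * b₀ * g₂⁻¹) :=
        (hc g₁⁻¹ (inv_mem hg₁) _ (mul_mem (mul_mem hg₂ hb₀) (inv_mem hg₂))).symm
      calc g₁ * g₂ * (a₀ * b₀) * (g₁ * g₂)⁻¹ = g₁ * (g₂ * a₀) * b₀ * g₂⁻¹ * g₁⁻¹ := by group
        _ = g₁ * (a₀ * g₂) * b₀ * g₂⁻¹ * g₁⁻¹ := by rw [e1]
        _ = g₁ * a₀ * (g₂ * b₀ * g₂⁻¹ * g₁⁻¹) := by group
        _ = g₁ * a₀ * (g₁⁻¹ * (g₂ * b₀ * g₂⁻¹)) := by rw [e2]
        _ = g₁ * a₀ * g₁⁻¹ * (g₂ * b₀ * g₂⁻¹) := by group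

end Gen

section Swap
variable {G : Type*} [Group G]

lemma dich (L M₁ M₂ : Subgroup G) (j : G) (hjj : j * j = 1) (hL : QS L j) (hM₁ : QS M₁ j)
    (hM₂ : QS M₂ j) (n : G) (hnj : n * j * n⁻¹ = j)
    (hα : ∀ s ∈ L, s * s = j → n * s * n⁻¹ ∈ M₁ ∨ n * s * n⁻¹ ∈ M₂)
    (hMc : ∀ x ∈ M₁, ∀ y ∈ M₂, x * y = y * x) :
    (∀ s ∈ L, s * s = j → n * s * n⁻¹ ∈ M₁) ∨ (∀ s ∈ L, s * s = j → n * s * n⁻¹ ∈ M₂) := by
  obtain ⟨a₀, ha₀, haa₀⟩ := hL.exists_sq
  have hconj : ∀ s t : G, n * s * n⁻¹ * (n * t * n⁻¹) = n * t * n⁻¹ * (n * s * n⁻¹) →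
      s * t = t * s := by
    intro s t h
    have h' : n * (s * t) * n⁻¹ = n * (t * s) * n⁻¹ := by
      calc n * (s * t) * n⁻¹ = n * s * n⁻¹ * (n * t * n⁻¹) := by group
        _ = n * t * n⁻¹ * (n * s * n⁻¹) := h
        _ = n * (t * s) * n⁻¹ := by group
    exact mul_left_cancel (mul_right_cancel h')
  have hjs : ∀ s : G, n * (j * s) * n⁻¹ = j * (n * s * n⁻¹) := by
    intro s
    calc n * (j * s) * n⁻¹ = n * j * n⁻¹ * (n * s * n⁻¹) := by group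
      _ = j * (n * s * n⁻¹) := by rw [hnj]
  rcases hα a₀ ha₀ haa₀ with h0 | h0
  · left
    intro s hs hss
    rcases hα s hs hss with h | h
    · exact h
    · have hcm : a₀ * s = s * a₀ := hconj _ _ (hMc _ h0 _ h)
      rcases comm_cases hL hjj a₀ s ha₀ hs haa₀ hss hcm with h' | h'
      · rw [h']; exact h0
      · rw [h', hjs]; exact mul_mem hM₁.hj h0
  · right
    intro s hs hss
    rcases hα s hs hss with h | h
    · have hcm : s * a₀ = a₀ * s := hconj _ _ (hMc _ h _ h0)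
      rcases comm_cases hL hjj a₀ s ha₀ hs haa₀ hss hcm.symm with h' | h'
      · rw [h']; exact h0
      · rw [h', hjs]; exact mul_mem hM₂.hj h0
    · exact h

lemma le_map_conj (A B : Subgroup G) (n : G) (h : ∀ g ∈ B, n⁻¹ * g * n ∈ A) :
    B ≤ A.map (MulAut.conj n).toMonoidHom := by
  intro g hg
  refine ⟨n⁻¹ * g * n, h g hg, ?_⟩
  show MulAut.conj n (n⁻¹ * g * n) = g
  rw [MulAut.conj_apply]
  group

lemma card_map_conj (A : Subgroup G) (n : G) :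
    Nat.card (A.map (MulAut.conj n).toMonoidHom) = Nat.card A :=
  (Nat.card_congr (A.equivMapOfInjective (MulAut.conj n).toMonoidHom
    (MulAut.conj n).injective).toEquiv).symm

lemma mem_map_conj (A : Subgroup G) (n a : G) (ha : a ∈ A) :
    n * a * n⁻¹ ∈ A.map (MulAut.conj n).toMonoidHom :=
  ⟨a, ha, by show MulAut.conj n a = _; rw [MulAut.conj_apply]⟩

theorem swap_or_fix [Finite G] (L₁ L₂ : Subgroup G) (j : G) (h1 : QS L₁ j) (h2 : QS L₂ j)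
    (hc : ∀ x ∈ L₁, ∀ y ∈ L₂, x * y = y * x) (hj : orderOf j = 2)
    (hm : L₁ ⊓ L₂ = Subgroup.zpowers j)
    (hle : L₁ ⊔ L₂ ≤ Subgroup.centralizer ({j} : Set G))
    (hi : (L₁ ⊔ L₂).relIndex (Subgroup.centralizer ({j} : Set G)) = 2) (n : G)
    (hn : n ∈ Subgroup.centralizer ({j} : Set G)) (hn' : n ∉ L₁ ⊔ L₂) :
    (L₁.map (MulAut.conj n).toMonoidHom = L₁ ∧ L₂.map (MulAut.conj n).toMonoidHom = L₂) ∨
      (L₁.map (MulAut.conj n).toMonoidHom = L₂ ∧ Nat.card L₁ = Nat.card L₂ ∧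
        ∃ n' ∈ Subgroup.centralizer ({j} : Set G), n' ∉ L₁ ⊔ L₂ ∧
          L₁.map (MulAut.conj n').toMonoidHom = L₂ ∧ n' ^ 2 ∈ Subgroup.zpowers j) := by
  obtain ⟨hjj, hj1⟩ := j_facts j hj
  have hL1 : L₁ ≤ L₁ ⊔ L₂ := le_sup_left
  have hL2 : L₂ ≤ L₁ ⊔ L₂ := le_sup_right
  have hc' : ∀ x ∈ L₂, ∀ y ∈ L₁, x * y = y * x := fun x hx y hy => (hc y hy x hx).symm
  have hnj : n * j * n⁻¹ = j := by
    have h := (Subgroup.mem_centralizer_iff.mp hn) j (Set.mem_singleton j)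
    rw [← h]; group
  have hN : ((L₁ ⊔ L₂).subgroupOf (Subgroup.centralizer ({j} : Set G))).Normal :=
    Subgroup.normal_of_index_eq_two hi
  have hnorm : ∀ m ∈ Subgroup.centralizer ({j} : Set G), ∀ g ∈ L₁ ⊔ L₂,
      m * g * m⁻¹ ∈ L₁ ⊔ L₂ := by
    intro m hm g hg
    have h := hN.conj_mem ⟨g, hle hg⟩ (Subgroup.mem_subgroupOf.mpr hg) ⟨m, hm⟩
    exact Subgroup.mem_subgroupOf.mp h
  have hnorm' : ∀ g ∈ L₁ ⊔ L₂, n⁻¹ * g * n ∈ L₁ ⊔ L₂ := by
    intro g hg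
    have h := hnorm n⁻¹ (inv_mem hn) g hg
    rwa [inv_inv] at h
  have hsq : n * n ∈ L₁ ⊔ L₂ := by
    have h := Subgroup.mul_self_mem_of_index_two
      (H := (L₁ ⊔ L₂).subgroupOf (Subgroup.centralizer ({j} : Set G))) hi ⟨n, hn⟩
    exact Subgroup.mem_subgroupOf.mp h
  have hα : ∀ s ∈ L₁ ⊔ L₂, s * s = j → n * s * n⁻¹ ∈ L₁ ∨ n * s * n⁻¹ ∈ L₂ := by
    intro s hs hss
    apply sq_j_cases h1 h2 hc hj hm _ (hnorm n hn s hs)
    calc n * s * n⁻¹ * (n * s * n⁻¹) = n * (s * s) * n⁻¹ := by group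
      _ = j := by rw [hss, hnj]
  have D1 := dich L₁ L₁ L₂ j hjj h1 h1 h2 n hnj (fun s hs hss => hα s (hL1 hs) hss) hc
  have D2 := dich L₂ L₁ L₂ j hjj h2 h1 h2 n hnj (fun s hs hss => hα s (hL2 hs) hss) hc
  obtain ⟨a₀, ha₀, haa₀⟩ := h1.exists_sq
  obtain ⟨b₀, hb₀, hbb₀⟩ := h2.exists_sq
  have hb₀' : b₀ ∉ L₁ := by
    intro h
    rcases mem_inter L₁ L₂ j hj hm b₀ h hb₀ with h' | h'
    · rw [h', one_mul] at hbb₀; exact hj1 hbb₀.symm
    · rw [h', hjj] at hbb₀; exact hj1 hbb₀.symm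
  have hsqc : ∀ s : G, s * s = j → n * s * n⁻¹ * (n * s * n⁻¹) = j := by
    intro s hss
    calc n * s * n⁻¹ * (n * s * n⁻¹) = n * (s * s) * n⁻¹ := by group
      _ = j := by rw [hss, hnj]
  have imp : ∀ M : Subgroup G, QS M j → n * a₀ * n⁻¹ ∈ M → n * b₀ * n⁻¹ ∈ M → False := by
    intro M hM hA hB
    have hcm : n * a₀ * n⁻¹ * (n * b₀ * n⁻¹) = n * b₀ * n⁻¹ * (n * a₀ * n⁻¹) := by
      calc n * a₀ * n⁻¹ * (n * b₀ * n⁻¹) = n * (a₀ * b₀) * n⁻¹ := by group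
        _ = n * (b₀ * a₀) * n⁻¹ := by rw [hc a₀ ha₀ b₀ hb₀]
        _ = n * b₀ * n⁻¹ * (n * a₀ * n⁻¹) := by group
    rcases comm_cases hM hjj _ _ hA hB (hsqc a₀ haa₀) (hsqc b₀ hbb₀) hcm with h | h
    · have e : b₀ = a₀ := mul_left_cancel (mul_right_cancel h)
      exact hb₀' (e ▸ ha₀)
    · have e' : n * b₀ * n⁻¹ = n * (j * a₀) * n⁻¹ := by
        rw [h]
        calc j * (n * a₀ * n⁻¹) = n * j * n⁻¹ * (n * a₀ * n⁻¹) := by rw [hnj]
          _ = n * (j * a₀) * n⁻¹ := by group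
      have e : b₀ = j * a₀ := mul_left_cancel (mul_right_cancel e')
      exact hb₀' (e ▸ mul_mem h1.hj ha₀)
  have hcomm_conj : ∀ s g : G, n * s * n⁻¹ * g = g * (n * s * n⁻¹) →
      s * (n⁻¹ * g * n) = n⁻¹ * g * n * s := by
    intro s g h3
    calc s * (n⁻¹ * g * n) = n⁻¹ * (n * s * n⁻¹ * g) * n := by group
      _ = n⁻¹ * (g * (n * s * n⁻¹)) * n := by rw [h3]
      _ = n⁻¹ * g * n * s := by group
  rcases D1 with d1 | d1 <;> rcases D2 with d2 | d2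
  · exact (imp L₁ h1 (d1 a₀ ha₀ haa₀) (d2 b₀ hb₀ hbb₀)).elim
  · left
    have key1 : ∀ g ∈ L₁, n⁻¹ * g * n ∈ L₁ := by
      intro g hg
      apply mem_left_of_comm L₁ L₂ h2 h1.hj hc _ (hnorm' g (hL1 hg))
      intro s hs hss
      exact hcomm_conj s g (hc g hg _ (d2 s hs hss)).symm
    have key2 : ∀ g ∈ L₂, n⁻¹ * g * n ∈ L₂ := by
      intro g hg
      apply mem_left_of_comm L₂ L₁ h1 h2.hj hc' _ (by rw [sup_comm]; exact hnorm' g (hL2 hg))
      intro s hs hss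
      exact hcomm_conj s g (hc _ (d1 s hs hss) g hg)
    constructor
    · exact (Subgroup.eq_of_le_of_card_ge (le_map_conj L₁ L₁ n key1)
        (card_map_conj L₁ n).le).symm
    · exact (Subgroup.eq_of_le_of_card_ge (le_map_conj L₂ L₂ n key2)
        (card_map_conj L₂ n).le).symm
  · right
    have keyB1 : ∀ g ∈ L₂, n⁻¹ * g * n ∈ L₁ := by
      intro g hg
      apply mem_left_of_comm L₁ L₂ h2 h1.hj hc _ (hnorm' g (hL2 hg))
      intro s hs hss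
      exact hcomm_conj s g (hc _ (d2 s hs hss) g hg)
    have keyB2 : ∀ g ∈ L₁, n⁻¹ * g * n ∈ L₂ := by
      intro g hg
      apply mem_left_of_comm L₂ L₁ h1 h2.hj hc' _ (by rw [sup_comm]; exact hnorm' g (hL1 hg))
      intro s hs hss
      exact hcomm_conj s g (hc g hg _ (d1 s hs hss)).symm
    have le1 := le_map_conj L₁ L₂ n keyB1
    have le2 := le_map_conj L₂ L₁ n keyB2
    have c1 := card_map_conj L₁ n
    have c2 := card_map_conj L₂ n
    have i1 : Nat.card L₂ ≤ Nat.card L₁ := by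
      rw [← c1]; exact Subgroup.card_le_of_le le1
    have i2 : Nat.card L₁ ≤ Nat.card L₂ := by
      rw [← c2]; exact Subgroup.card_le_of_le le2
    have m1 : L₁.map (MulAut.conj n).toMonoidHom = L₂ :=
      (Subgroup.eq_of_le_of_card_ge le1 (by rw [c1]; exact i2)).symm
    have m2 : L₂.map (MulAut.conj n).toMonoidHom = L₁ :=
      (Subgroup.eq_of_le_of_card_ge le2 (by rw [c2]; exact i1)).symm
    refine ⟨m1, le_antisymm i2 i1, ?_⟩
    obtain ⟨a, ha, b, hb, hab⟩ := sup_prod L₁ L₂ hc _ hsq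
    have hαa : n * a * n⁻¹ ∈ L₂ := by rw [← m1]; exact mem_map_conj L₁ n a ha
    have hαb : n * b * n⁻¹ ∈ L₁ := by rw [← m2]; exact mem_map_conj L₂ n b hb
    refine ⟨n * a⁻¹, mul_mem hn (inv_mem (hle (hL1 ha))), ?_, ?_, ?_⟩
    · intro h
      apply hn'
      have e : n = n * a⁻¹ * a := by group
      rw [e]
      exact mul_mem h (hL1 ha)
    · rw [← m1]
      ext y
      constructor
      · rintro ⟨g, hg, rfl⟩
        refine ⟨a⁻¹ * g * a, mul_mem (mul_mem (inv_mem ha) hg) ha, ?_⟩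
        show MulAut.conj n (a⁻¹ * g * a) = MulAut.conj (n * a⁻¹) g
        rw [MulAut.conj_apply, MulAut.conj_apply]
        group
      · rintro ⟨g, hg, rfl⟩
        refine ⟨a * g * a⁻¹, mul_mem (mul_mem ha hg) (inv_mem ha), ?_⟩
        show MulAut.conj (n * a⁻¹) (a * g * a⁻¹) = MulAut.conj n g
        rw [MulAut.conj_apply, MulAut.conj_apply]
        group
    · have e1 : (n * a⁻¹) ^ 2 = (n * a * n⁻¹)⁻¹ * b := by
        have hab' : a * b * a⁻¹ = b := by rw [hc a ha b hb]; group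
        calc (n * a⁻¹) ^ 2 = n * a⁻¹ * n⁻¹ * (n * n) * a⁻¹ := by rw [sq]; group
          _ = n * a⁻¹ * n⁻¹ * (a * b) * a⁻¹ := by rw [hab]
          _ = n * a⁻¹ * n⁻¹ * (a * b * a⁻¹) := by group
          _ = (n * a * n⁻¹)⁻¹ * b := by rw [hab']; group
      have e2 : (n * a * n⁻¹)⁻¹ * b = a⁻¹ * (n * b * n⁻¹) := by
        have h5 : n * a * n⁻¹ * (n * b * n⁻¹) = a * b := by
          calc n * a * n⁻¹ * (n * b * n⁻¹) = n * (a * b) * n⁻¹ := by group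
            _ = n * (n * n) * n⁻¹ := by rw [hab]
            _ = n * n := by group
            _ = a * b := hab
        have h6 : a⁻¹ * (n * a * n⁻¹) = (n * a * n⁻¹) * a⁻¹ := hc a⁻¹ (inv_mem ha) _ hαa
        calc (n * a * n⁻¹)⁻¹ * b = (n * a * n⁻¹)⁻¹ * a⁻¹ * (a * b) := by group
          _ = (n * a * n⁻¹)⁻¹ * a⁻¹ * (n * a * n⁻¹ * (n * b * n⁻¹)) := by rw [h5]
          _ = (n * a * n⁻¹)⁻¹ * (a⁻¹ * (n * a * n⁻¹)) * (n * b * n⁻¹) := by group
          _ = (n * a * n⁻¹)⁻¹ * ((n * a * n⁻¹) * a⁻¹) * (n * b * n⁻¹) := by rw [h6]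
          _ = a⁻¹ * (n * b * n⁻¹) := by group
      rw [← hm]
      refine Subgroup.mem_inf.mpr ⟨?_, ?_⟩
      · rw [e1, e2]
        exact mul_mem (inv_mem ha) hαb
      · rw [e1]
        exact mul_mem (inv_mem hαa) hb
  · exact (imp L₂ h2 (d1 a₀ ha₀ haa₀) (d2 b₀ hb₀ hbb₀)).elim

lemma card_inj (a b : ℕ) (ha : 2 ≤ a) (hb : 2 ≤ b)
    (h : a * (a - 1) * (a + 1) = b * (b - 1) * (b + 1)) : a = b := by
  have key : ∀ x y : ℕ, 2 ≤ x → x < y → x * (x - 1) * (x + 1) < y * (y - 1) * (y + 1) := by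
    intro x y hx hxy
    apply Nat.mul_lt_mul_of_le_of_lt
    · exact Nat.mul_le_mul (by omega) (by omega)
    · omega
    · exact Nat.mul_pos (by omega) (by omega)
  rcases lt_trichotomy a b with h1 | h1 | h1
  · exact absurd h (key a b ha h1).ne
  · exact h1
  · exact absurd h.symm (key b a hb h1).ne

end Swap


end Cfsg.Agent.Helper15.CP
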