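import Mathlib
import Cfsg.Prelude.Def_GeometricClasses
import Cfsg.Agent.S0242

set_option autoImplicit false
open scoped MatrixGroups

namespace Cfsg.Agent.Helper15.ES

section diag
variable {F : Type*} [Field F]

/-- rank-free diagonalisation from a decomposition of the identity into spectral pieces -/
theorem diag_of_proj {m : ℕ} (x : Matrix (Fin 3) (Fin 3) F) (P : Fin m → Matrix (Fin 3) (Fin 3) F)
    (lam : Fin m → F) (hsum : ∑ k, P k = 1) (hx : ∀ k, P k * x = lam k • P k) :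
    ∃ (κ : Fin 3 → Fin m) (g : Matrix (Fin 3) (Fin 3) F), g.det ≠ 0 ∧
      g * x = Matrix.diagonal (fun i => lam (κ i)) * g := by
  classical
  have h1 : ∑ κ : Fin 3 → Fin m, (Matrix.of fun i j => P (κ i) i j).det = 1 := by
    have h := (Matrix.detRowAlternating (R := F) (n := Fin 3)).toMultilinearMap.map_sum
      (fun (i : Fin 3) (k : Fin m) => (P k) i)
    have e : (fun i : Fin 3 => ∑ k, (P k) i) = (1 : Matrix (Fin 3) (Fin 3) F) := by
      rw [← hsum]
      ext i j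
      simp only [Finset.sum_apply, Matrix.sum_apply]
    rw [e] at h
    have h' : (1 : Matrix (Fin 3) (Fin 3) F).det =
        ∑ κ : Fin 3 → Fin m, (Matrix.of fun i j => P (κ i) i j).det := h
    rw [← h', Matrix.det_one]
  obtain ⟨κ, -, hκ⟩ := Finset.exists_ne_zero_of_sum_ne_zero (by rw [h1]; exact one_ne_zero)
  refine ⟨κ, Matrix.of fun i j => P (κ i) i j, hκ, ?_⟩
  ext i j
  have h2 := congrFun (congrFun (hx (κ i)) i) j
  simp only [Matrix.mul_apply, Matrix.smul_apply, smul_eq_mul] at h2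
  rw [Matrix.diagonal_mul, Matrix.mul_apply]
  simp only [Matrix.of_apply]
  exact h2

theorem spec3 (x : Matrix (Fin 3) (Fin 3) F) (t lam ζ : F) (hx : x * x * x = t • 1)
    (hlam : lam ^ 3 = t) (hl0 : lam ≠ 0) (hζ : ζ ^ 2 + ζ + 1 = 0) (h3 : (3 : F) ≠ 0) :
    ∃ (δ : Fin 3 → F) (g : Matrix (Fin 3) (Fin 3) F), (∀ i, δ i ^ 3 = t) ∧ g.det ≠ 0 ∧
      g * x = Matrix.diagonal δ * g := by
  have hζ3 : ζ ^ 3 = 1 := by linear_combination (ζ - 1) * hζ
  have hζ0 : ζ ≠ 0 := by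
    intro h
    rw [h] at hζ3
    simp at hζ3
  have hν0 : ∀ k : Fin 3, lam⁻¹ * ζ ^ (k : ℕ) ≠ 0 := fun k =>
    mul_ne_zero (inv_ne_zero hl0) (pow_ne_zero _ hζ0)
  have hν3 : ∀ k : Fin 3, (lam⁻¹ * ζ ^ (k : ℕ)) ^ 3 * t = 1 := by
    intro k
    rw [← hlam, mul_pow, ← pow_mul, mul_comm (k : ℕ) 3, pow_mul, hζ3, one_pow, mul_one, inv_pow,
      inv_mul_cancel₀ (pow_ne_zero _ hl0)]
  have hsum : ∑ k : Fin 3, (3 : F)⁻¹ • (1 + (lam⁻¹ * ζ ^ (k : ℕ)) • x +
      (lam⁻¹ * ζ ^ (k : ℕ)) ^ 2 • (x * x)) = 1 := by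
    rw [Fin.sum_univ_three]
    simp only [Fin.val_zero, Fin.val_one, Fin.val_two, pow_zero, pow_one, mul_one]
    match_scalars
    · field_simp
      ring
    · field_simp
      linear_combination hζ
    · field_simp
      linear_combination (1 + ζ * (ζ - 1)) * hζ
  have hxP : ∀ k : Fin 3, (3 : F)⁻¹ • (1 + (lam⁻¹ * ζ ^ (k : ℕ)) • x +
      (lam⁻¹ * ζ ^ (k : ℕ)) ^ 2 • (x * x)) * x = (lam⁻¹ * ζ ^ (k : ℕ))⁻¹ •
      (3 : F)⁻¹ • (1 + (lam⁻¹ * ζ ^ (k : ℕ)) • x + (lam⁻¹ * ζ ^ (k : ℕ)) ^ 2 • (x * x)) := by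
    intro k
    have e1 : (1 + (lam⁻¹ * ζ ^ (k : ℕ)) • x + (lam⁻¹ * ζ ^ (k : ℕ)) ^ 2 • (x * x)) * x =
        x + (lam⁻¹ * ζ ^ (k : ℕ)) • (x * x) + ((lam⁻¹ * ζ ^ (k : ℕ)) ^ 2 * t) • 1 := by
      rw [add_mul, add_mul, one_mul, smul_mul_assoc, smul_mul_assoc, hx, smul_smul]
    rw [smul_mul_assoc, e1]
    have h := hν3 k
    have h0 := hν0 k
    generalize lam⁻¹ * ζ ^ (k : ℕ) = ν at h h0
    match_scalars
    all_goals first | (field_simp; linear_combination h) | field_simp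
  obtain ⟨κ, g, hg, hgx⟩ := diag_of_proj x
    (fun k : Fin 3 => (3 : F)⁻¹ • (1 + (lam⁻¹ * ζ ^ (k : ℕ)) • x +
      (lam⁻¹ * ζ ^ (k : ℕ)) ^ 2 • (x * x)))
    (fun k : Fin 3 => (lam⁻¹ * ζ ^ (k : ℕ))⁻¹) hsum hxP
  refine ⟨fun i => (lam⁻¹ * ζ ^ ((κ i : Fin 3) : ℕ))⁻¹, g, ?_, hg, hgx⟩
  intro i
  have h := hν3 (κ i)
  rw [inv_pow]
  exact inv_eq_of_mul_eq_one_right h

theorem spec2 (x : Matrix (Fin 3) (Fin 3) F) (μ : F) (hx : x * x = (μ * μ) • 1) (hμ : μ ≠ 0)
    (h2 : (2 : F) ≠ 0) :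
    ∃ (δ : Fin 3 → F) (g : Matrix (Fin 3) (Fin 3) F), (∀ i, δ i = μ ∨ δ i = -μ) ∧ g.det ≠ 0 ∧
      g * x = Matrix.diagonal δ * g := by
  have hsum : ∑ k : Fin 2, (![(2 : F)⁻¹ • (1 + μ⁻¹ • x), (2 : F)⁻¹ • (1 - μ⁻¹ • x)] :
      Fin 2 → Matrix (Fin 3) (Fin 3) F) k = 1 := by
    rw [Fin.sum_univ_two]
    simp only [Matrix.cons_val_zero, Matrix.cons_val_one]
    match_scalars
    · field_simp
      ring
    · field_simp
      ring
  have hxP : ∀ k : Fin 2, (![(2 : F)⁻¹ • (1 + μ⁻¹ • x), (2 : F)⁻¹ • (1 - μ⁻¹ • x)] :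
      Fin 2 → Matrix (Fin 3) (Fin 3) F) k * x = (![μ, -μ] : Fin 2 → F) k •
      (![(2 : F)⁻¹ • (1 + μ⁻¹ • x), (2 : F)⁻¹ • (1 - μ⁻¹ • x)] :
      Fin 2 → Matrix (Fin 3) (Fin 3) F) k := by
    intro k
    fin_cases k
    · show (2 : F)⁻¹ • (1 + μ⁻¹ • x) * x = μ • ((2 : F)⁻¹ • (1 + μ⁻¹ • x))
      rw [smul_mul_assoc, add_mul, one_mul, smul_mul_assoc, hx, smul_smul]
      match_scalars
      all_goals first | (field_simp; done) | (field_simp; ring)
    · show (2 : F)⁻¹ • (1 - μ⁻¹ • x) * x = (-μ) • ((2 : F)⁻¹ • (1 - μ⁻¹ • x))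
      rw [smul_mul_assoc, sub_mul, one_mul, smul_mul_assoc, hx, smul_smul]
      match_scalars
      all_goals first | (field_simp; done) | (field_simp; ring)
  obtain ⟨κ, g, hg, hgx⟩ := diag_of_proj x _ _ hsum hxP
  refine ⟨fun i => (![μ, -μ] : Fin 2 → F) (κ i), g, ?_, hg, hgx⟩
  intro i
  show (![μ, -μ] : Fin 2 → F) (κ i) = μ ∨ (![μ, -μ] : Fin 2 → F) (κ i) = -μ
  generalize κ i = j
  fin_cases j
  · left; rfl
  · right; rfl

end diag

section grp

theorem comm_conj_exp3 {G : Type*} [Group G] (h3 : ∀ g : G, g ^ 3 = 1) (u v : G) :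
    u * (v⁻¹ * u * v) = (v⁻¹ * u * v) * u := by
  have hsq : ∀ w : G, w * w = w⁻¹ := by
    intro w
    rw [eq_inv_iff_mul_eq_one, ← pow_three']
    exact h3 w
  have h1 : u * (v⁻¹ * u * v) * (v * u * v⁻¹) = 1 := by
    have e : u * (v⁻¹ * u * v) * (v * u * v⁻¹) = u * v⁻¹ * u * (v * v) * u * v⁻¹ := by group
    rw [e, hsq v]
    have h := h3 (u * v⁻¹)
    rw [pow_three'] at h
    rw [← h]
    group
  have h2 : u * (v * u * v⁻¹) * (v⁻¹ * u * v) = 1 := by
    have e : u * (v * u * v⁻¹) * (v⁻¹ * u * v) = u * v * u * (v⁻¹ * v⁻¹) * u * v := by group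
    have hv' : v⁻¹ * v⁻¹ = v := by
      have := hsq v⁻¹
      rwa [inv_inv] at this
    rw [e, hv']
    have h := h3 (u * v)
    rw [pow_three'] at h
    rw [← h]
    group
  have e1 := eq_inv_of_mul_eq_one_right h1
  have e2 := eq_inv_of_mul_eq_one_right h2
  rw [e1] at e2
  simp only [mul_inv_rev, inv_inv] at e2
  rw [eq_mul_inv_iff_mul_eq] at e2
  exact e2.symm

theorem comm_of_exp3 {G : Type*} [Group G] (h3 : ∀ g : G, g ^ 3 = 1) (a b : G) :
    (a * b * a⁻¹ * b⁻¹) * a = a * (a * b * a⁻¹ * b⁻¹) ∧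
    (a * b * a⁻¹ * b⁻¹) * b = b * (a * b * a⁻¹ * b⁻¹) := by
  have hc := comm_conj_exp3 h3
  constructor
  · have h := hc a b⁻¹
    rw [inv_inv] at h
    have h' : (b * a⁻¹ * b⁻¹) * a = a * (b * a⁻¹ * b⁻¹) := by
      have e : b * a⁻¹ * b⁻¹ = (b * a * b⁻¹)⁻¹ := by group
      rw [e, inv_mul_eq_iff_eq_mul, ← mul_assoc, ← h, mul_inv_cancel_right]
    calc a * b * a⁻¹ * b⁻¹ * a = a * ((b * a⁻¹ * b⁻¹) * a) := by group
      _ = a * (a * (b * a⁻¹ * b⁻¹)) := by rw [h']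
      _ = a * (a * b * a⁻¹ * b⁻¹) := by group
  · have h := hc b a⁻¹
    rw [inv_inv] at h
    calc a * b * a⁻¹ * b⁻¹ * b = (a * b * a⁻¹) * b * b⁻¹ := by group
      _ = b * (a * b * a⁻¹) * b⁻¹ := by rw [h]
      _ = b * (a * b * a⁻¹ * b⁻¹) := by group

theorem mem_norm {G : Type*} [Group G] (a b g : G)
    (h1 : g * a * g⁻¹ ∈ Subgroup.closure ({a, b} : Set G))
    (h2 : g * b * g⁻¹ ∈ Subgroup.closure ({a, b} : Set G))
    (h3 : g⁻¹ * a * g ∈ Subgroup.closure ({a, b} : Set G))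
    (h4 : g⁻¹ * b * g ∈ Subgroup.closure ({a, b} : Set G)) :
    g ∈ Subgroup.normalizer (Subgroup.closure ({a, b} : Set G) : Set G) := by
  have hf : ∀ k : G, k * a * k⁻¹ ∈ Subgroup.closure ({a, b} : Set G) →
      k * b * k⁻¹ ∈ Subgroup.closure ({a, b} : Set G) →
      ∀ h ∈ Subgroup.closure ({a, b} : Set G), k * h * k⁻¹ ∈ Subgroup.closure ({a, b} : Set G) := by
    intro k ka kb h hh
    have hle : Subgroup.closure ({a, b} : Set G) ≤
        (Subgroup.closure ({a, b} : Set G)).comap (MulAut.conj k).toMonoidHom := by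
      rw [Subgroup.closure_le]
      intro y hy
      rcases hy with rfl | rfl
      · simpa [Subgroup.mem_comap, MulAut.conj_apply] using ka
      · simpa [Subgroup.mem_comap, MulAut.conj_apply] using kb
    have := hle hh
    simpa [Subgroup.mem_comap, MulAut.conj_apply] using this
  rw [Subgroup.mem_normalizer_iff]
  intro h
  refine ⟨hf g h1 h2 h, fun hh => ?_⟩
  have := hf g⁻¹ (by simpa using h3) (by simpa using h4) _ hh
  simpa [mul_assoc] using this

theorem closure_eq {G : Type*} [Group G] (R : Subgroup G) (hR : Nat.card R = 27) (a b : G)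
    (ha : a ∈ R) (hb : b ∈ R) (hab : a * b ≠ b * a) : Subgroup.closure ({a, b} : Set G) = R := by
  haveI : Finite R := Nat.finite_of_card_ne_zero (by rw [hR]; norm_num)
  have hle : Subgroup.closure ({a, b} : Set G) ≤ R := by
    rw [Subgroup.closure_le]
    intro y hy
    rcases hy with rfl | rfl <;> assumption
  have haS : a ∈ Subgroup.closure ({a, b} : Set G) := Subgroup.subset_closure (by simp)
  have hbS : b ∈ Subgroup.closure ({a, b} : Set G) := Subgroup.subset_closure (by simp)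
  have hdvd : Nat.card (Subgroup.closure ({a, b} : Set G)) ∣ 27 :=
    hR ▸ Subgroup.card_dvd_of_le hle
  haveI : Finite (Subgroup.closure ({a, b} : Set G)) :=
    Finite.of_injective (Subgroup.inclusion hle) (Subgroup.inclusion_injective hle)
  have hcomm : ∀ (n : ℕ), Nat.card (Subgroup.closure ({a, b} : Set G)) = n →
      (n = 1 ∨ n = 3 ∨ n = 9) → False := by
    intro n hn hcases
    have key : ∀ x y : Subgroup.closure ({a, b} : Set G), x * y = y * x := by
      rcases hcases with rfl | rfl | rfl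
      · intro x y
        haveI : Subsingleton (Subgroup.closure ({a, b} : Set G)) :=
          (Nat.card_eq_one_iff_unique.mp hn).1
        rw [Subsingleton.elim x y]
      · haveI : Fact (Nat.Prime 3) := ⟨Nat.prime_three⟩
        haveI := isCyclic_of_prime_card (α := Subgroup.closure ({a, b} : Set G)) (p := 3) hn
        intro x y
        obtain ⟨g, hg⟩ := IsCyclic.exists_generator (α := Subgroup.closure ({a, b} : Set G))
        obtain ⟨i, rfl⟩ := Subgroup.mem_zpowers_iff.mp (hg x)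
        obtain ⟨j, rfl⟩ := Subgroup.mem_zpowers_iff.mp (hg y)
        rw [← zpow_add, ← zpow_add, add_comm]
      · haveI : Fact (Nat.Prime 3) := ⟨Nat.prime_three⟩
        exact IsPGroup.commutative_of_card_eq_prime_sq (p := 3) (by rw [hn]; norm_num)
    exact hab (congrArg Subtype.val (key ⟨a, haS⟩ ⟨b, hbS⟩))
  have h27 : Nat.card (Subgroup.closure ({a, b} : Set G)) = 27 := by
    have h3 : (27 : ℕ) = 3 ^ 3 := by norm_num
    rw [h3] at hdvd
    obtain ⟨k, hk, hk'⟩ := (Nat.dvd_prime_pow Nat.prime_three).mp hdvd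
    interval_cases k
    · exact (hcomm 1 (by simpa using hk') (Or.inl rfl)).elim
    · exact (hcomm 3 (by simpa using hk') (Or.inr (Or.inl rfl))).elim
    · exact (hcomm 9 (by simpa using hk') (Or.inr (Or.inr rfl))).elim
    · simpa using hk'
  exact Subgroup.eq_of_le_of_card_ge hle (by rw [h27, hR])

theorem norm_map {G : Type*} [Group G] (R₀ : Subgroup G) (c T : G)
    (hT : T ∈ Subgroup.normalizer (R₀ : Set G)) :
    c * T * c⁻¹ ∈ Subgroup.normalizer
      ((R₀.map (MulAut.conj c).toMonoidHom : Subgroup G) : Set G) := by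
  rw [Subgroup.mem_normalizer_iff] at hT ⊢
  intro h
  have e : ∀ y : G, y ∈ R₀.map (MulAut.conj c).toMonoidHom ↔ c⁻¹ * y * c ∈ R₀ := by
    intro y
    constructor
    · rintro ⟨w, hw, rfl⟩
      simpa [MulAut.conj_apply, mul_assoc] using hw
    · intro hy
      exact ⟨c⁻¹ * y * c, hy, by simp [MulAut.conj_apply, mul_assoc]⟩
  rw [e, e, hT (c⁻¹ * h * c)]
  have : c⁻¹ * (c * T * c⁻¹ * h * (c * T * c⁻¹)⁻¹) * c = T * (c⁻¹ * h * c) * T⁻¹ := by group
  rw [this]

/-- an element of prime order `≥ 5` normalizing a group of order `27` and centralizing a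
non-identity element of it centralizes it -/
theorem centralizes {G : Type*} [Group G] (R : Subgroup G) [Finite ↥R] (hcard : Nat.card ↥R = 27)
    (z : G) (hzR : z ∈ R) (hz1 : z ≠ 1) (y : G) (hzy : y * z = z * y)
    (hy : y ∈ Subgroup.normalizer (R : Set G)) (r : ℕ) [Fact r.Prime] (hr2 : r ≠ 2) (hr3 : r ≠ 3)
    (hyr : y ^ r = 1) : ∀ h ∈ R, y * h = h * y := by
  classical
  haveI : Fintype ↥R := Fintype.ofFinite _
  let f : Function.End ↥R := fun h => ⟨y * h * y⁻¹, (Subgroup.mem_normalizer_iff.mp hy h).mp h.2⟩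
  have hfn : ∀ (n : ℕ) (h : ↥R), ((f ^ n) h : G) = y ^ n * h * (y ^ n)⁻¹ := by
    intro n
    induction n with
    | zero => intro h; rw [pow_zero, pow_zero, one_mul, inv_one, mul_one]; rfl
    | succ n ih =>
      intro h
      rw [pow_succ]
      show (((f ^ n) (f h) : ↥R) : G) = _
      rw [ih]
      show y ^ n * (y * h * y⁻¹) * (y ^ n)⁻¹ = _
      rw [pow_succ, mul_inv_rev]
      group
  have hf : f ^ r ^ 1 = 1 := by
    rw [pow_one]
    funext h
    apply Subtype.ext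
    rw [hfn, hyr, one_mul, inv_one, mul_one]
    rfl
  have hmod := Equiv.Perm.card_fixedPoints_modEq (p := r) (n := 1) hf
  let C : Subgroup ↥R := (Subgroup.centralizer ({y} : Set G)).subgroupOf R
  have hmemC : ∀ h : ↥R, h ∈ C ↔ y * (h : G) = h * y := by
    intro h
    simp only [C, Subgroup.mem_subgroupOf, Subgroup.mem_centralizer_iff, Set.mem_singleton_iff,
      forall_eq]
  have hfix : Function.fixedPoints f = (C : Set ↥R) := by
    ext h
    rw [SetLike.mem_coe, hmemC]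
    constructor
    · intro e
      have e' : y * (h : G) * y⁻¹ = h := congrArg Subtype.val e
      exact mul_inv_eq_iff_eq_mul.mp e'
    · intro e
      apply Subtype.ext
      exact mul_inv_eq_iff_eq_mul.mpr e
  have hcC : Fintype.card (Function.fixedPoints f) = Nat.card C := by
    rw [← Nat.card_eq_fintype_card, hfix]
    rfl
  have hC27 : Nat.card C ∣ 27 := hcard ▸ Subgroup.card_subgroup_dvd_card C
  have hC2 : 1 < Nat.card C := by
    rw [Subgroup.one_lt_card_iff_ne_bot]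
    intro hb
    have hzC : (⟨z, hzR⟩ : ↥R) ∈ C := (hmemC _).mpr hzy
    rw [hb, Subgroup.mem_bot] at hzC
    exact hz1 (congrArg Subtype.val hzC)
  have hrp : r.Prime := Fact.out
  have hr5 : 5 ≤ r := by
    have h2 := hrp.two_le
    by_contra hlt
    push Not at hlt
    have h4 : r = 4 := by omega
    rw [h4] at hrp
    norm_num at hrp
  have hCtop : Nat.card C = 27 := by
    rw [← Nat.card_eq_fintype_card, hcard, hcC] at hmod
    have hle : Nat.card C ≤ 27 := Nat.le_of_dvd (by norm_num) hC27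
    have hd : r ∣ 27 - Nat.card C := (Nat.modEq_iff_dvd' hle).mp hmod.symm
    have h3 : (27 : ℕ) = 3 ^ 3 := by norm_num
    rw [h3] at hC27
    obtain ⟨k, hk, hk'⟩ := (Nat.dvd_prime_pow Nat.prime_three).mp hC27
    interval_cases k
    · rw [pow_zero] at hk'; omega
    · rw [hk'] at hd
      have hle2 : r ≤ 24 := Nat.le_of_dvd (by norm_num) hd
      exfalso
      interval_cases r <;> first | omega | (norm_num at hrp)
    · rw [hk'] at hd
      have hle2 : r ≤ 18 := Nat.le_of_dvd (by norm_num) hd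
      exfalso
      interval_cases r <;> first | omega | (norm_num at hrp)
    · simpa using hk'
  have hCeq : C = ⊤ := Subgroup.eq_top_of_card_eq C (by rw [hCtop, hcard])
  intro h hh
  have hm : (⟨h, hh⟩ : ↥R) ∈ C := by rw [hCeq]; exact Subgroup.mem_top _
  exact (hmemC _).mp hm

end grp

section struct
open scoped Matrix
variable {F : Type*} [Field F]

def Am (ζ : F) : Matrix (Fin 3) (Fin 3) F := Matrix.diagonal ![1, ζ, ζ ^ 2]

def Bm : Matrix (Fin 3) (Fin 3) F := !![0, 0, 1; 1, 0, 0; 0, 1, 0]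

def Wm : Matrix (Fin 3) (Fin 3) F := !![-1, 0, 0; 0, 0, -1; 0, -1, 0]

theorem exists_gl (M : Matrix (Fin 3) (Fin 3) F) (h : M.det ≠ 0) :
    ∃ U : GL (Fin 3) F, (U : Matrix (Fin 3) (Fin 3) F) = M :=
  ⟨Matrix.GeneralLinearGroup.mkOfDetNeZero M h, rfl⟩

theorem det_ne (g : GL (Fin 3) F) : (g : Matrix (Fin 3) (Fin 3) F).det ≠ 0 := by
  have h := (Matrix.GeneralLinearGroup.det g).ne_zero
  rwa [Matrix.GeneralLinearGroup.val_det_apply] at h

theorem mem_sl (g : GL (Fin 3) F) :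
    g ∈ Cfsg.Geo.specialLinear (Fin 3) F ↔ (g : Matrix (Fin 3) (Fin 3) F).det = 1 := by
  unfold Cfsg.Geo.specialLinear
  rw [MonoidHom.mem_ker, Units.ext_iff, Matrix.GeneralLinearGroup.val_det_apply]
  rfl

theorem exists_omega [Fintype F] (h : Fintype.card F % 3 = 1) : ∃ ω : F, ω ^ 2 + ω + 1 = 0 := by
  haveI : Fact (Nat.Prime 3) := ⟨Nat.prime_three⟩
  have hdvd : 3 ∣ Nat.card Fˣ := by
    rw [Nat.card_units, Nat.card_eq_fintype_card]
    omega
  obtain ⟨x, hx⟩ := exists_prime_orderOf_dvd_card' 3 hdvd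
  have h1 : ((x : Fˣ) : F) ^ 3 = 1 := by
    have := pow_orderOf_eq_one x
    rw [hx] at this
    have h' := congrArg Units.val this
    simpa using h'
  have h2 : ((x : Fˣ) : F) ≠ 1 := by
    intro h
    have hx1 : x = 1 := Units.ext h
    rw [hx1, orderOf_one] at hx
    omega
  refine ⟨(x : F), ?_⟩
  have h3 : ((x : F) - 1) * ((x : F) ^ 2 + (x : F) + 1) = 0 := by linear_combination h1
  rcases mul_eq_zero.mp h3 with h4 | h4
  · exact absurd (sub_eq_zero.mp h4) h2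
  · exact h4

theorem root3 (ζ : F) (hζ : ζ ^ 2 + ζ + 1 = 0) (ρ : F) (hρ : ρ ^ 3 = 1) :
    ρ = 1 ∨ ρ = ζ ∨ ρ = ζ ^ 2 := by
  have h : (ρ - 1) * ((ρ - ζ) * (ρ - ζ ^ 2)) = 0 := by
    linear_combination hρ + (-ρ ^ 2 + ζ * ρ - ζ + 1) * hζ
  rcases mul_eq_zero.mp h with h1 | h1
  · left; exact sub_eq_zero.mp h1
  · rcases mul_eq_zero.mp h1 with h2 | h2
    · right; left; exact sub_eq_zero.mp h2
    · right; right; exact sub_eq_zero.mp h2

theorem zeta_cube (ζ : F) (hζ : ζ ^ 2 + ζ + 1 = 0) : ζ ^ 3 = 1 := by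
  linear_combination (ζ - 1) * hζ

theorem zeta_ne_one (ζ : F) (hζ : ζ ^ 2 + ζ + 1 = 0) (h3 : (3 : F) ≠ 0) : ζ ≠ 1 := by
  intro h
  rw [h] at hζ
  apply h3
  linear_combination hζ

/-- a nontrivial element of order 3 and determinant 1 commuting with two non-commuting matrices
is a primitive cube root of unity times the identity -/
theorem exists_zeta (ω : F) (hω : ω ^ 2 + ω + 1 = 0) (h3 : (3 : F) ≠ 0) (z a b : GL (Fin 3) F)
    (hz3 : z ^ 3 = 1) (hz1 : z ≠ 1) (hdet : (z : Matrix (Fin 3) (Fin 3) F).det = 1)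
    (hza : z * a = a * z) (hzb : z * b = b * z) (hab : a * b ≠ b * a) :
    ∃ ζ : F, ζ ^ 2 + ζ + 1 = 0 ∧ (z : Matrix (Fin 3) (Fin 3) F) = ζ • 1 := by
  have hz3' : (z : Matrix (Fin 3) (Fin 3) F) * (z : Matrix (Fin 3) (Fin 3) F) *
      (z : Matrix (Fin 3) (Fin 3) F) = (1 : F) • 1 := by
    rw [one_smul, ← Units.val_mul, ← Units.val_mul, ← pow_three', hz3]
    rfl
  obtain ⟨δ, g, hδ, hg, hgz⟩ := spec3 (z : Matrix (Fin 3) (Fin 3) F) 1 1 ω hz3' (by norm_num)
    one_ne_zero hω h3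
  have hu : IsUnit g.det := isUnit_iff_ne_zero.mpr hg
  have hprod : δ 0 * δ 1 * δ 2 = 1 := by
    have h := congrArg Matrix.det hgz
    rw [Matrix.det_mul, Matrix.det_mul, Matrix.det_diagonal, Fin.prod_univ_three, hdet,
      mul_one] at h
    exact (mul_right_cancel₀ hg (by rw [one_mul]; exact h)).symm
  by_cases hall : δ 0 = δ 1 ∧ δ 0 = δ 2
  · have hd : Matrix.diagonal δ = δ 0 • (1 : Matrix (Fin 3) (Fin 3) F) := by
      ext i j
      fin_cases i <;> fin_cases j <;> simp [← hall.1, ← hall.2]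
    have hzs : (z : Matrix (Fin 3) (Fin 3) F) = δ 0 • 1 := by
      have h1 : g * (z : Matrix (Fin 3) (Fin 3) F) = g * (δ 0 • 1) := by
        rw [hgz, hd]
        simp
      have h2 := congrArg (fun M => g⁻¹ * M) h1
      simp only [← Matrix.mul_assoc, Matrix.nonsing_inv_mul g hu, Matrix.one_mul] at h2
      exact h2
    refine ⟨δ 0, ?_, hzs⟩
    have hne : δ 0 ≠ 1 := by
      intro h
      apply hz1
      apply Units.ext
      rw [hzs, h, one_smul]
      rfl
    have h4 : (δ 0 - 1) * (δ 0 ^ 2 + δ 0 + 1) = 0 := by linear_combination hδ 0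
    rcases mul_eq_zero.mp h4 with h5 | h5
    · exact absurd (sub_eq_zero.mp h5) hne
    · exact h5
  · exfalso
    apply hab
    have e01 : δ 0 = δ 1 → δ 2 = δ 0 := by
      intro h
      linear_combination (-δ 2) * hδ 0 + δ 0 * hprod + δ 0 * δ 0 * δ 2 * h
    have e02 : δ 0 = δ 2 → δ 1 = δ 0 := by
      intro h
      linear_combination (-δ 1) * hδ 0 + δ 0 * hprod + δ 0 * δ 0 * δ 1 * h
    have e12 : δ 1 = δ 2 → δ 0 = δ 1 := by
      intro h
      linear_combination (-δ 0) * hδ 1 + δ 1 * hprod + δ 1 * δ 1 * δ 0 * h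
    have hinj : ∀ i j : Fin 3, δ i = δ j → i = j := by
      intro i j h
      by_contra hij
      apply hall
      fin_cases i <;> fin_cases j <;>
        first
        | exact absurd rfl hij
        | exact ⟨h, (e01 h).symm⟩
        | exact ⟨(e02 h).symm, h⟩
        | exact ⟨h.symm, (e01 h.symm).symm⟩
        | exact ⟨e12 h, (e12 h).trans h⟩
        | exact ⟨(e02 h.symm).symm, h.symm⟩
        | exact ⟨e12 h.symm, (e12 h.symm).trans h.symm⟩
    obtain ⟨G, hG⟩ := exists_gl g hg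
    have hzd : ((G * z * G⁻¹ : GL (Fin 3) F) : Matrix (Fin 3) (Fin 3) F) = Matrix.diagonal δ := by
      rw [Units.val_mul, Units.val_mul, hG, hgz, ← hG, Matrix.mul_assoc, ← Units.val_mul,
        mul_inv_cancel, Units.val_one, Matrix.mul_one]
    have hdiag : ∀ y : GL (Fin 3) F, z * y = y * z →
        ((G * y * G⁻¹ : GL (Fin 3) F) : Matrix (Fin 3) (Fin 3) F) =
          Matrix.diagonal (fun i => ((G * y * G⁻¹ : GL (Fin 3) F) : Matrix (Fin 3) (Fin 3) F) i i) := by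
      intro y hy
      have hc : (G * z * G⁻¹) * (G * y * G⁻¹) = (G * y * G⁻¹) * (G * z * G⁻¹) := by
        have e1 : (G * z * G⁻¹) * (G * y * G⁻¹) = G * (z * y) * G⁻¹ := by group
        have e2 : (G * y * G⁻¹) * (G * z * G⁻¹) = G * (y * z) * G⁻¹ := by group
        rw [e1, e2, hy]
      have hc' := congrArg (fun u : GL (Fin 3) F => (u : Matrix (Fin 3) (Fin 3) F)) hc
      simp only [Units.val_mul (G * z * G⁻¹), Units.val_mul (G * y * G⁻¹), hzd] at hc'
      ext i j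
      by_cases hij : i = j
      · subst hij
        simp
      · rw [Matrix.diagonal_apply_ne _ hij]
        have h5 := congrFun (congrFun hc' i) j
        rw [Matrix.diagonal_mul, Matrix.mul_diagonal] at h5
        have h6 : (δ i - δ j) * ((G * y * G⁻¹ : GL (Fin 3) F) : Matrix (Fin 3) (Fin 3) F) i j = 0 := by
          linear_combination h5
        rcases mul_eq_zero.mp h6 with h7 | h7
        · exact absurd (hinj i j (sub_eq_zero.mp h7)) hij
        · exact h7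
    have hcomm : (G * a * G⁻¹) * (G * b * G⁻¹) = (G * b * G⁻¹) * (G * a * G⁻¹) := by
      apply Units.ext
      rw [Units.val_mul (G * a * G⁻¹) (G * b * G⁻¹), Units.val_mul (G * b * G⁻¹) (G * a * G⁻¹),
        hdiag a hza, hdiag b hzb, Matrix.diagonal_mul_diagonal, Matrix.diagonal_mul_diagonal]
      congr 1
      funext i
      exact mul_comm _ _
    calc a * b = G⁻¹ * ((G * a * G⁻¹) * (G * b * G⁻¹)) * G := by group
      _ = G⁻¹ * ((G * b * G⁻¹) * (G * a * G⁻¹)) * G := by rw [hcomm]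
      _ = b * a := by group

theorem exists_std (ζ : F) (hζ : ζ ^ 2 + ζ + 1 = 0) (h3 : (3 : F) ≠ 0) (a b : GL (Fin 3) F)
    (ha3 : a ^ 3 = 1) (hb3 : b ^ 3 = 1)
    (hab : (a : Matrix (Fin 3) (Fin 3) F) * (b : Matrix (Fin 3) (Fin 3) F) =
      ζ • ((b : Matrix (Fin 3) (Fin 3) F) * (a : Matrix (Fin 3) (Fin 3) F))) :
    ∃ c : GL (Fin 3) F, ((c⁻¹ * a * c : GL (Fin 3) F) : Matrix (Fin 3) (Fin 3) F) = Am ζ ∧
      ((c⁻¹ * b * c : GL (Fin 3) F) : Matrix (Fin 3) (Fin 3) F) = Bm := by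
  have hζ3 := zeta_cube ζ hζ
  have hA3 : (a : Matrix (Fin 3) (Fin 3) F) * (a : Matrix (Fin 3) (Fin 3) F) *
      (a : Matrix (Fin 3) (Fin 3) F) = (1 : F) • 1 := by
    rw [one_smul, ← Units.val_mul, ← Units.val_mul, ← pow_three', ha3]
    rfl
  have hB3 : (b : Matrix (Fin 3) (Fin 3) F) * (b : Matrix (Fin 3) (Fin 3) F) *
      (b : Matrix (Fin 3) (Fin 3) F) = 1 := by
    rw [← Units.val_mul, ← Units.val_mul, ← pow_three', hb3]
    rfl
  generalize hA : (a : Matrix (Fin 3) (Fin 3) F) = A at hab hA3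
  generalize hB : (b : Matrix (Fin 3) (Fin 3) F) = B at hab hB3
  obtain ⟨δ, g, hδ, hg, hga⟩ := spec3 A 1 1 ζ hA3 (by norm_num) one_ne_zero hζ h3
  have hu : IsUnit g.det := isUnit_iff_ne_zero.mpr hg
  have hAg : A * g⁻¹ = g⁻¹ * Matrix.diagonal δ := by
    calc A * g⁻¹ = g⁻¹ * (g * A) * g⁻¹ := by
          rw [← Matrix.mul_assoc, Matrix.nonsing_inv_mul g hu, Matrix.one_mul]
      _ = g⁻¹ * Matrix.diagonal δ := by
          rw [hga, Matrix.mul_assoc, Matrix.mul_assoc, Matrix.mul_nonsing_inv g hu, Matrix.mul_one]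
  have hv : A *ᵥ (fun i => g⁻¹ i 0) = δ 0 • (fun i => g⁻¹ i 0) := by
    funext i
    have h := congrFun (congrFun hAg i) 0
    rw [Matrix.mul_diagonal, Matrix.mul_apply] at h
    show ∑ k, A i k * g⁻¹ k 0 = δ 0 * g⁻¹ i 0
    rw [h, mul_comm]
  have hv0 : (fun i => g⁻¹ i 0) ≠ (0 : Fin 3 → F) := by
    intro h
    have hdet : (g⁻¹).det = 0 := Matrix.det_eq_zero_of_column_eq_zero 0 (fun i => congrFun h i)
    have h1 : (g⁻¹).det * g.det = 1 := by
      rw [← Matrix.det_mul, Matrix.nonsing_inv_mul g hu, Matrix.det_one]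
    rw [hdet, zero_mul] at h1
    exact zero_ne_one h1
  have hshift : ∀ (u : Fin 3 → F) (e : F), A *ᵥ u = e • u →
      A *ᵥ (B *ᵥ u) = (ζ * e) • (B *ᵥ u) := by
    intro u e h
    rw [Matrix.mulVec_mulVec, hab, Matrix.smul_mulVec, ← Matrix.mulVec_mulVec, h,
      Matrix.mulVec_smul, smul_smul]
  have hBne : ∀ u : Fin 3 → F, u ≠ 0 → B *ᵥ u ≠ 0 := by
    intro u hu0 h
    apply hu0
    have h1 : (B * B * B) *ᵥ u = u := by rw [hB3, Matrix.one_mulVec]
    rw [← h1, ← Matrix.mulVec_mulVec, h, Matrix.mulVec_zero]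
  obtain ⟨v₀, hv₀, hAv₀⟩ : ∃ v₀ : Fin 3 → F, v₀ ≠ 0 ∧ A *ᵥ v₀ = (1 : F) • v₀ := by
    rcases root3 ζ hζ (δ 0) (hδ 0) with h | h | h
    · exact ⟨_, hv0, by rw [hv, h]⟩
    · refine ⟨_, hBne _ (hBne _ hv0), ?_⟩
      rw [hshift _ _ (hshift _ _ hv), h]
      congr 1
      linear_combination hζ3
    · refine ⟨_, hBne _ hv0, ?_⟩
      rw [hshift _ _ hv, h]
      congr 1
      linear_combination hζ3
  have h1 := hshift v₀ 1 hAv₀
  have h2 := hshift _ _ h1
  have hB0 : B *ᵥ (B *ᵥ (B *ᵥ v₀)) = v₀ := by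
    rw [Matrix.mulVec_mulVec, Matrix.mulVec_mulVec, hB3, Matrix.one_mulVec]
  have hu1 : B *ᵥ v₀ ≠ 0 := hBne _ hv₀
  have hu2 : B *ᵥ (B *ᵥ v₀) ≠ 0 := hBne _ hu1
  generalize hU1 : B *ᵥ v₀ = u₁ at h1 h2 hB0 hu1 hu2
  generalize hU2 : B *ᵥ u₁ = u₂ at h2 hB0 hu2
  let cm : Matrix (Fin 3) (Fin 3) F :=
    Matrix.of fun i j => (![v₀, u₁, u₂] : Fin 3 → Fin 3 → F) j i
  have hAc : A * cm = cm * Am ζ := by
    ext i j
    unfold Am
    rw [Matrix.mul_diagonal, Matrix.mul_apply]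
    have e0 : ∑ k, A i k * v₀ k = 1 * v₀ i := congrFun hAv₀ i
    have e1 : ∑ k, A i k * u₁ k = (ζ * 1) * u₁ i := congrFun h1 i
    have e2 : ∑ k, A i k * u₂ k = (ζ * (ζ * 1)) * u₂ i := congrFun h2 i
    fin_cases j
    · show ∑ k, A i k * v₀ k = v₀ i * 1
      rw [e0]; ring
    · show ∑ k, A i k * u₁ k = u₁ i * ζ
      rw [e1]; ring
    · show ∑ k, A i k * u₂ k = u₂ i * ζ ^ 2
      rw [e2]; ring
  have hBc : B * cm = cm * Bm := by
    ext i j
    rw [Matrix.mul_apply, Matrix.mul_apply]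
    have e0 : ∑ k, B i k * v₀ k = u₁ i := congrFun hU1 i
    have e1 : ∑ k, B i k * u₁ k = u₂ i := congrFun hU2 i
    have e2 : ∑ k, B i k * u₂ k = v₀ i := congrFun hB0 i
    fin_cases j
    · show ∑ k, B i k * v₀ k = ∑ k, cm i k * Bm k 0
      rw [Fin.sum_univ_three (f := fun k => cm i k * Bm k 0), e0]
      show u₁ i = v₀ i * 0 + u₁ i * 1 + u₂ i * 0
      ring
    · show ∑ k, B i k * u₁ k = ∑ k, cm i k * Bm k 1
      rw [Fin.sum_univ_three (f := fun k => cm i k * Bm k 1), e1]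
      show u₂ i = v₀ i * 0 + u₁ i * 0 + u₂ i * 1
      ring
    · show ∑ k, B i k * u₂ k = ∑ k, cm i k * Bm k 2
      rw [Fin.sum_univ_three (f := fun k => cm i k * Bm k 2), e2]
      show v₀ i = v₀ i * 1 + u₁ i * 0 + u₂ i * 0
      ring
  have hcm : cm.det ≠ 0 := by
    intro hdet
    obtain ⟨w, hw0, hw⟩ := Matrix.exists_mulVec_eq_zero_iff.mpr hdet
    have E1 : cm *ᵥ (Am ζ *ᵥ w) = 0 := by
      rw [Matrix.mulVec_mulVec, ← hAc, ← Matrix.mulVec_mulVec, hw, Matrix.mulVec_zero]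
    have E2 : cm *ᵥ (Am ζ *ᵥ (Am ζ *ᵥ w)) = 0 := by
      rw [Matrix.mulVec_mulVec, ← hAc, ← Matrix.mulVec_mulVec, E1, Matrix.mulVec_zero]
    have hcoord : ∀ (y : Fin 3 → F) (i : Fin 3),
        (cm *ᵥ y) i = v₀ i * y 0 + u₁ i * y 1 + u₂ i * y 2 := by
      intro y i
      show ∑ k, cm i k * y k = _
      rw [Fin.sum_univ_three]
      rfl
    have hA0 : ∀ y : Fin 3 → F, (Am ζ *ᵥ y) 0 = 1 * y 0 := by
      intro y; unfold Am; rw [Matrix.mulVec_diagonal]; rfl
    have hA1 : ∀ y : Fin 3 → F, (Am ζ *ᵥ y) 1 = ζ * y 1 := by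
      intro y; unfold Am; rw [Matrix.mulVec_diagonal]; rfl
    have hA2 : ∀ y : Fin 3 → F, (Am ζ *ᵥ y) 2 = ζ ^ 2 * y 2 := by
      intro y; unfold Am; rw [Matrix.mulVec_diagonal]; rfl
    have key : ∀ i, v₀ i * w 0 = 0 ∧ u₁ i * w 1 = 0 ∧ u₂ i * w 2 = 0 := by
      intro i
      have e0 := congrFun hw i
      have e1 := congrFun E1 i
      have e2 := congrFun E2 i
      simp only [hcoord, hA0, hA1, hA2, Pi.zero_apply] at e0 e1 e2
      have k0 : (3 : F) * (v₀ i * w 0) = 0 := by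
        linear_combination e0 + e1 + e2 - (u₁ i * w 1 + u₂ i * w 2) * hζ -
          (u₂ i * w 2 * ζ) * hζ3
      have k1 : (3 : F) * (u₁ i * w 1) = 0 := by
        linear_combination e0 + ζ ^ 2 * e1 + ζ * e2 - (v₀ i * w 0 + u₂ i * w 2) * hζ -
          (2 * (u₁ i * w 1) + (ζ + ζ ^ 2) * (u₂ i * w 2)) * hζ3
      have k2 : (3 : F) * (u₂ i * w 2) = 0 := by
        linear_combination e0 + ζ * e1 + ζ ^ 2 * e2 - (v₀ i * w 0 + u₁ i * w 1) * hζ -
          (ζ * (u₁ i * w 1) + (ζ ^ 3 + 2) * (u₂ i * w 2)) * hζ3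
      exact ⟨(mul_eq_zero.mp k0).resolve_left h3, (mul_eq_zero.mp k1).resolve_left h3,
        (mul_eq_zero.mp k2).resolve_left h3⟩
    apply hw0
    obtain ⟨i0, hi0⟩ := Function.ne_iff.mp hv₀
    obtain ⟨i1, hi1⟩ := Function.ne_iff.mp hu1
    obtain ⟨i2, hi2⟩ := Function.ne_iff.mp hu2
    have w0 : w 0 = 0 := (mul_eq_zero.mp (key i0).1).resolve_left hi0
    have w1 : w 1 = 0 := (mul_eq_zero.mp (key i1).2.1).resolve_left hi1
    have w2 : w 2 = 0 := (mul_eq_zero.mp (key i2).2.2).resolve_left hi2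
    funext k
    fin_cases k
    · exact w0
    · exact w1
    · exact w2
  obtain ⟨c, hc⟩ := exists_gl cm hcm
  refine ⟨c, ?_, ?_⟩
  · rw [Units.val_mul, Units.val_mul, hA, hc, Matrix.mul_assoc, hAc, ← Matrix.mul_assoc, ← hc,
      ← Units.val_mul, inv_mul_cancel, Units.val_one, Matrix.one_mul]
  · rw [Units.val_mul, Units.val_mul, hB, hc, Matrix.mul_assoc, hBc, ← Matrix.mul_assoc, ← hc,
      ← Units.val_mul, inv_mul_cancel, Units.val_one, Matrix.one_mul]

end struct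

section std
variable {F : Type*} [Field F]

theorem det_Am (ζ : F) (hζ : ζ ^ 2 + ζ + 1 = 0) : (Am ζ).det = 1 := by
  unfold Am
  rw [Matrix.det_diagonal, Fin.prod_univ_three]
  show 1 * ζ * ζ ^ 2 = 1
  linear_combination zeta_cube ζ hζ

theorem det_Bm : (Bm : Matrix (Fin 3) (Fin 3) F).det = 1 := by
  unfold Bm
  rw [Matrix.det_fin_three]
  simp

theorem det_Wm : (Wm : Matrix (Fin 3) (Fin 3) F).det = 1 := by
  unfold Wm
  rw [Matrix.det_fin_three]
  simp

theorem zeta_sq_ne_one (ζ : F) (hζ : ζ ^ 2 + ζ + 1 = 0) (h3 : (3 : F) ≠ 0) : ζ ^ 2 ≠ 1 := by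
  intro h
  apply zeta_ne_one ζ hζ h3
  have h1 := zeta_cube ζ hζ
  linear_combination h1 - ζ * h

theorem zeta_sq_ne (ζ : F) (hζ : ζ ^ 2 + ζ + 1 = 0) (h3 : (3 : F) ≠ 0) : ζ ^ 2 ≠ ζ := by
  intro h
  apply zeta_sq_ne_one ζ hζ h3
  have h1 := zeta_cube ζ hζ
  linear_combination h1 - ζ * h

/-- a matrix commuting with the standard generators is scalar -/
theorem scalar_of_comm (ζ : F) (hζ : ζ ^ 2 + ζ + 1 = 0) (h3 : (3 : F) ≠ 0)
    (Y : Matrix (Fin 3) (Fin 3) F) (h1 : Y * Am ζ = Am ζ * Y) (h2 : Y * Bm = Bm * Y) :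
    ∃ c : F, Y = c • 1 := by
  have hζ1 := zeta_ne_one ζ hζ h3
  have hζ21 := zeta_sq_ne_one ζ hζ h3
  have hζ2ζ := zeta_sq_ne ζ hζ h3
  have hα : ∀ i j : Fin 3, (![1, ζ, ζ ^ 2] : Fin 3 → F) i = ![1, ζ, ζ ^ 2] j → i = j := by
    intro i j h
    fin_cases i <;> fin_cases j <;>
      first
      | rfl
      | exact absurd (show (1 : F) = ζ from h).symm hζ1
      | exact absurd (show (1 : F) = ζ ^ 2 from h).symm hζ21
      | exact absurd (show ζ = (1 : F) from h) hζ1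
      | exact absurd (show ζ = ζ ^ 2 from h).symm hζ2ζ
      | exact absurd (show ζ ^ 2 = (1 : F) from h) hζ21
      | exact absurd (show ζ ^ 2 = ζ from h) hζ2ζ
  have hz : ∀ i j : Fin 3, i ≠ j → Y i j = 0 := by
    intro i j hij
    have h := congrFun (congrFun h1 i) j
    unfold Am at h
    rw [Matrix.mul_diagonal, Matrix.diagonal_mul] at h
    have h6 : ((![1, ζ, ζ ^ 2] : Fin 3 → F) j - (![1, ζ, ζ ^ 2] : Fin 3 → F) i) * Y i j = 0 := by
      linear_combination h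
    rcases mul_eq_zero.mp h6 with h7 | h7
    · exact absurd (hα j i (sub_eq_zero.mp h7)).symm hij
    · exact h7
  have e10 := congrFun (congrFun h2 1) 0
  have e21 := congrFun (congrFun h2 2) 1
  simp only [Matrix.mul_apply, Fin.sum_univ_three, Bm] at e10 e21
  simp at e10 e21
  refine ⟨Y 0 0, ?_⟩
  ext i j
  by_cases hij : i = j
  · subst hij
    rw [Matrix.smul_apply, Matrix.one_apply_eq, smul_eq_mul, mul_one]
    fin_cases i
    · rfl
    · exact e10
    · exact e21.trans e10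
  · rw [hz i j hij, Matrix.smul_apply, Matrix.one_apply_ne hij, smul_zero]

theorem exists_pow (ζ : F) (hζ : ζ ^ 2 + ζ + 1 = 0) (x y : F) (hx : x ≠ 0) (h : y ^ 3 = x ^ 3) :
    ∃ i : ℕ, ζ ^ i * x = y := by
  have h1 : (y / x) ^ 3 = 1 := by
    rw [div_pow, h, div_self (pow_ne_zero _ hx)]
  rcases root3 ζ hζ (y / x) h1 with h2 | h2 | h2
  · exact ⟨0, by rw [pow_zero, one_mul]; field_simp at h2; exact h2.symm⟩
  · exact ⟨1, by rw [pow_one, ← h2]; field_simp⟩
  · exact ⟨2, by rw [← h2]; field_simp⟩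

theorem scalar_mem (ζ : F) (hζ : ζ ^ 2 + ζ + 1 = 0) (A B : GL (Fin 3) F)
    (hA : (A : Matrix (Fin 3) (Fin 3) F) = Am ζ) (hB : (B : Matrix (Fin 3) (Fin 3) F) = Bm) :
    ∃ S : GL (Fin 3) F, (S : Matrix (Fin 3) (Fin 3) F) = Matrix.diagonal (fun _ => ζ) ∧
      S = A * B * A⁻¹ * B⁻¹ := by
  have hζ3 := zeta_cube ζ hζ
  obtain ⟨S, hS⟩ := exists_gl (Matrix.diagonal (fun _ : Fin 3 => ζ)) (by
    rw [Matrix.det_diagonal, Fin.prod_univ_three]
    intro h
    have : ζ ^ 3 = 0 := by linear_combination h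
    rw [hζ3] at this
    exact one_ne_zero this)
  refine ⟨S, hS, ?_⟩
  rw [eq_mul_inv_iff_mul_eq, eq_mul_inv_iff_mul_eq]
  apply Units.ext
  rw [Units.val_mul, Units.val_mul, Units.val_mul, hS, hA, hB]
  unfold Am Bm
  ext i j
  fin_cases i <;> fin_cases j <;>
    simp [Matrix.mul_apply, Fin.sum_univ_three, Matrix.diagonal_apply] <;>
    first
    | done
    | ring1
    | linear_combination hζ3
    | linear_combination (-1 : F) * hζ3

theorem diag_norm (ζ : F) (hζ : ζ ^ 2 + ζ + 1 = 0) (A B : GL (Fin 3) F)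
    (hA : (A : Matrix (Fin 3) (Fin 3) F) = Am ζ) (hB : (B : Matrix (Fin 3) (Fin 3) F) = Bm)
    (δ : Fin 3 → F) (t : F) (ht : t ≠ 0) (hδ : ∀ i, δ i ^ 3 = t) (Δ : GL (Fin 3) F)
    (hΔ : (Δ : Matrix (Fin 3) (Fin 3) F) = Matrix.diagonal δ) :
    Δ ∈ Subgroup.normalizer
      (Subgroup.closure ({A, B} : Set (GL (Fin 3) F)) : Set (GL (Fin 3) F)) := by
  have hζ3 := zeta_cube ζ hζ
  have hδ0 : ∀ i, δ i ≠ 0 := by
    intro i h
    have := hδ i
    rw [h] at this
    simp at this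
    exact ht this.symm
  obtain ⟨i, hi⟩ := exists_pow ζ hζ (δ 0) (δ 1) (hδ0 0) (by rw [hδ, hδ])
  obtain ⟨n, hn⟩ := exists_pow ζ hζ (δ 1) (δ 2) (hδ0 1) (by rw [hδ, hδ])
  obtain ⟨S, hS, hSeq⟩ := scalar_mem ζ hζ A B hA hB
  have hAcl : A ∈ Subgroup.closure ({A, B} : Set (GL (Fin 3) F)) :=
    Subgroup.subset_closure (by simp)
  have hBcl : B ∈ Subgroup.closure ({A, B} : Set (GL (Fin 3) F)) :=
    Subgroup.subset_closure (by simp)
  have hScl : S ∈ Subgroup.closure ({A, B} : Set (GL (Fin 3) F)) := by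
    rw [hSeq]
    exact Subgroup.mul_mem _ (Subgroup.mul_mem _ (Subgroup.mul_mem _ hAcl hBcl)
      (Subgroup.inv_mem _ hAcl)) (Subgroup.inv_mem _ hBcl)
  have hEcl : S ^ i * A ^ (n + 2 * i) ∈ Subgroup.closure ({A, B} : Set (GL (Fin 3) F)) :=
    Subgroup.mul_mem _ (Subgroup.pow_mem _ hScl _) (Subgroup.pow_mem _ hAcl _)
  have hE : ((S ^ i * A ^ (n + 2 * i) : GL (Fin 3) F) : Matrix (Fin 3) (Fin 3) F) =
      Matrix.diagonal (fun j => ζ ^ i * (![1, ζ, ζ ^ 2] : Fin 3 → F) j ^ (n + 2 * i)) := by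
    rw [Units.val_mul, Units.val_pow_eq_pow_val, Units.val_pow_eq_pow_val, hS, hA]
    unfold Am
    rw [Matrix.diagonal_pow, Matrix.diagonal_pow, Matrix.diagonal_mul_diagonal]
    rfl
  have p1 : ζ ^ i * ζ ^ (n + 2 * i) = ζ ^ n := by
    have : ζ ^ i * ζ ^ (n + 2 * i) = (ζ ^ 3) ^ i * ζ ^ n := by ring
    rw [this, hζ3, one_pow, one_mul]
  have p2 : ζ ^ i * (ζ ^ 2) ^ (n + 2 * i) * (ζ ^ n * ζ ^ i) = 1 := by
    have : ζ ^ i * (ζ ^ 2) ^ (n + 2 * i) * (ζ ^ n * ζ ^ i) = (ζ ^ 3) ^ (2 * i + n) := by ring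
    rw [this, hζ3, one_pow]
  have hΔB : Δ * B = B * (S ^ i * A ^ (n + 2 * i)) * Δ := by
    apply Units.ext
    rw [Units.val_mul, Units.val_mul, Units.val_mul, hE, hΔ, hB]
    unfold Bm
    ext a b
    rw [Matrix.diagonal_mul, Matrix.mul_diagonal, Matrix.mul_diagonal]
    fin_cases a <;> fin_cases b <;> simp
    all_goals
      first
      | linear_combination (-1 : F) * hi
      | linear_combination (-1 : F) * hn - δ 1 * p1
      | linear_combination (-δ 0) * p2 + (ζ ^ i * (ζ ^ 2) ^ (n + 2 * i)) * hn +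
          (ζ ^ i * (ζ ^ 2) ^ (n + 2 * i) * ζ ^ n) * hi
  have hΔA : Δ * A = A * Δ := by
    apply Units.ext
    rw [Units.val_mul, Units.val_mul, hΔ, hA]
    unfold Am
    rw [Matrix.diagonal_mul_diagonal, Matrix.diagonal_mul_diagonal]
    congr 1
    funext k
    exact mul_comm _ _
  have hEΔ : (S ^ i * A ^ (n + 2 * i)) * Δ = Δ * (S ^ i * A ^ (n + 2 * i)) := by
    apply Units.ext
    rw [Units.val_mul (S ^ i * A ^ (n + 2 * i)) Δ, Units.val_mul Δ (S ^ i * A ^ (n + 2 * i)),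
      hE, hΔ, Matrix.diagonal_mul_diagonal, Matrix.diagonal_mul_diagonal]
    congr 1
    funext k
    exact mul_comm _ _
  apply mem_norm
  · rw [hΔA, mul_inv_cancel_right]
    exact hAcl
  · rw [hΔB, mul_inv_cancel_right]
    exact Subgroup.mul_mem _ hBcl hEcl
  · rw [mul_assoc, ← hΔA, inv_mul_cancel_left]
    exact hAcl
  · have h4 : Δ⁻¹ * B * Δ = B * (S ^ i * A ^ (n + 2 * i))⁻¹ := by
      rw [mul_assoc, inv_mul_eq_iff_eq_mul, ← mul_assoc, eq_mul_inv_iff_mul_eq, hΔB,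
        mul_assoc B _ Δ, hEΔ, mul_assoc]
    rw [h4]
    exact Subgroup.mul_mem _ hBcl (Subgroup.inv_mem _ hEcl)

theorem w_norm (ζ : F) (hζ : ζ ^ 2 + ζ + 1 = 0) (A B : GL (Fin 3) F)
    (hA : (A : Matrix (Fin 3) (Fin 3) F) = Am ζ) (hB : (B : Matrix (Fin 3) (Fin 3) F) = Bm)
    (W : GL (Fin 3) F) (hW : (W : Matrix (Fin 3) (Fin 3) F) = Wm) :
    W ∈ Subgroup.normalizer
      (Subgroup.closure ({A, B} : Set (GL (Fin 3) F)) : Set (GL (Fin 3) F)) := by
  have hζ3 := zeta_cube ζ hζ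
  have hAcl : A ∈ Subgroup.closure ({A, B} : Set (GL (Fin 3) F)) :=
    Subgroup.subset_closure (by simp)
  have hBcl : B ∈ Subgroup.closure ({A, B} : Set (GL (Fin 3) F)) :=
    Subgroup.subset_closure (by simp)
  have hWW : W * W = 1 := by
    apply Units.ext
    rw [Units.val_mul, hW]
    unfold Wm
    ext i j
    fin_cases i <;> fin_cases j <;> simp [Matrix.mul_apply, Fin.sum_univ_three]
  have hWi : W⁻¹ = W := inv_eq_of_mul_eq_one_right hWW
  have hWA : W * A = A * A * W := by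
    apply Units.ext
    rw [Units.val_mul, Units.val_mul, Units.val_mul, hW, hA]
    unfold Wm Am
    ext i j
    fin_cases i <;> fin_cases j <;>
      simp [Matrix.mul_apply, Fin.sum_univ_three, Matrix.diagonal_apply] <;>
      first
      | done
      | ring1
      | linear_combination hζ3
      | linear_combination (-1 : F) * hζ3
      | linear_combination ζ * hζ3
      | linear_combination (-ζ) * hζ3
  have hWB : W * B = B * B * W := by
    apply Units.ext
    rw [Units.val_mul, Units.val_mul, Units.val_mul, hW, hB]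
    unfold Wm Bm
    ext i j
    fin_cases i <;> fin_cases j <;> simp [Matrix.mul_apply, Fin.sum_univ_three]
  have k1 : W * A * W⁻¹ = A * A := by rw [hWA, mul_inv_cancel_right]
  have k2 : W * B * W⁻¹ = B * B := by rw [hWB, mul_inv_cancel_right]
  apply mem_norm
  · rw [k1]; exact Subgroup.mul_mem _ hAcl hAcl
  · rw [k2]; exact Subgroup.mul_mem _ hBcl hBcl
  · rw [hWi]
    nth_rewrite 2 [← hWi]
    rw [k1]; exact Subgroup.mul_mem _ hAcl hAcl
  · rw [hWi]
    nth_rewrite 2 [← hWi]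
    rw [k2]; exact Subgroup.mul_mem _ hBcl hBcl

theorem w_diag (h2 : (2 : F) ≠ 0) (ε : Fin 3 → F) (hε : ∀ i, ε i = 1 ∨ ε i = -1)
    (hprod : ε 0 * ε 1 * ε 2 = 1) (hne : ¬ (ε 0 = ε 1 ∧ ε 0 = ε 2)) :
    ∃ h : Matrix (Fin 3) (Fin 3) F, h.det ≠ 0 ∧ h * Wm = Matrix.diagonal ε * h := by
  have hm2 : (-2 : F) ≠ 0 := by
    intro h; apply h2; linear_combination (-1 : F) * h
  rcases hε 0 with e0 | e0 <;> rcases hε 1 with e1 | e1 <;> rcases hε 2 with e2 | e2
  · exact absurd ⟨e0.trans e1.symm, e0.trans e2.symm⟩ hne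
  · exfalso; rw [e0, e1, e2] at hprod; apply h2; linear_combination (-1 : F) * hprod
  · exfalso; rw [e0, e1, e2] at hprod; apply h2; linear_combination (-1 : F) * hprod
  · have hεeq : ε = ![1, -1, -1] := by
      funext k
      fin_cases k
      · exact e0
      · exact e1
      · exact e2
    refine ⟨!![0, 1, -1; 1, 0, 0; 0, 1, 1], ?_, ?_⟩
    · rw [Matrix.det_fin_three]
      simp
      intro h
      apply h2
      first | linear_combination h | linear_combination (-1 : F) * h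
    · rw [hεeq]
      unfold Wm
      ext i j
      fin_cases i <;> fin_cases j <;>
        simp [Matrix.mul_apply, Fin.sum_univ_three, Matrix.diagonal_apply]
  · exfalso; rw [e0, e1, e2] at hprod; apply h2; linear_combination (-1 : F) * hprod
  · have hεeq : ε = ![-1, 1, -1] := by
      funext k
      fin_cases k
      · exact e0
      · exact e1
      · exact e2
    refine ⟨!![1, 0, 0; 0, 1, -1; 0, 1, 1], ?_, ?_⟩
    · rw [Matrix.det_fin_three]
      simp
      intro h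
      apply h2
      first | linear_combination h | linear_combination (-1 : F) * h
    · rw [hεeq]
      unfold Wm
      ext i j
      fin_cases i <;> fin_cases j <;>
        simp [Matrix.mul_apply, Fin.sum_univ_three, Matrix.diagonal_apply]
  · have hεeq : ε = ![-1, -1, 1] := by
      funext k
      fin_cases k
      · exact e0
      · exact e1
      · exact e2
    refine ⟨!![1, 0, 0; 0, 1, 1; 0, 1, -1], ?_, ?_⟩
    · rw [Matrix.det_fin_three]
      simp
      intro h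
      apply h2
      first | linear_combination h | linear_combination (-1 : F) * h
    · rw [hεeq]
      unfold Wm
      ext i j
      fin_cases i <;> fin_cases j <;>
        simp [Matrix.mul_apply, Fin.sum_univ_three, Matrix.diagonal_apply]
  · exfalso; rw [e0, e1, e2] at hprod; apply h2; linear_combination (-1 : F) * hprod

end std

section conj
variable {F : Type*} [Field F]

theorem scalar_of_diag_const (x g : Matrix (Fin 3) (Fin 3) F) (hg : g.det ≠ 0) (δ : Fin 3 → F)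
    (hgx : g * x = Matrix.diagonal δ * g) (h1 : δ 0 = δ 1) (h2 : δ 0 = δ 2) : x = δ 0 • 1 := by
  have hu : IsUnit g.det := isUnit_iff_ne_zero.mpr hg
  have hd : Matrix.diagonal δ = δ 0 • (1 : Matrix (Fin 3) (Fin 3) F) := by
    ext i j
    fin_cases i <;> fin_cases j <;> simp [← h1, ← h2]
  have h3 : g * x = g * (δ 0 • 1) := by
    rw [hgx, hd]
    simp
  have h4 := congrArg (fun M => g⁻¹ * M) h3
  simp only [← Matrix.mul_assoc, Matrix.nonsing_inv_mul g hu, Matrix.one_mul] at h4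
  exact h4

theorem det_conj (c A : GL (Fin 3) F) :
    ((c * A * c⁻¹ : GL (Fin 3) F) : Matrix (Fin 3) (Fin 3) F).det =
      (A : Matrix (Fin 3) (Fin 3) F).det := by
  rw [Units.val_mul, Units.val_mul, Matrix.det_mul, Matrix.det_mul, mul_right_comm,
    ← Matrix.det_mul, ← Units.val_mul, mul_inv_cancel, Units.val_one, Matrix.det_one, one_mul]

theorem sl_conj (x T : GL (Fin 3) F) (δ : Fin 3 → F) (g : Matrix (Fin 3) (Fin 3) F)
    (hg : g.det ≠ 0) (hgx : g * (x : Matrix (Fin 3) (Fin 3) F) = Matrix.diagonal δ * g)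
    (h : GL (Fin 3) F)
    (hT : ((h * T * h⁻¹ : GL (Fin 3) F) : Matrix (Fin 3) (Fin 3) F) = Matrix.diagonal δ) :
    ∃ k ∈ Cfsg.Geo.specialLinear (Fin 3) F, k⁻¹ * x * k = T := by
  obtain ⟨G, hG⟩ := exists_gl g hg
  have hxd : ((G * x * G⁻¹ : GL (Fin 3) F) : Matrix (Fin 3) (Fin 3) F) = Matrix.diagonal δ := by
    rw [Units.val_mul, Units.val_mul, hG, hgx, ← hG, Matrix.mul_assoc, ← Units.val_mul,
      mul_inv_cancel, Units.val_one, Matrix.mul_one]
  have heq : G * x * G⁻¹ = h * T * h⁻¹ := Units.ext (hxd.trans hT.symm)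
  have hGd := det_ne G
  have hhd := det_ne h
  obtain ⟨E, hE⟩ := exists_gl (Matrix.diagonal
    ![(G : Matrix (Fin 3) (Fin 3) F).det / (h : Matrix (Fin 3) (Fin 3) F).det, 1, 1]) (by
    rw [Matrix.det_diagonal, Fin.prod_univ_three]
    show (G : Matrix (Fin 3) (Fin 3) F).det / (h : Matrix (Fin 3) (Fin 3) F).det * 1 * 1 ≠ 0
    rw [mul_one, mul_one]
    exact div_ne_zero hGd hhd)
  have hEc : E * (G * x * G⁻¹) = (G * x * G⁻¹) * E := by
    apply Units.ext
    rw [Units.val_mul E (G * x * G⁻¹), Units.val_mul (G * x * G⁻¹) E, hxd, hE,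
      Matrix.diagonal_mul_diagonal, Matrix.diagonal_mul_diagonal]
    congr 1
    funext i
    exact mul_comm _ _
  refine ⟨G⁻¹ * E * h, ?_, ?_⟩
  · rw [mem_sl, Units.val_mul, Units.val_mul, Matrix.det_mul, Matrix.det_mul, hE,
      Matrix.det_diagonal, Fin.prod_univ_three]
    have hGi : ((G⁻¹ : GL (Fin 3) F) : Matrix (Fin 3) (Fin 3) F).det *
        (G : Matrix (Fin 3) (Fin 3) F).det = 1 := by
      rw [← Matrix.det_mul, ← Units.val_mul, inv_mul_cancel, Units.val_one, Matrix.det_one]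
    show ((G⁻¹ : GL (Fin 3) F) : Matrix (Fin 3) (Fin 3) F).det *
      ((G : Matrix (Fin 3) (Fin 3) F).det / (h : Matrix (Fin 3) (Fin 3) F).det * 1 * 1) *
      (h : Matrix (Fin 3) (Fin 3) F).det = 1
    rw [mul_one, mul_one, mul_assoc, div_mul_cancel₀ _ hhd, hGi]
  · have e1 : (G⁻¹ * E * h)⁻¹ * x * (G⁻¹ * E * h) = h⁻¹ * (E⁻¹ * (G * x * G⁻¹) * E) * h := by
      group
    have e2 : E⁻¹ * (G * x * G⁻¹) * E = G * x * G⁻¹ := by
      rw [mul_assoc, ← hEc, inv_mul_cancel_left]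
    rw [e1, e2, heq]
    group

end conj

section main
variable {F : Type*} [Field F] [Fintype F]

theorem seven_le (p : ℕ) (hpp : p.Prime) (hp3 : p % 3 = 1) : 7 ≤ p := by
  by_contra h
  push Not at h
  interval_cases p <;> first | omega | (norm_num at hpp)

/-- cube roots of cube roots of unity when `9 ∣ q - 1` -/
theorem cube_root (h9 : 9 ∣ Fintype.card F - 1) (z : F) (hz : z ^ 3 = 1) :
    ∃ l : F, l ^ 3 = z := by
  have hz0 : z ≠ 0 := by
    intro h
    rw [h] at hz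
    simp at hz
  obtain ⟨γ, hγ⟩ := IsCyclic.exists_generator (α := Fˣ)
  have hord : orderOf γ = Fintype.card F - 1 := by
    rw [orderOf_eq_card_of_forall_mem_zpowers hγ, Nat.card_units, Nat.card_eq_fintype_card]
  obtain ⟨m, hm⟩ := (Submonoid.mem_powers_iff _ _).mp
    (mem_powers_iff_mem_zpowers.mpr (hγ (Units.mk0 z hz0)))
  have h1 : γ ^ (3 * m) = 1 := by
    rw [mul_comm, pow_mul, hm]
    apply Units.ext
    rw [Units.val_pow_eq_pow_val, Units.val_mk0, hz]
    rfl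
  have h2 : Fintype.card F - 1 ∣ 3 * m := by
    rw [← hord]
    exact orderOf_dvd_of_pow_eq_one h1
  have h3 : 3 ∣ m := by
    obtain ⟨k, hk⟩ := h9
    rw [hk] at h2
    have h4 : 3 * (3 * k) ∣ 3 * m := by
      have : 3 * (3 * k) = 9 * k := by ring
      rw [this]
      exact h2
    exact (Dvd.intro _ rfl : 3 ∣ 3 * k).trans (Nat.dvd_of_mul_dvd_mul_left (by norm_num) h4)
  obtain ⟨s, rfl⟩ := h3
  refine ⟨((γ ^ s : Fˣ) : F), ?_⟩
  have h5 := congrArg Units.val hm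
  rw [mul_comm 3 s, pow_mul, Units.val_pow_eq_pow_val, Units.val_mk0] at h5
  exact h5

theorem no243 (p : ℕ) (h : p % 9 = 4 ∨ p % 9 = 7)
    (hd : 243 ∣ (p ^ 3 - 1) * (p ^ 3 - p) * (p ^ 3 - p ^ 2)) : False := by
  have hdec : ∀ x : ZMod 243, (x.val % 9 = 4 ∨ x.val % 9 = 7) →
      (x ^ 3 - 1) * (x ^ 3 - x) * (x ^ 3 - x ^ 2) ≠ 0 := by decide +kernel
  have hp1 : 1 ≤ p := by omega
  have h1 : 1 ≤ p ^ 3 := Nat.one_le_pow _ _ hp1
  have h2 : p ≤ p ^ 3 := Nat.le_self_pow (by norm_num) p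
  have h3 : p ^ 2 ≤ p ^ 3 := Nat.pow_le_pow_right hp1 (by norm_num)
  have hcast : (((p ^ 3 - 1) * (p ^ 3 - p) * (p ^ 3 - p ^ 2) : ℕ) : ZMod 243) = 0 :=
    (ZMod.natCast_eq_zero_iff _ _).mpr hd
  rw [Nat.cast_mul, Nat.cast_mul, Nat.cast_sub h1, Nat.cast_sub h2, Nat.cast_sub h3] at hcast
  push_cast at hcast
  refine hdec (p : ZMod 243) ?_ hcast
  rw [ZMod.val_natCast]
  omega

theorem key {p : ℕ} [Fact p.Prime] [CharP F p] (hF : Fintype.card F = p) (hp3 : p % 3 = 1)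
    (R : Subgroup (GL (Fin 3) F)) (hR : Nat.card R = 27) (hRe : Monoid.exponent R = 3)
    (hRna : ¬ IsMulCommutative R) (r : ℕ) [Fact r.Prime]
    (hΩ : r ∣ (Cfsg.Geo.subgroupNormalizer R).relIndex (Cfsg.Geo.specialLinear (Fin 3) F)) :
    (∀ x ∈ Cfsg.Geo.specialLinear (Fin 3) F,
      (∃ z : F, ((x ^ r : GL (Fin 3) F) : Matrix (Fin 3) (Fin 3) F) =
        z • (1 : Matrix (Fin 3) (Fin 3) F)) →
      (∀ z : F, (x : Matrix (Fin 3) (Fin 3) F) ≠ z • (1 : Matrix (Fin 3) (Fin 3) F)) →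
      ∃ g ∈ Cfsg.Geo.specialLinear (Fin 3) F, g⁻¹ * x * g ∈ Cfsg.Geo.subgroupNormalizer R) ↔
      (r = 2 ∨ (r = 3 ∧ p % 9 = 1)) := by
  classical
  have hpp : p.Prime := Fact.out
  have hrp : r.Prime := Fact.out
  have hp7 := seven_le p hpp hp3
  have hn : ∀ n : ℕ, 0 < n → n < 7 → ((n : ℕ) : F) ≠ 0 := by
    intro n h0 h5 h
    rw [CharP.cast_eq_zero_iff F p] at h
    have := Nat.le_of_dvd h0 h
    omega
  have h2 : (2 : F) ≠ 0 := by
    have := hn 2 (by norm_num) (by norm_num); exact_mod_cast this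
  have h3 : (3 : F) ≠ 0 := by
    have := hn 3 (by norm_num) (by norm_num); exact_mod_cast this
  obtain ⟨ω, hω⟩ := exists_omega (F := F) (by rw [hF]; exact hp3)
  obtain ⟨a, b, ha, hb, hab⟩ : ∃ a b : GL (Fin 3) F, a ∈ R ∧ b ∈ R ∧ a * b ≠ b * a := by
    by_contra hcon
    push Not at hcon
    exact hRna ⟨⟨fun x y => Subtype.ext (hcon x.1 y.1 x.2 y.2)⟩⟩
  have hcube : ∀ g : R, g ^ 3 = 1 := by
    intro g
    have h := Monoid.pow_exponent_eq_one g
    rw [hRe] at h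
    exact h
  have hcube' : ∀ g ∈ R, g ^ 3 = 1 := by
    intro g hg
    have h := congrArg Subtype.val (hcube ⟨g, hg⟩)
    simpa using h
  obtain ⟨hza', hzb'⟩ := comm_of_exp3 hcube ⟨a, ha⟩ ⟨b, hb⟩
  have hza : (a * b * a⁻¹ * b⁻¹) * a = a * (a * b * a⁻¹ * b⁻¹) := by
    have h := congrArg Subtype.val hza'
    simpa using h
  have hzb : (a * b * a⁻¹ * b⁻¹) * b = b * (a * b * a⁻¹ * b⁻¹) := by
    have h := congrArg Subtype.val hzb'
    simpa using h
  have hzR : a * b * a⁻¹ * b⁻¹ ∈ R :=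
    R.mul_mem (R.mul_mem (R.mul_mem ha hb) (R.inv_mem ha)) (R.inv_mem hb)
  have hz1 : a * b * a⁻¹ * b⁻¹ ≠ 1 := by
    intro h
    apply hab
    rw [mul_inv_eq_one, mul_inv_eq_iff_eq_mul] at h
    exact h
  have hzdet : ((a * b * a⁻¹ * b⁻¹ : GL (Fin 3) F) : Matrix (Fin 3) (Fin 3) F).det = 1 := by
    have e : a * b * a⁻¹ * b⁻¹ = (a * b * a⁻¹) * b⁻¹ := rfl
    rw [e, Units.val_mul, Matrix.det_mul, det_conj]
    rw [← Matrix.det_mul, ← Units.val_mul, mul_inv_cancel, Units.val_one, Matrix.det_one]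
  obtain ⟨ζ, hζ, hzval⟩ := exists_zeta ω hω h3 (a * b * a⁻¹ * b⁻¹) a b (hcube' _ hzR) hz1 hzdet
    hza hzb hab
  have hζ3 := zeta_cube ζ hζ
  have habm : (a : Matrix (Fin 3) (Fin 3) F) * (b : Matrix (Fin 3) (Fin 3) F) =
      ζ • ((b : Matrix (Fin 3) (Fin 3) F) * (a : Matrix (Fin 3) (Fin 3) F)) := by
    have e : a * b = (a * b * a⁻¹ * b⁻¹) * (b * a) := by group
    have h' := congrArg (fun u : GL (Fin 3) F => (u : Matrix (Fin 3) (Fin 3) F)) e
    simp only [Units.val_mul (a * b * a⁻¹ * b⁻¹) (b * a), hzval] at h'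
    rw [Units.val_mul a b, Units.val_mul b a] at h'
    rw [h', Matrix.smul_mul, Matrix.one_mul]
  obtain ⟨c, hcA, hcB⟩ := exists_std ζ hζ h3 a b (hcube' a ha) (hcube' b hb) habm
  obtain ⟨A, hAdef⟩ : ∃ A : GL (Fin 3) F, A = c⁻¹ * a * c := ⟨_, rfl⟩
  obtain ⟨B, hBdef⟩ : ∃ B : GL (Fin 3) F, B = c⁻¹ * b * c := ⟨_, rfl⟩
  rw [← hAdef] at hcA
  rw [← hBdef] at hcB
  have haA : a = c * A * c⁻¹ := by rw [hAdef]; group
  have hbB : b = c * B * c⁻¹ := by rw [hBdef]; group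
  have hRcl := closure_eq R hR a b ha hb hab
  have hRmap : R = (Subgroup.closure ({A, B} : Set (GL (Fin 3) F))).map
      (MulAut.conj c).toMonoidHom := by
    rw [MonoidHom.map_closure, ← hRcl]
    congr 1
    rw [Set.image_pair]
    simp only [MulEquiv.coe_toMonoidHom, MulAut.conj_apply]
    rw [← haA, ← hbB]
  have hNmap : ∀ T₀ ∈ Subgroup.normalizer
      (Subgroup.closure ({A, B} : Set (GL (Fin 3) F)) : Set (GL (Fin 3) F)),
      c * T₀ * c⁻¹ ∈ Subgroup.normalizer (R : Set (GL (Fin 3) F)) := by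
    intro T₀ hT₀
    have h := norm_map _ c T₀ hT₀
    rw [← hRmap] at h
    exact h
  unfold Cfsg.Geo.subgroupNormalizer at hΩ ⊢
  haveI : Finite ↥R := Nat.finite_of_card_ne_zero (by rw [hR]; norm_num)
  constructor
  · intro H
    by_cases hr2 : r = 2
    · left; exact hr2
    right
    by_cases hr3 : r = 3
    · refine ⟨hr3, ?_⟩
      by_contra h9
      rw [hr3] at hΩ
      have hRsl : R ≤ Cfsg.Geo.specialLinear (Fin 3) F := by
        rw [← hRcl, Subgroup.closure_le]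
        intro y hy
        rcases hy with rfl | rfl
        · rw [SetLike.mem_coe, mem_sl, haA, det_conj, hcA]
          exact det_Am ζ hζ
        · rw [SetLike.mem_coe, mem_sl, hbB, det_conj, hcB]
          exact det_Bm
      have hle : R.subgroupOf (Cfsg.Geo.specialLinear (Fin 3) F) ≤
          (Subgroup.normalizer (R : Set (GL (Fin 3) F))).subgroupOf
            (Cfsg.Geo.specialLinear (Fin 3) F) := by
        intro y hy
        rw [Subgroup.mem_subgroupOf] at hy ⊢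
        exact Subgroup.le_normalizer hy
      have hc1 : Nat.card (R.subgroupOf (Cfsg.Geo.specialLinear (Fin 3) F)) = 27 := by
        rw [Nat.card_congr (Subgroup.subgroupOfEquivOfLe hRsl).toEquiv, hR]
      have h27 : 27 ∣ Nat.card ((Subgroup.normalizer (R : Set (GL (Fin 3) F))).subgroupOf
          (Cfsg.Geo.specialLinear (Fin 3) F)) := by
        rw [← hc1]
        exact Subgroup.card_dvd_of_le hle
      have hidx := Subgroup.card_mul_index ((Subgroup.normalizer (R : Set (GL (Fin 3) F))).subgroupOf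
          (Cfsg.Geo.specialLinear (Fin 3) F))
      have h81 : 27 * 3 ∣ Nat.card (Cfsg.Geo.specialLinear (Fin 3) F) := by
        rw [← hidx]
        exact Nat.mul_dvd_mul h27 hΩ
      have hcardSL : Nat.card (Cfsg.Geo.specialLinear (Fin 3) F) =
          Nat.card (Matrix.SpecialLinearGroup (Fin 3) F) := Cfsg.Agent.S0242.card_ker_det 3
      have hprod := Cfsg.Agent.S0242.result (F := F) hF 3 (by norm_num)
      rw [Fin.prod_univ_three] at hprod
      simp only [Fin.val_zero, Fin.val_one, Fin.val_two, pow_zero, pow_one] at hprod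
      have h3p : 3 ∣ p - 1 := Nat.dvd_of_mod_eq_zero (by omega)
      have h243 : 243 ∣ (p ^ 3 - 1) * (p ^ 3 - p) * (p ^ 3 - p ^ 2) := by
        rw [← hprod, ← hcardSL]
        exact Nat.mul_dvd_mul h3p h81
      exact no243 p (by omega) h243
    · exfalso
      have hdvd : r ∣ Nat.card ↥(Cfsg.Geo.specialLinear (Fin 3) F) :=
        hΩ.trans (Subgroup.relIndex_dvd_card _ _)
      obtain ⟨x, hx⟩ := exists_prime_orderOf_dvd_card' r hdvd
      have hxr : (x : GL (Fin 3) F) ^ r = 1 := by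
        have h1 := pow_orderOf_eq_one x
        rw [hx] at h1
        have h2' := congrArg Subtype.val h1
        simpa using h2'
      have hns : ∀ z : F, ((x : GL (Fin 3) F) : Matrix (Fin 3) (Fin 3) F) ≠
          z • (1 : Matrix (Fin 3) (Fin 3) F) := by
        intro z hz
        have hd := (mem_sl _).mp x.2
        rw [hz] at hd
        have hzz : z ^ 3 = 1 := by
          simpa [Matrix.det_smul] using hd
        have hx3 : x ^ 3 = 1 := by
          apply Subtype.ext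
          apply Units.ext
          rw [Subgroup.coe_pow, Units.val_pow_eq_pow_val, hz, smul_pow, one_pow, hzz, one_smul]
          rfl
        have h5 := orderOf_dvd_of_pow_eq_one hx3
        rw [hx] at h5
        exact hr3 ((Nat.prime_dvd_prime_iff_eq hrp Nat.prime_three).mp h5)
      obtain ⟨g, hg, hy⟩ := H x x.2 ⟨1, by rw [hxr]; simp⟩ hns
      have hyr : (g⁻¹ * (x : GL (Fin 3) F) * g) ^ r = 1 := by
        have e : (g⁻¹ * (x : GL (Fin 3) F) * g) ^ r = g⁻¹ * (x : GL (Fin 3) F) ^ r * g := by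
          have := conj_pow (a := g⁻¹) (b := (x : GL (Fin 3) F)) (i := r)
          rw [inv_inv] at this
          exact this
        rw [e, hxr]
        group
      have hzc : (g⁻¹ * (x : GL (Fin 3) F) * g) * (a * b * a⁻¹ * b⁻¹) =
          (a * b * a⁻¹ * b⁻¹) * (g⁻¹ * (x : GL (Fin 3) F) * g) := by
        apply Units.ext
        rw [Units.val_mul (g⁻¹ * (x : GL (Fin 3) F) * g) (a * b * a⁻¹ * b⁻¹),
          Units.val_mul (a * b * a⁻¹ * b⁻¹) (g⁻¹ * (x : GL (Fin 3) F) * g), hzval]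
        simp
      have hcent := centralizes R hR _ hzR hz1 _ hzc hy r hr2 hr3 hyr
      obtain ⟨Y, hY⟩ : ∃ Y : GL (Fin 3) F, Y = c⁻¹ * (g⁻¹ * (x : GL (Fin 3) F) * g) * c :=
        ⟨_, rfl⟩
      have hYA : Y * A = A * Y := by
        have h := hcent a ha
        rw [hY, hAdef]
        calc c⁻¹ * (g⁻¹ * (x : GL (Fin 3) F) * g) * c * (c⁻¹ * a * c)
            = c⁻¹ * ((g⁻¹ * (x : GL (Fin 3) F) * g) * a) * c := by group
          _ = c⁻¹ * (a * (g⁻¹ * (x : GL (Fin 3) F) * g)) * c := by rw [h]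
          _ = c⁻¹ * a * c * (c⁻¹ * (g⁻¹ * (x : GL (Fin 3) F) * g) * c) := by group
      have hYB : Y * B = B * Y := by
        have h := hcent b hb
        rw [hY, hBdef]
        calc c⁻¹ * (g⁻¹ * (x : GL (Fin 3) F) * g) * c * (c⁻¹ * b * c)
            = c⁻¹ * ((g⁻¹ * (x : GL (Fin 3) F) * g) * b) * c := by group
          _ = c⁻¹ * (b * (g⁻¹ * (x : GL (Fin 3) F) * g)) * c := by rw [h]
          _ = c⁻¹ * b * c * (c⁻¹ * (g⁻¹ * (x : GL (Fin 3) F) * g) * c) := by group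
      have hYA' := congrArg (fun u : GL (Fin 3) F => (u : Matrix (Fin 3) (Fin 3) F)) hYA
      have hYB' := congrArg (fun u : GL (Fin 3) F => (u : Matrix (Fin 3) (Fin 3) F)) hYB
      simp only [Units.val_mul, hcA] at hYA'
      simp only [Units.val_mul, hcB] at hYB'
      obtain ⟨cc, hcc⟩ := scalar_of_comm ζ hζ h3 _ hYA' hYB'
      apply hns cc
      have hxg : (x : GL (Fin 3) F) = (g * c) * Y * (g * c)⁻¹ := by
        rw [hY]
        group
      rw [hxg, Units.val_mul, Units.val_mul, hcc, Matrix.mul_smul, Matrix.mul_one,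
        Matrix.smul_mul, ← Units.val_mul, mul_inv_cancel, Units.val_one]
  · intro hr x hx hz hns
    rw [mem_sl] at hx
    obtain ⟨z, hz⟩ := hz
    rcases hr with rfl | ⟨rfl, hp9⟩
    · -- involutions
      have hx2 : (x : Matrix (Fin 3) (Fin 3) F) * (x : Matrix (Fin 3) (Fin 3) F) = z • 1 := by
        rw [← hz, Units.val_pow_eq_pow_val, pow_two]
      have hz3 : z ^ 3 = 1 := by
        have h := congrArg Matrix.det hx2
        rw [Matrix.det_mul, hx, Matrix.det_smul, Matrix.det_one] at h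
        simpa using h.symm
      have hz0 : z ≠ 0 := by
        intro h
        rw [h] at hz3
        simp at hz3
      have hμμ : z ^ 2 * z ^ 2 = z := by linear_combination z * hz3
      have hμ0 : z ^ 2 ≠ 0 := pow_ne_zero _ hz0
      have hμ3 : (z ^ 2) ^ 3 = 1 := by linear_combination (z ^ 3 + 1) * hz3
      obtain ⟨δ, g, hδ, hg, hgx⟩ := spec2 (x : Matrix (Fin 3) (Fin 3) F) (z ^ 2)
        (by rw [hμμ]; exact hx2) hμ0 h2
      have hprod : δ 0 * δ 1 * δ 2 = 1 := by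
        have h := congrArg Matrix.det hgx
        rw [Matrix.det_mul, Matrix.det_mul, Matrix.det_diagonal, Fin.prod_univ_three, hx,
          mul_one] at h
        exact (mul_right_cancel₀ hg (by rw [one_mul]; exact h)).symm
      have hε : ∀ i, δ i * (z ^ 2)⁻¹ = 1 ∨ δ i * (z ^ 2)⁻¹ = -1 := by
        intro i
        rcases hδ i with h | h
        · left; rw [h, mul_inv_cancel₀ hμ0]
        · right; rw [h, neg_mul, mul_inv_cancel₀ hμ0]
      have hδε : ∀ i, δ i = δ i * (z ^ 2)⁻¹ * z ^ 2 := by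
        intro i
        rw [mul_assoc, inv_mul_cancel₀ hμ0, mul_one]
      have hprodε : δ 0 * (z ^ 2)⁻¹ * (δ 1 * (z ^ 2)⁻¹) * (δ 2 * (z ^ 2)⁻¹) = 1 := by
        have e : δ 0 * (z ^ 2)⁻¹ * (δ 1 * (z ^ 2)⁻¹) * (δ 2 * (z ^ 2)⁻¹) =
            (δ 0 * δ 1 * δ 2) * ((z ^ 2) ^ 3)⁻¹ := by
          rw [← inv_pow]; ring
        rw [e, hprod, hμ3, inv_one, mul_one]
      have hneε : ¬ (δ 0 * (z ^ 2)⁻¹ = δ 1 * (z ^ 2)⁻¹ ∧ δ 0 * (z ^ 2)⁻¹ = δ 2 * (z ^ 2)⁻¹) := by
        rintro ⟨e1, e2⟩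
        have hi := inv_ne_zero hμ0
        exact hns (δ 0) (scalar_of_diag_const _ g hg δ hgx (mul_right_cancel₀ hi e1)
          (mul_right_cancel₀ hi e2))
      obtain ⟨h, hh, hhW⟩ := w_diag h2 (fun i => δ i * (z ^ 2)⁻¹) hε hprodε hneε
      obtain ⟨Hm, hHm⟩ := exists_gl h hh
      obtain ⟨W, hW⟩ := exists_gl (Wm : Matrix (Fin 3) (Fin 3) F) (by rw [det_Wm]; exact one_ne_zero)
      obtain ⟨S, hS⟩ := exists_gl (Matrix.diagonal (fun _ : Fin 3 => z ^ 2)) (by
        rw [Matrix.det_diagonal, Fin.prod_univ_three]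
        exact mul_ne_zero (mul_ne_zero hμ0 hμ0) hμ0)
      have hSN := diag_norm ζ hζ A B hcA hcB (fun _ => z ^ 2) ((z ^ 2) ^ 3)
        (pow_ne_zero _ hμ0) (fun _ => rfl) S hS
      have hWN := w_norm ζ hζ A B hcA hcB W hW
      have hTN := hNmap (S * W) (Subgroup.mul_mem _ hSN hWN)
      have hTd : (((Hm * c⁻¹) * (c * (S * W) * c⁻¹) * (Hm * c⁻¹)⁻¹ : GL (Fin 3) F) :
          Matrix (Fin 3) (Fin 3) F) = Matrix.diagonal δ := by
        have e : (Hm * c⁻¹) * (c * (S * W) * c⁻¹) * (Hm * c⁻¹)⁻¹ = Hm * S * W * Hm⁻¹ := by group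
        have e2 : h * Matrix.diagonal (fun _ : Fin 3 => z ^ 2) * Wm = Matrix.diagonal δ * h := by
          rw [← Matrix.smul_one_eq_diagonal, Matrix.mul_smul, Matrix.mul_one, Matrix.smul_mul, hhW]
          ext i j
          rw [Matrix.smul_apply, Matrix.diagonal_mul, Matrix.diagonal_mul, smul_eq_mul]
          nth_rewrite 2 [hδε i]
          ring
        rw [e, Units.val_mul, Units.val_mul, Units.val_mul, hHm, hS, hW, e2, Matrix.mul_assoc,
          ← hHm, ← Units.val_mul, mul_inv_cancel, Units.val_one, Matrix.mul_one]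
      obtain ⟨k, hk, hkx⟩ := sl_conj x (c * (S * W) * c⁻¹) δ g hg hgx (Hm * c⁻¹) hTd
      exact ⟨k, hk, by rw [hkx]; exact hTN⟩
    · -- elements of order three
      have hx3 : (x : Matrix (Fin 3) (Fin 3) F) * (x : Matrix (Fin 3) (Fin 3) F) *
          (x : Matrix (Fin 3) (Fin 3) F) = z • 1 := by
        rw [← hz, Units.val_pow_eq_pow_val, pow_three']
      have hz3 : z ^ 3 = 1 := by
        have h := congrArg Matrix.det hx3
        rw [Matrix.det_mul, Matrix.det_mul, hx, Matrix.det_smul, Matrix.det_one] at h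
        simpa using h.symm
      have hz0 : z ≠ 0 := by
        intro h
        rw [h] at hz3
        simp at hz3
      have h9 : 9 ∣ Fintype.card F - 1 := by
        rw [hF]
        exact Nat.dvd_of_mod_eq_zero (by omega)
      obtain ⟨l, hl⟩ := cube_root h9 z hz3
      have hl0 : l ≠ 0 := by
        intro h
        rw [h] at hl
        simp at hl
        exact hz0 hl.symm
      obtain ⟨δ, g, hδ, hg, hgx⟩ := spec3 (x : Matrix (Fin 3) (Fin 3) F) z l ζ hx3 hl hl0 hζ h3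
      have hδ0 : ∀ i, δ i ≠ 0 := by
        intro i h
        have := hδ i
        rw [h] at this
        simp at this
        exact hz0 this.symm
      obtain ⟨Δ, hΔ⟩ := exists_gl (Matrix.diagonal δ) (by
        rw [Matrix.det_diagonal, Fin.prod_univ_three]
        exact mul_ne_zero (mul_ne_zero (hδ0 0) (hδ0 1)) (hδ0 2))
      have hΔN := diag_norm ζ hζ A B hcA hcB δ z hz0 hδ Δ hΔ
      have hTN := hNmap Δ hΔN
      have hTd : ((c⁻¹ * (c * Δ * c⁻¹) * (c⁻¹)⁻¹ : GL (Fin 3) F) :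
          Matrix (Fin 3) (Fin 3) F) = Matrix.diagonal δ := by
        have e : c⁻¹ * (c * Δ * c⁻¹) * (c⁻¹)⁻¹ = Δ := by group
        rw [e, hΔ]
      obtain ⟨k, hk, hkx⟩ := sl_conj x (c * Δ * c⁻¹) δ g hg hgx c⁻¹ hTd
      exact ⟨k, hk, by rw [hkx]; exact hTN⟩

end main

end Cfsg.Agent.Helper15.ES
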