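import Mathlib
import Cfsg.Agent.Helper15.ES
import Cfsg.Agent.Helper15.PU

/-!
# Unitary version of `ES`: the normalizer of `3^{1+2}` in `SU_3(p)`, `p ≡ 2 (mod 3)`
-/

set_option autoImplicit false
open scoped MatrixGroups Matrix
open Cfsg

namespace Cfsg.Agent.Helper15.EU

open Cfsg.Agent.Helper3 Cfsg.Agent.Helper15.ES

section gram
variable {F : Type*} [Field F]

/-- transformation of the Gram matrix of the columns of `N` -/
theorem gram_inv (φ : F →+* F) (x N K : Matrix (Fin 3) (Fin 3) F)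
    (hx : x.transpose * x.map φ = 1) (hxN : x * N = N * K) :
    N.transpose * N.map φ = K.transpose * (N.transpose * N.map φ) * K.map φ := by
  have h1 : (x * N).transpose * (x * N).map φ = N.transpose * N.map φ := by
    rw [Matrix.transpose_mul, Matrix.map_mul]
    calc N.transpose * x.transpose * (x.map φ * N.map φ)
        = N.transpose * (x.transpose * x.map φ) * N.map φ := by simp only [Matrix.mul_assoc]
      _ = N.transpose * N.map φ := by rw [hx, Matrix.mul_one]
  calc N.transpose * N.map φ = (x * N).transpose * (x * N).map φ := h1.symm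
    _ = (N * K).transpose * (N * K).map φ := by rw [hxN]
    _ = K.transpose * (N.transpose * N.map φ) * K.map φ := by
        rw [Matrix.transpose_mul, Matrix.map_mul]
        simp only [Matrix.mul_assoc]

theorem gram_zero (φ : F →+* F) (x N : Matrix (Fin 3) (Fin 3) F) (δ : Fin 3 → F)
    (hx : x.transpose * x.map φ = 1) (hxN : x * N = N * Matrix.diagonal δ)
    (hδ : ∀ i, δ i * φ (δ i) = 1) (i j : Fin 3) (hij : δ i ≠ δ j) :
    (N.transpose * N.map φ) i j = 0 := by
  have h := gram_inv φ x N (Matrix.diagonal δ) hx hxN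
  have h2 := congrFun (congrFun h i) j
  rw [Matrix.diagonal_transpose, Matrix.diagonal_map (map_zero φ), Matrix.mul_diagonal,
    Matrix.diagonal_mul] at h2
  by_contra hne
  apply hij
  have h3 : δ i * φ (δ j) = 1 := by
    have : (N.transpose * N.map φ) i j * (δ i * φ (δ j) - 1) = 0 := by
      linear_combination (-1 : F) * h2
    rcases mul_eq_zero.mp this with h | h
    · exact absurd h hne
    · linear_combination h
  have h4 := hδ j
  have hφ0 : φ (δ j) ≠ 0 := by
    intro h0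
    rw [h0, mul_zero] at h4
    exact zero_ne_one h4
  exact mul_right_cancel₀ hφ0 (h3.trans h4.symm)

theorem pattern (δ : Fin 3 → F) :
    (δ 0 ≠ δ 1 ∧ δ 0 ≠ δ 2 ∧ δ 1 ≠ δ 2) ∨ (δ 0 = δ 1 ∧ δ 0 = δ 2) ∨
    ∃ k : Fin 3, (∀ l, l ≠ k → δ l ≠ δ k) ∧ (∀ l m, l ≠ k → m ≠ k → δ l = δ m) := by
  by_cases h01 : δ 0 = δ 1
  · by_cases h02 : δ 0 = δ 2
    · exact Or.inr (Or.inl ⟨h01, h02⟩)
    · refine Or.inr (Or.inr ⟨2, ?_, ?_⟩)
      · intro l hl
        fin_cases l <;> simp_all
      · intro l m hl hm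
        fin_cases l <;> fin_cases m <;> simp_all
  · by_cases h02 : δ 0 = δ 2
    · refine Or.inr (Or.inr ⟨1, ?_, ?_⟩)
      · intro l hl
        fin_cases l <;> simp_all
      · intro l m hl hm
        fin_cases l <;> fin_cases m <;> simp_all
    · by_cases h12 : δ 1 = δ 2
      · have h01' : ¬ δ 1 = δ 0 := fun h => h01 h.symm
        have h02' : ¬ δ 2 = δ 0 := fun h => h02 h.symm
        refine Or.inr (Or.inr ⟨0, ?_, ?_⟩)
        · intro l hl
          fin_cases l <;> simp_all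
        · intro l m hl hm
          fin_cases l <;> fin_cases m <;> simp_all
      · exact Or.inl ⟨h01, h02, h12⟩

theorem gram_fixed (φ : F →+* F) (hφ2 : ∀ x, φ (φ x) = x) (N : Matrix (Fin 3) (Fin 3) F)
    (i : Fin 3) :
    φ ((N.transpose * N.map φ) i i) = (N.transpose * N.map φ) i i := by
  rw [Matrix.mul_apply, map_sum]
  apply Finset.sum_congr rfl
  intro k _
  rw [map_mul, Matrix.transpose_apply, Matrix.map_apply, hφ2, mul_comm]

theorem gram_det (φ : F →+* F) (N : Matrix (Fin 3) (Fin 3) F) (hN : N.det ≠ 0) :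
    (N.transpose * N.map φ).det ≠ 0 := by
  rw [Matrix.det_mul, Matrix.det_transpose]
  have h : (N.map φ).det = φ N.det := (RingHom.map_det φ N).symm
  rw [h]
  exact mul_ne_zero hN (by rwa [Ne, map_eq_zero])

theorem inv_conj_eq (g x D : Matrix (Fin 3) (Fin 3) F) (hg : g.det ≠ 0) (hgx : g * x = D * g) :
    x * g⁻¹ = g⁻¹ * D := by
  have hu : IsUnit g.det := isUnit_iff_ne_zero.mpr hg
  calc x * g⁻¹ = g⁻¹ * (g * x) * g⁻¹ := by
        rw [← Matrix.mul_assoc, Matrix.nonsing_inv_mul g hu, Matrix.one_mul]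
    _ = g⁻¹ * D := by
        rw [hgx, Matrix.mul_assoc, Matrix.mul_assoc, Matrix.mul_nonsing_inv g hu, Matrix.mul_one]

theorem det_inv_ne (g : Matrix (Fin 3) (Fin 3) F) (hg : g.det ≠ 0) : g⁻¹.det ≠ 0 := by
  have hu : IsUnit g.det := isUnit_iff_ne_zero.mpr hg
  have h := congrArg Matrix.det (Matrix.mul_nonsing_inv g hu)
  rw [Matrix.det_mul, Matrix.det_one] at h
  exact right_ne_zero_of_mul_eq_one h

theorem sdiag_comm (s : F) (M : Matrix (Fin 3) (Fin 3) F) :
    Matrix.diagonal (fun _ => s) * M = M * Matrix.diagonal (fun _ => s) := by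
  ext i j
  rw [Matrix.diagonal_mul, Matrix.mul_diagonal, mul_comm]

end gram

section unitary
variable {F : Type*} [Field F] [Fintype F] {q : ℕ}

theorem q_ne (hF : Fintype.card F = q ^ 2) : q ≠ 0 := by
  have := two_le_q hF
  omega

theorem norm_of_pow (y : F) (m : ℕ) (hm : m ∣ q + 1) (hy : y ^ m = 1) : y * y ^ q = 1 := by
  obtain ⟨k, hk⟩ := hm
  rw [← pow_succ', hk, pow_mul, hy, one_pow]

/-- unitary diagonalisation from a diagonalisation with eigenvalues of norm one -/
theorem UC (hF : Fintype.card F = q ^ 2) (φ : F →+* F) (hφ : ∀ x, φ x = x ^ q)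
    (hφ2 : ∀ x, φ (φ x) = x)
    (x N : Matrix (Fin 3) (Fin 3) F) (δ : Fin 3 → F)
    (hx : HPres 3 q x) (hN : N.det ≠ 0) (hxN : x * N = N * Matrix.diagonal δ)
    (hδ' : ∀ i, δ i * δ i ^ q = 1) :
    ∃ U : Matrix (Fin 3) (Fin 3) F, HPres 3 q U ∧ x * U = U * Matrix.diagonal δ := by
  have hq : q ≠ 0 := q_ne hF
  have hδ : ∀ i, δ i * φ (δ i) = 1 := fun i => by rw [hφ]; exact hδ' i
  have hx' := (Cfsg.Agent.Helper15.PU.hpres_iff φ hφ hq x).mp hx
  obtain ⟨G, hG⟩ : ∃ G : Matrix (Fin 3) (Fin 3) F, G = N.transpose * N.map φ := ⟨_, rfl⟩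
  have hGz : ∀ i j, δ i ≠ δ j → G i j = 0 := fun i j hij => by
    rw [hG]; exact gram_zero φ x N δ hx' hxN hδ i j hij
  have hGdet : G.det ≠ 0 := by rw [hG]; exact gram_det φ N hN
  have hGfix : ∀ i, (G i i) ^ q = G i i := fun i => by
    rw [← hφ, hG]; exact gram_fixed φ hφ2 N i
  have hu : IsUnit N.det := isUnit_iff_ne_zero.mpr hN
  rcases pattern δ with ⟨h01, h02, h12⟩ | ⟨h01, h02⟩ | ⟨k, hk1, hk2⟩
  · -- all distinct
    have hne : ∀ i j : Fin 3, i ≠ j → δ i ≠ δ j := by
      have h01' := h01.symm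
      have h02' := h02.symm
      have h12' := h12.symm
      intro i j hij
      fin_cases i <;> fin_cases j <;> simp_all
    have hGd : G = Matrix.diagonal (fun i => G i i) := by
      ext i j
      by_cases hij : i = j
      · subst hij; simp
      · rw [Matrix.diagonal_apply_ne _ hij]; exact hGz i j (hne i j hij)
    have hν : ∀ i, G i i ≠ 0 := by
      intro i h0
      apply hGdet
      rw [hGd, Matrix.det_diagonal]
      exact Finset.prod_eq_zero (Finset.mem_univ i) h0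
    have hs : ∀ i, ∃ s : F, s * s ^ q = (G i i)⁻¹ := fun i =>
      Cfsg.Agent.Helper15.PU.exists_norm hF _ (inv_ne_zero (hν i)) (by rw [inv_pow, hGfix])
    choose s hs using hs
    refine ⟨N * Matrix.diagonal s, ?_, ?_⟩
    · rw [Cfsg.Agent.Helper15.PU.hpres_iff φ hφ hq, Matrix.transpose_mul, Matrix.map_mul,
        Matrix.diagonal_transpose, Matrix.diagonal_map (map_zero φ)]
      calc Matrix.diagonal s * N.transpose * (N.map φ * Matrix.diagonal fun m => φ (s m))
          = Matrix.diagonal s * G * Matrix.diagonal (fun m => φ (s m)) := by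
            rw [hG]; simp only [Matrix.mul_assoc]
        _ = Matrix.diagonal s * Matrix.diagonal (fun i => G i i) *
              Matrix.diagonal (fun m => φ (s m)) := by rw [← hGd]
        _ = 1 := by
            rw [Matrix.diagonal_mul_diagonal, Matrix.diagonal_mul_diagonal, ← Matrix.diagonal_one]
            congr 1
            funext i
            rw [hφ]
            calc s i * G i i * s i ^ q = (s i * s i ^ q) * G i i := by ring
              _ = 1 := by rw [hs i, inv_mul_cancel₀ (hν i)]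
    · rw [← Matrix.mul_assoc, hxN, Matrix.mul_assoc, Matrix.mul_assoc,
        Matrix.diagonal_mul_diagonal, Matrix.diagonal_mul_diagonal]
      congr 2
      funext i
      exact mul_comm _ _
  · -- scalar
    refine ⟨1, (Cfsg.Agent.Helper15.PU.hpres_iff φ hφ hq 1).mpr (by simp), ?_⟩
    rw [Matrix.mul_one, Matrix.one_mul]
    have hd : Matrix.diagonal δ = δ 0 • (1 : Matrix (Fin 3) (Fin 3) F) := by
      ext i j
      fin_cases i <;> fin_cases j <;> simp [← h01, ← h02]
    have h4 := congrArg (fun M => M * N⁻¹) hxN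
    simp only [Matrix.mul_assoc, Matrix.mul_nonsing_inv N hu, Matrix.mul_one] at h4
    rw [h4, hd]
    simp [Matrix.mul_nonsing_inv N hu]
  · -- one eigenvalue of multiplicity two
    have hνk : G k k ≠ 0 := by
      intro h0
      apply hGdet
      apply Matrix.det_eq_zero_of_column_eq_zero k
      intro i
      by_cases hik : i = k
      · rw [hik]; exact h0
      · exact hGz i k (hk1 i hik)
    obtain ⟨s, hs⟩ := Cfsg.Agent.Helper15.PU.exists_norm hF _ (inv_ne_zero hνk)
      (by rw [inv_pow, hGfix])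
    have hs0 : s ≠ 0 := by
      intro h
      rw [h, zero_mul] at hs
      exact inv_ne_zero hνk hs.symm
    have hv : hermForm 3 F q (s • (N *ᵥ Pi.single k 1)) (s • (N *ᵥ Pi.single k 1)) = 1 := by
      rw [herm_smul_left, herm_smul_right, ← mul_assoc, hs]
      have : hermForm 3 F q (N *ᵥ Pi.single k 1) (N *ᵥ Pi.single k 1) = G k k := by
        rw [Matrix.mulVec_single_one, herm_phi φ hφ, hG, Matrix.mul_apply]
        rfl
      rw [this, inv_mul_cancel₀ hνk]
    obtain ⟨M, hM, hMk⟩ := exists_pres hF (Pi.single k 1) (s • (N *ᵥ Pi.single k 1))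
      (by rw [herm_single hq]; simp) hv
    have hM' := (Cfsg.Agent.Helper15.PU.hpres_iff φ hφ hq M).mp hM
    obtain ⟨C, hC⟩ : ∃ C : Matrix (Fin 3) (Fin 3) F, C = N⁻¹ * M := ⟨_, rfl⟩
    have hNC : N * C = M := by
      rw [hC, ← Matrix.mul_assoc, Matrix.mul_nonsing_inv N hu, Matrix.one_mul]
    have hC1 : C.transpose * G * C.map φ = 1 := by
      rw [← hM', ← hNC, Matrix.transpose_mul, Matrix.map_mul, hG]
      simp only [Matrix.mul_assoc]
    have hCk : ∀ i, C i k = if i = k then s else 0 := by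
      intro i
      have h1 : C *ᵥ Pi.single k 1 = s • Pi.single k 1 := by
        rw [hC, ← Matrix.mulVec_mulVec, hMk, Matrix.mulVec_smul, Matrix.mulVec_mulVec,
          Matrix.nonsing_inv_mul N hu, Matrix.one_mulVec]
      have h2 := congrFun h1 i
      rw [Matrix.mulVec_single_one] at h2
      simpa [Pi.single_apply] using h2
    have hCl : ∀ l, l ≠ k → C k l = 0 := by
      intro l hl
      have h1 := congrFun (congrFun hC1 l) k
      rw [Matrix.one_apply_ne hl, Matrix.mul_apply] at h1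
      rw [Finset.sum_eq_single k] at h1
      · rw [Matrix.map_apply, hCk k, if_pos rfl, Matrix.mul_apply, Finset.sum_eq_single k] at h1
        · rw [Matrix.transpose_apply] at h1
          have hφs : φ s ≠ 0 := by rwa [Ne, map_eq_zero]
          rcases mul_eq_zero.mp h1 with h | h
          · rcases mul_eq_zero.mp h with h | h
            · exact h
            · exact absurd h hνk
          · exact absurd h hφs
        · intro i _ hik
          rw [hGz i k (hk1 i hik), mul_zero]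
        · intro h; exact absurd (Finset.mem_univ k) h
      · intro j _ hjk
        rw [Matrix.map_apply, hCk j, if_neg hjk, map_zero, mul_zero]
      · intro h; exact absurd (Finset.mem_univ k) h
    have hDC : Matrix.diagonal δ * C = C * Matrix.diagonal δ := by
      ext i l
      rw [Matrix.diagonal_mul, Matrix.mul_diagonal]
      by_cases hil : δ i = δ l
      · rw [hil, mul_comm]
      · by_cases hik : i = k
        · have hlk : l ≠ k := by
            intro h; apply hil; rw [hik, h]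
          rw [hik, hCl l hlk, mul_zero, zero_mul]
        · by_cases hlk : l = k
          · rw [hlk, hCk i, if_neg hik, mul_zero, zero_mul]
          · exact absurd (hk2 i l hik hlk) hil
    refine ⟨M, hM, ?_⟩
    rw [← hNC, ← Matrix.mul_assoc, hxN, Matrix.mul_assoc, hDC, Matrix.mul_assoc]

theorem hpres_inv (hq : q ≠ 0) (V : Matrix (Fin 3) (Fin 3) F) (hV : HPres 3 q V) :
    HPres 3 q V⁻¹ := by
  have hu := isUnit_of_hpres hq V hV
  have hd : IsUnit V.det := (Matrix.isUnit_iff_isUnit_det V).mp hu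
  intro u v
  have := hV (V⁻¹ *ᵥ u) (V⁻¹ *ᵥ v)
  rw [Matrix.mulVec_mulVec, Matrix.mulVec_mulVec, Matrix.mul_nonsing_inv V hd, Matrix.one_mulVec,
    Matrix.one_mulVec] at this
  exact this.symm

/-- two elements with a common unitary diagonal form are conjugate in `SU_3` -/
theorem SUC (hF : Fintype.card F = q ^ 2) (x T : GL (Fin 3) F) (δ : Fin 3 → F)
    (U V : Matrix (Fin 3) (Fin 3) F) (hU : HPres 3 q U) (hV : HPres 3 q V)
    (hxU : (x : Matrix (Fin 3) (Fin 3) F) * U = U * Matrix.diagonal δ)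
    (hTV : (T : Matrix (Fin 3) (Fin 3) F) * V = V * Matrix.diagonal δ) :
    ∃ k ∈ Cfsg.GU 3 F q ⊓ Cfsg.Geo.specialLinear (Fin 3) F, k⁻¹ * x * k = T := by
  have hq : q ≠ 0 := q_ne hF
  have huU := isUnit_of_hpres hq U hU
  have huV := isUnit_of_hpres hq V hV
  have hdU : IsUnit U.det := (Matrix.isUnit_iff_isUnit_det U).mp huU
  have hdV : IsUnit V.det := (Matrix.isUnit_iff_isUnit_det V).mp huV
  have hU0 : U.det ≠ 0 := hdU.ne_zero
  have hV0 : V.det ≠ 0 := hdV.ne_zero
  have hnU := det_norm hF U hU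
  have hnV := det_norm hF V hV
  obtain ⟨e, he⟩ : ∃ e : F, e = V.det * U.det⁻¹ := ⟨_, rfl⟩
  have hen : e * e ^ q = 1 := by
    calc e * e ^ q = (V.det * V.det ^ q) * (U.det * U.det ^ q)⁻¹ := by
          rw [he, mul_pow, inv_pow, mul_inv]; ring
      _ = 1 := by rw [hnU, hnV]; simp
  obtain ⟨E, hE⟩ : ∃ E : Matrix (Fin 3) (Fin 3) F, E = Matrix.diagonal ![e, 1, 1] := ⟨_, rfl⟩
  have hEp : HPres 3 q E := by
    rw [hE]
    apply diag_pres
    intro i
    fin_cases i
    · exact hen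
    · simp
    · simp
  have hkp : HPres 3 q (U * E * V⁻¹) := (hU.mul hEp).mul (hpres_inv hq V hV)
  have hkdet : (U * E * V⁻¹).det = 1 := by
    rw [Matrix.det_mul, Matrix.det_mul, hE, Matrix.det_diagonal, Fin.prod_univ_three,
      Matrix.det_nonsing_inv, Ring.inverse_eq_inv']
    simp only [Matrix.cons_val_zero, Matrix.cons_val_one, Matrix.cons_val_two, Matrix.head_cons,
      Matrix.tail_cons, mul_one]
    rw [he]
    field_simp
  obtain ⟨k, hk⟩ := exists_gl (U * E * V⁻¹) (by rw [hkdet]; exact one_ne_zero)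
  refine ⟨k, Subgroup.mem_inf.mpr ⟨?_, ?_⟩, ?_⟩
  · rw [mem_GU_iff, hk]; exact hkp
  · rw [mem_sl, hk]; exact hkdet
  · have hxk : x * k = k * T := by
      apply Units.ext
      rw [Units.val_mul, Units.val_mul, hk]
      have hVT : V⁻¹ * (T : Matrix (Fin 3) (Fin 3) F) = Matrix.diagonal δ * V⁻¹ := by
        calc V⁻¹ * (T : Matrix (Fin 3) (Fin 3) F)
            = V⁻¹ * ((T : Matrix (Fin 3) (Fin 3) F) * V) * V⁻¹ := by
              rw [Matrix.mul_assoc, Matrix.mul_assoc, Matrix.mul_nonsing_inv V hdV, Matrix.mul_one]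
          _ = Matrix.diagonal δ * V⁻¹ := by
              rw [hTV, ← Matrix.mul_assoc, Matrix.nonsing_inv_mul V hdV, Matrix.one_mul]
      calc (x : Matrix (Fin 3) (Fin 3) F) * (U * E * V⁻¹)
          = ((x : Matrix (Fin 3) (Fin 3) F) * U) * E * V⁻¹ := by simp only [Matrix.mul_assoc]
        _ = U * (Matrix.diagonal δ * E) * V⁻¹ := by rw [hxU]; simp only [Matrix.mul_assoc]
        _ = U * (E * Matrix.diagonal δ) * V⁻¹ := by
            rw [hE, Matrix.diagonal_mul_diagonal, Matrix.diagonal_mul_diagonal]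
            congr 3
            funext i
            exact mul_comm _ _
        _ = U * E * (Matrix.diagonal δ * V⁻¹) := by simp only [Matrix.mul_assoc]
        _ = U * E * V⁻¹ * (T : Matrix (Fin 3) (Fin 3) F) := by
            rw [← hVT]; simp only [Matrix.mul_assoc]
    rw [mul_assoc, hxk, ← mul_assoc, inv_mul_cancel, one_mul]

theorem Bm_pres : HPres 3 q (Bm : Matrix (Fin 3) (Fin 3) F) := by
  intro u v
  unfold hermForm
  simp [Fin.sum_univ_three, Bm, Matrix.mulVec, dotProduct]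
  ring

theorem Wm_pres (hqo : Odd q) : HPres 3 q (Wm : Matrix (Fin 3) (Fin 3) F) := by
  intro u v
  unfold hermForm
  have hneg : ∀ y : F, (-y) ^ q = -(y ^ q) := fun y => Odd.neg_pow hqo y
  simp [Fin.sum_univ_three, Wm, Matrix.mulVec, dotProduct, hneg]
  ring

end unitary

section std
variable {F : Type*} [Field F] [Fintype F] {q : ℕ}

/-- the standardising matrix can be taken unitary -/
theorem exists_std_u (hF : Fintype.card F = q ^ 2) (φ : F →+* F) (hφ : ∀ x, φ x = x ^ q)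
    (hφ2 : ∀ x, φ (φ x) = x) (ζ : F) (hζ : ζ ^ 2 + ζ + 1 = 0) (h3 : (3 : F) ≠ 0)
    (hζq : ζ * ζ ^ q = 1)
    (a b c : GL (Fin 3) F) (ha : a ∈ Cfsg.GU 3 F q) (hb : b ∈ Cfsg.GU 3 F q)
    (hcA : ((c⁻¹ * a * c : GL (Fin 3) F) : Matrix (Fin 3) (Fin 3) F) = Am ζ)
    (hcB : ((c⁻¹ * b * c : GL (Fin 3) F) : Matrix (Fin 3) (Fin 3) F) = Bm) :
    ∃ c' : GL (Fin 3) F, c' ∈ Cfsg.GU 3 F q ∧ ∀ y : GL (Fin 3) F, c'⁻¹ * y * c' = c⁻¹ * y * c := by
  have hq : q ≠ 0 := q_ne hF
  have ha' := (Cfsg.Agent.Helper15.PU.hpres_iff φ hφ hq _).mp ((mem_GU_iff a).mp ha)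
  have hb' := (Cfsg.Agent.Helper15.PU.hpres_iff φ hφ hq _).mp ((mem_GU_iff b).mp hb)
  have hacA : (a : Matrix (Fin 3) (Fin 3) F) * (c : Matrix (Fin 3) (Fin 3) F) =
      (c : Matrix (Fin 3) (Fin 3) F) * Am ζ := by
    rw [← hcA, ← Units.val_mul, ← Units.val_mul]
    congr 1
    group
  have hbcB : (b : Matrix (Fin 3) (Fin 3) F) * (c : Matrix (Fin 3) (Fin 3) F) =
      (c : Matrix (Fin 3) (Fin 3) F) * Bm := by
    rw [← hcB, ← Units.val_mul, ← Units.val_mul]
    congr 1
    group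
  obtain ⟨G, hG⟩ : ∃ G : Matrix (Fin 3) (Fin 3) F,
      G = (c : Matrix (Fin 3) (Fin 3) F).transpose * (c : Matrix (Fin 3) (Fin 3) F).map φ :=
    ⟨_, rfl⟩
  have hζφ : φ ζ * ζ = 1 := by rw [hφ, mul_comm]; exact hζq
  have hGA : G * Am ζ = Am ζ * G := by
    have h : G = (Am ζ).transpose * G * (Am ζ).map φ := by
      rw [hG]; exact gram_inv φ _ _ _ ha' hacA
    have hAA : (Am ζ).map φ * Am ζ = 1 := by
      unfold Am
      rw [Matrix.diagonal_map (map_zero φ), Matrix.diagonal_mul_diagonal, ← Matrix.diagonal_one]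
      congr 1
      funext i
      fin_cases i
      · simp
      · simpa using hζφ
      · have : φ (ζ ^ 2) * ζ ^ 2 = 1 := by rw [map_pow, ← mul_pow, hζφ, one_pow]
        simpa using this
    have hAT : (Am ζ).transpose = Am ζ := by unfold Am; exact Matrix.diagonal_transpose _
    calc G * Am ζ = (Am ζ).transpose * G * (Am ζ).map φ * Am ζ := by rw [← h]
      _ = Am ζ * G * ((Am ζ).map φ * Am ζ) := by rw [hAT]; simp only [Matrix.mul_assoc]
      _ = Am ζ * G := by rw [hAA, Matrix.mul_one]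
  have hGB : G * Bm = Bm * G := by
    have h : G = (Bm : Matrix (Fin 3) (Fin 3) F).transpose * G *
        (Bm : Matrix (Fin 3) (Fin 3) F).map φ := by
      rw [hG]; exact gram_inv φ _ _ _ hb' hbcB
    have hBφ : (Bm : Matrix (Fin 3) (Fin 3) F).map φ = Bm := by
      unfold Bm
      ext i j
      fin_cases i <;> fin_cases j <;> simp
    have hBB : (Bm : Matrix (Fin 3) (Fin 3) F) * (Bm : Matrix (Fin 3) (Fin 3) F).transpose = 1 := by
      unfold Bm
      ext i j
      fin_cases i <;> fin_cases j <;> simp [Matrix.mul_apply, Fin.sum_univ_three]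
    calc G * Bm = (Bm * (Bm : Matrix (Fin 3) (Fin 3) F).transpose) * G * Bm := by
          rw [hBB, Matrix.one_mul]
      _ = Bm * ((Bm : Matrix (Fin 3) (Fin 3) F).transpose * G *
            (Bm : Matrix (Fin 3) (Fin 3) F).map φ) := by
          rw [hBφ]; simp only [Matrix.mul_assoc]
      _ = Bm * G := by rw [← h]
  obtain ⟨lam, hlam⟩ := scalar_of_comm ζ hζ h3 G hGA hGB
  have hGdet : G.det ≠ 0 := by rw [hG]; exact gram_det φ _ (det_ne c)
  have hlam0 : lam ≠ 0 := by
    intro h0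
    apply hGdet
    rw [hlam, h0, zero_smul]
    exact Matrix.det_zero
  have hlamfix : lam ^ q = lam := by
    have h1 : φ (G 0 0) = G 0 0 := by rw [hG]; exact gram_fixed φ hφ2 _ 0
    rw [hlam] at h1
    simp at h1
    rw [← hφ]; exact h1
  obtain ⟨s, hs⟩ := Cfsg.Agent.Helper15.PU.exists_norm hF lam⁻¹ (inv_ne_zero hlam0)
    (by rw [inv_pow, hlamfix])
  have hpres : HPres 3 q ((c : Matrix (Fin 3) (Fin 3) F) * Matrix.diagonal (fun _ => s)) := by
    rw [Cfsg.Agent.Helper15.PU.hpres_iff φ hφ hq, Matrix.transpose_mul, Matrix.map_mul,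
      Matrix.diagonal_transpose, Matrix.diagonal_map (map_zero φ)]
    calc Matrix.diagonal (fun _ => s) * (c : Matrix (Fin 3) (Fin 3) F).transpose *
          ((c : Matrix (Fin 3) (Fin 3) F).map φ * Matrix.diagonal fun _ => φ s)
        = Matrix.diagonal (fun _ => s) * G * Matrix.diagonal (fun _ => φ s) := by
          rw [hG]; simp only [Matrix.mul_assoc]
      _ = 1 := by
          rw [hlam]
          ext i j
          rw [Matrix.mul_diagonal, Matrix.diagonal_mul, Matrix.smul_apply, Matrix.one_apply,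
            smul_eq_mul]
          by_cases hij : i = j
          · simp only [if_pos hij, mul_one]
            rw [hφ]
            calc s * lam * s ^ q = (s * s ^ q) * lam := by ring
              _ = 1 := by rw [hs, inv_mul_cancel₀ hlam0]
          · simp only [if_neg hij, mul_zero, zero_mul]
  obtain ⟨c', hc'⟩ := exists_gl ((c : Matrix (Fin 3) (Fin 3) F) * Matrix.diagonal (fun _ => s))
    (isUnit_iff_ne_zero.mp ((Matrix.isUnit_iff_isUnit_det _).mp (isUnit_of_hpres hq _ hpres)))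
  have hconj : ∀ y : GL (Fin 3) F, c'⁻¹ * y * c' = c⁻¹ * y * c := by
    intro y
    have h1 : y * c' = c' * (c⁻¹ * y * c) := by
      apply Units.ext
      rw [Units.val_mul, Units.val_mul, hc']
      have h2 : (y : Matrix (Fin 3) (Fin 3) F) * (c : Matrix (Fin 3) (Fin 3) F) =
          (c : Matrix (Fin 3) (Fin 3) F) *
            ((c⁻¹ * y * c : GL (Fin 3) F) : Matrix (Fin 3) (Fin 3) F) := by
        rw [← Units.val_mul, ← Units.val_mul]
        congr 1
        group
      calc (y : Matrix (Fin 3) (Fin 3) F) *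
            ((c : Matrix (Fin 3) (Fin 3) F) * Matrix.diagonal (fun _ => s))
          = ((y : Matrix (Fin 3) (Fin 3) F) * (c : Matrix (Fin 3) (Fin 3) F)) *
              Matrix.diagonal (fun _ => s) := by
            rw [Matrix.mul_assoc]
        _ = (c : Matrix (Fin 3) (Fin 3) F) *
              (((c⁻¹ * y * c : GL (Fin 3) F) : Matrix (Fin 3) (Fin 3) F) *
                Matrix.diagonal (fun _ => s)) := by
            rw [h2, Matrix.mul_assoc]
        _ = (c : Matrix (Fin 3) (Fin 3) F) * Matrix.diagonal (fun _ => s) *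
              ((c⁻¹ * y * c : GL (Fin 3) F) : Matrix (Fin 3) (Fin 3) F) := by
            rw [← sdiag_comm, Matrix.mul_assoc]
    rw [mul_assoc, h1, ← mul_assoc, inv_mul_cancel, one_mul]
  exact ⟨c', by rw [mem_GU_iff, hc']; exact hpres, hconj⟩

theorem card_K (hF : Fintype.card F = q ^ 2) :
    (q + 1) * Nat.card ↥(Cfsg.GU 3 F q ⊓ Cfsg.Geo.specialLinear (Fin 3) F) =
      q ^ 3 * ((q + 1) * (q ^ 2 - 1) * (q ^ 3 + 1)) := by
  have h1 : Nat.card ↥(Cfsg.GU 3 F q ⊓ Cfsg.Geo.specialLinear (Fin 3) F) =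
      Nat.card (guDet (F := F) 3 q).ker := by
    apply Nat.card_congr
    exact
      { toFun := fun g => ⟨⟨g.1, (Subgroup.mem_inf.mp g.2).1⟩, (Subgroup.mem_inf.mp g.2).2⟩
        invFun := fun k => ⟨k.1.1, Subgroup.mem_inf.mpr ⟨k.1.2, k.2⟩⟩
        left_inv := fun g => rfl
        right_inv := fun k => rfl }
  rw [h1, card_ker_guDet, card_SU hF (by norm_num), card_GU hF 3]
  simp [Finset.prod_range_succ]

theorem no243u (p : ℕ) (h : p % 9 = 2 ∨ p % 9 = 5)
    (hd : 243 ∣ p ^ 3 * ((p + 1) * (p ^ 2 - 1) * (p ^ 3 + 1))) : False := by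
  have hdec : ∀ x : ZMod 243, (x.val % 9 = 2 ∨ x.val % 9 = 5) →
      x ^ 3 * ((x + 1) * (x ^ 2 - 1) * (x ^ 3 + 1)) ≠ 0 := by decide +kernel
  have hp1 : 1 ≤ p := by omega
  have h1 : 1 ≤ p ^ 2 := Nat.one_le_pow _ _ hp1
  have hcast : ((p ^ 3 * ((p + 1) * (p ^ 2 - 1) * (p ^ 3 + 1)) : ℕ) : ZMod 243) = 0 :=
    (ZMod.natCast_eq_zero_iff _ _).mpr hd
  rw [Nat.cast_mul, Nat.cast_mul, Nat.cast_mul, Nat.cast_sub h1] at hcast
  push_cast at hcast
  refine hdec (p : ZMod 243) ?_ hcast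
  rw [ZMod.val_natCast]
  omega

end std

section main
variable {F : Type*} [Field F] [Fintype F]

theorem key_u {p : ℕ} [Fact p.Prime] [CharP F p] (hF : Fintype.card F = p ^ 2) (hp : 5 ≤ p)
    (hp3 : p % 3 = 2)
    (R : Subgroup (GL (Fin 3) F)) (hRU : R ≤ Cfsg.GU 3 F p) (hR : Nat.card R = 27)
    (hRe : Monoid.exponent R = 3) (hRna : ¬ IsMulCommutative R) (r : ℕ) [Fact r.Prime]
    (hΩ : r ∣ (Cfsg.Geo.subgroupNormalizer R).relIndex
      (Cfsg.GU 3 F p ⊓ Cfsg.Geo.specialLinear (Fin 3) F)) :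
    (∀ x ∈ Cfsg.GU 3 F p ⊓ Cfsg.Geo.specialLinear (Fin 3) F,
      (∃ z : F, ((x ^ r : GL (Fin 3) F) : Matrix (Fin 3) (Fin 3) F) =
        z • (1 : Matrix (Fin 3) (Fin 3) F)) →
      (∀ z : F, (x : Matrix (Fin 3) (Fin 3) F) ≠ z • (1 : Matrix (Fin 3) (Fin 3) F)) →
      ∃ g ∈ Cfsg.GU 3 F p ⊓ Cfsg.Geo.specialLinear (Fin 3) F,
        g⁻¹ * x * g ∈ Cfsg.Geo.subgroupNormalizer R) ↔
      (r = 2 ∨ (r = 3 ∧ p % 9 = 8)) := by
  classical
  have hpp : p.Prime := Fact.out
  have hrp : r.Prime := Fact.out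
  have hpodd : Odd p := hpp.odd_of_ne_two (by omega)
  have hp2 : p % 2 = 1 := Nat.odd_iff.mp hpodd
  obtain ⟨φ, hφ, hφ2⟩ := exists_frob hF
  have hn : ∀ n : ℕ, 0 < n → n < 5 → ((n : ℕ) : F) ≠ 0 := by
    intro n h0 h5 h
    rw [CharP.cast_eq_zero_iff F p] at h
    have := Nat.le_of_dvd h0 h
    omega
  have h2 : (2 : F) ≠ 0 := by
    have := hn 2 (by norm_num) (by norm_num); exact_mod_cast this
  have h3 : (3 : F) ≠ 0 := by
    have := hn 3 (by norm_num) (by norm_num); exact_mod_cast this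
  have hcard3 : Fintype.card F % 3 = 1 := by
    rw [hF]
    simp [Nat.pow_mod, hp3]
  have h3p1 : 3 ∣ p + 1 := Nat.dvd_of_mod_eq_zero (by omega)
  obtain ⟨ω, hω⟩ := exists_omega (F := F) hcard3
  obtain ⟨a, b, ha, hb, hab⟩ : ∃ a b : GL (Fin 3) F, a ∈ R ∧ b ∈ R ∧ a * b ≠ b * a := by
    by_contra hcon
    push Not at hcon
    exact hRna ⟨⟨fun x y => Subtype.ext (hcon x.1 y.1 x.2 y.2)⟩⟩
  have hcube : ∀ g : R, g ^ 3 = 1 := by
    intro g
    have h := Monoid.pow_exponent_eq_one g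
    rw [hRe] at h
    exact h
  have hcube' : ∀ g ∈ R, g ^ 3 = 1 := by
    intro g hg
    have h := congrArg Subtype.val (hcube ⟨g, hg⟩)
    simpa using h
  obtain ⟨hza', hzb'⟩ := comm_of_exp3 hcube ⟨a, ha⟩ ⟨b, hb⟩
  have hza : (a * b * a⁻¹ * b⁻¹) * a = a * (a * b * a⁻¹ * b⁻¹) := by
    have h := congrArg Subtype.val hza'
    simpa using h
  have hzb : (a * b * a⁻¹ * b⁻¹) * b = b * (a * b * a⁻¹ * b⁻¹) := by
    have h := congrArg Subtype.val hzb'
    simpa using h
  have hzR : a * b * a⁻¹ * b⁻¹ ∈ R :=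
    R.mul_mem (R.mul_mem (R.mul_mem ha hb) (R.inv_mem ha)) (R.inv_mem hb)
  have hz1 : a * b * a⁻¹ * b⁻¹ ≠ 1 := by
    intro h
    apply hab
    rw [mul_inv_eq_one, mul_inv_eq_iff_eq_mul] at h
    exact h
  have hzdet : ((a * b * a⁻¹ * b⁻¹ : GL (Fin 3) F) : Matrix (Fin 3) (Fin 3) F).det = 1 := by
    have e : a * b * a⁻¹ * b⁻¹ = (a * b * a⁻¹) * b⁻¹ := rfl
    rw [e, Units.val_mul, Matrix.det_mul, det_conj]
    rw [← Matrix.det_mul, ← Units.val_mul, mul_inv_cancel, Units.val_one, Matrix.det_one]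
  obtain ⟨ζ, hζ, hzval⟩ := exists_zeta ω hω h3 (a * b * a⁻¹ * b⁻¹) a b (hcube' _ hzR) hz1 hzdet
    hza hzb hab
  have hζ3 := zeta_cube ζ hζ
  have habm : (a : Matrix (Fin 3) (Fin 3) F) * (b : Matrix (Fin 3) (Fin 3) F) =
      ζ • ((b : Matrix (Fin 3) (Fin 3) F) * (a : Matrix (Fin 3) (Fin 3) F)) := by
    have e : a * b = (a * b * a⁻¹ * b⁻¹) * (b * a) := by group
    have h' := congrArg (fun u : GL (Fin 3) F => (u : Matrix (Fin 3) (Fin 3) F)) e
    simp only [Units.val_mul (a * b * a⁻¹ * b⁻¹) (b * a), hzval] at h'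
    rw [Units.val_mul a b, Units.val_mul b a] at h'
    rw [h', Matrix.smul_mul, Matrix.one_mul]
  obtain ⟨c₀, hc₀A, hc₀B⟩ := exists_std ζ hζ h3 a b (hcube' a ha) (hcube' b hb) habm
  have hζn : ζ * ζ ^ p = 1 := norm_of_pow ζ 3 h3p1 hζ3
  obtain ⟨c, hcU, hcc⟩ := exists_std_u hF φ hφ hφ2 ζ hζ h3 hζn a b c₀ (hRU ha) (hRU hb)
    hc₀A hc₀B
  have hcA : ((c⁻¹ * a * c : GL (Fin 3) F) : Matrix (Fin 3) (Fin 3) F) = Am ζ := by
    rw [hcc a]; exact hc₀A
  have hcB : ((c⁻¹ * b * c : GL (Fin 3) F) : Matrix (Fin 3) (Fin 3) F) = Bm := by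
    rw [hcc b]; exact hc₀B
  have hcU' : HPres 3 p (c : Matrix (Fin 3) (Fin 3) F) := (mem_GU_iff c).mp hcU
  obtain ⟨A, hAdef⟩ : ∃ A : GL (Fin 3) F, A = c⁻¹ * a * c := ⟨_, rfl⟩
  obtain ⟨B, hBdef⟩ : ∃ B : GL (Fin 3) F, B = c⁻¹ * b * c := ⟨_, rfl⟩
  rw [← hAdef] at hcA
  rw [← hBdef] at hcB
  have haA : a = c * A * c⁻¹ := by rw [hAdef]; group
  have hbB : b = c * B * c⁻¹ := by rw [hBdef]; group
  have hRcl := closure_eq R hR a b ha hb hab
  have hRmap : R = (Subgroup.closure ({A, B} : Set (GL (Fin 3) F))).map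
      (MulAut.conj c).toMonoidHom := by
    rw [MonoidHom.map_closure, ← hRcl]
    congr 1
    rw [Set.image_pair]
    simp only [MulEquiv.coe_toMonoidHom, MulAut.conj_apply]
    rw [← haA, ← hbB]
  have hNmap : ∀ T₀ ∈ Subgroup.normalizer
      (Subgroup.closure ({A, B} : Set (GL (Fin 3) F)) : Set (GL (Fin 3) F)),
      c * T₀ * c⁻¹ ∈ Subgroup.normalizer (R : Set (GL (Fin 3) F)) := by
    intro T₀ hT₀
    have h := norm_map _ c T₀ hT₀
    rw [← hRmap] at h
    exact h
  unfold Cfsg.Geo.subgroupNormalizer at hΩ ⊢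
  haveI : Finite ↥R := Nat.finite_of_card_ne_zero (by rw [hR]; norm_num)
  constructor
  · intro H
    by_cases hr2 : r = 2
    · left; exact hr2
    right
    by_cases hr3 : r = 3
    · refine ⟨hr3, ?_⟩
      by_contra h9
      rw [hr3] at hΩ
      have hRsl : R ≤ Cfsg.Geo.specialLinear (Fin 3) F := by
        rw [← hRcl, Subgroup.closure_le]
        intro y hy
        rcases hy with rfl | rfl
        · rw [SetLike.mem_coe, mem_sl, haA, det_conj, hcA]
          exact det_Am ζ hζ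
        · rw [SetLike.mem_coe, mem_sl, hbB, det_conj, hcB]
          exact det_Bm
      have hRK : R ≤ Cfsg.GU 3 F p ⊓ Cfsg.Geo.specialLinear (Fin 3) F := le_inf hRU hRsl
      have hle : R.subgroupOf (Cfsg.GU 3 F p ⊓ Cfsg.Geo.specialLinear (Fin 3) F) ≤
          (Subgroup.normalizer (R : Set (GL (Fin 3) F))).subgroupOf
            (Cfsg.GU 3 F p ⊓ Cfsg.Geo.specialLinear (Fin 3) F) := by
        intro y hy
        rw [Subgroup.mem_subgroupOf] at hy ⊢
        exact Subgroup.le_normalizer hy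
      have hc1 : Nat.card (R.subgroupOf (Cfsg.GU 3 F p ⊓ Cfsg.Geo.specialLinear (Fin 3) F)) =
          27 := by
        rw [Nat.card_congr (Subgroup.subgroupOfEquivOfLe hRK).toEquiv, hR]
      have h27 : 27 ∣ Nat.card ((Subgroup.normalizer (R : Set (GL (Fin 3) F))).subgroupOf
          (Cfsg.GU 3 F p ⊓ Cfsg.Geo.specialLinear (Fin 3) F)) := by
        rw [← hc1]
        exact Subgroup.card_dvd_of_le hle
      have hidx := Subgroup.card_mul_index
        ((Subgroup.normalizer (R : Set (GL (Fin 3) F))).subgroupOf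
          (Cfsg.GU 3 F p ⊓ Cfsg.Geo.specialLinear (Fin 3) F))
      have h81 : 27 * 3 ∣ Nat.card ↥(Cfsg.GU 3 F p ⊓ Cfsg.Geo.specialLinear (Fin 3) F) := by
        rw [← hidx]
        exact Nat.mul_dvd_mul h27 hΩ
      have hprod := card_K (F := F) hF
      have h243 : 243 ∣ p ^ 3 * ((p + 1) * (p ^ 2 - 1) * (p ^ 3 + 1)) := by
        rw [← hprod]
        exact Nat.mul_dvd_mul h3p1 h81
      exact no243u p (by omega) h243
    · exfalso
      have hdvd : r ∣ Nat.card ↥(Cfsg.GU 3 F p ⊓ Cfsg.Geo.specialLinear (Fin 3) F) :=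
        hΩ.trans (Subgroup.relIndex_dvd_card _ _)
      obtain ⟨x, hx⟩ := exists_prime_orderOf_dvd_card' r hdvd
      have hxr : (x : GL (Fin 3) F) ^ r = 1 := by
        have h1 := pow_orderOf_eq_one x
        rw [hx] at h1
        have h2' := congrArg Subtype.val h1
        simpa using h2'
      have hns : ∀ z : F, ((x : GL (Fin 3) F) : Matrix (Fin 3) (Fin 3) F) ≠
          z • (1 : Matrix (Fin 3) (Fin 3) F) := by
        intro z hz
        have hd := (mem_sl _).mp (Subgroup.mem_inf.mp x.2).2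
        rw [hz] at hd
        have hzz : z ^ 3 = 1 := by
          simpa [Matrix.det_smul] using hd
        have hx3 : x ^ 3 = 1 := by
          apply Subtype.ext
          apply Units.ext
          rw [Subgroup.coe_pow, Units.val_pow_eq_pow_val, hz, smul_pow, one_pow, hzz, one_smul]
          rfl
        have h5 := orderOf_dvd_of_pow_eq_one hx3
        rw [hx] at h5
        exact hr3 ((Nat.prime_dvd_prime_iff_eq hrp Nat.prime_three).mp h5)
      obtain ⟨g, hg, hy⟩ := H x x.2 ⟨1, by rw [hxr]; simp⟩ hns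
      have hyr : (g⁻¹ * (x : GL (Fin 3) F) * g) ^ r = 1 := by
        have e : (g⁻¹ * (x : GL (Fin 3) F) * g) ^ r = g⁻¹ * (x : GL (Fin 3) F) ^ r * g := by
          have := conj_pow (a := g⁻¹) (b := (x : GL (Fin 3) F)) (i := r)
          rw [inv_inv] at this
          exact this
        rw [e, hxr]
        group
      have hzc : (g⁻¹ * (x : GL (Fin 3) F) * g) * (a * b * a⁻¹ * b⁻¹) =
          (a * b * a⁻¹ * b⁻¹) * (g⁻¹ * (x : GL (Fin 3) F) * g) := by
        apply Units.ext
        rw [Units.val_mul (g⁻¹ * (x : GL (Fin 3) F) * g) (a * b * a⁻¹ * b⁻¹),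
          Units.val_mul (a * b * a⁻¹ * b⁻¹) (g⁻¹ * (x : GL (Fin 3) F) * g), hzval]
        simp
      have hcent := centralizes R hR _ hzR hz1 _ hzc hy r hr2 hr3 hyr
      obtain ⟨Y, hY⟩ : ∃ Y : GL (Fin 3) F, Y = c⁻¹ * (g⁻¹ * (x : GL (Fin 3) F) * g) * c :=
        ⟨_, rfl⟩
      have hYA : Y * A = A * Y := by
        have h := hcent a ha
        rw [hY, hAdef]
        calc c⁻¹ * (g⁻¹ * (x : GL (Fin 3) F) * g) * c * (c⁻¹ * a * c)
            = c⁻¹ * ((g⁻¹ * (x : GL (Fin 3) F) * g) * a) * c := by group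
          _ = c⁻¹ * (a * (g⁻¹ * (x : GL (Fin 3) F) * g)) * c := by rw [h]
          _ = c⁻¹ * a * c * (c⁻¹ * (g⁻¹ * (x : GL (Fin 3) F) * g) * c) := by group
      have hYB : Y * B = B * Y := by
        have h := hcent b hb
        rw [hY, hBdef]
        calc c⁻¹ * (g⁻¹ * (x : GL (Fin 3) F) * g) * c * (c⁻¹ * b * c)
            = c⁻¹ * ((g⁻¹ * (x : GL (Fin 3) F) * g) * b) * c := by group
          _ = c⁻¹ * (b * (g⁻¹ * (x : GL (Fin 3) F) * g)) * c := by rw [h]
          _ = c⁻¹ * b * c * (c⁻¹ * (g⁻¹ * (x : GL (Fin 3) F) * g) * c) := by group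
      have hYA' := congrArg (fun u : GL (Fin 3) F => (u : Matrix (Fin 3) (Fin 3) F)) hYA
      have hYB' := congrArg (fun u : GL (Fin 3) F => (u : Matrix (Fin 3) (Fin 3) F)) hYB
      simp only [Units.val_mul, hcA] at hYA'
      simp only [Units.val_mul, hcB] at hYB'
      obtain ⟨cc, hcc'⟩ := scalar_of_comm ζ hζ h3 _ hYA' hYB'
      apply hns cc
      have hxg : (x : GL (Fin 3) F) = (g * c) * Y * (g * c)⁻¹ := by
        rw [hY]
        group
      rw [hxg, Units.val_mul, Units.val_mul, hcc', Matrix.mul_smul, Matrix.mul_one,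
        Matrix.smul_mul, ← Units.val_mul, mul_inv_cancel, Units.val_one]
  · intro hr x hx hz hns
    have hxU : HPres 3 p (x : Matrix (Fin 3) (Fin 3) F) :=
      (mem_GU_iff x).mp (Subgroup.mem_inf.mp hx).1
    have hx := (mem_sl _).mp (Subgroup.mem_inf.mp hx).2
    obtain ⟨z, hz⟩ := hz
    rcases hr with rfl | ⟨rfl, hp9⟩
    · -- involutions
      have hx2 : (x : Matrix (Fin 3) (Fin 3) F) * (x : Matrix (Fin 3) (Fin 3) F) = z • 1 := by
        rw [← hz, Units.val_pow_eq_pow_val, pow_two]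
      have hz3 : z ^ 3 = 1 := by
        have h := congrArg Matrix.det hx2
        rw [Matrix.det_mul, hx, Matrix.det_smul, Matrix.det_one] at h
        simpa using h.symm
      have hz0 : z ≠ 0 := by
        intro h
        rw [h] at hz3
        simp at hz3
      have hμμ : z ^ 2 * z ^ 2 = z := by linear_combination z * hz3
      have hμ0 : z ^ 2 ≠ 0 := pow_ne_zero _ hz0
      have hμ3 : (z ^ 2) ^ 3 = 1 := by linear_combination (z ^ 3 + 1) * hz3
      obtain ⟨δ, g, hδ, hg, hgx⟩ := spec2 (x : Matrix (Fin 3) (Fin 3) F) (z ^ 2)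
        (by rw [hμμ]; exact hx2) hμ0 h2
      have hprod : δ 0 * δ 1 * δ 2 = 1 := by
        have h := congrArg Matrix.det hgx
        rw [Matrix.det_mul, Matrix.det_mul, Matrix.det_diagonal, Fin.prod_univ_three, hx,
          mul_one] at h
        exact (mul_right_cancel₀ hg (by rw [one_mul]; exact h)).symm
      have hε : ∀ i, δ i * (z ^ 2)⁻¹ = 1 ∨ δ i * (z ^ 2)⁻¹ = -1 := by
        intro i
        rcases hδ i with h | h
        · left; rw [h, mul_inv_cancel₀ hμ0]
        · right; rw [h, neg_mul, mul_inv_cancel₀ hμ0]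
      have hδε : ∀ i, δ i = δ i * (z ^ 2)⁻¹ * z ^ 2 := by
        intro i
        rw [mul_assoc, inv_mul_cancel₀ hμ0, mul_one]
      have hprodε : δ 0 * (z ^ 2)⁻¹ * (δ 1 * (z ^ 2)⁻¹) * (δ 2 * (z ^ 2)⁻¹) = 1 := by
        have e : δ 0 * (z ^ 2)⁻¹ * (δ 1 * (z ^ 2)⁻¹) * (δ 2 * (z ^ 2)⁻¹) =
            (δ 0 * δ 1 * δ 2) * ((z ^ 2) ^ 3)⁻¹ := by
          rw [← inv_pow]; ring
        rw [e, hprod, hμ3, inv_one, mul_one]
      have hneε : ¬ (δ 0 * (z ^ 2)⁻¹ = δ 1 * (z ^ 2)⁻¹ ∧ δ 0 * (z ^ 2)⁻¹ = δ 2 * (z ^ 2)⁻¹) := by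
        rintro ⟨e1, e2⟩
        have hi := inv_ne_zero hμ0
        exact hns (δ 0) (scalar_of_diag_const _ g hg δ hgx (mul_right_cancel₀ hi e1)
          (mul_right_cancel₀ hi e2))
      have hμn : z ^ 2 * (z ^ 2) ^ p = 1 := norm_of_pow (z ^ 2) 3 h3p1 hμ3
      have h6p1 : 6 ∣ p + 1 := Nat.dvd_of_mod_eq_zero (by omega)
      have hδn : ∀ i, δ i * δ i ^ p = 1 := by
        intro i
        apply norm_of_pow (δ i) 6 h6p1
        rcases hδ i with h | h
        · rw [h]; linear_combination ((z ^ 2) ^ 3 + 1) * hμ3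
        · rw [h]; linear_combination ((z ^ 2) ^ 3 + 1) * hμ3
      obtain ⟨U, hU, hxU'⟩ := UC hF φ hφ hφ2 (x : Matrix (Fin 3) (Fin 3) F) g⁻¹ δ hxU
        (det_inv_ne g hg) (inv_conj_eq g _ _ hg hgx) hδn
      obtain ⟨h, hh, hhW⟩ := w_diag h2 (fun i => δ i * (z ^ 2)⁻¹) hε hprodε hneε
      obtain ⟨W, hW⟩ := exists_gl (Wm : Matrix (Fin 3) (Fin 3) F) (by rw [det_Wm]; exact one_ne_zero)
      obtain ⟨S, hS⟩ := exists_gl (Matrix.diagonal (fun _ : Fin 3 => z ^ 2)) (by
        rw [Matrix.det_diagonal, Fin.prod_univ_three]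
        exact mul_ne_zero (mul_ne_zero hμ0 hμ0) hμ0)
      have hSN := diag_norm ζ hζ A B hcA hcB (fun _ => z ^ 2) ((z ^ 2) ^ 3)
        (pow_ne_zero _ hμ0) (fun _ => rfl) S hS
      have hWN := w_norm ζ hζ A B hcA hcB W hW
      have hTN := hNmap (S * W) (Subgroup.mul_mem _ hSN hWN)
      have e2 : h * (Matrix.diagonal (fun _ : Fin 3 => z ^ 2) * Wm) = Matrix.diagonal δ * h := by
        rw [← Matrix.mul_assoc, ← Matrix.smul_one_eq_diagonal, Matrix.mul_smul, Matrix.mul_one,
          Matrix.smul_mul, hhW]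
        ext i j
        rw [Matrix.smul_apply, Matrix.diagonal_mul, Matrix.diagonal_mul, smul_eq_mul]
        nth_rewrite 2 [hδε i]
        ring
      have hSWp : HPres 3 p (Matrix.diagonal (fun _ : Fin 3 => z ^ 2) * Wm) :=
        (diag_pres _ (fun _ => hμn)).mul (Wm_pres hpodd)
      obtain ⟨V, hV, hTV⟩ := UC hF φ hφ hφ2 _ h⁻¹ δ hSWp (det_inv_ne h hh)
        (inv_conj_eq h _ _ hh e2) hδn
      have hTV' : ((c * (S * W) * c⁻¹ : GL (Fin 3) F) : Matrix (Fin 3) (Fin 3) F) *
          ((c : Matrix (Fin 3) (Fin 3) F) * V) =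
          ((c : Matrix (Fin 3) (Fin 3) F) * V) * Matrix.diagonal δ := by
        have e : c * (S * W) * c⁻¹ * c = c * (S * W) := by group
        calc ((c * (S * W) * c⁻¹ : GL (Fin 3) F) : Matrix (Fin 3) (Fin 3) F) *
              ((c : Matrix (Fin 3) (Fin 3) F) * V)
            = ((c * (S * W) * c⁻¹ * c : GL (Fin 3) F) : Matrix (Fin 3) (Fin 3) F) * V := by
              rw [Units.val_mul (c * (S * W) * c⁻¹) c, Matrix.mul_assoc]
          _ = (c : Matrix (Fin 3) (Fin 3) F) *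
                ((Matrix.diagonal (fun _ : Fin 3 => z ^ 2) * Wm) * V) := by
              rw [e, Units.val_mul c (S * W), Units.val_mul S W, hS, hW,
                Matrix.mul_assoc (c : Matrix (Fin 3) (Fin 3) F)
                  (Matrix.diagonal (fun _ : Fin 3 => z ^ 2) * Wm) V]
          _ = (c : Matrix (Fin 3) (Fin 3) F) * V * Matrix.diagonal δ := by
              rw [hTV, Matrix.mul_assoc]
      obtain ⟨k, hk, hkx⟩ := SUC hF x (c * (S * W) * c⁻¹) δ U
        ((c : Matrix (Fin 3) (Fin 3) F) * V) hU (hcU'.mul hV) hxU' hTV'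
      exact ⟨k, hk, by rw [hkx]; exact hTN⟩
    · -- elements of order three
      have hx3 : (x : Matrix (Fin 3) (Fin 3) F) * (x : Matrix (Fin 3) (Fin 3) F) *
          (x : Matrix (Fin 3) (Fin 3) F) = z • 1 := by
        rw [← hz, Units.val_pow_eq_pow_val, pow_three']
      have hz3 : z ^ 3 = 1 := by
        have h := congrArg Matrix.det hx3
        rw [Matrix.det_mul, Matrix.det_mul, hx, Matrix.det_smul, Matrix.det_one] at h
        simpa using h.symm
      have hz0 : z ≠ 0 := by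
        intro h
        rw [h] at hz3
        simp at hz3
      have h9 : 9 ∣ Fintype.card F - 1 := by
        rw [hF]
        have h1 : p ^ 2 % 9 = 1 := by simp [Nat.pow_mod, hp9]
        exact Nat.dvd_of_mod_eq_zero (by omega)
      obtain ⟨l, hl⟩ := cube_root h9 z hz3
      have hl0 : l ≠ 0 := by
        intro h
        rw [h] at hl
        simp at hl
        exact hz0 hl.symm
      obtain ⟨δ, g, hδ, hg, hgx⟩ := spec3 (x : Matrix (Fin 3) (Fin 3) F) z l ζ hx3 hl hl0 hζ h3
      have hδ0 : ∀ i, δ i ≠ 0 := by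
        intro i h
        have := hδ i
        rw [h] at this
        simp at this
        exact hz0 this.symm
      have h9p1 : 9 ∣ p + 1 := Nat.dvd_of_mod_eq_zero (by omega)
      have hδn : ∀ i, δ i * δ i ^ p = 1 := by
        intro i
        apply norm_of_pow (δ i) 9 h9p1
        have h := hδ i
        calc δ i ^ 9 = (δ i ^ 3) ^ 3 := by ring
          _ = 1 := by rw [h, hz3]
      obtain ⟨U, hU, hxU'⟩ := UC hF φ hφ hφ2 (x : Matrix (Fin 3) (Fin 3) F) g⁻¹ δ hxU
        (det_inv_ne g hg) (inv_conj_eq g _ _ hg hgx) hδn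
      obtain ⟨Δ, hΔ⟩ := exists_gl (Matrix.diagonal δ) (by
        rw [Matrix.det_diagonal, Fin.prod_univ_three]
        exact mul_ne_zero (mul_ne_zero (hδ0 0) (hδ0 1)) (hδ0 2))
      have hΔN := diag_norm ζ hζ A B hcA hcB δ z hz0 hδ Δ hΔ
      have hTN := hNmap Δ hΔN
      have hTV' : ((c * Δ * c⁻¹ : GL (Fin 3) F) : Matrix (Fin 3) (Fin 3) F) *
          (c : Matrix (Fin 3) (Fin 3) F) =
          (c : Matrix (Fin 3) (Fin 3) F) * Matrix.diagonal δ := by
        have e : c * Δ * c⁻¹ * c = c * Δ := by group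
        rw [← Units.val_mul, e, Units.val_mul, hΔ]
      obtain ⟨k, hk, hkx⟩ := SUC hF x (c * Δ * c⁻¹) δ U (c : Matrix (Fin 3) (Fin 3) F) hU hcU'
        hxU' hTV'
      exact ⟨k, hk, by rw [hkx]; exact hTN⟩

end main

end Cfsg.Agent.Helper15.EU
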