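import Mathlib
import Cfsg.Agent.Helper15.SL2D
import Cfsg.Agent.Helper24.InvConst
import Cfsg.Agent.Helper2.Frobenius
import Cfsg.Agent.Helper2.Artin
import Cfsg.Agent.Helper25.CharArith
import Cfsg.Agent.Helper25.CharKer
import Cfsg.Agent.Helper7.Basic

/-!
# Generic lemmas for McKay counts (helper15)

`mkc ℓ G` is the number of irreducible characters of `G` of degree prime to `ℓ`.  This file
collects transport lemmas, a degree bound by the index of a commutative subgroup, the count of
odd-degree characters modulo four, and the class number of a "dicyclic-like" group.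
-/

set_option autoImplicit false

namespace Cfsg.Agent.Helper15.SL2E

open Cfsg
open scoped ComplexConjugate
open scoped commutatorElement

section Generic
universe u
variable {G : Type u} [Group G]

/-- the number of irreducible characters of degree prime to `ℓ` -/
noncomputable def mkc (ℓ : ℕ) (G : Type u) [Group G] : ℕ :=
  Nat.card {χ : IrrCharacter G // ¬ ℓ ∣ charDegree (χ : G → ℂ)}

lemma mkc_def (ℓ : ℕ) (G : Type u) [Group G] :
    mkc ℓ G = Nat.card {χ : IrrCharacter G // ¬ ℓ ∣ charDegree (χ : G → ℂ)} := rfl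

/-- transport of an irreducible character along an isomorphism -/
noncomputable def irrIso {H : Type u} [Group H] (φ : G ≃* H) (χ : IrrCharacter H) :
    IrrCharacter G :=
  Helper25.irrComp χ φ.toMonoidHom (by exact φ.surjective)

lemma irrIso_apply {H : Type u} [Group H] (φ : G ≃* H) (χ : IrrCharacter H) (g : G) :
    (irrIso φ χ : G → ℂ) g = (χ : H → ℂ) (φ g) := rfl

lemma charDegree_irrIso {H : Type u} [Group H] (φ : G ≃* H) (χ : IrrCharacter H) :
    charDegree (irrIso φ χ : G → ℂ) = charDegree (χ : H → ℂ) :=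
  Helper25.charDegree_irrComp _ _ _

lemma mk_congr (ℓ : ℕ) {H : Type u} [Group H] (φ : G ≃* H) : mkc ℓ G = mkc ℓ H := by
  unfold mkc
  apply Nat.card_congr
  refine ⟨fun χ => ⟨irrIso φ.symm χ.1, ?_⟩, fun χ => ⟨irrIso φ χ.1, ?_⟩, ?_, ?_⟩
  · rw [charDegree_irrIso]
    exact χ.2
  · rw [charDegree_irrIso]
    exact χ.2
  · intro χ
    apply Subtype.ext
    apply Subtype.ext
    funext g
    simp [irrIso_apply]
  · intro χ
    apply Subtype.ext
    apply Subtype.ext
    funext g
    simp [irrIso_apply]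

lemma mk_normalizer_conj (ℓ : ℕ) (H : Subgroup G) (g : G) :
    mkc ℓ (Subgroup.normalizer ((H.map (MulAut.conj g).toMonoidHom : Subgroup G) : Set G)) =
      mkc ℓ (Subgroup.normalizer (H : Set G)) := by
  have h := Subgroup.map_equiv_normalizer_eq H (MulAut.conj g)
  rw [← h]
  exact (mk_congr ℓ ((MulAut.conj g).subgroupMap (Subgroup.normalizer (H : Set G)))).symm

lemma mk_sylow_indep [Finite G] (ℓ : ℕ) [Fact ℓ.Prime] (S S' : Sylow ℓ G) :
    mkc ℓ (Subgroup.normalizer ((S : Subgroup G) : Set G)) =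
      mkc ℓ (Subgroup.normalizer ((S' : Subgroup G) : Set G)) := by
  obtain ⟨g, hg⟩ := MulAction.exists_smul_eq G S' S
  have h2 : (S : Subgroup G) = (S' : Subgroup G).map (MulAut.conj g).toMonoidHom := by
    rw [← hg, Sylow.coe_subgroup_smul, Subgroup.pointwise_smul_def]
    rfl
  rw [h2, mk_normalizer_conj]

lemma mk_of_eq (ℓ : ℕ) {H K : Subgroup G} (h : H = K) : mkc ℓ H = mkc ℓ K :=
  mk_congr ℓ (MulEquiv.subgroupCongr h)

/-- the degree of an irreducible character is at most the index of a commutative subgroup -/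
lemma deg_le_index_of_comm [Finite G] (A : Subgroup G)
    (hA : ∀ a ∈ A, ∀ b ∈ A, a * b = b * a) (χ : IrrCharacter G) :
    charDegree (χ : G → ℂ) ≤ A.index := by
  classical
  haveI := Fintype.ofFinite G
  haveI : Fintype A := Fintype.ofFinite A
  have hχc : IsCharacter G (χ : G → ℂ) := Helper2.isCharacter_of_isIrrCharacter χ.2
  have hres : IsCharacter A (fun a : A => (χ : G → ℂ) a) := Helper2.isCharacter_restrict A hχc
  have hres1 : (fun a : A => (χ : G → ℂ) a) 1 ≠ 0 := by
    show (χ : G → ℂ) ((1 : A) : G) ≠ 0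
    rw [Subgroup.coe_one]
    exact Helper25.irr_one_ne_zero χ
  obtain ⟨ξ, hξ⟩ := Helper24.exists_constituent hres hres1
  have hcommA : ∀ a b : A, a * b = b * a := fun a b => Subtype.ext (hA a a.2 b b.2)
  obtain ⟨lam, hlam⟩ := Helper2.exists_hom_of_irr_of_comm hcommA ξ
  have hξ1 : (ξ : A → ℂ) 1 = 1 := by
    rw [hlam]
    simp
  have hind : IsCharacter G (indFun A (ξ : A → ℂ)) :=
    Helper2.isCharacter_indFun A (Helper2.isCharacter_of_isIrrCharacter ξ.2)
  have hrec := Helper2.frobenius_reciprocity A (ξ : A → ℂ) (χ : G → ℂ)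
    (Helper2.isClassFunction_of_isCharacter hχc)
  have hne : classInner (indFun A (ξ : A → ℂ)) (χ : G → ℂ) ≠ 0 := by
    rw [hrec, Helper2.classInner_conj_symm]
    intro h
    apply hξ
    have := congrArg (starRingEnd ℂ) h
    simpa using this
  have hexp := Helper2.classFun_eq_sum_classInner (Helper2.isClassFunction_of_isCharacter hind)
  have hnat : ∀ ψ : IrrCharacter G, ∃ m : ℕ,
      classInner (indFun A (ξ : A → ℂ)) (ψ : G → ℂ) = m :=
    fun ψ => Helper2.classInner_char_nat hind (Helper2.isCharacter_of_isIrrCharacter ψ.2)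
  choose m hm using hnat
  have h1 := congrFun hexp 1
  rw [Helper7.indFun_one, hξ1, mul_one] at h1
  simp only [Finset.sum_apply, Pi.smul_apply, smul_eq_mul] at h1
  have h2 : ((A.index : ℕ) : ℂ) =
      ((∑ ψ : IrrCharacter G, m ψ * charDegree (ψ : G → ℂ) : ℕ) : ℂ) := by
    push_cast
    have e : ∀ ψ : IrrCharacter G, (m ψ : ℂ) * (charDegree (ψ : G → ℂ) : ℂ) =
        classInner (indFun A (ξ : A → ℂ)) (ψ : G → ℂ) * (ψ : G → ℂ) 1 := by
      intro ψ
      rw [← hm ψ, ← Helper25.irr_one_eq_degree ψ]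
    rw [Finset.sum_congr rfl (fun ψ _ => e ψ), ← h1, ← Subgroup.card_mul_index A]
    have hA0 : (Nat.card A : ℂ) ≠ 0 := Nat.cast_ne_zero.mpr Nat.card_pos.ne'
    push_cast
    field_simp
  have h3 : A.index = ∑ ψ : IrrCharacter G, m ψ * charDegree (ψ : G → ℂ) := by
    exact_mod_cast h2
  rw [h3]
  have hmχ : 1 ≤ m χ := by
    rcases Nat.eq_zero_or_pos (m χ) with h0 | h0
    · exfalso
      apply hne
      rw [hm χ, h0]
      simp
    · exact h0
  calc charDegree (χ : G → ℂ) ≤ m χ * charDegree (χ : G → ℂ) := Nat.le_mul_of_pos_left _ hmχ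
    _ ≤ ∑ ψ : IrrCharacter G, m ψ * charDegree (ψ : G → ℂ) :=
        Finset.single_le_sum (f := fun ψ => m ψ * charDegree (ψ : G → ℂ))
          (fun _ _ => Nat.zero_le _) (Finset.mem_univ χ)

/-- the number of odd-degree irreducible characters is congruent to the group order mod 4 -/
lemma odd_count_mod_four [Finite G] : mkc 2 G % 4 = Nat.card G % 4 := by
  classical
  haveI := Fintype.ofFinite G
  have h := Helper25.sum_irr_degree_sq_nat (G := G)
  have key : ∀ χ : IrrCharacter G,
      (if ¬ 2 ∣ charDegree (χ : G → ℂ) then 1 else 0) % 4 = charDegree (χ : G → ℂ) ^ 2 % 4 := by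
    intro χ
    rcases Nat.even_or_odd (charDegree (χ : G → ℂ)) with ⟨t, ht⟩ | ⟨t, ht⟩
    · rw [if_neg (by rw [not_not, ht]; exact ⟨t, by ring⟩), ht]
      have e : (t + t) ^ 2 = 4 * (t * t) := by ring
      rw [e]
      simp
    · rw [if_pos (by rw [ht]; omega), ht]
      have e : (2 * t + 1) ^ 2 = 4 * (t * t + t) + 1 := by ring
      rw [e]
      simp
  unfold mkc
  rw [← h, Nat.card_eq_fintype_card, Fintype.card_subtype, Finset.card_filter,
    Finset.sum_nat_mod, Finset.sum_congr rfl (fun χ _ => key χ), ← Finset.sum_nat_mod]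

/-- the trivial character gives a character of degree one -/
lemma mk_pos [Finite G] (ℓ : ℕ) (hℓ : 2 ≤ ℓ) : 1 ≤ mkc ℓ G := by
  unfold mkc
  haveI : Nonempty {χ : IrrCharacter G // ¬ ℓ ∣ charDegree (χ : G → ℂ)} := by
    refine ⟨⟨Helper25.trivChar G, ?_⟩⟩
    rw [Helper25.charDegree_trivChar]
    intro h
    have := Nat.le_of_dvd one_pos h
    omega
  exact Nat.card_pos

end Generic

section Dic
variable {D : Type*} [Group D] [Finite D]

/-- class number of a group with a commutative subgroup `A` of index two which is inverted by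
the outer elements and has exactly two elements of order dividing two -/
theorem dic_classes (A : Subgroup D) (hidx : A.index = 2)
    (hcomm : ∀ a ∈ A, ∀ b ∈ A, a * b = b * a)
    (hinv : ∀ x : D, x ∉ A → ∀ a ∈ A, x * a * x⁻¹ = a⁻¹)
    (z : D) (hzA : z ∈ A) (hz1 : z ≠ 1) (hzz : z * z = 1)
    (hinvol : ∀ a ∈ A, a * a = 1 → a = 1 ∨ a = z) :
    2 * Nat.card (ConjClasses D) = Nat.card A + 6 := by
  classical
  haveI := Fintype.ofFinite D
  have hsum := Helper2.sum_commute_card D
  have hcardD : Nat.card D = 2 * Nat.card A := by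
    rw [← Subgroup.card_mul_index A, hidx, mul_comm]
  have hzinv : z⁻¹ = z := inv_eq_of_mul_eq_one_left hzz
  have c1 : ∀ g : D, g ∈ A → g * g = 1 →
      Nat.card {b : D // g * b = b * g} = 2 * Nat.card A := by
    intro g hg hgg
    have hall : ∀ b : D, g * b = b * g := by
      intro b
      by_cases hb : b ∈ A
      · exact hcomm g hg b hb
      · have h := hinv b hb g hg
        have hginv : g⁻¹ = g := inv_eq_of_mul_eq_one_left hgg
        rw [hginv] at h
        calc g * b = (b * g * b⁻¹) * b := by rw [h]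
          _ = b * g := by group
    rw [← hcardD]
    exact Nat.card_congr (Equiv.subtypeUnivEquiv hall)
  have c2 : ∀ g : D, g ∈ A → g * g ≠ 1 →
      Nat.card {b : D // g * b = b * g} = Nat.card A := by
    intro g hg hgg
    apply Nat.card_congr
    refine Equiv.subtypeEquivRight ?_
    intro b
    constructor
    · intro hb
      by_contra hbA
      have h := hinv b hbA g hg
      apply hgg
      have h2 : b * g * b⁻¹ = g := by
        rw [← hb]
        group
      rw [h2] at h
      calc g * g = g * g⁻¹ := by rw [← h]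
        _ = 1 := mul_inv_cancel g
    · intro hb
      exact hcomm g hg b hb
  have c3 : ∀ g : D, g ∉ A → Nat.card {b : D // g * b = b * g} = 4 := by
    intro g hg
    have hgz0 : g * z = z * g := by
      have h := hinv g hg z hzA
      rw [hzinv] at h
      calc g * z = g * z * g⁻¹ * g := by group
        _ = z * g := by rw [h]
    have hset : ∀ b : D, g * b = b * g ↔ (b = 1 ∨ b = z ∨ b = g ∨ b = g * z) := by
      intro b
      constructor
      · intro hb
        by_cases hbA : b ∈ A
        · have h := hinv g hg b hbA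
          have h2 : g * b * g⁻¹ = b := by
            rw [hb]
            group
          rw [h2] at h
          have hbb : b * b = 1 := by
            calc b * b = b * b⁻¹ := by rw [← h]
              _ = 1 := mul_inv_cancel b
          rcases hinvol b hbA hbb with h3 | h3
          · left
            exact h3
          · right; left
            exact h3
        · have ha' : g⁻¹ * b ∈ A := by
            rw [Subgroup.mul_mem_iff_of_index_two hidx]
            constructor
            · intro h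
              exact absurd (inv_mem_iff.mp h) hg
            · intro h
              exact absurd h hbA
          have hc : g * (g⁻¹ * b) = (g⁻¹ * b) * g := by
            rw [mul_assoc, ← hb]
            group
          have h := hinv g hg _ ha'
          have h2 : g * (g⁻¹ * b) * g⁻¹ = g⁻¹ * b := by
            rw [hc]
            group
          rw [h2] at h
          have hbb : (g⁻¹ * b) * (g⁻¹ * b) = 1 := by
            calc (g⁻¹ * b) * (g⁻¹ * b) = (g⁻¹ * b) * (g⁻¹ * b)⁻¹ := by rw [← h]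
              _ = 1 := mul_inv_cancel _
          rcases hinvol _ ha' hbb with h3 | h3
          · right; right; left
            calc b = g * (g⁻¹ * b) := by group
              _ = g := by rw [h3, mul_one]
          · right; right; right
            calc b = g * (g⁻¹ * b) := by group
              _ = g * z := by rw [h3]
      · rintro (rfl | rfl | rfl | rfl)
        · rw [mul_one, one_mul]
        · exact hgz0
        · rfl
        · rw [mul_assoc, ← hgz0, ← mul_assoc]
    have hne1 : (1 : D) ≠ z := fun h => hz1 h.symm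
    have hg1 : g ≠ 1 := fun h => hg (h ▸ A.one_mem)
    have hgz : g ≠ z := fun h => hg (h ▸ hzA)
    have hgz1 : g * z ≠ 1 := by
      intro h
      apply hg
      have h2 : g = z⁻¹ := eq_inv_of_mul_eq_one_left h
      rw [h2]
      exact A.inv_mem hzA
    have hcard4 : ({1, z, g, g * z} : Finset D).card = 4 := by
      rw [Finset.card_insert_of_notMem (by simp [hne1, hg1.symm, hgz1.symm, hg1, hz1]),
        Finset.card_insert_of_notMem (by simp [hgz.symm, hg1, hz1]),
        Finset.card_insert_of_notMem (by simp [hz1]), Finset.card_singleton]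
    have e : Nat.card {b : D // g * b = b * g} =
        Nat.card {b : D // b ∈ ({1, z, g, g * z} : Finset D)} :=
      Nat.card_congr (Equiv.subtypeEquivRight fun b => by
        rw [hset b]
        simp only [Finset.mem_insert, Finset.mem_singleton])
    rw [e, Nat.card_eq_fintype_card, Fintype.card_coe, hcard4]
  have hval : ∀ g : D, Nat.card {b : D // g * b = b * g} =
      if g ∈ A then (Nat.card A + if g * g = 1 then Nat.card A else 0) else 4 := by
    intro g
    by_cases hg : g ∈ A
    · by_cases hgg : g * g = 1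
      · rw [if_pos hg, if_pos hgg, c1 g hg hgg]
        ring
      · rw [if_pos hg, if_neg hgg, c2 g hg hgg, add_zero]
    · rw [if_neg hg, c3 g hg]
  rw [Finset.sum_congr rfl (fun g _ => hval g), Finset.sum_ite, Finset.sum_add_distrib,
    Finset.sum_const, Finset.sum_const, ← Finset.sum_filter, Finset.sum_const,
    Finset.filter_filter] at hsum
  have hA : (Finset.univ.filter (fun g : D => g ∈ A)).card = Nat.card A := by
    rw [Nat.card_eq_fintype_card, Fintype.card_subtype]
  have hnA : (Finset.univ.filter (fun g : D => ¬ g ∈ A)).card = Nat.card A := by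
    have h1 := Finset.card_filter_add_card_filter_not (s := (Finset.univ : Finset D)) (fun g : D => g ∈ A)
    rw [hA, Finset.card_univ, ← Nat.card_eq_fintype_card, hcardD] at h1
    omega
  have h2 : (Finset.univ.filter (fun g : D => g ∈ A ∧ g * g = 1)).card = 2 := by
    have hs : Finset.univ.filter (fun g : D => g ∈ A ∧ g * g = 1) = {1, z} := by
      ext g
      simp only [Finset.mem_filter, Finset.mem_univ, true_and, Finset.mem_insert,
        Finset.mem_singleton]
      constructor
      · rintro ⟨h1, h2⟩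
        exact hinvol g h1 h2
      · rintro (rfl | rfl)
        · exact ⟨A.one_mem, mul_one 1⟩
        · exact ⟨hzA, hzz⟩
    rw [hs, Finset.card_insert_of_notMem (by simp [Ne.symm hz1]), Finset.card_singleton]
  rw [hA, hnA, h2, hcardD] at hsum
  simp only [smul_eq_mul] at hsum
  have hpos : 0 < Nat.card A := Nat.card_pos
  have h3 : Nat.card A * (Nat.card A + 6) = Nat.card A * (2 * Nat.card (ConjClasses D)) := by
    linarith
  exact (Nat.eq_of_mul_eq_mul_left hpos h3).symm

end Dic

section Torus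
universe u
variable {G : Type u} [Group G]

/-- finite subgroups: conjugation into `H` suffices for the normalizer -/
lemma mem_normalizer_of_conj [Finite G] (H : Subgroup G) (g : G)
    (h : ∀ x ∈ H, g * x * g⁻¹ ∈ H) : g ∈ Subgroup.normalizer (H : Set G) := by
  rw [Subgroup.mem_normalizer_iff]
  intro x
  refine ⟨h x, fun hx => ?_⟩
  let f : H → H := fun a => ⟨g * a * g⁻¹, h a a.2⟩
  have hinj : Function.Injective f := by
    intro a b hab
    have h1 := congrArg Subtype.val hab
    simp only [f] at h1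
    exact Subtype.ext (by simpa using h1)
  obtain ⟨a, ha⟩ := (Finite.injective_iff_surjective.mp hinj) ⟨g * x * g⁻¹, hx⟩
  have h1 := congrArg Subtype.val ha
  simp only [f] at h1
  have hax : (a : G) = x := by simpa using h1
  rw [← hax]
  exact a.2

/-- abstract data of a "torus" `T` with central involution `z` in a group whose only involution
is `z` -/
structure TD (T : Subgroup G) (z : G) : Prop where
  z_ne : z ≠ 1
  z_sq : z * z = 1
  z_cent : ∀ g : G, g * z = z * g
  invol : ∀ x : G, x * x = 1 → x = 1 ∨ x = z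
  z_mem : z ∈ T
  comm : ∀ a ∈ T, ∀ b ∈ T, a * b = b * a
  cent : ∀ c ∈ T, c ≠ 1 → c ≠ z → ∀ y : G, y * c = c * y → y ∈ T
  ncard : Nat.card (Subgroup.normalizer (T : Set G)) = 2 * Nat.card T
  inv : ∀ x ∈ Subgroup.normalizer (T : Set G), x ∉ T → ∀ c ∈ T, x⁻¹ * c * x = c⁻¹

namespace TD
variable [Finite G] {T : Subgroup G} {z : G}

lemma index_two (h : TD T z) : (T.subgroupOf (Subgroup.normalizer (T : Set G))).index = 2 := by
  have h1 := Subgroup.card_mul_index (T.subgroupOf (Subgroup.normalizer (T : Set G)))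
  rw [h.ncard, Nat.card_congr (Subgroup.subgroupOfEquivOfLe Subgroup.le_normalizer).toEquiv] at h1
  have hpos : 0 < Nat.card T := Nat.card_pos
  have h2 : Nat.card T * (T.subgroupOf (Subgroup.normalizer (T : Set G))).index =
      Nat.card T * 2 := by
    rw [h1]
    ring
  exact Nat.eq_of_mul_eq_mul_left hpos h2

lemma mul_mem_iff (h : TD T z) {x y : G} (hx : x ∈ Subgroup.normalizer (T : Set G))
    (hy : y ∈ Subgroup.normalizer (T : Set G)) : x * y ∈ T ↔ (x ∈ T ↔ y ∈ T) := by
  have h1 := Subgroup.mul_mem_iff_of_index_two h.index_two (a := ⟨x, hx⟩) (b := ⟨y, hy⟩)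
  simpa [Subgroup.mem_subgroupOf] using h1

lemma conj_inv (h : TD T z) {x c : G} (hx : x ∈ Subgroup.normalizer (T : Set G)) (hxT : x ∉ T)
    (hc : c ∈ T) : x * c * x⁻¹ = c⁻¹ := by
  have h1 := h.inv x⁻¹ (inv_mem hx) (fun h' => hxT (inv_mem_iff.mp h')) c hc
  rwa [inv_inv] at h1

lemma sq_eq (h : TD T z) {w : G} (hw : w ∈ Subgroup.normalizer (T : Set G)) (hwT : w ∉ T) :
    w * w = z := by
  have h1 : w * w ∈ T := (h.mul_mem_iff hw hw).mpr Iff.rfl
  have h2 := h.conj_inv hw hwT h1
  have h3 : w * (w * w) * w⁻¹ = w * w := by group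
  rw [h3] at h2
  have h4 : (w * w) * (w * w) = 1 := by
    calc (w * w) * (w * w) = (w * w) * (w * w)⁻¹ := by rw [← h2]
      _ = 1 := mul_inv_cancel _
  rcases h.invol _ h4 with h5 | h5
  · exfalso
    rcases h.invol w h5 with h6 | h6
    · exact hwT (h6 ▸ T.one_mem)
    · exact hwT (h6 ▸ h.z_mem)
  · exact h5

lemma classes (h : TD T z) :
    2 * Nat.card (ConjClasses (Subgroup.normalizer (T : Set G))) = Nat.card T + 6 := by
  have hle : T ≤ Subgroup.normalizer (T : Set G) := Subgroup.le_normalizer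
  have hc := dic_classes (T.subgroupOf (Subgroup.normalizer (T : Set G))) h.index_two
    (fun a ha b hb => Subtype.ext (h.comm a ha b hb))
    (fun x hx a ha => Subtype.ext (by
      simp only [Subgroup.coe_mul, Subgroup.coe_inv]
      exact h.conj_inv x.2 hx ha))
    ⟨z, hle h.z_mem⟩ h.z_mem (fun h' => h.z_ne (congrArg Subtype.val h'))
    (Subtype.ext h.z_sq)
    (fun a ha haa => by
      rcases h.invol a (congrArg Subtype.val haa) with h1 | h1
      · left
        exact Subtype.ext h1
      · right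
        exact Subtype.ext h1)
  rw [hc, Nat.card_congr (Subgroup.subgroupOfEquivOfLe hle).toEquiv]

lemma deg_le (h : TD T z) (ψ : IrrCharacter (Subgroup.normalizer (T : Set G))) :
    charDegree (ψ : Subgroup.normalizer (T : Set G) → ℂ) ≤ 2 := by
  have h1 := deg_le_index_of_comm (T.subgroupOf (Subgroup.normalizer (T : Set G)))
    (fun a ha b hb => Subtype.ext (h.comm a ha b hb)) ψ
  rwa [h.index_two] at h1

lemma mk_odd (h : TD T z) (ℓ : ℕ) (hℓ : 3 ≤ ℓ) :
    2 * mkc ℓ (Subgroup.normalizer (T : Set G)) = Nat.card T + 6 := by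
  haveI : Fintype ↥(Subgroup.normalizer (T : Set G)) := Fintype.ofFinite _
  rw [← h.classes, ← Helper1.card_irr]
  congr 1
  unfold mkc
  apply Nat.card_congr
  exact Equiv.subtypeUnivEquiv (fun ψ hd => by
    have h1 := h.deg_le ψ
    have h2 := Helper25.irr_degree_pos ψ
    have h3 := Nat.le_of_dvd h2 hd
    omega)

lemma sylow_unique (h : TD T z) (ℓ : ℕ) [Fact ℓ.Prime] (P : Sylow ℓ T) {a : G} (ha : a ∈ T)
    {k : ℕ} (hk : a ^ ℓ ^ k = 1) : (⟨a, ha⟩ : T) ∈ P := by
  have hP : (P : Subgroup T).Normal := ⟨fun n hn t => by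
    have e : t * n * t⁻¹ = n := by
      apply Subtype.ext
      simp only [Subgroup.coe_mul, Subgroup.coe_inv]
      rw [h.comm t t.2 n n.2]
      group
    rw [e]
    exact hn⟩
  have hz : IsPGroup ℓ (Subgroup.zpowers (⟨a, ha⟩ : T)) := by
    rintro ⟨b, hb⟩
    obtain ⟨m, rfl⟩ := Subgroup.mem_zpowers_iff.mp hb
    refine ⟨k, Subtype.ext ?_⟩
    simp only [Subgroup.coe_pow, Subgroup.coe_one]
    have e : (⟨a, ha⟩ : T) ^ ℓ ^ k = 1 := Subtype.ext (by simpa using hk)
    rw [← zpow_natCast, ← zpow_mul, mul_comm, zpow_mul, zpow_natCast, e, one_zpow]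
  obtain ⟨Q, hQ⟩ := hz.exists_le_sylow
  obtain ⟨t, ht⟩ := MulAction.exists_smul_eq T P Q
  haveI := hP
  rw [Sylow.smul_eq_of_normal] at ht
  rw [ht]
  exact hQ (Subgroup.mem_zpowers _)

theorem norm_sylow_odd (h : TD T z) (ℓ : ℕ) [Fact ℓ.Prime] (hℓ2 : ℓ ≠ 2)
    (hdvd : ℓ ∣ Nat.card T) (P : Sylow ℓ T) :
    Subgroup.normalizer (((P : Subgroup T).map T.subtype : Subgroup G) : Set G) =
      Subgroup.normalizer (T : Set G) := by
  have hℓ : ℓ.Prime := Fact.out
  have hodd : Odd ℓ := hℓ.odd_of_ne_two hℓ2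
  have hmem : ∀ a : G, a ∈ (P : Subgroup T).map T.subtype ↔
      ∃ ha : a ∈ T, (⟨a, ha⟩ : T) ∈ P := by
    intro a
    constructor
    · rintro ⟨b, hb, rfl⟩
      exact ⟨b.2, hb⟩
    · rintro ⟨ha, hb⟩
      exact ⟨⟨a, ha⟩, hb, rfl⟩
  have hpow : ∀ a : G, a ∈ (P : Subgroup T).map T.subtype → ∃ k : ℕ, a ^ ℓ ^ k = 1 := by
    intro a ha
    obtain ⟨haT, hb⟩ := (hmem a).mp ha
    obtain ⟨k, hk⟩ := P.isPGroup' ⟨⟨a, haT⟩, hb⟩
    refine ⟨k, ?_⟩
    have h1 := congrArg (fun x : (P : Subgroup T) => ((x : T) : G)) hk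
    simpa using h1
  apply le_antisymm
  · intro g hg
    have hPcard : ℓ ∣ Nat.card (P : Subgroup T) := P.dvd_card_of_dvd_card hdvd
    have hne : (P : Subgroup T) ≠ ⊥ := by
      intro hbot
      rw [hbot, Subgroup.card_bot] at hPcard
      exact hℓ.not_dvd_one hPcard
    obtain ⟨s, hs1⟩ := (Subgroup.ne_bot_iff_exists_ne_one).mp hne
    obtain ⟨s0, hs0⟩ : ∃ s0 : G, s0 = ((s : T) : G) := ⟨_, rfl⟩
    have hs0S : s0 ∈ (P : Subgroup T).map T.subtype := ⟨(s : T), s.2, hs0.symm⟩
    have hs0T : s0 ∈ T := by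
      rw [hs0]
      exact (s : T).2
    have hs0ne : s0 ≠ 1 := by
      intro h'
      apply hs1
      apply Subtype.ext
      apply Subtype.ext
      rw [← hs0, h']
      rfl
    have hnz : ∀ a : G, a ∈ (P : Subgroup T).map T.subtype → a ≠ 1 → a ≠ z := by
      intro a ha ha1 haz
      obtain ⟨k, hk⟩ := hpow a ha
      rw [haz] at hk
      obtain ⟨m, hm⟩ := hodd.pow (n := k)
      rw [hm, pow_succ, pow_mul, pow_two, h.z_sq, one_pow, one_mul] at hk
      exact h.z_ne hk
    have ht : g * s0 * g⁻¹ ∈ (P : Subgroup T).map T.subtype :=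
      (Subgroup.mem_normalizer_iff.mp hg s0).mp hs0S
    have ht1 : g * s0 * g⁻¹ ≠ 1 := by
      intro h'
      apply hs0ne
      have e : s0 = g⁻¹ * (g * s0 * g⁻¹) * g := by group
      rw [e, h']
      group
    have htz := hnz _ ht ht1
    have htT : g * s0 * g⁻¹ ∈ T := ((hmem _).mp ht).1
    apply mem_normalizer_of_conj
    intro a ha
    apply h.cent _ htT ht1 htz
    have hc := h.comm a ha s0 hs0T
    calc g * a * g⁻¹ * (g * s0 * g⁻¹) = g * (a * s0) * g⁻¹ := by group
      _ = g * (s0 * a) * g⁻¹ := by rw [hc]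
      _ = g * s0 * g⁻¹ * (g * a * g⁻¹) := by group
  · intro g hg
    apply mem_normalizer_of_conj
    intro a ha
    obtain ⟨haT, -⟩ := (hmem a).mp ha
    obtain ⟨k, hk⟩ := hpow a ha
    have hgT : g * a * g⁻¹ ∈ T := (Subgroup.mem_normalizer_iff.mp hg a).mp haT
    have hk' : (g * a * g⁻¹) ^ ℓ ^ k = 1 := by
      rw [conj_pow, hk]
      group
    exact (hmem _).mpr ⟨hgT, h.sylow_unique ℓ P hgT hk'⟩

theorem mckay_odd (h : TD T z) (ℓ : ℕ) [Fact ℓ.Prime] (hℓ2 : ℓ ≠ 2) (hdvd : ℓ ∣ Nat.card T)
    (hval : (Nat.card G).factorization ℓ = (Nat.card T).factorization ℓ) :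
    ∃ S : Sylow ℓ G,
      2 * mkc ℓ (Subgroup.normalizer ((S : Subgroup G) : Set G)) = Nat.card T + 6 := by
  obtain ⟨P⟩ : Nonempty (Sylow ℓ T) := inferInstance
  have hcard : Nat.card ((P : Subgroup T).map T.subtype) =
      ℓ ^ (Nat.card G).factorization ℓ := by
    rw [Subgroup.card_map_of_injective (Subgroup.subtype_injective _), P.card_eq_multiplicity,
      hval]
  refine ⟨Sylow.ofCard _ hcard, ?_⟩
  rw [Sylow.coe_ofCard, mk_of_eq ℓ (h.norm_sylow_odd ℓ hℓ2 hdvd P)]
  exact h.mk_odd ℓ (by have := (Fact.out : ℓ.Prime).two_le; omega)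

end TD
end Torus

section Two
universe u
variable {G : Type u} [Group G]

/-- a 2-subgroup `S` of the normalizer of the torus `T` containing all 2-elements of `T` and
an element `w` outside `T` -/
structure TS (T : Subgroup G) (S : Subgroup G) (w : G) : Prop where
  le : S ≤ Subgroup.normalizer (T : Set G)
  pow : ∀ s ∈ S, ∃ k : ℕ, s ^ 2 ^ k = 1
  mem : ∀ t ∈ T, ∀ k : ℕ, t ^ 2 ^ k = 1 → t ∈ S
  w_mem : w ∈ S
  w_not : w ∉ T

namespace TD
variable [Finite G] {T : Subgroup G} {z : G}

/-- 2-elements of `T` lie in every Sylow 2-subgroup of the normalizer -/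
lemma two_mem (h : TD T z) (Q : Sylow 2 (Subgroup.normalizer (T : Set G))) {t : G} (ht : t ∈ T)
    {k : ℕ} (hk : t ^ 2 ^ k = 1) :
    t ∈ (Q : Subgroup (Subgroup.normalizer (T : Set G))).map
      (Subgroup.normalizer (T : Set G)).subtype := by
  have htD : t ∈ Subgroup.normalizer (T : Set G) := Subgroup.le_normalizer ht
  have hz : IsPGroup 2 (Subgroup.zpowers (⟨t, htD⟩ : Subgroup.normalizer (T : Set G))) := by
    rintro ⟨b, hb⟩
    obtain ⟨m, rfl⟩ := Subgroup.mem_zpowers_iff.mp hb
    refine ⟨k, Subtype.ext ?_⟩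
    simp only [Subgroup.coe_pow, Subgroup.coe_one]
    have e : (⟨t, htD⟩ : Subgroup.normalizer (T : Set G)) ^ 2 ^ k = 1 :=
      Subtype.ext (by simpa using hk)
    rw [← zpow_natCast, ← zpow_mul, mul_comm, zpow_mul, zpow_natCast, e, one_zpow]
  obtain ⟨Q', hQ'⟩ := hz.exists_le_sylow
  obtain ⟨d, hd⟩ := MulAction.exists_smul_eq (Subgroup.normalizer (T : Set G)) Q Q'
  have h1 : (⟨t, htD⟩ : Subgroup.normalizer (T : Set G)) ∈
      (Q' : Subgroup (Subgroup.normalizer (T : Set G))) := hQ' (Subgroup.mem_zpowers _)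
  rw [← hd, Sylow.coe_subgroup_smul, Subgroup.mem_pointwise_smul_iff_inv_smul_mem] at h1
  have h2 : (d : G)⁻¹ * t * d ∈ (Q : Subgroup (Subgroup.normalizer (T : Set G))).map
      (Subgroup.normalizer (T : Set G)).subtype := by
    refine ⟨_, h1, ?_⟩
    simp [MulAut.smul_def]
  by_cases hdT : (d : G) ∈ T
  · have e : (d : G)⁻¹ * t * d = t := by
      rw [mul_assoc, h.comm t ht d hdT, ← mul_assoc, inv_mul_cancel, one_mul]
    rwa [e] at h2
  · have e := h.inv d d.2 hdT t ht
    rw [e] at h2
    exact inv_mem_iff.mp h2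

variable {S : Subgroup G} {w : G}

lemma ts_z_mem (h : TD T z) (hs : TS T S w) : z ∈ S :=
  hs.mem z h.z_mem 1 (by rw [pow_one, pow_two, h.z_sq])

lemma ts_wD (hs : TS T S w) : w ∈ Subgroup.normalizer (T : Set G) := hs.le hs.w_mem

lemma ts_out (h : TD T z) (hs : TS T S w) {s : G} (hsS : s ∈ S) (hsT : s ∉ T) :
    w⁻¹ * s ∈ S ∧ w⁻¹ * s ∈ T := by
  refine ⟨S.mul_mem (S.inv_mem hs.w_mem) hsS, ?_⟩
  rw [h.mul_mem_iff (inv_mem (ts_wD hs)) (hs.le hsS)]
  constructor
  · intro h1
    exact absurd (inv_mem_iff.mp h1) hs.w_not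
  · intro h1
    exact absurd h1 hsT

lemma ts_norm_inter (h : TD T z) (hs : TS T S w) {g : G}
    (hg : g ∈ Subgroup.normalizer (S : Set G)) (hgT : g ∈ T) : g ∈ S := by
  have h1 : g * w * g⁻¹ ∈ S := (Subgroup.mem_normalizer_iff.mp hg w).mp hs.w_mem
  have h2 := h.conj_inv (ts_wD hs) hs.w_not (T.inv_mem hgT)
  rw [inv_inv] at h2
  have h3 : g * g = (g * w * g⁻¹) * w⁻¹ := by
    calc g * g = g * (w * g⁻¹ * w⁻¹) := by rw [h2]
      _ = (g * w * g⁻¹) * w⁻¹ := by group
  have h4 : g * g ∈ S := by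
    rw [h3]
    exact S.mul_mem h1 (S.inv_mem hs.w_mem)
  obtain ⟨k, hk⟩ := hs.pow _ h4
  apply hs.mem g hgT (k + 1)
  rw [pow_succ, pow_mul', pow_two]
  exact hk

lemma ts_norm_D (h : TD T z) (hs : TS T S w) {g : G}
    (hg : g ∈ Subgroup.normalizer (S : Set G)) (hgD : g ∈ Subgroup.normalizer (T : Set G)) :
    g ∈ S := by
  by_cases hgT : g ∈ T
  · exact ts_norm_inter h hs hg hgT
  · have h1 : g * w⁻¹ ∈ T := by
      rw [h.mul_mem_iff hgD (inv_mem (ts_wD hs))]
      constructor
      · intro h'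
        exact absurd h' hgT
      · intro h'
        exact absurd (inv_mem_iff.mp h') hs.w_not
    have h2 : g * w⁻¹ ∈ Subgroup.normalizer (S : Set G) :=
      Subgroup.mul_mem _ hg (inv_mem (Subgroup.le_normalizer hs.w_mem))
    have h3 := ts_norm_inter h hs h2 h1
    have e : g = g * w⁻¹ * w := by group
    rw [e]
    exact S.mul_mem h3 hs.w_mem

lemma ts_card (h : TD T z) (hs : TS T S w) :
    Nat.card S = 2 * Nat.card (S ⊓ T : Subgroup G) := by
  have hidx : ((S ⊓ T).subgroupOf S).index = 2 := by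
    rw [Subgroup.index_eq_two_iff]
    refine ⟨⟨w, hs.w_mem⟩, fun b => ?_⟩
    have e1 : b * ⟨w, hs.w_mem⟩ ∈ (S ⊓ T).subgroupOf S ↔ ¬ (b : G) ∈ T := by
      rw [Subgroup.mem_subgroupOf, Subgroup.mem_inf]
      simp only [Subgroup.coe_mul]
      rw [h.mul_mem_iff (hs.le b.2) (ts_wD hs)]
      constructor
      · rintro ⟨-, h1⟩ h2
        exact hs.w_not (h1.mp h2)
      · intro h1
        exact ⟨S.mul_mem b.2 hs.w_mem, ⟨fun h2 => absurd h2 h1, fun h2 => absurd h2 hs.w_not⟩⟩
    have e2 : b ∈ (S ⊓ T).subgroupOf S ↔ (b : G) ∈ T := by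
      rw [Subgroup.mem_subgroupOf, Subgroup.mem_inf]
      exact ⟨fun h1 => h1.2, fun h1 => ⟨b.2, h1⟩⟩
    rw [e1, e2]
    by_cases hb : (b : G) ∈ T
    · exact Or.inr ⟨hb, fun h1 => h1 hb⟩
    · exact Or.inl ⟨hb, hb⟩
  have h1 := Subgroup.card_mul_index ((S ⊓ T).subgroupOf S)
  rw [hidx, Nat.card_congr (Subgroup.subgroupOfEquivOfLe (inf_le_left : S ⊓ T ≤ S)).toEquiv] at h1
  rw [← h1, mul_comm]

/-- elements of `T` with fourth power one -/
lemma four_cases (h : TD T z) {a j : G} (ha : a ∈ T) (hj : j ∈ T) (hjj : j * j = z)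
    (ha4 : (a * a) * (a * a) = 1) : a = 1 ∨ a = z ∨ a = j ∨ a = j * z := by
  rcases h.invol _ ha4 with h1 | h1
  · rcases h.invol _ h1 with h2 | h2
    · exact Or.inl h2
    · exact Or.inr (Or.inl h2)
  · have hc := h.comm a ha j⁻¹ (T.inv_mem hj)
    have h2 : (a * j⁻¹) * (a * j⁻¹) = 1 := by
      calc (a * j⁻¹) * (a * j⁻¹) = a * (j⁻¹ * a) * j⁻¹ := by group
        _ = a * (a * j⁻¹) * j⁻¹ := by rw [hc]
        _ = (a * a) * (j * j)⁻¹ := by group
        _ = 1 := by rw [h1, hjj, mul_inv_cancel]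
    rcases h.invol _ h2 with h3 | h3
    · right; right; left
      calc a = a * j⁻¹ * j := by group
        _ = j := by rw [h3, one_mul]
    · right; right; right
      calc a = a * j⁻¹ * j := by group
        _ = z * j := by rw [h3]
        _ = j * z := (h.z_cent j).symm

end TD
end Two

section Two2
universe u
variable {G : Type u} [Group G]

/-- in a 2-group the odd-degree irreducible characters are linear -/
lemma odd_le_linear [Finite G] (hpow : ∃ n, Nat.card G = 2 ^ n) :
    mkc 2 G ≤ (commutator G).index := by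
  refine le_trans ?_ (Helper25.card_linear_le_index (G := G))
  have key : ∀ χ : IrrCharacter G, ¬ 2 ∣ charDegree (χ : G → ℂ) → (χ : G → ℂ) 1 = 1 := by
    intro χ hχ
    obtain ⟨n, hn⟩ := hpow
    have hd := Helper25.irr_degree_dvd_card χ
    rw [hn] at hd
    obtain ⟨j, -, hj⟩ := (Nat.dvd_prime_pow Nat.prime_two).mp hd
    rw [Helper25.irr_one_eq_degree, hj]
    rcases Nat.eq_zero_or_pos j with h0 | h0
    · rw [h0]
      simp
    · exfalso
      apply hχ
      rw [hj]
      exact dvd_pow_self 2 h0.ne'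
  unfold mkc
  refine Nat.card_le_card_of_injective
    (fun χ : {χ : IrrCharacter G // ¬ 2 ∣ charDegree (χ : G → ℂ)} =>
      (⟨χ.1, key χ.1 χ.2⟩ : {χ : IrrCharacter G // (χ : G → ℂ) 1 = 1})) ?_
  intro a b hab
  have h1 := congrArg Subtype.val hab
  exact Subtype.ext h1

namespace TD
variable [Finite G] {T : Subgroup G} {z : G} {S : Subgroup G} {w : G}

lemma ts_norm_eq (h : TD T z) (hs : TS T S w) (hA : 8 ≤ Nat.card (S ⊓ T : Subgroup G)) :
    Subgroup.normalizer (S : Set G) = S := by
  classical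
  apply le_antisymm _ Subgroup.le_normalizer
  intro g hg
  obtain ⟨a₀, ha₀, ha₀4⟩ : ∃ a₀ ∈ (S ⊓ T : Subgroup G), (a₀ * a₀) * (a₀ * a₀) ≠ 1 := by
    by_contra hcon
    push Not at hcon
    have hsub : ∃ F4 : Finset G, F4.card ≤ 4 ∧ ((S ⊓ T : Subgroup G) : Set G) ⊆ F4 := by
      by_cases hex : ∃ a₁ ∈ (S ⊓ T : Subgroup G), a₁ * a₁ = z
      · obtain ⟨a₁, ha₁, ha₁z⟩ := hex
        refine ⟨{1, z, a₁, a₁ * z}, Finset.card_le_four, ?_⟩
        intro a ha
        have h1 := h.four_cases (Subgroup.mem_inf.mp ha).2 (Subgroup.mem_inf.mp ha₁).2 ha₁z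
          (hcon a ha)
        simp only [Finset.coe_insert, Finset.coe_singleton, Set.mem_insert_iff,
          Set.mem_singleton_iff]
        exact h1
      · push Not at hex
        refine ⟨{1, z}, Finset.card_le_two.trans (by norm_num), ?_⟩
        intro a ha
        simp only [Finset.coe_insert, Finset.coe_singleton, Set.mem_insert_iff,
          Set.mem_singleton_iff]
        rcases h.invol _ (hcon a ha) with h1 | h1
        · exact h.invol a h1
        · exact absurd h1 (hex a ha)
    obtain ⟨F4, hF4, hsub⟩ := hsub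
    have hcard : Nat.card (S ⊓ T : Subgroup G) ≤ 4 := by
      calc Nat.card (S ⊓ T : Subgroup G) = ((S ⊓ T : Subgroup G) : Set G).ncard :=
            (Nat.card_coe_set_eq _).symm
        _ ≤ (F4 : Set G).ncard := Set.ncard_le_ncard hsub (Finset.finite_toSet F4)
        _ = F4.card := Set.ncard_coe_finset F4
        _ ≤ 4 := hF4
    omega
  have ha₀T := (Subgroup.mem_inf.mp ha₀).2
  have ha₀S := (Subgroup.mem_inf.mp ha₀).1
  have ht : g * a₀ * g⁻¹ ∈ S := (Subgroup.mem_normalizer_iff.mp hg a₀).mp ha₀S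
  have hconj4 : ((g * a₀ * g⁻¹) * (g * a₀ * g⁻¹)) * ((g * a₀ * g⁻¹) * (g * a₀ * g⁻¹)) =
      g * ((a₀ * a₀) * (a₀ * a₀)) * g⁻¹ := by group
  have hback : ∀ x y : G, g * x * g⁻¹ = y → x = g⁻¹ * y * g := by
    intro x y hxy
    rw [← hxy]
    group
  have htT : g * a₀ * g⁻¹ ∈ T := by
    by_contra hnT
    have h1 := h.sq_eq (hs.le ht) hnT
    rw [h1, h.z_sq] at hconj4
    apply ha₀4
    rw [hback _ _ hconj4.symm]
    group
  have ht1 : g * a₀ * g⁻¹ ≠ 1 := by
    intro h'
    apply ha₀4
    have e : a₀ = 1 := by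
      rw [hback _ _ h']
      group
    rw [e]
    group
  have htz : g * a₀ * g⁻¹ ≠ z := by
    intro h'
    apply ha₀4
    have e : a₀ = z := by
      rw [hback _ _ h', mul_assoc, ← h.z_cent g, ← mul_assoc, inv_mul_cancel, one_mul]
    rw [e, h.z_sq, one_mul]
  have hgD : g ∈ Subgroup.normalizer (T : Set G) := by
    apply mem_normalizer_of_conj
    intro a ha
    apply h.cent _ htT ht1 htz
    have hc := h.comm a ha a₀ ha₀T
    calc g * a * g⁻¹ * (g * a₀ * g⁻¹) = g * (a * a₀) * g⁻¹ := by group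
      _ = g * (a₀ * a) * g⁻¹ := by rw [hc]
      _ = g * a₀ * g⁻¹ * (g * a * g⁻¹) := by group
  exact ts_norm_D h hs hg hgD

lemma ts_comm_index (h : TD T z) (hs : TS T S w) : (commutator S).index ≤ 4 := by
  classical
  haveI : Fintype (S ⊓ T : Subgroup G) := Fintype.ofFinite _
  haveI : Fintype (commutator S) := Fintype.ofFinite _
  have hsq : ∀ a : (S ⊓ T : Subgroup G),
      (⟨(a : G) * a, S.mul_mem (Subgroup.mem_inf.mp a.2).1 (Subgroup.mem_inf.mp a.2).1⟩ : S) ∈
        commutator S := by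
    intro a
    have haS := (Subgroup.mem_inf.mp a.2).1
    have haT := (Subgroup.mem_inf.mp a.2).2
    have hc : ⁅(⟨w, hs.w_mem⟩ : S), (⟨(a : G)⁻¹, S.inv_mem haS⟩ : S)⁆ ∈ commutator S := by
      rw [commutator_def]
      exact Subgroup.commutator_mem_commutator (Subgroup.mem_top _) (Subgroup.mem_top _)
    have e : ⁅(⟨w, hs.w_mem⟩ : S), (⟨(a : G)⁻¹, S.inv_mem haS⟩ : S)⁆ =
        (⟨(a : G) * a, S.mul_mem haS haS⟩ : S) := by
      apply Subtype.ext
      rw [commutatorElement_def]
      simp only [Subgroup.coe_mul, Subgroup.coe_inv]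
      rw [h.conj_inv (ts_wD hs) hs.w_not (T.inv_mem haT), inv_inv]
    rw [e] at hc
    exact hc
  let f : (S ⊓ T : Subgroup G) → commutator S := fun a => ⟨_, hsq a⟩
  have hzA : z ∈ (S ⊓ T : Subgroup G) := Subgroup.mem_inf.mpr ⟨ts_z_mem h hs, h.z_mem⟩
  have hfib : ∀ b ∈ (Finset.univ : Finset (S ⊓ T : Subgroup G)).image f,
      ((Finset.univ : Finset (S ⊓ T : Subgroup G)).filter (fun a => f a = b)).card ≤ 2 := by
    intro b hb
    obtain ⟨a₁, -, rfl⟩ := Finset.mem_image.mp hb
    have hsub : (Finset.univ : Finset (S ⊓ T : Subgroup G)).filter (fun a => f a = f a₁) ⊆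
        {a₁, a₁ * ⟨z, hzA⟩} := by
      intro a ha
      rw [Finset.mem_filter] at ha
      have h1 : (a : G) * a = (a₁ : G) * a₁ :=
        congrArg (fun x : commutator S => ((x : S) : G)) ha.2
      have haT := (Subgroup.mem_inf.mp a.2).2
      have ha₁T := (Subgroup.mem_inf.mp a₁.2).2
      have hc := h.comm a haT (a₁ : G)⁻¹ (T.inv_mem ha₁T)
      have h2 : ((a : G) * (a₁ : G)⁻¹) * ((a : G) * (a₁ : G)⁻¹) = 1 := by
        calc ((a : G) * (a₁ : G)⁻¹) * ((a : G) * (a₁ : G)⁻¹)
            = (a : G) * ((a₁ : G)⁻¹ * a) * (a₁ : G)⁻¹ := by group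
          _ = (a : G) * (a * (a₁ : G)⁻¹) * (a₁ : G)⁻¹ := by rw [hc]
          _ = ((a : G) * a) * ((a₁ : G) * a₁)⁻¹ := by group
          _ = 1 := by rw [h1, mul_inv_cancel]
      rw [Finset.mem_insert, Finset.mem_singleton]
      rcases h.invol _ h2 with h3 | h3
      · left
        apply Subtype.ext
        calc (a : G) = a * (a₁ : G)⁻¹ * a₁ := by group
          _ = a₁ := by rw [h3, one_mul]
      · right
        apply Subtype.ext
        simp only [Subgroup.coe_mul]
        calc (a : G) = a * (a₁ : G)⁻¹ * a₁ := by group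
          _ = z * a₁ := by rw [h3]
          _ = a₁ * z := (h.z_cent _).symm
    exact (Finset.card_le_card hsub).trans Finset.card_le_two
  have h1 := Finset.card_le_mul_card_image (Finset.univ : Finset (S ⊓ T : Subgroup G)) 2 hfib
  have h2 : ((Finset.univ : Finset (S ⊓ T : Subgroup G)).image f).card ≤
      Nat.card (commutator S) := by
    rw [Nat.card_eq_fintype_card]
    exact Finset.card_le_univ _
  rw [Finset.card_univ, ← Nat.card_eq_fintype_card] at h1
  have h3 := ts_card h hs
  have h4 := Subgroup.card_mul_index (commutator S)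
  have hpos : 0 < Nat.card (commutator S) := Nat.card_pos
  by_contra hcon
  push Not at hcon
  have h5 : Nat.card (commutator S) * 5 ≤ Nat.card (commutator S) * (commutator S).index :=
    Nat.mul_le_mul_left _ hcon
  linarith

lemma ts_large (h : TD T z) (hs : TS T S w) (hA : 8 ≤ Nat.card (S ⊓ T : Subgroup G))
    (hpow : ∃ n, Nat.card S = 2 ^ n) : mkc 2 (Subgroup.normalizer (S : Set G)) = 4 := by
  rw [mk_of_eq 2 (ts_norm_eq h hs hA)]
  have h1 := odd_count_mod_four (G := S)
  have h2 := mk_pos (G := S) 2 (le_refl 2)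
  have h3 := (odd_le_linear (G := S) hpow).trans (ts_comm_index h hs)
  have h4 := ts_card h hs
  have hdiv : 4 ∣ Nat.card S := by
    obtain ⟨n, hn⟩ := hpow
    have hn2 : 2 ≤ n := by
      by_contra hlt
      push Not at hlt
      have h5 : 2 ^ n ≤ 2 ^ 1 := Nat.pow_le_pow_right (by norm_num) (by omega)
      omega
    rw [hn]
    exact pow_dvd_pow 2 hn2
  omega

end TD
end Two2

section Two3
universe u
variable {G : Type u} [Group G]

namespace TD
variable [Finite G] {T : Subgroup G} {z : G} {S : Subgroup G} {w : G}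

lemma ts_small (h : TD T z) (hs : TS T S w) (hA : Nat.card (S ⊓ T : Subgroup G) = 4)
    (h8 : ∀ j w' : G, j ∈ T → j * j = z → w' ∈ Subgroup.normalizer (T : Set G) → w' ∉ T →
      ∃ c : G, c * j * c⁻¹ = w' ∧ c * w' * c⁻¹ = j * w') :
    mkc 2 (Subgroup.normalizer (S : Set G)) = 4 := by
  classical
  obtain ⟨j, hjA, hj1, hjz⟩ : ∃ j ∈ (S ⊓ T : Subgroup G), j ≠ 1 ∧ j ≠ z := by
    by_contra hcon
    push Not at hcon
    have hsub : ((S ⊓ T : Subgroup G) : Set G) ⊆ (({1, z} : Finset G) : Set G) := by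
      intro a ha
      simp only [Finset.coe_insert, Finset.coe_singleton, Set.mem_insert_iff,
        Set.mem_singleton_iff]
      by_cases h1 : a = 1
      · exact Or.inl h1
      · exact Or.inr (hcon a ha h1)
    have hcard : Nat.card (S ⊓ T : Subgroup G) ≤ 2 := by
      calc Nat.card (S ⊓ T : Subgroup G) = ((S ⊓ T : Subgroup G) : Set G).ncard :=
            (Nat.card_coe_set_eq _).symm
        _ ≤ (({1, z} : Finset G) : Set G).ncard :=
            Set.ncard_le_ncard hsub (Finset.finite_toSet _)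
        _ = ({1, z} : Finset G).card := Set.ncard_coe_finset _
        _ ≤ 2 := Finset.card_le_two
    omega
  have hjS := (Subgroup.mem_inf.mp hjA).1
  have hjT := (Subgroup.mem_inf.mp hjA).2
  have hA4 : ∀ a ∈ (S ⊓ T : Subgroup G), (a * a) * (a * a) = 1 := by
    intro a ha
    have h1 : (⟨a, ha⟩ : (S ⊓ T : Subgroup G)) ^ Nat.card (S ⊓ T : Subgroup G) = 1 :=
      pow_card_eq_one'
    rw [hA] at h1
    have h2 := congrArg Subtype.val h1
    simp only [Subgroup.coe_pow, Subgroup.coe_one] at h2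
    calc (a * a) * (a * a) = a ^ 4 := by
          rw [show (4 : ℕ) = 2 + 2 from rfl, pow_add, pow_two]
      _ = 1 := h2
  have hjj : j * j = z := by
    rcases h.invol _ (hA4 j hjA) with h1 | h1
    · rcases h.invol _ h1 with h2 | h2
      · exact absurd h2 hj1
      · exact absurd h2 hjz
    · exact h1
  have hAel : ∀ a ∈ (S ⊓ T : Subgroup G), a = 1 ∨ a = z ∨ a = j ∨ a = j * z := fun a ha =>
    h.four_cases (Subgroup.mem_inf.mp ha).2 hjT hjj (hA4 a ha)
  have hzS := ts_z_mem h hs
  have hwD := ts_wD hs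
  obtain ⟨c, hcj, hcw⟩ := h8 j w hjT hjj hwD hs.w_not
  have hcz : c * z * c⁻¹ = z := by rw [h.z_cent c, mul_assoc, mul_inv_cancel, mul_one]
  have hcA : ∀ a ∈ (S ⊓ T : Subgroup G), c * a * c⁻¹ ∈ S := by
    intro a ha
    rcases hAel a ha with h1 | h1 | h1 | h1
    · rw [h1, mul_one, mul_inv_cancel]
      exact S.one_mem
    · rw [h1, hcz]
      exact hzS
    · rw [h1, hcj]
      exact hs.w_mem
    · have e : c * (j * z) * c⁻¹ = (c * j * c⁻¹) * (c * z * c⁻¹) := by group
      rw [h1, e, hcj, hcz]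
      exact S.mul_mem hs.w_mem hzS
  have hcS : ∀ s ∈ S, c * s * c⁻¹ ∈ S := by
    intro s hsS
    by_cases hsT : s ∈ T
    · exact hcA s (Subgroup.mem_inf.mpr ⟨hsS, hsT⟩)
    · obtain ⟨h1, h2⟩ := ts_out h hs hsS hsT
      have e : c * s * c⁻¹ = (c * w * c⁻¹) * (c * (w⁻¹ * s) * c⁻¹) := by group
      rw [e, hcw]
      exact S.mul_mem (S.mul_mem hjS hs.w_mem) (hcA _ (Subgroup.mem_inf.mpr ⟨h1, h2⟩))
  have hcN0 : c ∈ Subgroup.normalizer (S : Set G) := mem_normalizer_of_conj S c hcS
  obtain ⟨N, hN⟩ : ∃ N : Subgroup G, N = Subgroup.normalizer (S : Set G) := ⟨_, rfl⟩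
  rw [← hN]
  have hcN : c ∈ N := by
    rw [hN]
    exact hcN0
  have hSN : S ≤ N := by
    rw [hN]
    exact Subgroup.le_normalizer
  haveI : Fintype N := Fintype.ofFinite _
  have hS_el : ∀ s ∈ S, s * s = z →
      s = j ∨ s = j * z ∨ s = w ∨ s = w * z ∨ s = w * j ∨ s = w * (j * z) := by
    intro s hsS hss
    by_cases hsT : s ∈ T
    · rcases hAel s (Subgroup.mem_inf.mpr ⟨hsS, hsT⟩) with h1 | h1 | h1 | h1
      · exfalso
        rw [h1, mul_one] at hss
        exact h.z_ne hss.symm
      · exfalso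
        rw [h1, h.z_sq] at hss
        exact h.z_ne hss.symm
      · exact Or.inl h1
      · exact Or.inr (Or.inl h1)
    · obtain ⟨h1, h2⟩ := ts_out h hs hsS hsT
      have e : s = w * (w⁻¹ * s) := by group
      rcases hAel _ (Subgroup.mem_inf.mpr ⟨h1, h2⟩) with h3 | h3 | h3 | h3
      · right; right; left
        rw [e, h3, mul_one]
      · right; right; right; left
        rw [e, h3]
      · right; right; right; right; left
        rw [e, h3]
      · right; right; right; right; right
        rw [e, h3]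
  have hzN : z ∈ N := hSN hzS
  have hjN : j ∈ N := hSN hjS
  have hwN : w ∈ N := hSN hs.w_mem
  have hNcard : Nat.card N ≤ 24 := by
    let f : N → G := fun g => (g : G) * j * (g : G)⁻¹
    have himg : (Finset.univ : Finset N).image f ⊆
        ({j, j * z, w, w * z, w * j, w * (j * z)} : Finset G) := by
      intro x hx
      obtain ⟨g, -, rfl⟩ := Finset.mem_image.mp hx
      have hgS : (g : G) * j * (g : G)⁻¹ ∈ S := by
        have hg : (g : G) ∈ Subgroup.normalizer (S : Set G) := (le_of_eq hN) g.2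
        exact (Subgroup.mem_normalizer_iff.mp hg j).mp hjS
      have hsq : ((g : G) * j * (g : G)⁻¹) * ((g : G) * j * (g : G)⁻¹) = z := by
        have e : ((g : G) * j * (g : G)⁻¹) * ((g : G) * j * (g : G)⁻¹) =
            (g : G) * (j * j) * (g : G)⁻¹ := by group
        rw [e, hjj, h.z_cent, mul_assoc, mul_inv_cancel, mul_one]
      simp only [Finset.mem_insert, Finset.mem_singleton]
      exact hS_el _ hgS hsq
    have hfib : ∀ b ∈ (Finset.univ : Finset N).image f,
        ((Finset.univ : Finset N).filter (fun g => f g = b)).card ≤ 4 := by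
      intro b hb
      obtain ⟨g₁, -, rfl⟩ := Finset.mem_image.mp hb
      have hsub : (Finset.univ : Finset N).filter (fun g => f g = f g₁) ⊆
          {g₁, g₁ * ⟨z, hzN⟩, g₁ * ⟨j, hjN⟩, g₁ * ⟨j * z, N.mul_mem hjN hzN⟩} := by
        intro g hg
        rw [Finset.mem_filter] at hg
        have h1 : (g : G) * j * (g : G)⁻¹ = (g₁ : G) * j * (g₁ : G)⁻¹ := hg.2
        have h2 : ((g₁ : G)⁻¹ * g) * j = j * ((g₁ : G)⁻¹ * g) := by
          calc ((g₁ : G)⁻¹ * g) * j = (g₁ : G)⁻¹ * ((g : G) * j * (g : G)⁻¹) * g := by group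
            _ = (g₁ : G)⁻¹ * ((g₁ : G) * j * (g₁ : G)⁻¹) * g := by rw [h1]
            _ = j * ((g₁ : G)⁻¹ * g) := by group
        have h3 : (g₁ : G)⁻¹ * g ∈ T := h.cent j hjT hj1 hjz _ h2
        have h4 : (g₁ : G)⁻¹ * g ∈ Subgroup.normalizer (S : Set G) := by
          rw [← hN]
          exact N.mul_mem (N.inv_mem g₁.2) g.2
        have h5 := ts_norm_inter h hs h4 h3
        have e : (g : G) = g₁ * ((g₁ : G)⁻¹ * g) := by group
        simp only [Finset.mem_insert, Finset.mem_singleton]
        rcases hAel _ (Subgroup.mem_inf.mpr ⟨h5, h3⟩) with h6 | h6 | h6 | h6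
        · left
          apply Subtype.ext
          rw [e, h6, mul_one]
        · right; left
          apply Subtype.ext
          rw [e, h6]
          rfl
        · right; right; left
          apply Subtype.ext
          rw [e, h6]
          rfl
        · right; right; right
          apply Subtype.ext
          rw [e, h6]
          rfl
      exact (Finset.card_le_card hsub).trans Finset.card_le_four
    have h1 := Finset.card_le_mul_card_image (Finset.univ : Finset N) 4 hfib
    have h2 : ((Finset.univ : Finset N).image f).card ≤ 6 :=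
      (Finset.card_le_card himg).trans Finset.card_le_six
    rw [Finset.card_univ, ← Nat.card_eq_fintype_card] at h1
    omega
  obtain ⟨K, hK⟩ : ∃ K : Subgroup G, K = (commutator N).map N.subtype := ⟨_, rfl⟩
  have hKcomm : ∀ x y : G, x ∈ N → y ∈ N → x * y * x⁻¹ * y⁻¹ ∈ K := by
    intro x y hx hy
    rw [hK]
    refine ⟨⁅(⟨x, hx⟩ : N), (⟨y, hy⟩ : N)⁆, ?_, ?_⟩
    · rw [SetLike.mem_coe, commutator_def]
      exact Subgroup.commutator_mem_commutator (Subgroup.mem_top _) (Subgroup.mem_top _)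
    · rw [commutatorElement_def]
      rfl
  have hKconj : ∀ x g : G, g ∈ N → x ∈ K → g * x * g⁻¹ ∈ K := by
    intro x g hg hx
    rw [hK] at hx ⊢
    obtain ⟨y, hy, rfl⟩ := hx
    exact ⟨⟨g, hg⟩ * y * ⟨g, hg⟩⁻¹,
      (inferInstance : (commutator N).Normal).conj_mem y hy ⟨g, hg⟩, rfl⟩
  have hK1 : w * j⁻¹ ∈ K := by
    have h1 := hKcomm c j hcN hjN
    rwa [hcj] at h1
  have hKj : j ∈ K := by
    have h1 := hKconj _ c hcN hK1
    have e : c * (w * j⁻¹) * c⁻¹ = j := by
      calc c * (w * j⁻¹) * c⁻¹ = (c * w * c⁻¹) * (c * j * c⁻¹)⁻¹ := by group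
        _ = j := by
          rw [hcw, hcj]
          group
    rwa [e] at h1
  have hKw : w ∈ K := by
    have h1 := hKconj _ c hcN hKj
    rwa [hcj] at h1
  have hKz : z ∈ K := by
    rw [← hjj]
    exact K.mul_mem hKj hKj
  have hSK : S ≤ K := by
    intro s hsS
    by_cases hsT : s ∈ T
    · rcases hAel s (Subgroup.mem_inf.mpr ⟨hsS, hsT⟩) with h1 | h1 | h1 | h1
      · rw [h1]
        exact K.one_mem
      · rw [h1]
        exact hKz
      · rw [h1]
        exact hKj
      · rw [h1]
        exact K.mul_mem hKj hKz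
    · obtain ⟨h1, h2⟩ := ts_out h hs hsS hsT
      have e : s = w * (w⁻¹ * s) := by group
      rw [e]
      apply K.mul_mem hKw
      rcases hAel _ (Subgroup.mem_inf.mpr ⟨h1, h2⟩) with h3 | h3 | h3 | h3
      · rw [h3]
        exact K.one_mem
      · rw [h3]
        exact hKz
      · rw [h3]
        exact hKj
      · rw [h3]
        exact K.mul_mem hKj hKz
  have hScard : Nat.card S = 8 := by rw [ts_card h hs, hA]
  have hKcard : Nat.card K = Nat.card (commutator N) := by
    rw [hK, Subgroup.card_map_of_injective (Subgroup.subtype_injective _)]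
  have hK8 : 8 ≤ Nat.card (commutator N) := by
    rw [← hKcard, ← hScard]
    exact Subgroup.card_le_of_le hSK
  have hidx : (commutator N).index ≤ 3 := by
    have h4 := Subgroup.card_mul_index (commutator N)
    by_contra hcon
    push Not at hcon
    have h5 : Nat.card (commutator N) * 4 ≤ Nat.card (commutator N) * (commutator N).index :=
      Nat.mul_le_mul_left _ hcon
    linarith
  have h8N : 8 ∣ Nat.card N := by
    rw [← hScard]
    exact Subgroup.card_dvd_of_le hSN
  have hlin := Helper25.card_linear_le_index (G := N)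
  have hmod := odd_count_mod_four (G := N)
  have hpos := mk_pos (G := N) 2 (le_refl 2)
  have hsq := Helper25.sum_irr_degree_sq_nat (G := N)
  have hmk : mkc 2 N =
      (Finset.univ.filter (fun ψ : IrrCharacter N => ¬ 2 ∣ charDegree (ψ : N → ℂ))).card := by
    unfold mkc
    rw [Nat.card_eq_fintype_card, Fintype.card_subtype]
  have hL : (Finset.univ.filter
      (fun ψ : IrrCharacter N => charDegree (ψ : N → ℂ) = 1)).card ≤ 3 := by
    have e : Nat.card {χ : IrrCharacter N // (χ : N → ℂ) 1 = 1} = (Finset.univ.filter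
        (fun ψ : IrrCharacter N => charDegree (ψ : N → ℂ) = 1)).card := by
      rw [Nat.card_eq_fintype_card, Fintype.card_subtype]
      congr 1
      ext ψ
      simp only [Finset.mem_filter, Finset.mem_univ, true_and]
      rw [Helper25.irr_one_eq_degree]
      exact Nat.cast_eq_one
    rw [← e]
    exact hlin.trans hidx
  have hB : (Finset.univ.filter (fun ψ : IrrCharacter N =>
      ¬ 2 ∣ charDegree (ψ : N → ℂ) ∧ charDegree (ψ : N → ℂ) ≠ 1)).card ≤ 2 := by
    have h1 : ∑ ψ ∈ Finset.univ.filter (fun ψ : IrrCharacter N =>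
          ¬ 2 ∣ charDegree (ψ : N → ℂ) ∧ charDegree (ψ : N → ℂ) ≠ 1), 9 ≤
        ∑ ψ ∈ Finset.univ.filter (fun ψ : IrrCharacter N =>
          ¬ 2 ∣ charDegree (ψ : N → ℂ) ∧ charDegree (ψ : N → ℂ) ≠ 1),
          charDegree (ψ : N → ℂ) ^ 2 := by
      apply Finset.sum_le_sum
      intro ψ hψ
      rw [Finset.mem_filter] at hψ
      have hp := Helper25.irr_degree_pos ψ
      have h3 : 3 ≤ charDegree (ψ : N → ℂ) := by
        obtain ⟨-, ho, hn1⟩ := hψ
        by_contra hlt
        push Not at hlt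
        have h2 : charDegree (ψ : N → ℂ) = 2 := by omega
        exact ho (by rw [h2])
      nlinarith
    have h2 : ∑ ψ ∈ Finset.univ.filter (fun ψ : IrrCharacter N =>
          ¬ 2 ∣ charDegree (ψ : N → ℂ) ∧ charDegree (ψ : N → ℂ) ≠ 1),
          charDegree (ψ : N → ℂ) ^ 2 ≤ ∑ ψ : IrrCharacter N, charDegree (ψ : N → ℂ) ^ 2 :=
      Finset.sum_le_sum_of_subset (Finset.filter_subset _ _)
    rw [Finset.sum_const, smul_eq_mul] at h1
    omega
  have hsplit : (Finset.univ.filter
        (fun ψ : IrrCharacter N => ¬ 2 ∣ charDegree (ψ : N → ℂ))).card ≤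
      (Finset.univ.filter (fun ψ : IrrCharacter N => charDegree (ψ : N → ℂ) = 1)).card +
      (Finset.univ.filter (fun ψ : IrrCharacter N =>
        ¬ 2 ∣ charDegree (ψ : N → ℂ) ∧ charDegree (ψ : N → ℂ) ≠ 1)).card := by
    refine (Finset.card_le_card ?_).trans (Finset.card_union_le _ _)
    intro ψ hψ
    rw [Finset.mem_filter] at hψ
    rw [Finset.mem_union, Finset.mem_filter, Finset.mem_filter]
    by_cases h1 : charDegree (ψ : N → ℂ) = 1
    · exact Or.inl ⟨Finset.mem_univ _, h1⟩
    · exact Or.inr ⟨Finset.mem_univ _, hψ.2, h1⟩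
  omega

theorem mckay_two (h : TD T z) (h4 : 4 ∣ Nat.card T)
    (hval : (Nat.card G).factorization 2 = (Nat.card T).factorization 2 + 1)
    (h8 : ∀ j w' : G, j ∈ T → j * j = z → w' ∈ Subgroup.normalizer (T : Set G) → w' ∉ T →
      ∃ c : G, c * j * c⁻¹ = w' ∧ c * w' * c⁻¹ = j * w') :
    ∃ S : Sylow 2 G, mkc 2 (Subgroup.normalizer ((S : Subgroup G) : Set G)) = 4 := by
  obtain ⟨Q⟩ : Nonempty (Sylow 2 (Subgroup.normalizer (T : Set G))) := inferInstance
  obtain ⟨S, hS⟩ : ∃ S : Subgroup G, S = (Q : Subgroup (Subgroup.normalizer (T : Set G))).map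
      (Subgroup.normalizer (T : Set G)).subtype := ⟨_, rfl⟩
  have hTpos : Nat.card T ≠ 0 := Nat.card_pos.ne'
  have hDfac : (Nat.card (Subgroup.normalizer (T : Set G))).factorization 2 =
      (Nat.card T).factorization 2 + 1 := by
    rw [h.ncard, Nat.factorization_mul (by norm_num) hTpos, Finsupp.add_apply,
      Nat.Prime.factorization_self Nat.prime_two, add_comm]
  have hcard : Nat.card S = 2 ^ ((Nat.card T).factorization 2 + 1) := by
    rw [hS, Subgroup.card_map_of_injective (Subgroup.subtype_injective _),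
      Q.card_eq_multiplicity, hDfac]
  have hcardG : Nat.card S = 2 ^ (Nat.card G).factorization 2 := by rw [hcard, hval]
  have hSle : S ≤ Subgroup.normalizer (T : Set G) := by
    rw [hS]
    exact Subgroup.map_subtype_le _
  have hSpow : ∀ s ∈ S, ∃ k : ℕ, s ^ 2 ^ k = 1 := by
    intro s hs
    rw [hS] at hs
    obtain ⟨y, hy, rfl⟩ := hs
    obtain ⟨k, hk⟩ := Q.isPGroup' ⟨y, hy⟩
    refine ⟨k, ?_⟩
    have h1 := congrArg (fun x : (Q : Subgroup (Subgroup.normalizer (T : Set G))) =>
      (((x : Subgroup.normalizer (T : Set G)) : G))) hk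
    simpa using h1
  have hSmem : ∀ t ∈ T, ∀ k : ℕ, t ^ 2 ^ k = 1 → t ∈ S := by
    intro t ht k hk
    rw [hS]
    exact h.two_mem Q ht hk
  obtain ⟨w, hwS, hwT⟩ : ∃ w ∈ S, w ∉ T := by
    by_contra hcon
    push Not at hcon
    have hle : S ≤ T := hcon
    have hdvd := Subgroup.card_dvd_of_le hle
    rw [hcard] at hdvd
    exact Nat.pow_succ_factorization_not_dvd hTpos Nat.prime_two hdvd
  have hs : TS T S w := ⟨hSle, hSpow, hSmem, hwS, hwT⟩
  refine ⟨Sylow.ofCard S hcardG, ?_⟩
  rw [Sylow.coe_ofCard]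
  have hc2 := ts_card h hs
  have hv : 2 ≤ (Nat.card T).factorization 2 := by
    have h4' : 2 ^ 2 ∣ Nat.card T := by
      norm_num
      exact h4
    exact (Nat.Prime.pow_dvd_iff_le_factorization Nat.prime_two hTpos).mp h4'
  have hA : Nat.card (S ⊓ T : Subgroup G) = 2 ^ (Nat.card T).factorization 2 := by
    have h5 : 2 * Nat.card (S ⊓ T : Subgroup G) = 2 * 2 ^ (Nat.card T).factorization 2 := by
      rw [← hc2, hcard, pow_succ]
      ring
    omega
  by_cases hbig : 8 ≤ Nat.card (S ⊓ T : Subgroup G)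
  · exact ts_large h hs hbig ⟨_, hcard⟩
  · apply ts_small h hs _ h8
    push Not at hbig
    rw [hA] at hbig ⊢
    have h6 : (Nat.card T).factorization 2 < 3 := by
      by_contra h3
      push Not at h3
      have h7 := Nat.pow_le_pow_right (by norm_num : 1 ≤ 2) h3
      omega
    have hv2 : (Nat.card T).factorization 2 = 2 := by omega
    rw [hv2]
    norm_num

end TD
end Two3


end Cfsg.Agent.Helper15.SL2E
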