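import Mathlib
import Cfsg.Agent.Helper15.SL2E
import Cfsg.Agent.Helper9.SL2l
import Cfsg.Agent.S0169

/-!
# McKay counts for `SL₂(q)`, `q` odd (helper15)

The number of irreducible characters of `SL₂(q)` of degree prime to `ℓ` equals the corresponding
number for the normalizer of a Sylow `ℓ`-subgroup, for every prime `ℓ`.
-/

set_option autoImplicit false

namespace Cfsg.Agent.Helper15.SL2F

open Cfsg Matrix
open scoped ComplexConjugate
open Cfsg.Agent.Helper15.SL2A Cfsg.Agent.Helper15.SL2B Cfsg.Agent.Helper15.SL2C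
open Cfsg.Agent.Helper15.SL2D Cfsg.Agent.Helper15.SL2E
open Cfsg.Agent.S2433 (Bor mem_Bor borEquiv card_Bor)
open Cfsg.Agent.S2508 (Zm Zm_coe Zm_center Zm_ne_one center_odd)
open Cfsg.Agent.S2430 (two_ne_zero_of_odd card_SL2 trace_ne_of_pow eq_or_inv_of_trace)
open Cfsg.Agent.S2429 (torus_package sq_one_cases)

section Arith

lemma fac_two_of_mod_four (n : ℕ) (h : n % 4 = 2) : n.factorization 2 = 1 := by
  have e : n = 2 * (n / 2) := by omega
  have h1 : ¬ 2 ∣ n / 2 := by omega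
  have h2 : n / 2 ≠ 0 := by omega
  rw [e, Nat.factorization_mul (by norm_num) h2, Finsupp.add_apply,
    Nat.Prime.factorization_self Nat.prime_two, Nat.factorization_eq_zero_of_not_dvd h1]

lemma arith_facts (ℓ q : ℕ) (hℓ : ℓ.Prime) (hℓ2 : ℓ ≠ 2) (hq : q % 2 = 1) (hq3 : 3 ≤ q) :
    (ℓ ∣ q - 1 → ¬ ℓ ∣ q ∧ ¬ ℓ ∣ q + 1 ∧ ¬ ℓ ∣ (q + 1) / 2 ∧ ℓ ∣ (q - 1) / 2) ∧
    (ℓ ∣ q + 1 → ¬ ℓ ∣ q ∧ ¬ ℓ ∣ q - 1 ∧ ¬ ℓ ∣ (q - 1) / 2 ∧ ℓ ∣ (q + 1) / 2) ∧
    (ℓ ∣ q → ¬ ℓ ∣ q - 1 ∧ ¬ ℓ ∣ q + 1 ∧ ¬ ℓ ∣ (q - 1) / 2 ∧ ¬ ℓ ∣ (q + 1) / 2) := by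
  have hℓ3 : 3 ≤ ℓ := by
    have := hℓ.two_le
    omega
  have key : ∀ a b : ℕ, ℓ ∣ a → ℓ ∣ b → b ≤ a → a - b = 1 ∨ a - b = 2 → False := by
    intro a b ha hb hab hd
    have h := Nat.dvd_sub ha hb
    have h' := Nat.le_of_dvd (by omega) h
    omega
  have half : ∀ n : ℕ, n % 2 = 0 → (ℓ ∣ n / 2 ↔ ℓ ∣ n) := by
    intro n hn
    have e : 2 * (n / 2) = n := by omega
    constructor
    · intro h
      rw [← e]
      exact Dvd.dvd.mul_left h 2
    · intro h
      rw [← e] at h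
      rcases (Nat.Prime.dvd_mul hℓ).mp h with h2 | h2
      · exfalso
        have := Nat.le_of_dvd (by norm_num) h2
        omega
      · exact h2
  have hm := half (q - 1) (by omega)
  have hp := half (q + 1) (by omega)
  refine ⟨fun h => ⟨fun h' => key q (q - 1) h' h (by omega) (by omega),
      fun h' => key (q + 1) (q - 1) h' h (by omega) (by omega),
      fun h' => key (q + 1) (q - 1) (hp.mp h') h (by omega) (by omega), hm.mpr h⟩,
    fun h => ⟨fun h' => key (q + 1) q h h' (by omega) (by omega),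
      fun h' => key (q + 1) (q - 1) h h' (by omega) (by omega),
      fun h' => key (q + 1) (q - 1) h (hm.mp h') (by omega) (by omega), hp.mpr h⟩,
    fun h => ⟨fun h' => key q (q - 1) h h' (by omega) (by omega),
      fun h' => key (q + 1) q h' h (by omega) (by omega),
      fun h' => key q (q - 1) h (hm.mp h') (by omega) (by omega),
      fun h' => key (q + 1) q (hp.mp h') h (by omega) (by omega)⟩⟩

end Arith

section Count
variable {F : Type*} [Field F] [Fintype F] [DecidableEq F]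

local notation "SL" => Matrix.SpecialLinearGroup (Fin 2) F
local notation "qq" => (Fintype.card F : ℂ)

open Classical in
/-- the number of irreducible characters of `SL₂(q)` whose degree satisfies `Q` -/
theorem count_deg (hodd : Odd (Fintype.card F)) (Q : ℕ → Prop) [DecidablePred Q] :
    Nat.card {χ : IrrCharacter SL // Q (charDegree (χ : SL → ℂ))} =
      (if Q 1 then 1 else 0) + (if Q (Fintype.card F) then 1 else 0) +
      (if Q (Fintype.card F + 1) then (Fintype.card F - 3) / 2 else 0) +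
      (if Q ((Fintype.card F + 1) / 2) then 2 else 0) +
      (if Q (Fintype.card F - 1) then (Fintype.card F - 1) / 2 else 0) +
      (if Q ((Fintype.card F - 1) / 2) then 2 else 0) := by
  obtain ⟨C, hC⟩ := exists_nst (F := F) hodd
  have hq := card_ge_three hodd
  have hdeg : ∀ (χ : IrrCharacter SL) (n : ℕ), (χ : SL → ℂ) 1 = (n : ℂ) →
      charDegree (χ : SL → ℂ) = n := by
    intro χ n hn
    have h := Helper25.irr_one_eq_degree χ
    rw [hn] at h
    exact_mod_cast h.symm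
  have d0 : ∀ χ : IrrCharacter SL, (χ : SL → ℂ) = triv → charDegree (χ : SL → ℂ) = 1 := by
    intro χ h
    apply hdeg
    rw [h, triv_apply, Nat.cast_one]
  have d1 : ∀ χ : IrrCharacter SL, (χ : SL → ℂ) = St →
      charDegree (χ : SL → ℂ) = Fintype.card F := by
    intro χ h
    apply hdeg
    rw [h, St_one hodd]
  have d2 : ∀ χ : IrrCharacter SL, (∃ β : MulChar F ℂ, β ^ 2 ≠ 1 ∧ (χ : SL → ℂ) = R β) →
      charDegree (χ : SL → ℂ) = Fintype.card F + 1 := by
    rintro χ ⟨β, hβ, h⟩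
    apply hdeg
    rw [h, R_one_val hodd, Nat.cast_add, Nat.cast_one]
  have d3 : ∀ χ : IrrCharacter SL, classInner (R (al0 (F := F))) (χ : SL → ℂ) ≠ 0 →
      charDegree (χ : SL → ℂ) = (Fintype.card F + 1) / 2 := by
    intro χ h
    apply hdeg
    rw [(typeP hodd hC χ.2 h).2.2.2, half_add_cast hodd]
  have d4 : ∀ χ : IrrCharacter SL,
      (∃ θ : C →* ℂˣ, θ ^ 2 ≠ 1 ∧ (χ : SL → ℂ) = Xc hodd hC θ) →
      charDegree (χ : SL → ℂ) = Fintype.card F - 1 := by
    rintro χ ⟨θ, hθ, h⟩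
    apply hdeg
    rw [h, Xc_one, Nat.cast_sub (by omega), Nat.cast_one]
  have d5 : ∀ χ : IrrCharacter SL, classInner (Xc hodd hC (th0 hodd hC)) (χ : SL → ℂ) ≠ 0 →
      charDegree (χ : SL → ℂ) = (Fintype.card F - 1) / 2 := by
    intro χ h
    apply hdeg
    rw [(typeM_of_ne hodd hC χ.2 h).2.2.2, half_sub_cast hodd]
  obtain ⟨i0, hi0⟩ : ∃ f : IrrCharacter SL → ℕ, ∀ χ, f χ =
      if (χ : SL → ℂ) = triv then 1 else 0 := ⟨_, fun _ => rfl⟩
  obtain ⟨i1, hi1⟩ : ∃ f : IrrCharacter SL → ℕ, ∀ χ, f χ =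
      if (χ : SL → ℂ) = St then 1 else 0 := ⟨_, fun _ => rfl⟩
  obtain ⟨i2, hi2⟩ : ∃ f : IrrCharacter SL → ℕ, ∀ χ, f χ =
      if ∃ β : MulChar F ℂ, β ^ 2 ≠ 1 ∧ (χ : SL → ℂ) = R β then 1 else 0 := ⟨_, fun _ => rfl⟩
  obtain ⟨i3, hi3⟩ : ∃ f : IrrCharacter SL → ℕ, ∀ χ, f χ =
      if classInner (R (al0 (F := F))) (χ : SL → ℂ) ≠ 0 then 1 else 0 := ⟨_, fun _ => rfl⟩
  obtain ⟨i4, hi4⟩ : ∃ f : IrrCharacter SL → ℕ, ∀ χ, f χ =
      if ∃ θ : C →* ℂˣ, θ ^ 2 ≠ 1 ∧ (χ : SL → ℂ) = Xc hodd hC θ then 1 else 0 :=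
    ⟨_, fun _ => rfl⟩
  obtain ⟨i5, hi5⟩ : ∃ f : IrrCharacter SL → ℕ, ∀ χ, f χ =
      if classInner (Xc hodd hC (th0 hodd hC)) (χ : SL → ℂ) ≠ 0 then 1 else 0 :=
    ⟨_, fun _ => rfl⟩
  have hge : ∀ χ : IrrCharacter SL, 1 ≤ i0 χ + i1 χ + i2 χ + i3 χ + i4 χ + i5 χ := by
    intro χ
    rcases classify hodd hC χ.2 with h | h | h | h | h | h
    · have : i0 χ = 1 := by rw [hi0, if_pos h]
      omega
    · have : i1 χ = 1 := by rw [hi1, if_pos h]
      omega
    · have : i2 χ = 1 := by rw [hi2, if_pos h]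
      omega
    · have : i3 χ = 1 := by rw [hi3, if_pos h]
      omega
    · have : i4 χ = 1 := by rw [hi4, if_pos h]
      omega
    · have h5 : classInner (Xc hodd hC (th0 hodd hC)) (χ : SL → ℂ) ≠ 0 := by
        rw [h.2.1]
        exact one_ne_zero
      have : i5 χ = 1 := by rw [hi5, if_pos h5]
      omega
  have hsum : ∀ p : IrrCharacter SL → Prop,
      Nat.card {χ // p χ} = ∑ χ : IrrCharacter SL, if p χ then 1 else 0 := by
    intro p
    rw [Nat.card_eq_fintype_card, Fintype.card_subtype, Finset.card_filter]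
  have htot : Nat.card (IrrCharacter SL) = ∑ χ : IrrCharacter SL, 1 := by
    rw [Nat.card_eq_fintype_card, Finset.sum_const, Finset.card_univ, smul_eq_mul, mul_one]
  have c0 : Nat.card {χ : IrrCharacter SL // (χ : SL → ℂ) = triv} = 1 :=
    card_one_of _ ⟨triv, triv_irr⟩ rfl (fun χ h => Subtype.ext h)
  have c1 : Nat.card {χ : IrrCharacter SL // (χ : SL → ℂ) = St} = 1 :=
    card_one_of _ ⟨St, St_irr hodd⟩ rfl (fun χ h => Subtype.ext h)
  have c2 := card_typeR (F := F) hodd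
  have c3 := card_typeP (F := F) hodd
  have c4 := card_typeX hodd hC
  have c5 := card_typeM hodd hC
  rw [hsum] at c0 c1 c2 c3 c4 c5
  have s0 : (∑ x : IrrCharacter SL, i0 x) = 1 := by
    rw [Finset.sum_congr rfl (fun χ _ => hi0 χ)]
    convert c0
  have s1 : (∑ x : IrrCharacter SL, i1 x) = 1 := by
    rw [Finset.sum_congr rfl (fun χ _ => hi1 χ)]
    convert c1
  have s2 : (∑ x : IrrCharacter SL, i2 x) = (Fintype.card F - 3) / 2 := by
    rw [Finset.sum_congr rfl (fun χ _ => hi2 χ)]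
    convert c2
  have s3 : (∑ x : IrrCharacter SL, i3 x) = 2 := by
    rw [Finset.sum_congr rfl (fun χ _ => hi3 χ)]
    convert c3
  have s4 : (∑ x : IrrCharacter SL, i4 x) = (Fintype.card F - 1) / 2 := by
    rw [Finset.sum_congr rfl (fun χ _ => hi4 χ)]
    convert c4
  have s5 : (∑ x : IrrCharacter SL, i5 x) = 2 := by
    rw [Finset.sum_congr rfl (fun χ _ => hi5 χ)]
    convert c5
  have hcount : ∀ χ : IrrCharacter SL, i0 χ + i1 χ + i2 χ + i3 χ + i4 χ + i5 χ = 1 := by
    have hle : ∀ χ ∈ (Finset.univ : Finset (IrrCharacter SL)),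
        (1 : ℕ) ≤ i0 χ + i1 χ + i2 χ + i3 χ + i4 χ + i5 χ := fun χ _ => hge χ
    have hs : ∑ χ : IrrCharacter SL, (1 : ℕ) =
        ∑ χ : IrrCharacter SL, (i0 χ + i1 χ + i2 χ + i3 χ + i4 χ + i5 χ) := by
      simp only [Finset.sum_add_distrib]
      rw [s0, s1, s2, s3, s4, s5, ← htot, card_irr_SL hodd]
      obtain ⟨t, ht⟩ := id hodd
      omega
    intro χ
    exact ((Finset.sum_eq_sum_iff_of_le hle).mp hs χ (Finset.mem_univ χ)).symm
  have p0 : ∀ χ : IrrCharacter SL, (if Q (charDegree (χ : SL → ℂ)) then 1 else 0) * i0 χ =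
      (if Q 1 then 1 else 0) * i0 χ := by
    intro χ
    rw [hi0]
    by_cases h : (χ : SL → ℂ) = triv
    · rw [if_pos h, d0 χ h]
    · rw [if_neg h, mul_zero, mul_zero]
  have p1 : ∀ χ : IrrCharacter SL, (if Q (charDegree (χ : SL → ℂ)) then 1 else 0) * i1 χ =
      (if Q (Fintype.card F) then 1 else 0) * i1 χ := by
    intro χ
    rw [hi1]
    by_cases h : (χ : SL → ℂ) = St
    · rw [if_pos h, d1 χ h]
    · rw [if_neg h, mul_zero, mul_zero]
  have p2 : ∀ χ : IrrCharacter SL, (if Q (charDegree (χ : SL → ℂ)) then 1 else 0) * i2 χ =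
      (if Q (Fintype.card F + 1) then 1 else 0) * i2 χ := by
    intro χ
    rw [hi2]
    by_cases h : ∃ β : MulChar F ℂ, β ^ 2 ≠ 1 ∧ (χ : SL → ℂ) = R β
    · rw [if_pos h, d2 χ h]
    · rw [if_neg h, mul_zero, mul_zero]
  have p3 : ∀ χ : IrrCharacter SL, (if Q (charDegree (χ : SL → ℂ)) then 1 else 0) * i3 χ =
      (if Q ((Fintype.card F + 1) / 2) then 1 else 0) * i3 χ := by
    intro χ
    rw [hi3]
    by_cases h : classInner (R (al0 (F := F))) (χ : SL → ℂ) ≠ 0
    · rw [if_pos h, d3 χ h]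
    · rw [if_neg h, mul_zero, mul_zero]
  have p4 : ∀ χ : IrrCharacter SL, (if Q (charDegree (χ : SL → ℂ)) then 1 else 0) * i4 χ =
      (if Q (Fintype.card F - 1) then 1 else 0) * i4 χ := by
    intro χ
    rw [hi4]
    by_cases h : ∃ θ : C →* ℂˣ, θ ^ 2 ≠ 1 ∧ (χ : SL → ℂ) = Xc hodd hC θ
    · rw [if_pos h, d4 χ h]
    · rw [if_neg h, mul_zero, mul_zero]
  have p5 : ∀ χ : IrrCharacter SL, (if Q (charDegree (χ : SL → ℂ)) then 1 else 0) * i5 χ =
      (if Q ((Fintype.card F - 1) / 2) then 1 else 0) * i5 χ := by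
    intro χ
    rw [hi5]
    by_cases h : classInner (Xc hodd hC (th0 hodd hC)) (χ : SL → ℂ) ≠ 0
    · rw [if_pos h, d5 χ h]
    · rw [if_neg h, mul_zero, mul_zero]
  have e : ∀ χ : IrrCharacter SL, (if Q (charDegree (χ : SL → ℂ)) then 1 else 0) =
      (if Q 1 then 1 else 0) * i0 χ + (if Q (Fintype.card F) then 1 else 0) * i1 χ +
      (if Q (Fintype.card F + 1) then 1 else 0) * i2 χ +
      (if Q ((Fintype.card F + 1) / 2) then 1 else 0) * i3 χ +
      (if Q (Fintype.card F - 1) then 1 else 0) * i4 χ +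
      (if Q ((Fintype.card F - 1) / 2) then 1 else 0) * i5 χ := by
    intro χ
    rw [← p0 χ, ← p1 χ, ← p2 χ, ← p3 χ, ← p4 χ, ← p5 χ, ← mul_add, ← mul_add, ← mul_add,
      ← mul_add, ← mul_add, hcount χ, mul_one]
  have hfin : Nat.card {χ : IrrCharacter SL // Q (charDegree (χ : SL → ℂ))} =
      ∑ χ : IrrCharacter SL, if Q (charDegree (χ : SL → ℂ)) then 1 else 0 := by
    rw [hsum]
    apply Finset.sum_congr rfl
    intro χ _
    congr
  rw [hfin, Finset.sum_congr rfl (fun χ _ => e χ)]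
  simp only [Finset.sum_add_distrib, ← Finset.mul_sum]
  rw [s0, s1, s2, s3, s4, s5]
  simp only [boole_mul, mul_one]

/-- the number of irreducible characters of `SL₂(q)` of degree prime to `ℓ` -/
theorem lhs_count (hodd : Odd (Fintype.card F)) (ℓ : ℕ) :
    mkc ℓ SL =
      (if ¬ ℓ ∣ 1 then 1 else 0) + (if ¬ ℓ ∣ Fintype.card F then 1 else 0) +
      (if ¬ ℓ ∣ Fintype.card F + 1 then (Fintype.card F - 3) / 2 else 0) +
      (if ¬ ℓ ∣ (Fintype.card F + 1) / 2 then 2 else 0) +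
      (if ¬ ℓ ∣ Fintype.card F - 1 then (Fintype.card F - 1) / 2 else 0) +
      (if ¬ ℓ ∣ (Fintype.card F - 1) / 2 then 2 else 0) :=
  count_deg hodd (fun n => ¬ ℓ ∣ n)

end Count

section Torus
variable {F : Type*} [Field F] [Fintype F] [DecidableEq F]

local notation "SL" => Matrix.SpecialLinearGroup (Fin 2) F

lemma neg_one_eq_zm : (-1 : SL) = Zm F := by
  apply Subtype.ext
  rw [Zm_coe]
  ext i j
  fin_cases i <;> fin_cases j <;> simp

/-- a cyclic torus of order `q ± 1` of `SL₂(q)` satisfies the torus axioms -/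
theorem td_zpowers (hodd : Odd (Fintype.card F)) (g₀ : SL) (m : ℕ) (hord : orderOf g₀ = m)
    (hm2 : 2 < m) (hmq : m = Fintype.card F - 1 ∨ m = Fintype.card F + 1) :
    TD (Subgroup.zpowers g₀) (Zm F) := by
  classical
  have hoddq : Fintype.card F % 2 = 1 := Nat.odd_iff.mp hodd
  have h2 : (2 : F) ≠ 0 := two_ne_zero_of_odd hoddq
  have hq2 : 2 ≤ Fintype.card F := Fintype.one_lt_card
  obtain ⟨hcentT, hcentx, hNcard, -, hsq⟩ := torus_package hoddq g₀ m hord hm2 hmq
  have hg₀T : g₀ ∈ Subgroup.zpowers g₀ := Subgroup.mem_zpowers g₀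
  have hpowT : ∀ c ∈ Subgroup.zpowers g₀, c ^ m = 1 := by
    intro c hc
    obtain ⟨k, rfl⟩ := Subgroup.mem_zpowers_iff.mp hc
    rw [← zpow_natCast, ← _root_.zpow_mul, mul_comm, _root_.zpow_mul, zpow_natCast, ← hord,
      pow_orderOf_eq_one, _root_.one_zpow]
  have hmeven : 2 ∣ m := by
    rcases hmq with h | h <;> omega
  have hZm : Zm F ∈ Subgroup.zpowers g₀ := by
    have hy : g₀ ^ (m / 2) * g₀ ^ (m / 2) = 1 := by
      rw [← pow_add, ← two_mul, Nat.mul_div_cancel' hmeven, ← hord, pow_orderOf_eq_one]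
    have hy1 : g₀ ^ (m / 2) ≠ 1 := by
      apply pow_ne_one_of_lt_orderOf (by omega)
      rw [hord]
      omega
    rcases sq_one_cases h2 _ hy with h | h
    · exact absurd h hy1
    · rw [← h]
      exact Subgroup.pow_mem _ hg₀T _
  have hg1 : g₀ ≠ 1 := by
    rintro rfl
    rw [orderOf_one] at hord
    omega
  have hgz : g₀ ≠ Zm F := by
    intro h
    have h3 : g₀ ^ 2 = 1 := by rw [h, sq]; exact zm_mul_self
    have h4 := orderOf_dvd_of_pow_eq_one h3
    rw [hord] at h4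
    have := Nat.le_of_dvd (by norm_num) h4
    omega
  have hcent : ∀ c ∈ Subgroup.zpowers g₀, c ≠ 1 → c ≠ Zm F → ∀ y : SL, y * c = c * y →
      y ∈ Subgroup.zpowers g₀ := by
    intro c hc h1 hz y hy
    rw [← hcentx c hc h1 hz, Subgroup.mem_centralizer_singleton_iff]
    exact hy
  refine ⟨Zm_ne_one h2, zm_mul_self, fun g => Subgroup.mem_center_iff.mp (Zm_center F) g,
    fun x hx => sq_one_cases h2 x hx, hZm, ?_, hcent, ?_, ?_⟩
  · intro x hx y hy
    obtain ⟨i, rfl⟩ := Subgroup.mem_zpowers_iff.mp hx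
    obtain ⟨j, rfl⟩ := Subgroup.mem_zpowers_iff.mp hy
    rw [← _root_.zpow_add, ← _root_.zpow_add, add_comm]
  · rw [hNcard, Nat.card_zpowers, hord]
  · intro x hxN hxT c hc
    have hs4 : g₀.1.trace ^ 2 ≠ 4 :=
      trace_ne_of_pow hoddq g₀ _ (hpowT g₀ hg₀T) hmq (not_center hg1 hgz)
    have hxinv : x⁻¹ ∈ Subgroup.normalizer ((Subgroup.zpowers g₀ : Subgroup SL) : Set SL) :=
      inv_mem hxN
    have hy : x⁻¹ * g₀ * x ∈ Subgroup.zpowers g₀ := by
      have := (Subgroup.mem_normalizer_iff.mp hxinv g₀).mp hg₀T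
      rwa [inv_inv] at this
    obtain ⟨n, hn⟩ : ∃ n : ℕ, x⁻¹ * g₀ * x = g₀ ^ n := by
      have hfin : IsOfFinOrder g₀ := isOfFinOrder_of_finite g₀
      obtain ⟨n, hn⟩ := (Submonoid.mem_powers_iff _ _).mp
        (hfin.mem_powers_iff_mem_zpowers.mpr hy)
      exact ⟨n, hn.symm⟩
    have ht : (x⁻¹ * g₀ * x).1.trace = g₀.1.trace := trace_conj_inv x g₀
    have hinv : x⁻¹ * g₀ * x = g₀⁻¹ := by
      rcases eq_or_inv_of_trace h2 g₀ _ hs4 n hn ht with h | h
      · exfalso
        apply hxT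
        apply hcent g₀ hg₀T hg1 hgz
        have e : g₀ * x = x * (x⁻¹ * g₀ * x) := by group
        rw [e, h]
      · exact h
    obtain ⟨k, rfl⟩ := Subgroup.mem_zpowers_iff.mp hc
    rw [conj_zpow', hinv, _root_.inv_zpow]

/-- the quaternion condition for `SL₂(q)`: an element `j` of order four of a torus and an
element `w'` inverting the torus are cyclically permuted by some element -/
theorem h8_sl2 (hodd : Odd (Fintype.card F)) {T : Subgroup SL} (hT : TD T (Zm F)) (j w' : SL)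
    (hj : j ∈ T) (hjj : j * j = Zm F) (hw : w' ∈ Subgroup.normalizer (T : Set SL))
    (hwT : w' ∉ T) : ∃ c : SL, c * j * c⁻¹ = w' ∧ c * w' * c⁻¹ = j * w' := by
  have hoddq : Fintype.card F % 2 = 1 := Nat.odd_iff.mp hodd
  have h2 : (2 : F) ≠ 0 := two_ne_zero_of_odd hoddq
  have hneg : ∀ x : SL, -x = Zm F * x := by
    intro x
    rw [← neg_one_eq_zm, neg_one_mul]
  obtain ⟨P, hP⟩ := Helper9.sl2_conj_J_h9 hoddq h2 j (by rw [hjj, neg_one_eq_zm])
  have hinv : w'⁻¹ * j * w' = j⁻¹ := hT.inv w' hw hwT j hj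
  have hjinv : j⁻¹ = Zm F * j := by
    apply inv_eq_of_mul_eq_one_right
    rw [← mul_assoc, hT.z_cent j, mul_assoc, hjj]
    exact hT.z_sq
  have hJ : Helper9.sl2J_h9 F = P⁻¹ * j * P := by
    rw [hP]
    group
  have hy : P⁻¹ * w' * P ∈ Helper9.sl2T_h9 F := by
    rw [Helper9.mem_sl2T_h9, hneg, hJ]
    have e1 : j * w' = w' * (Zm F * j) := by
      rw [← hjinv, ← hinv]
      group
    have e2 : P⁻¹ * w' * P * (P⁻¹ * j * P) = P⁻¹ * (w' * j) * P := by group
    have e3 : P⁻¹ * j * P * (P⁻¹ * w' * P) = P⁻¹ * (j * w') * P := by group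
    have e4 : w' * (Zm F * j) = Zm F * (w' * j) := by
      rw [← mul_assoc, hT.z_cent w', mul_assoc]
    have e5 : P⁻¹ * (Zm F * (w' * j)) * P = Zm F * (P⁻¹ * (w' * j) * P) := by
      rw [← mul_assoc P⁻¹, hT.z_cent P⁻¹, mul_assoc (Zm F), mul_assoc (Zm F)]
    rw [e2, e3, e1, e4, e5, ← mul_assoc (Zm F) (Zm F), hT.z_sq, one_mul]
  obtain ⟨c₀, hc1, hc2, -⟩ := Helper9.sl2_omega_h9 h2 _ hy
  refine ⟨P * c₀ * P⁻¹, ?_, ?_⟩
  · have e : P * c₀ * P⁻¹ * j * (P * c₀ * P⁻¹)⁻¹ =
        P * (c₀ * Helper9.sl2J_h9 F * c₀⁻¹) * P⁻¹ := by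
      rw [hJ]
      group
    rw [e, hc1]
    group
  · have e : P * c₀ * P⁻¹ * w' * (P * c₀ * P⁻¹)⁻¹ =
        P * (c₀ * (P⁻¹ * w' * P) * c₀⁻¹) * P⁻¹ := by group
    rw [e, hc2, hJ]
    group

end Torus

section Triv
universe u
variable {G : Type u} [Group G] [Finite G]

/-- the McKay equality is trivial for primes not dividing the group order -/
theorem mckay_triv (ℓ : ℕ) [Fact ℓ.Prime] (S : Sylow ℓ G) (h : ¬ ℓ ∣ Nat.card G) :
    mkc ℓ G = mkc ℓ (Subgroup.normalizer ((S : Subgroup G) : Set G)) := by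
  have hS : (S : Subgroup G) = ⊥ := by
    rw [← Subgroup.card_eq_one, S.card_eq_multiplicity, Nat.factorization_eq_zero_of_not_dvd h,
      pow_zero]
  have hN : Subgroup.normalizer ((S : Subgroup G) : Set G) = ⊤ := by
    rw [hS]
    exact Subgroup.normalizer_eq_top_iff.mpr inferInstance
  rw [mk_of_eq ℓ hN]
  exact (mk_congr ℓ Subgroup.topEquiv).symm

end Triv

section McKay
variable {F : Type*} [Field F] [Fintype F] [DecidableEq F]

local notation "SL" => Matrix.SpecialLinearGroup (Fin 2) F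

/-- McKay for `SL₂(q)`, `q` odd, at the prime two -/
theorem mckay_two_sl (hodd : Odd (Fintype.card F)) :
    ∃ S₀ : Sylow 2 SL,
      mkc 2 SL = mkc 2 (Subgroup.normalizer ((S₀ : Subgroup SL) : Set SL)) := by
  classical
  have hoddq : Fintype.card F % 2 = 1 := Nat.odd_iff.mp hodd
  have hq3 := card_ge_three hodd
  have hq0 : ¬ 2 ∣ Fintype.card F := by omega
  obtain ⟨m, hmq, h4m, hm2, hfac⟩ : ∃ m : ℕ,
      (m = Fintype.card F - 1 ∨ m = Fintype.card F + 1) ∧ 4 ∣ m ∧ 2 < m ∧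
      (Nat.card SL).factorization 2 = m.factorization 2 + 1 := by
    rcases (by omega : Fintype.card F % 4 = 1 ∨ Fintype.card F % 4 = 3) with h | h
    · refine ⟨Fintype.card F - 1, Or.inl rfl, by omega, by omega, ?_⟩
      rw [card_SL2, Nat.factorization_mul (Nat.mul_ne_zero (by omega) (by omega)) (by omega),
        Nat.factorization_mul (by omega) (by omega), Finsupp.add_apply, Finsupp.add_apply,
        Nat.factorization_eq_zero_of_not_dvd hq0,
        fac_two_of_mod_four (Fintype.card F + 1) (by omega), zero_add]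
    · refine ⟨Fintype.card F + 1, Or.inr rfl, by omega, by omega, ?_⟩
      rw [card_SL2, Nat.factorization_mul (Nat.mul_ne_zero (by omega) (by omega)) (by omega),
        Nat.factorization_mul (by omega) (by omega), Finsupp.add_apply, Finsupp.add_apply,
        Nat.factorization_eq_zero_of_not_dvd hq0,
        fac_two_of_mod_four (Fintype.card F - 1) (by omega), zero_add, add_comm]
  obtain ⟨g₀, hg₀⟩ : ∃ g : SL, orderOf g = m := by
    rcases hmq with h | h
    · rw [h]
      exact Cfsg.Agent.S2430.exists_split_gen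
    · rw [h]
      exact Cfsg.Agent.S2430.exists_nonsplit_gen
  have hT := td_zpowers hodd g₀ m hg₀ hm2 hmq
  have hcardT : Nat.card (Subgroup.zpowers g₀) = m := by rw [Nat.card_zpowers, hg₀]
  obtain ⟨S₀, hS₀⟩ := hT.mckay_two (by rw [hcardT]; exact h4m) (by rw [hcardT]; exact hfac)
    (fun j w' hj hjj hw hwT => h8_sl2 hodd hT j w' hj hjj hw hwT)
  refine ⟨S₀, ?_⟩
  rw [hS₀, lhs_count hodd]
  split_ifs <;> omega

/-- McKay for `SL₂(q)`, `q` odd, at an odd prime dividing `q ± 1` -/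
theorem mckay_odd_sl (hodd : Odd (Fintype.card F)) (ℓ : ℕ) [Fact ℓ.Prime] (hℓ2 : ℓ ≠ 2)
    (m : ℕ) (hmq : m = Fintype.card F - 1 ∨ m = Fintype.card F + 1) (hdvd : ℓ ∣ m) :
    ∃ S₀ : Sylow ℓ SL,
      mkc ℓ SL = mkc ℓ (Subgroup.normalizer ((S₀ : Subgroup SL) : Set SL)) := by
  classical
  have hℓP : ℓ.Prime := Fact.out
  have hoddq : Fintype.card F % 2 = 1 := Nat.odd_iff.mp hodd
  have hq3 := card_ge_three hodd
  have hℓ3 : 3 ≤ ℓ := by
    have := hℓP.two_le
    omega
  have hm0 : 0 < m := by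
    rcases hmq with h | h <;> omega
  have hm2 : 2 < m := lt_of_lt_of_le (by omega) (Nat.le_of_dvd hm0 hdvd)
  obtain ⟨hA, hB, hC⟩ := arith_facts ℓ (Fintype.card F) hℓP hℓ2 hoddq hq3
  have h1 : ¬ ℓ ∣ 1 := hℓP.not_dvd_one
  obtain ⟨g₀, hg₀⟩ : ∃ g : SL, orderOf g = m := by
    rcases hmq with h | h
    · rw [h]
      exact Cfsg.Agent.S2430.exists_split_gen
    · rw [h]
      exact Cfsg.Agent.S2430.exists_nonsplit_gen
  have hT := td_zpowers hodd g₀ m hg₀ hm2 hmq
  have hcardT : Nat.card (Subgroup.zpowers g₀) = m := by rw [Nat.card_zpowers, hg₀]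
  have hval : (Nat.card SL).factorization ℓ = m.factorization ℓ := by
    rw [card_SL2, Nat.factorization_mul (Nat.mul_ne_zero (by omega) (by omega)) (by omega),
      Nat.factorization_mul (by omega) (by omega), Finsupp.add_apply, Finsupp.add_apply]
    rcases hmq with h | h
    · rw [h] at hdvd ⊢
      obtain ⟨a1, a2, -, -⟩ := hA hdvd
      rw [Nat.factorization_eq_zero_of_not_dvd a1, Nat.factorization_eq_zero_of_not_dvd a2,
        zero_add, add_zero]
    · rw [h] at hdvd ⊢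
      obtain ⟨a1, a2, -, -⟩ := hB hdvd
      rw [Nat.factorization_eq_zero_of_not_dvd a1, Nat.factorization_eq_zero_of_not_dvd a2,
        zero_add, zero_add]
  obtain ⟨S₀, hS₀⟩ := hT.mckay_odd ℓ hℓ2 (by rw [hcardT]; exact hdvd)
    (by rw [hcardT]; exact hval)
  refine ⟨S₀, ?_⟩
  rw [hcardT] at hS₀
  have hL := lhs_count hodd (F := F) ℓ
  rcases hmq with h | h
  · rw [h] at hdvd
    obtain ⟨a1, a2, a3, a4⟩ := hA hdvd
    rw [if_pos h1, if_pos a1, if_pos a2, if_pos a3, if_neg (not_not.mpr hdvd),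
      if_neg (not_not.mpr a4)] at hL
    omega
  · rw [h] at hdvd
    obtain ⟨a1, a2, a3, a4⟩ := hB hdvd
    rw [if_pos h1, if_pos a1, if_neg (not_not.mpr hdvd), if_neg (not_not.mpr a4), if_pos a2,
      if_pos a3] at hL
    omega

end McKay

section Borel
variable {F : Type*} [Field F] [Fintype F] [DecidableEq F]

local notation "SL" => Matrix.SpecialLinearGroup (Fin 2) F

/-- the upper unitriangular subgroup -/
def Uni (F : Type*) [Field F] : Subgroup (Matrix.SpecialLinearGroup (Fin 2) F) where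
  carrier := {g | ∃ c : F, g = bm 1 c}
  mul_mem' := by
    rintro _ _ ⟨c, rfl⟩ ⟨d, rfl⟩
    refine ⟨d + c, ?_⟩
    rw [bm_mul, one_mul, inv_one, Units.val_one, one_mul, mul_one]
  one_mem' := ⟨0, bm_one.symm⟩
  inv_mem' := by
    rintro _ ⟨c, rfl⟩
    refine ⟨-c, ?_⟩
    apply inv_eq_of_mul_eq_one_right
    rw [bm_mul, one_mul, inv_one, Units.val_one, one_mul, mul_one, neg_add_cancel, bm_one]

lemma mem_Uni (g : SL) : g ∈ Uni F ↔ ∃ c : F, g = bm 1 c := Iff.rfl

lemma card_uni : Nat.card (Uni F) = Fintype.card F := by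
  rw [← Nat.card_eq_fintype_card]
  symm
  apply Nat.card_congr
  refine Equiv.ofBijective (fun c : F => (⟨bm 1 c, c, rfl⟩ : Uni F)) ⟨?_, ?_⟩
  · intro c d h
    have h1 : bm (1 : Fˣ) c = bm 1 d := congrArg Subtype.val h
    have h2 := congrArg (fun x : SL => x.1 0 1) h1
    simpa only [bm_01] using h2
  · rintro ⟨g, c, hc⟩
    exact ⟨c, Subtype.ext hc.symm⟩

lemma bm_inv (a : Fˣ) (c : F) : (bm a c)⁻¹ = bm a⁻¹ (-c) := by
  apply inv_eq_of_mul_eq_one_right
  rw [bm_mul, mul_inv_cancel, inv_inv, ← bm_one]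
  congr 1
  ring

lemma uni_normalizer : Subgroup.normalizer ((Uni F : Subgroup SL) : Set SL) = Bor F := by
  apply le_antisymm
  · intro g hg
    rw [mem_Bor]
    have h1 : g * bm 1 1 * g⁻¹ ∈ Uni F :=
      (Subgroup.mem_normalizer_iff.mp hg (bm 1 1)).mp ⟨1, rfl⟩
    obtain ⟨d, hd⟩ := h1
    have h2 : g * bm 1 1 = bm 1 d * g := by
      rw [← hd]
      group
    have h3 := congrArg (fun x : SL => x.1 1 1) h2
    simp only [mul_11, bm_01, bm_11, bm_10, inv_one, Units.val_one] at h3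
    linear_combination h3
  · intro g hg
    obtain ⟨a, c, rfl⟩ := eq_bm_of_10 g ((mem_Bor g).mp hg)
    apply mem_normalizer_of_conj
    rintro _ ⟨d, rfl⟩
    refine ⟨(a : F) * a * d, ?_⟩
    rw [bm_inv, bm_mul, bm_mul, mul_one, mul_inv_cancel, inv_one, Units.val_one, inv_inv]
    congr 1
    ring

lemma sub_inv_eq_zero_iff (a : Fˣ) : (a : F) - ((a⁻¹ : Fˣ) : F) = 0 ↔ a * a = 1 := by
  constructor
  · intro h
    apply Units.ext
    rw [Units.val_mul, Units.val_one]
    have h1 : (a : F) * ((a⁻¹ : Fˣ) : F) = 1 := by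
      rw [← Units.val_mul, mul_inv_cancel, Units.val_one]
    have h2 : ((a⁻¹ : Fˣ) : F) = a := by linear_combination (-1 : F) * h
    rw [h2] at h1
    exact h1
  · intro h
    have h1 : a⁻¹ = a := inv_eq_of_mul_eq_one_right h
    rw [h1, sub_self]

lemma card_sq_one_units (hodd : Odd (Fintype.card F)) : Nat.card {b : Fˣ // b * b = 1} = 2 := by
  have h2 : (2 : F) ≠ 0 := two_ne_zero_of_odd (Nat.odd_iff.mp hodd)
  apply card_two_of _ (1 : Fˣ) (-1)
  · exact one_mul 1
  · rw [neg_mul_neg, one_mul]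
  · intro h
    have h1 := congrArg (fun u : Fˣ => (u : F)) h
    simp only [Units.val_one, Units.val_neg] at h1
    apply h2
    linear_combination h1
  · intro b hb
    have h1 := congrArg (fun u : Fˣ => (u : F)) hb
    simp only [Units.val_mul, Units.val_one] at h1
    have h3 : ((b : F) - 1) * ((b : F) + 1) = 0 := by linear_combination h1
    rcases mul_eq_zero.mp h3 with h4 | h4
    · left
      apply Units.ext
      rw [Units.val_one]
      linear_combination h4
    · right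
      apply Units.ext
      rw [Units.val_neg, Units.val_one]
      linear_combination h4

lemma comm_crit (a b : Fˣ) (c d : F) :
    bm a c * bm b d = bm b d * bm a c ↔
      d * ((a : F) - ((a⁻¹ : Fˣ) : F)) = c * ((b : F) - ((b⁻¹ : Fˣ) : F)) := by
  rw [bm_mul, bm_mul, mul_comm b a]
  constructor
  · intro h
    have h1 := congrArg (fun x : SL => x.1 0 1) h
    simp only [bm_01] at h1
    linear_combination h1
  · intro h
    congr 1
    linear_combination h

lemma comm_count (hodd : Odd (Fintype.card F)) (a : Fˣ) (c : F) :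
    Nat.card {p : Fˣ × F // p.2 * ((a : F) - ((a⁻¹ : Fˣ) : F)) =
        c * ((p.1 : F) - ((p.1⁻¹ : Fˣ) : F))} =
      if a * a = 1 then
        (if c = 0 then (Fintype.card F - 1) * Fintype.card F else 2 * Fintype.card F)
      else Fintype.card F - 1 := by
  by_cases ha : a * a = 1
  · rw [if_pos ha]
    have ha0 := (sub_inv_eq_zero_iff a).mpr ha
    by_cases hc : c = 0
    · rw [if_pos hc]
      have hall : ∀ p : Fˣ × F, p.2 * ((a : F) - ((a⁻¹ : Fˣ) : F)) =
          c * ((p.1 : F) - ((p.1⁻¹ : Fˣ) : F)) := by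
        intro p
        rw [ha0, hc, mul_zero, zero_mul]
      rw [Nat.card_congr (Equiv.subtypeUnivEquiv hall), Nat.card_prod, Nat.card_eq_fintype_card,
        Nat.card_eq_fintype_card, Fintype.card_units]
    · rw [if_neg hc]
      have e : {p : Fˣ × F // p.2 * ((a : F) - ((a⁻¹ : Fˣ) : F)) =
          c * ((p.1 : F) - ((p.1⁻¹ : Fˣ) : F))} ≃ {b : Fˣ // b * b = 1} × F :=
        { toFun := fun p => (⟨p.1.1, by
              obtain ⟨⟨b, d⟩, h⟩ := p
              show b * b = 1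
              have h' : d * ((a : F) - ((a⁻¹ : Fˣ) : F)) =
                  c * ((b : F) - ((b⁻¹ : Fˣ) : F)) := h
              rw [ha0, mul_zero] at h'
              rcases mul_eq_zero.mp h'.symm with h1 | h1
              · exact absurd h1 hc
              · exact (sub_inv_eq_zero_iff _).mp h1⟩, p.1.2)
          invFun := fun x => ⟨(x.1.1, x.2), by
              rw [ha0, mul_zero, (sub_inv_eq_zero_iff _).mpr x.1.2, mul_zero]⟩
          left_inv := fun p => rfl
          right_inv := fun x => rfl }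
      rw [Nat.card_congr e, Nat.card_prod, card_sq_one_units hodd, Nat.card_eq_fintype_card]
  · rw [if_neg ha]
    have ha0 : (a : F) - ((a⁻¹ : Fˣ) : F) ≠ 0 := fun h => ha ((sub_inv_eq_zero_iff a).mp h)
    have e : {p : Fˣ × F // p.2 * ((a : F) - ((a⁻¹ : Fˣ) : F)) =
        c * ((p.1 : F) - ((p.1⁻¹ : Fˣ) : F))} ≃ Fˣ :=
      { toFun := fun p => p.1.1
        invFun := fun b => ⟨(b, c * ((b : F) - ((b⁻¹ : Fˣ) : F)) /
            ((a : F) - ((a⁻¹ : Fˣ) : F))), by
            show c * ((b : F) - ((b⁻¹ : Fˣ) : F)) / ((a : F) - ((a⁻¹ : Fˣ) : F)) *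
              ((a : F) - ((a⁻¹ : Fˣ) : F)) = _
            rw [div_mul_cancel₀ _ ha0]⟩
        left_inv := fun p => by
          apply Subtype.ext
          apply Prod.ext
          · rfl
          · show c * ((p.1.1 : F) - ((p.1.1⁻¹ : Fˣ) : F)) / ((a : F) - ((a⁻¹ : Fˣ) : F)) = p.1.2
            rw [← p.2, mul_div_cancel_right₀ _ ha0]
        right_inv := fun b => rfl }
    rw [Nat.card_congr e, Nat.card_eq_fintype_card, Fintype.card_units]

lemma bor_comm_sum (hodd : Odd (Fintype.card F)) [Fintype (Bor F)] :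
    ∑ g : Bor F, Nat.card {b : Bor F // g * b = b * g} =
      (Fintype.card F + 3) * ((Fintype.card F - 1) * Fintype.card F) := by
  classical
  have hq3 := card_ge_three hodd
  let e : Fˣ × F ≃ Bor F := Equiv.ofBijective
    (fun p => (⟨bm p.1 p.2, bm_mem p.1 p.2⟩ : Bor F))
    ⟨by
      intro p p' h
      have h1 : bm p.1 p.2 = bm p'.1 p'.2 := congrArg Subtype.val h
      apply Prod.ext
      · apply Units.ext
        have h2 := congrArg (fun x : SL => x.1 0 0) h1
        simpa only [bm_00] using h2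
      · have h2 := congrArg (fun x : SL => x.1 0 1) h1
        simpa only [bm_01] using h2,
     by
      rintro ⟨g, hg⟩
      obtain ⟨a, c, rfl⟩ := eq_bm_of_10 g ((mem_Bor g).mp hg)
      exact ⟨(a, c), rfl⟩⟩
  have hN : ∀ p : Fˣ × F, Nat.card {b : Bor F // e p * b = b * e p} =
      if p.1 * p.1 = 1 then
        (if p.2 = 0 then (Fintype.card F - 1) * Fintype.card F else 2 * Fintype.card F)
      else Fintype.card F - 1 := by
    intro p
    rw [← comm_count hodd p.1 p.2]
    symm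
    apply Nat.card_congr
    apply Equiv.subtypeEquiv e
    intro p'
    rw [← comm_crit]
    exact ⟨fun h => Subtype.ext h, fun h => congrArg Subtype.val h⟩
  have hrow : ∀ a : Fˣ, (∑ c : F, if a * a = 1 then
        (if c = 0 then (Fintype.card F - 1) * Fintype.card F else 2 * Fintype.card F)
      else Fintype.card F - 1) =
      Fintype.card F * (Fintype.card F - 1) +
        (if a * a = 1 then 1 else 0) * (2 * Fintype.card F * (Fintype.card F - 1)) := by
    intro a
    by_cases ha : a * a = 1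
    · simp only [if_pos ha, one_mul]
      rw [← Finset.add_sum_erase Finset.univ _ (Finset.mem_univ (0 : F)), if_pos rfl]
      have h1 : ∀ c ∈ (Finset.univ : Finset F).erase 0,
          (if c = 0 then (Fintype.card F - 1) * Fintype.card F else 2 * Fintype.card F) =
            2 * Fintype.card F := by
        intro c hc
        rw [if_neg (Finset.ne_of_mem_erase hc)]
      rw [Finset.sum_congr rfl h1, Finset.sum_const, Finset.card_erase_of_mem (Finset.mem_univ _),
        Finset.card_univ, smul_eq_mul]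
      ring
    · simp only [if_neg ha, zero_mul, add_zero]
      rw [Finset.sum_const, Finset.card_univ, smul_eq_mul]
  have h2 : ∑ a : Fˣ, (if a * a = 1 then 1 else 0) = 2 := by
    rw [← card_sq_one_units hodd, Nat.card_eq_fintype_card, Fintype.card_subtype,
      Finset.card_filter]
  rw [← Equiv.sum_comp e, Finset.sum_congr rfl (fun p _ => hN p), Fintype.sum_prod_type]
  show ∑ a : Fˣ, ∑ c : F, (if a * a = 1 then
        (if c = 0 then (Fintype.card F - 1) * Fintype.card F else 2 * Fintype.card F)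
      else Fintype.card F - 1) = _
  rw [Finset.sum_congr rfl (fun a _ => hrow a), Finset.sum_add_distrib, Finset.sum_const,
    Finset.card_univ, Fintype.card_units, ← Finset.sum_mul, smul_eq_mul, h2]
  obtain ⟨r, hr⟩ : ∃ r, Fintype.card F = r + 1 := ⟨Fintype.card F - 1, by omega⟩
  rw [hr, Nat.add_sub_cancel]
  ring

lemma bor_classes (hodd : Odd (Fintype.card F)) :
    Nat.card (ConjClasses (Bor F)) = Fintype.card F + 3 := by
  haveI := Fintype.ofFinite (Bor F)
  have h := Helper2.sum_commute_card (Bor F)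
  rw [bor_comm_sum hodd, card_Bor] at h
  have hq3 := card_ge_three hodd
  exact (Nat.eq_of_mul_eq_mul_right (Nat.mul_pos (by omega) (by omega)) h).symm

lemma bor_deg (p : ℕ) (hp : p.Prime) (hpq : p ∣ Fintype.card F)
    (χ : IrrCharacter (Bor F)) : ¬ p ∣ charDegree (χ : Bor F → ℂ) := by
  classical
  have hle : Uni F ≤ Bor F := by
    rintro _ ⟨c, rfl⟩
    exact bm_mem 1 c
  have hnormal : ((Uni F).subgroupOf (Bor F)).Normal := by
    constructor
    intro n hn g
    rw [Subgroup.mem_subgroupOf] at hn ⊢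
    have hg : (g : SL) ∈ Subgroup.normalizer ((Uni F : Subgroup SL) : Set SL) := by
      rw [uni_normalizer]
      exact g.2
    exact (Subgroup.mem_normalizer_iff.mp hg _).mp hn
  have hab : ∀ a ∈ (Uni F).subgroupOf (Bor F), ∀ b ∈ (Uni F).subgroupOf (Bor F),
      a * b = b * a := by
    intro a ha b hb
    rw [Subgroup.mem_subgroupOf] at ha hb
    obtain ⟨c, hc⟩ := ha
    obtain ⟨d, hd⟩ := hb
    apply Subtype.ext
    rw [Subgroup.coe_mul, Subgroup.coe_mul, hc, hd, bm_mul, bm_mul, inv_one, Units.val_one]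
    congr 1
    ring
  have hidx : ((Uni F).subgroupOf (Bor F)).index = Fintype.card F - 1 := by
    have h1 := Subgroup.card_mul_index ((Uni F).subgroupOf (Bor F))
    rw [Nat.card_congr (Subgroup.subgroupOfEquivOfLe hle).toEquiv, card_uni, card_Bor,
      mul_comm (Fintype.card F - 1)] at h1
    exact Nat.eq_of_mul_eq_mul_left Fintype.card_pos h1
  obtain ⟨n, ρ, hρ, hχ⟩ := χ.2
  haveI := hρ
  haveI := hnormal
  have h1 := Cfsg.Agent.S0169.result ρ ((Uni F).subgroupOf (Bor F)) hab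
  rw [Module.finrank_fin_fun, hidx] at h1
  rw [← hχ, Helper25.rep_charDegree]
  intro h
  have h3 := Nat.dvd_sub hpq (h.trans h1)
  have e : Fintype.card F - (Fintype.card F - 1) = 1 := by
    have := Fintype.card_pos (α := F)
    omega
  rw [e] at h3
  exact hp.not_dvd_one h3

/-- McKay for `SL₂(q)`, `q` odd, at the defining prime -/
theorem mckay_p_sl (hodd : Odd (Fintype.card F)) (p : ℕ) [hp : Fact p.Prime]
    (hpq : p ∣ Fintype.card F) :
    ∃ S₀ : Sylow p SL,
      mkc p SL = mkc p (Subgroup.normalizer ((S₀ : Subgroup SL) : Set SL)) := by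
  classical
  have hpP : p.Prime := hp.out
  have hoddq : Fintype.card F % 2 = 1 := Nat.odd_iff.mp hodd
  have hq3 := card_ge_three hodd
  have hp2 : p ≠ 2 := by
    rintro rfl
    omega
  obtain ⟨p', hchar⟩ := CharP.exists F
  haveI := hchar
  haveI : Fact p'.Prime := ⟨CharP.char_is_prime F p'⟩
  obtain ⟨k, hp'prime, hq⟩ := FiniteField.card F p'
  have hpp : p' = p := by
    rw [hq] at hpq
    exact ((Nat.prime_dvd_prime_iff_eq hpP hp'prime).mp (hpP.dvd_of_dvd_pow hpq)).symm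
  rw [hpp] at hq
  obtain ⟨-, -, hC⟩ := arith_facts p (Fintype.card F) hpP hp2 hoddq hq3
  obtain ⟨a1, a2, a3, a4⟩ := hC hpq
  have h1 : ¬ p ∣ 1 := hpP.not_dvd_one
  have hfac : (Nat.card SL).factorization p = k := by
    rw [card_SL2, Nat.factorization_mul (Nat.mul_ne_zero (by omega) (by omega)) (by omega),
      Nat.factorization_mul (by omega) (by omega), Finsupp.add_apply, Finsupp.add_apply,
      Nat.factorization_eq_zero_of_not_dvd a1, Nat.factorization_eq_zero_of_not_dvd a2,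
      add_zero, add_zero]
    conv_lhs => rw [hq]
    rw [hpP.factorization_pow, Finsupp.single_eq_same]
  have hcardU : Nat.card (Uni F) = p ^ (Nat.card SL).factorization p := by
    rw [card_uni, hfac, ← hq]
  refine ⟨Sylow.ofCard (Uni F) hcardU, ?_⟩
  rw [Sylow.coe_ofCard, mk_of_eq p (uni_normalizer (F := F))]
  have hR : mkc p (Bor F) = Fintype.card F + 3 := by
    haveI := Fintype.ofFinite (Bor F)
    rw [mkc_def, Nat.card_congr (Equiv.subtypeUnivEquiv (fun χ => bor_deg p hpP hpq χ)),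
      Helper1.card_irr, bor_classes hodd]
  rw [hR, lhs_count hodd, if_pos h1, if_neg (not_not.mpr hpq), if_pos a2, if_pos a4, if_pos a1,
    if_pos a3]
  omega

end Borel


end Cfsg.Agent.Helper15.SL2F
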