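import Mathlib
import Cfsg.Agent.Helper15.SL2F

/-!
# Redundant Sylow subgroups of `SL₂(q)` (helper15)

A Sylow `p`-subgroup `Q` is redundant when every `p`-element lies in a Sylow `p`-subgroup other
than `Q`.  Generic transport lemmas and the classification for `SL₂(q)`.
-/

set_option autoImplicit false

namespace Cfsg.Agent.Helper15.SL2G

open Cfsg Matrix
open Cfsg.Agent.Helper15.SL2A Cfsg.Agent.Helper15.SL2B Cfsg.Agent.Helper15.SL2E
open Cfsg.Agent.Helper15.SL2F
open Cfsg.Agent.S2433 (Bor mem_Bor)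
open Cfsg.Agent.S2508 (Zm Zm_coe Zm_center Zm_ne_one center_odd)
open Cfsg.Agent.S2430 (two_ne_zero_of_odd card_SL2)

section Generic
universe u
variable {G : Type u} [Group G] {p : ℕ}

/-- redundancy of a Sylow subgroup -/
def Red (Q : Sylow p G) : Prop :=
  ∀ x : G, (∃ k : ℕ, orderOf x = p ^ k) → ∃ P : Sylow p G, P ≠ Q ∧ x ∈ P

/-- redundancy, tested on the elements of `Q` only -/
def Red' (Q : Sylow p G) : Prop := ∀ x : G, x ∈ Q → ∃ P : Sylow p G, P ≠ Q ∧ x ∈ P

lemma mem_smul_sylow (g : G) (P : Sylow p G) (x : G) :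
    x ∈ (g • P : Sylow p G) ↔ g⁻¹ * x * g ∈ P := by
  show x ∈ ((g • P : Sylow p G) : Subgroup G) ↔ _
  rw [Sylow.coe_subgroup_smul, Subgroup.mem_pointwise_smul_iff_inv_smul_mem]
  simp only [MulAut.smul_def, MulAut.inv_apply, MulAut.conj_symm_apply]
  exact Iff.rfl

lemma orderOf_conj' (g x : G) : orderOf (g * x * g⁻¹) = orderOf x := by
  rw [← MulAut.conj_apply]
  exact MulEquiv.orderOf_eq _ _

variable [Finite G] [Fact p.Prime]

lemma exists_sylow_mem (x : G) (hx : ∃ k : ℕ, orderOf x = p ^ k) : ∃ P : Sylow p G, x ∈ P := by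
  obtain ⟨k, hk⟩ := hx
  have h : IsPGroup p (Subgroup.zpowers x) :=
    IsPGroup.of_card (n := k) (by rw [Nat.card_zpowers, hk])
  obtain ⟨P, hP⟩ := h.exists_le_sylow
  exact ⟨P, hP (Subgroup.mem_zpowers x)⟩

lemma sylow_mem_order (Q : Sylow p G) {x : G} (hx : x ∈ Q) : ∃ k : ℕ, orderOf x = p ^ k := by
  obtain ⟨k, hk⟩ := Q.isPGroup' ⟨x, hx⟩
  have h1 : x ^ p ^ k = 1 := by
    have := congrArg Subtype.val hk
    simpa using this
  obtain ⟨j, -, hj⟩ := (Nat.dvd_prime_pow (Fact.out : p.Prime)).mp (orderOf_dvd_of_pow_eq_one h1)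
  exact ⟨j, hj⟩

lemma red_iff (Q : Sylow p G) : Red Q ↔ Red' Q := by
  constructor
  · intro h x hx
    exact h x (sylow_mem_order Q hx)
  · intro h x hx
    by_cases hxQ : x ∈ Q
    · exact h x hxQ
    · obtain ⟨P, hP⟩ := exists_sylow_mem (p := p) x hx
      refine ⟨P, ?_, hP⟩
      intro e
      rw [e] at hP
      exact hxQ hP

/-- if some `p`-element lies in a unique Sylow `p`-subgroup then no Sylow is redundant -/
lemma not_red_of_unique (Q₀ : Sylow p G) (x₀ : G) (hx₀ : ∃ k : ℕ, orderOf x₀ = p ^ k)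
    (huniq : ∀ P : Sylow p G, x₀ ∈ P → P = Q₀) : ¬ ∃ Q : Sylow p G, Red Q := by
  rintro ⟨Q, hQ⟩
  obtain ⟨g, hg⟩ := MulAction.exists_smul_eq G Q₀ Q
  obtain ⟨k, hk⟩ := hx₀
  obtain ⟨P, hPQ, hxP⟩ := hQ (g * x₀ * g⁻¹) ⟨k, by rw [orderOf_conj', hk]⟩
  apply hPQ
  have h1 : x₀ ∈ (g⁻¹ • P : Sylow p G) := by
    rw [mem_smul_sylow, inv_inv]
    exact hxP
  have h2 := huniq _ h1
  rw [← hg, ← h2, smul_smul, mul_inv_cancel, one_smul]

/-- central `p`-elements lie in every Sylow `p`-subgroup -/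
lemma central_mem_sylow (P : Sylow p G) (z : G) (hz : z ∈ Subgroup.center G)
    (hpz : ∃ k : ℕ, orderOf z = p ^ k) : z ∈ P := by
  obtain ⟨P', hP'⟩ := exists_sylow_mem (p := p) z hpz
  obtain ⟨g, hg⟩ := MulAction.exists_smul_eq G P' P
  rw [← hg, mem_smul_sylow]
  have e : g⁻¹ * z * g = z := by
    rw [mul_assoc, ← Subgroup.mem_center_iff.mp hz g, ← mul_assoc, inv_mul_cancel, one_mul]
  rw [e]
  exact hP'

/-- a `p`-element whose image under a central quotient lies in the image of a Sylow subgroup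
lies in that Sylow subgroup -/
lemma mem_of_map_mem {H : Type*} [Group H] (π : G →* H) (hker : π.ker ≤ Subgroup.center G)
    (P : Sylow p G) (x : G) (hx : ∃ k : ℕ, orderOf x = p ^ k)
    (hπ : π x ∈ (P : Subgroup G).map π) : x ∈ P := by
  obtain ⟨y, hy, hyx⟩ := hπ
  have hyP : y ∈ P := hy
  have hz : y⁻¹ * x ∈ Subgroup.center G := by
    apply hker
    rw [MonoidHom.mem_ker, map_mul, map_inv, hyx, inv_mul_cancel]
  have h1 := Subgroup.mem_center_iff.mp hz y
  have h2 : x * y = y * x := by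
    calc x * y = y * (y⁻¹ * x * y) := by group
      _ = y * (y * (y⁻¹ * x)) := by rw [h1]
      _ = y * x := by group
  have hcomm : Commute y⁻¹ x := by
    show y⁻¹ * x = x * y⁻¹
    calc y⁻¹ * x = y⁻¹ * (x * y) * y⁻¹ := by group
      _ = y⁻¹ * (y * x) * y⁻¹ := by rw [h2]
      _ = x * y⁻¹ := by group
  obtain ⟨k, hk⟩ := hx
  obtain ⟨k', hk'⟩ := sylow_mem_order P hyP
  have hpow : (y⁻¹ * x) ^ p ^ (k + k') = 1 := by
    rw [hcomm.mul_pow,
      orderOf_dvd_iff_pow_eq_one.mp (by
        rw [orderOf_inv, hk']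
        exact pow_dvd_pow p (Nat.le_add_left k' k)),
      orderOf_dvd_iff_pow_eq_one.mp (by
        rw [hk]
        exact pow_dvd_pow p (Nat.le_add_right k k')), one_mul]
  obtain ⟨j, -, hj⟩ := (Nat.dvd_prime_pow (Fact.out : p.Prime)).mp
    (orderOf_dvd_of_pow_eq_one hpow)
  have hzP := central_mem_sylow P _ hz ⟨j, hj⟩
  have e : x = y * (y⁻¹ * x) := by group
  rw [e]
  exact (P : Subgroup G).mul_mem hyP hzP

/-- redundant Sylow subgroups exist in a group iff they exist in a central quotient -/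
theorem red_quot {H : Type*} [Group H] [Finite H] (π : G →* H) (hπ : Function.Surjective π)
    (hker : π.ker ≤ Subgroup.center G) :
    (∃ Q : Sylow p G, Red Q) ↔ (∃ Q : Sylow p H, Red Q) := by
  have hmapne : ∀ P Q : Sylow p G, P.mapSurjective hπ = Q.mapSurjective hπ → P = Q := by
    intro P Q h
    have h' : (P : Subgroup G).map π = (Q : Subgroup G).map π := by
      rw [← Sylow.coe_mapSurjective hπ, ← Sylow.coe_mapSurjective hπ, h]
    apply Sylow.ext
    apply Subgroup.eq_of_le_of_card_ge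
    · intro y hy
      apply mem_of_map_mem π hker Q y (sylow_mem_order P hy)
      rw [← h']
      exact Subgroup.mem_map_of_mem π hy
    · rw [P.card_eq_multiplicity, Q.card_eq_multiplicity]
  constructor
  · rintro ⟨Q, hQ⟩
    refine ⟨Q.mapSurjective hπ, (red_iff _).mpr ?_⟩
    intro x' hx'
    have hx'' : x' ∈ (Q : Subgroup G).map π := by
      rw [← Sylow.coe_mapSurjective hπ]
      exact hx'
    obtain ⟨x, hx, rfl⟩ := hx''
    obtain ⟨P, hPQ, hxP⟩ := hQ x (sylow_mem_order Q hx)
    refine ⟨P.mapSurjective hπ, fun e => hPQ (hmapne P Q e), ?_⟩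
    show π x ∈ ((P.mapSurjective hπ : Sylow p H) : Subgroup H)
    rw [Sylow.coe_mapSurjective]
    exact Subgroup.mem_map_of_mem π hxP
  · rintro ⟨Q', hQ'⟩
    obtain ⟨Q, rfl⟩ := Sylow.mapSurjective_surjective hπ p Q'
    refine ⟨Q, (red_iff _).mpr ?_⟩
    intro x hx
    have h1 : π x ∈ Q.mapSurjective hπ := by
      show π x ∈ ((Q.mapSurjective hπ : Sylow p H) : Subgroup H)
      rw [Sylow.coe_mapSurjective]
      exact Subgroup.mem_map_of_mem π hx
    obtain ⟨P', hP'Q, hxP'⟩ := (red_iff _).mp hQ' (π x) h1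
    obtain ⟨P, rfl⟩ := Sylow.mapSurjective_surjective hπ p P'
    refine ⟨P, fun e => hP'Q (by rw [e]), ?_⟩
    apply mem_of_map_mem π hker P x (sylow_mem_order Q hx)
    rw [← Sylow.coe_mapSurjective hπ]
    exact hxP'

/-- no redundant Sylow subgroup for primes not dividing the order -/
lemma not_red_triv (h : ¬ p ∣ Nat.card G) : ¬ ∃ Q : Sylow p G, Red Q := by
  obtain ⟨Q₀⟩ : Nonempty (Sylow p G) := inferInstance
  apply not_red_of_unique Q₀ 1 ⟨0, by rw [orderOf_one, pow_zero]⟩
  intro P _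
  apply Sylow.ext
  have hb : ∀ R : Sylow p G, (R : Subgroup G) = ⊥ := by
    intro R
    rw [← Subgroup.card_eq_one, R.card_eq_multiplicity, Nat.factorization_eq_zero_of_not_dvd h,
      pow_zero]
  rw [hb P, hb Q₀]

end Generic

section TwoRed
universe u
variable {G : Type u} [Group G] [Finite G] {T : Subgroup G} {z : G}

/-- a Sylow 2-subgroup of `G` inside the normalizer of the torus -/
lemma td_exists_ts (h : TD T z)
    (hval : (Nat.card G).factorization 2 = (Nat.card T).factorization 2 + 1) :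
    ∃ (S : Subgroup G) (w : G), TS T S w ∧ Nat.card S = 2 ^ (Nat.card G).factorization 2 := by
  obtain ⟨Q⟩ : Nonempty (Sylow 2 (Subgroup.normalizer (T : Set G))) := inferInstance
  obtain ⟨S, hS⟩ : ∃ S : Subgroup G, S = (Q : Subgroup (Subgroup.normalizer (T : Set G))).map
      (Subgroup.normalizer (T : Set G)).subtype := ⟨_, rfl⟩
  have hTpos : Nat.card T ≠ 0 := Nat.card_pos.ne'
  have hDfac : (Nat.card (Subgroup.normalizer (T : Set G))).factorization 2 =
      (Nat.card T).factorization 2 + 1 := by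
    rw [h.ncard, Nat.factorization_mul (by norm_num) hTpos, Finsupp.add_apply,
      Nat.Prime.factorization_self Nat.prime_two, add_comm]
  have hcard : Nat.card S = 2 ^ ((Nat.card T).factorization 2 + 1) := by
    rw [hS, Subgroup.card_map_of_injective (Subgroup.subtype_injective _),
      Q.card_eq_multiplicity, hDfac]
  have hcardG : Nat.card S = 2 ^ (Nat.card G).factorization 2 := by rw [hcard, hval]
  have hSle : S ≤ Subgroup.normalizer (T : Set G) := by
    rw [hS]
    exact Subgroup.map_subtype_le _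
  have hSpow : ∀ s ∈ S, ∃ k : ℕ, s ^ 2 ^ k = 1 := by
    intro s hs
    rw [hS] at hs
    obtain ⟨y, hy, rfl⟩ := hs
    obtain ⟨k, hk⟩ := Q.isPGroup' ⟨y, hy⟩
    refine ⟨k, ?_⟩
    have h1 := congrArg (fun x : (Q : Subgroup (Subgroup.normalizer (T : Set G))) =>
      (((x : Subgroup.normalizer (T : Set G)) : G))) hk
    simpa using h1
  have hSmem : ∀ t ∈ T, ∀ k : ℕ, t ^ 2 ^ k = 1 → t ∈ S := by
    intro t ht k hk
    rw [hS]
    exact h.two_mem Q ht hk
  obtain ⟨w, hwS, hwT⟩ : ∃ w ∈ S, w ∉ T := by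
    by_contra hcon
    push Not at hcon
    have hle : S ≤ T := hcon
    have hdvd := Subgroup.card_dvd_of_le hle
    rw [hcard] at hdvd
    exact Nat.pow_succ_factorization_not_dvd hTpos Nat.prime_two hdvd
  exact ⟨S, w, ⟨hSle, hSpow, hSmem, hwS, hwT⟩, hcardG⟩

/-- the Sylow 2-subgroup in the normalizer of a torus which is not a 2-group is redundant,
provided all elements squaring to the central involution are conjugate -/
theorem td_redundant (h : TD T z) {S : Subgroup G} {w : G} (hs : TS T S w)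
    (hcard : Nat.card S = 2 ^ (Nat.card G).factorization 2)
    (t : G) (ht : t ∈ T) (htS : t ∉ S) (j : G) (hj : j ∈ T) (hjj : j * j = z)
    (hconj : ∀ x y : G, x * x = z → y * y = z → ∃ c : G, x = c * y * c⁻¹) :
    Red' (Sylow.ofCard S hcard) := by
  have htN : t ∉ Subgroup.normalizer (S : Set G) := fun hN => htS (h.ts_norm_inter hs hN ht)
  have hne : (t • Sylow.ofCard S hcard : Sylow 2 G) ≠ Sylow.ofCard S hcard := by
    intro e
    apply htN
    exact Sylow.smul_eq_iff_mem_normalizer.mp e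
  have hjS : j ∈ S := by
    apply hs.mem j hj 2
    have e : j ^ 2 ^ 2 = (j * j) * (j * j) := by
      rw [show (2 : ℕ) ^ 2 = 2 + 2 from rfl, pow_add, pow_two]
    rw [e, hjj, h.z_sq]
  have hmemT : ∀ a : G, a ∈ S → a ∈ T → a ∈ (t • Sylow.ofCard S hcard : Sylow 2 G) := by
    intro a haS haT
    rw [mem_smul_sylow]
    have e : t⁻¹ * a * t = a := by
      rw [mul_assoc, h.comm a haT t ht, ← mul_assoc, inv_mul_cancel, one_mul]
    rw [e]
    exact haS
  intro x hx
  have hxS : x ∈ S := hx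
  by_cases hxT : x ∈ T
  · exact ⟨_, hne, hmemT x hxS hxT⟩
  · have hxx : x * x = z := h.sq_eq (hs.le hxS) hxT
    obtain ⟨c, hc⟩ := hconj x j hxx hjj
    have e : c⁻¹ * (c * j * c⁻¹) * c = j := by group
    have h1 : x ∈ (c • Sylow.ofCard S hcard : Sylow 2 G) := by
      rw [mem_smul_sylow, hc, e]
      exact hjS
    have h2 : x ∈ ((c * t) • Sylow.ofCard S hcard : Sylow 2 G) := by
      rw [mul_smul, mem_smul_sylow, hc, e]
      exact hmemT j hjS hj
    by_cases hcQ : (c • Sylow.ofCard S hcard : Sylow 2 G) = Sylow.ofCard S hcard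
    · refine ⟨_, ?_, h2⟩
      rw [mul_smul]
      intro e'
      apply hne
      have e2 : c • (t • Sylow.ofCard S hcard : Sylow 2 G) =
          c • (Sylow.ofCard S hcard : Sylow 2 G) := by rw [e', hcQ]
      exact smul_left_cancel c e2
    · exact ⟨_, hcQ, h1⟩

end TwoRed

section SL2
variable {F : Type*} [Field F] [Fintype F] [DecidableEq F]

local notation "SL" => Matrix.SpecialLinearGroup (Fin 2) F

lemma bm_one_pow (c : F) (n : ℕ) : (bm (1 : Fˣ) c) ^ n = bm 1 ((n : F) * c) := by
  induction n with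
  | zero => rw [pow_zero, Nat.cast_zero, zero_mul, bm_one]
  | succ n ih =>
    rw [pow_succ, ih, bm_mul, one_mul, inv_one, Units.val_one, one_mul, mul_one, Nat.cast_succ]
    congr 1
    ring

/-- no redundant Sylow subgroup in the defining characteristic -/
lemma not_red_char (p : ℕ) [Fact p.Prime] (hpq : p ∣ Fintype.card F) :
    ¬ ∃ Q : Sylow p SL, Red Q := by
  classical
  have hpP : p.Prime := Fact.out
  have hq2 : 2 ≤ Fintype.card F := Fintype.one_lt_card
  obtain ⟨p', hchar⟩ := CharP.exists F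
  haveI := hchar
  haveI : Fact p'.Prime := ⟨CharP.char_is_prime F p'⟩
  obtain ⟨k, hp'prime, hq⟩ := FiniteField.card F p'
  have hpp : p' = p := by
    rw [hq] at hpq
    exact ((Nat.prime_dvd_prime_iff_eq hpP hp'prime).mp (hpP.dvd_of_dvd_pow hpq)).symm
  rw [hpp] at hq
  haveI : CharP F p := hpp ▸ hchar
  have hA : ¬ p ∣ Fintype.card F - 1 := by
    intro hd
    have h3 := Nat.dvd_sub hpq hd
    have e : Fintype.card F - (Fintype.card F - 1) = 1 := by omega
    rw [e] at h3
    exact hpP.not_dvd_one h3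
  have hB : ¬ p ∣ Fintype.card F + 1 := by
    intro hd
    have h3 := Nat.dvd_sub hd hpq
    rw [Nat.add_sub_cancel_left] at h3
    exact hpP.not_dvd_one h3
  have hfac : (Nat.card SL).factorization p = k := by
    rw [card_SL2, Nat.factorization_mul (Nat.mul_ne_zero (by omega) (by omega)) (by omega),
      Nat.factorization_mul (by omega) (by omega), Finsupp.add_apply, Finsupp.add_apply,
      Nat.factorization_eq_zero_of_not_dvd hA, Nat.factorization_eq_zero_of_not_dvd hB,
      add_zero, add_zero]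
    conv_lhs => rw [hq]
    rw [hpP.factorization_pow, Finsupp.single_eq_same]
  have hcardU : Nat.card (Uni F) = p ^ (Nat.card SL).factorization p := by
    rw [card_uni, hfac, ← hq]
  have hx1 : (bm (1 : Fˣ) (1 : F)) ^ p = 1 := by
    rw [bm_one_pow, mul_one, CharP.cast_eq_zero F p, bm_one]
  have hxne : bm (1 : Fˣ) (1 : F) ≠ 1 := bm_ne_one_of_c 1 one_ne_zero
  have hord : orderOf (bm (1 : Fˣ) (1 : F)) = p := orderOf_eq_prime hx1 hxne
  apply not_red_of_unique (Sylow.ofCard (Uni F) hcardU) (bm 1 1) ⟨1, by rw [hord, pow_one]⟩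
  intro P hxP
  obtain ⟨g, hg⟩ := MulAction.exists_smul_eq SL (Sylow.ofCard (Uni F) hcardU) P
  rw [← hg] at hxP ⊢
  rw [mem_smul_sylow] at hxP
  obtain ⟨d, hd⟩ : ∃ d : F, g⁻¹ * bm 1 1 * g = bm 1 d := hxP
  have h2 : bm 1 1 * g = g * bm 1 d := by
    rw [← hd]
    group
  have h3 := congrArg (fun x : SL => x.1 0 0) h2
  simp only [mul_00, bm_00, bm_01, bm_10, Units.val_one] at h3
  have hg10 : g.1 1 0 = 0 := by linear_combination h3
  rw [Sylow.smul_eq_iff_mem_normalizer]
  have hN : g ∈ Subgroup.normalizer ((Uni F : Subgroup SL) : Set SL) := by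
    rw [uni_normalizer, mem_Bor]
    exact hg10
  exact hN

/-- no redundant Sylow subgroup for odd primes dividing `q ± 1` -/
lemma not_red_cyclic (p : ℕ) [Fact p.Prime] (hp2 : p ≠ 2) (m : ℕ)
    (hmq : m = Fintype.card F - 1 ∨ m = Fintype.card F + 1) (hdvd : p ∣ m)
    (hpq : ¬ p ∣ Fintype.card F) : ¬ ∃ Q : Sylow p SL, Red Q := by
  classical
  have hpP : p.Prime := Fact.out
  have hq2 : 2 ≤ Fintype.card F := Fintype.one_lt_card
  have hp3 : 3 ≤ p := by
    have := hpP.two_le
    omega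
  have hm0 : 0 < m := by
    rcases hmq with h | h <;> omega
  have hother : ∀ m' : ℕ, (m' = Fintype.card F - 1 ∨ m' = Fintype.card F + 1) → m' ≠ m →
      ¬ p ∣ m' := by
    intro m' hm' hne hd
    have h2 : p ∣ 2 := by
      rcases hmq with h | h <;> rcases hm' with h' | h'
      · exact absurd (h'.trans h.symm) hne
      · have h3 := Nat.dvd_sub hd hdvd
        rw [h, h'] at h3
        have e : Fintype.card F + 1 - (Fintype.card F - 1) = 2 := by omega
        rwa [e] at h3
      · have h3 := Nat.dvd_sub hdvd hd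
        rw [h, h'] at h3
        have e : Fintype.card F + 1 - (Fintype.card F - 1) = 2 := by omega
        rwa [e] at h3
      · exact absurd (h'.trans h.symm) hne
    have := Nat.le_of_dvd (by norm_num) h2
    omega
  have hfac : (Nat.card SL).factorization p = m.factorization p := by
    rw [card_SL2, Nat.factorization_mul (Nat.mul_ne_zero (by omega) (by omega)) (by omega),
      Nat.factorization_mul (by omega) (by omega), Finsupp.add_apply, Finsupp.add_apply,
      Nat.factorization_eq_zero_of_not_dvd hpq, zero_add]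
    rcases hmq with h | h
    · rw [h, Nat.factorization_eq_zero_of_not_dvd
        (hother (Fintype.card F + 1) (Or.inr rfl) (by omega)), add_zero]
    · rw [h, Nat.factorization_eq_zero_of_not_dvd
        (hother (Fintype.card F - 1) (Or.inl rfl) (by omega)), zero_add]
  obtain ⟨g₀, hg₀⟩ : ∃ g : SL, orderOf g = m := by
    rcases hmq with h | h
    · rw [h]
      exact Cfsg.Agent.S2430.exists_split_gen
    · rw [h]
      exact Cfsg.Agent.S2430.exists_nonsplit_gen
  obtain ⟨Q₀⟩ : Nonempty (Sylow p SL) := inferInstance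
  obtain ⟨g', hg'ord, hQ₀le⟩ := Cfsg.Agent.S2430.exists_torus p Q₀ g₀ m hg₀ hm0 hfac
  haveI : IsCyclic (Q₀ : Subgroup SL) := Subgroup.isCyclic_of_le hQ₀le
  obtain ⟨γ, hγ⟩ := IsCyclic.exists_generator (α := (Q₀ : Subgroup SL))
  have hordγ : orderOf (γ : SL) = Nat.card (Q₀ : Subgroup SL) := by
    rw [Subgroup.orderOf_coe, orderOf_eq_card_of_forall_mem_zpowers hγ]
  apply not_red_of_unique Q₀ (γ : SL) ⟨_, by rw [hordγ, Q₀.card_eq_multiplicity]⟩
  intro P hP
  have h1 : Subgroup.zpowers (γ : SL) = (P : Subgroup SL) := by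
    apply Subgroup.eq_of_le_of_card_ge
    · rw [Subgroup.zpowers_le]
      exact hP
    · rw [Nat.card_zpowers, hordγ, P.card_eq_multiplicity, Q₀.card_eq_multiplicity]
  have h2 : Subgroup.zpowers (γ : SL) = (Q₀ : Subgroup SL) := by
    apply Subgroup.eq_of_le_of_card_ge
    · rw [Subgroup.zpowers_le]
      exact γ.2
    · rw [Nat.card_zpowers, hordγ]
  exact Sylow.ext (h1.symm.trans h2)

lemma two_torus (hodd : Odd (Fintype.card F)) : ∃ m : ℕ,
    (m = Fintype.card F - 1 ∨ m = Fintype.card F + 1) ∧ 4 ∣ m ∧ 2 < m ∧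
      (Nat.card SL).factorization 2 = m.factorization 2 + 1 := by
  have hoddq : Fintype.card F % 2 = 1 := Nat.odd_iff.mp hodd
  have hq3 := card_ge_three hodd
  have hq0 : ¬ 2 ∣ Fintype.card F := by omega
  rcases (by omega : Fintype.card F % 4 = 1 ∨ Fintype.card F % 4 = 3) with h | h
  · refine ⟨Fintype.card F - 1, Or.inl rfl, by omega, by omega, ?_⟩
    rw [card_SL2, Nat.factorization_mul (Nat.mul_ne_zero (by omega) (by omega)) (by omega),
      Nat.factorization_mul (by omega) (by omega), Finsupp.add_apply, Finsupp.add_apply,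
      Nat.factorization_eq_zero_of_not_dvd hq0,
      fac_two_of_mod_four (Fintype.card F + 1) (by omega), zero_add]
  · refine ⟨Fintype.card F + 1, Or.inr rfl, by omega, by omega, ?_⟩
    rw [card_SL2, Nat.factorization_mul (Nat.mul_ne_zero (by omega) (by omega)) (by omega),
      Nat.factorization_mul (by omega) (by omega), Finsupp.add_apply, Finsupp.add_apply,
      Nat.factorization_eq_zero_of_not_dvd hq0,
      fac_two_of_mod_four (Fintype.card F - 1) (by omega), zero_add, add_comm]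

/-- redundant Sylow 2-subgroups of `SL₂(q)`, `q` odd -/
theorem red_two (hodd : Odd (Fintype.card F)) :
    (∃ Q : Sylow 2 SL, Red Q) ↔
      ((¬ ∃ k : ℕ, Fintype.card F + 1 = 2 ^ k) ∧ ¬ ∃ k : ℕ, Fintype.card F = 2 ^ k + 1) := by
  classical
  have hoddq : Fintype.card F % 2 = 1 := Nat.odd_iff.mp hodd
  have hq3 := card_ge_three hodd
  have h2F : (2 : F) ≠ 0 := two_ne_zero_of_odd hoddq
  obtain ⟨m, hmq, h4m, hm2, hfac⟩ := two_torus (F := F) hodd
  obtain ⟨g₀, hg₀⟩ : ∃ g : SL, orderOf g = m := by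
    rcases hmq with h | h
    · rw [h]
      exact Cfsg.Agent.S2430.exists_split_gen
    · rw [h]
      exact Cfsg.Agent.S2430.exists_nonsplit_gen
  have hT := td_zpowers hodd g₀ m hg₀ hm2 hmq
  have hcardT : Nat.card (Subgroup.zpowers g₀) = m := by rw [Nat.card_zpowers, hg₀]
  have hpow4 : ∀ i : ℕ, 4 ∣ 2 ^ (i + 2) := fun i => ⟨2 ^ i, by ring⟩
  have harith : (∃ k : ℕ, m = 2 ^ k) ↔ ¬ ((¬ ∃ k : ℕ, Fintype.card F + 1 = 2 ^ k) ∧
      ¬ ∃ k : ℕ, Fintype.card F = 2 ^ k + 1) := by
    constructor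
    · rintro ⟨k, hk⟩ ⟨h1, h2⟩
      rcases hmq with h | h
      · exact h2 ⟨k, by omega⟩
      · exact h1 ⟨k, by omega⟩
    · intro hn
      by_contra hcon
      apply hn
      constructor
      · rintro ⟨k, hk⟩
        rcases hmq with h | h
        · rcases Nat.lt_or_ge k 2 with h' | h'
          · have h5 : 2 ^ k ≤ 2 ^ 1 := Nat.pow_le_pow_right (by norm_num) (by omega)
            omega
          · obtain ⟨i, rfl⟩ : ∃ i, k = i + 2 := ⟨k - 2, by omega⟩
            have h6 := hpow4 i
            omega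
        · exact hcon ⟨k, by omega⟩
      · rintro ⟨k, hk⟩
        rcases hmq with h | h
        · exact hcon ⟨k, by omega⟩
        · rcases Nat.lt_or_ge k 2 with h' | h'
          · have hk' : k = 0 ∨ k = 1 := by omega
            rcases hk' with rfl | rfl
            · norm_num at hk
              omega
            · norm_num at hk
              exact hcon ⟨2, by norm_num; omega⟩
          · obtain ⟨i, rfl⟩ : ∃ i, k = i + 2 := ⟨k - 2, by omega⟩
            have h6 := hpow4 i
            omega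
  by_cases hpow : ∃ k : ℕ, m = 2 ^ k
  · have hR := harith.mp hpow
    have hL : ¬ ∃ Q : Sylow 2 SL, Red Q := by
      obtain ⟨k, hk⟩ := hpow
      have hmfac : m.factorization 2 = k := by
        rw [hk, Nat.prime_two.factorization_pow, Finsupp.single_eq_same]
      have hcardN : Nat.card (Subgroup.normalizer ((Subgroup.zpowers g₀ : Subgroup SL) : Set SL)) =
          2 ^ (Nat.card SL).factorization 2 := by
        rw [hT.ncard, hcardT, hfac, hmfac, hk, pow_succ, mul_comm]
      apply not_red_of_unique (Sylow.ofCard _ hcardN) g₀ ⟨k, by rw [hg₀, hk]⟩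
      intro P hP
      have hTP : Subgroup.zpowers g₀ ≤ (P : Subgroup SL) := by
        rw [Subgroup.zpowers_le]
        exact hP
      have hidx : ((Subgroup.zpowers g₀).subgroupOf (P : Subgroup SL)).index = 2 := by
        have h1 := Subgroup.card_mul_index ((Subgroup.zpowers g₀).subgroupOf (P : Subgroup SL))
        rw [Nat.card_congr (Subgroup.subgroupOfEquivOfLe hTP).toEquiv, hcardT,
          P.card_eq_multiplicity, hfac, hmfac, hk, pow_succ] at h1
        exact Nat.eq_of_mul_eq_mul_left (by positivity) h1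
      have hnorm := Subgroup.normal_of_index_eq_two hidx
      have hle : (P : Subgroup SL) ≤
          Subgroup.normalizer ((Subgroup.zpowers g₀ : Subgroup SL) : Set SL) := by
        intro y hy
        apply mem_normalizer_of_conj
        intro x hx
        have h5 := hnorm.conj_mem ⟨x, hTP hx⟩ (by rw [Subgroup.mem_subgroupOf]; exact hx) ⟨y, hy⟩
        rw [Subgroup.mem_subgroupOf] at h5
        exact h5
      apply Sylow.ext
      rw [Sylow.coe_ofCard]
      apply Subgroup.eq_of_le_of_card_ge hle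
      rw [hcardN, P.card_eq_multiplicity]
    exact ⟨fun h => absurd h hL, fun h => absurd h hR⟩
  · have hR : (¬ ∃ k : ℕ, Fintype.card F + 1 = 2 ^ k) ∧
        ¬ ∃ k : ℕ, Fintype.card F = 2 ^ k + 1 := by
      by_contra hcon
      exact hpow (harith.mpr hcon)
    refine ⟨fun _ => hR, fun _ => ?_⟩
    obtain ⟨S, w, hs, hcardS⟩ := td_exists_ts hT (by rw [hcardT]; exact hfac)
    refine ⟨Sylow.ofCard S hcardS, (red_iff _).mpr ?_⟩
    have hg₀S : g₀ ∉ S := by
      intro hin
      obtain ⟨k, hk⟩ := hs.pow g₀ hin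
      apply hpow
      obtain ⟨j, -, hj⟩ := (Nat.dvd_prime_pow Nat.prime_two).mp (orderOf_dvd_of_pow_eq_one hk)
      exact ⟨j, by rw [← hg₀, hj]⟩
    obtain ⟨j, hjT, hjj⟩ : ∃ j ∈ Subgroup.zpowers g₀, j * j = Zm F := by
      refine ⟨g₀ ^ (m / 4), Subgroup.pow_mem _ (Subgroup.mem_zpowers g₀) _, ?_⟩
      have h1 : (g₀ ^ (m / 4) * g₀ ^ (m / 4)) * (g₀ ^ (m / 4) * g₀ ^ (m / 4)) = 1 := by
        have e : m / 4 + m / 4 + (m / 4 + m / 4) = orderOf g₀ := by omega
        rw [← pow_add, ← pow_add, e, pow_orderOf_eq_one]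
      rcases hT.invol _ h1 with h3 | h3
      · exfalso
        rw [← pow_add] at h3
        have h4 := orderOf_dvd_of_pow_eq_one h3
        rw [hg₀] at h4
        have := Nat.le_of_dvd (by omega) h4
        omega
      · exact h3
    apply td_redundant hT hs hcardS g₀ (Subgroup.mem_zpowers g₀) hg₀S j hjT hjj
    intro x y hx hy
    obtain ⟨P₁, hP₁⟩ := Helper9.sl2_conj_J_h9 hoddq h2F x (by rw [hx, neg_one_eq_zm])
    obtain ⟨P₂, hP₂⟩ := Helper9.sl2_conj_J_h9 hoddq h2F y (by rw [hy, neg_one_eq_zm])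
    refine ⟨P₁ * P₂⁻¹, ?_⟩
    have hJ : Helper9.sl2J_h9 F = P₂⁻¹ * y * P₂ := by
      rw [hP₂]
      group
    rw [hP₁, hJ]
    group

/-- Redundant Sylow subgroups of `SL₂(q)`. -/
theorem redundant_sl2 (p : ℕ) [Fact p.Prime] :
    (∃ Q : Sylow p SL, Red Q) ↔
      (p = 2 ∧ (¬ ∃ k : ℕ, Fintype.card F + 1 = 2 ^ k) ∧ (¬ ∃ k : ℕ, Fintype.card F = 2 ^ k) ∧
        ¬ ∃ k : ℕ, Fintype.card F = 2 ^ k + 1) := by
  classical
  have hpP : p.Prime := Fact.out
  have hq2 : 2 ≤ Fintype.card F := Fintype.one_lt_card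
  by_cases hpq : p ∣ Fintype.card F
  · have hL := not_red_char (F := F) p hpq
    constructor
    · intro h
      exact absurd h hL
    · rintro ⟨rfl, -, h2, -⟩
      exfalso
      apply h2
      obtain ⟨p', hchar⟩ := CharP.exists F
      haveI := hchar
      haveI : Fact p'.Prime := ⟨CharP.char_is_prime F p'⟩
      obtain ⟨k, hp'prime, hq⟩ := FiniteField.card F p'
      have hpp : p' = 2 := by
        rw [hq] at hpq
        exact ((Nat.prime_dvd_prime_iff_eq Nat.prime_two hp'prime).mp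
          (Nat.prime_two.dvd_of_dvd_pow hpq)).symm
      exact ⟨k, by rw [hq, hpp]⟩
  by_cases hp2 : p = 2
  · subst hp2
    have hodd : Odd (Fintype.card F) := by
      rw [Nat.odd_iff]
      omega
    rw [red_two hodd]
    constructor
    · rintro ⟨h1, h3⟩
      refine ⟨rfl, h1, ?_, h3⟩
      rintro ⟨k, hk⟩
      rcases Nat.eq_zero_or_pos k with h0 | h0
      · rw [h0] at hk
        norm_num at hk
        omega
      · apply hpq
        rw [hk]
        exact dvd_pow_self 2 h0.ne'
    · rintro ⟨-, h1, -, h3⟩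
      exact ⟨h1, h3⟩
  · have hL : ¬ ∃ Q : Sylow p SL, Red Q := by
      by_cases hm : p ∣ Fintype.card F - 1
      · exact not_red_cyclic p hp2 _ (Or.inl rfl) hm hpq
      by_cases hp' : p ∣ Fintype.card F + 1
      · exact not_red_cyclic p hp2 _ (Or.inr rfl) hp' hpq
      · apply not_red_triv
        rw [card_SL2]
        intro h
        rcases (Nat.Prime.dvd_mul hpP).mp h with h' | h'
        · rcases (Nat.Prime.dvd_mul hpP).mp h' with h'' | h''
          · exact hpq h''
          · exact hm h''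
        · exact hp' h'
    constructor
    · intro h
      exact absurd h hL
    · rintro ⟨h, -⟩
      exact absurd h hp2

/-- Redundant Sylow subgroups of `PSL₂(q)`. -/
theorem redundant_psl2 (p : ℕ) [Fact p.Prime] :
    (∃ Q : Sylow p (Matrix.ProjectiveSpecialLinearGroup (Fin 2) F), Red Q) ↔
      (p = 2 ∧ (¬ ∃ k : ℕ, Fintype.card F + 1 = 2 ^ k) ∧ (¬ ∃ k : ℕ, Fintype.card F = 2 ^ k) ∧
        ¬ ∃ k : ℕ, Fintype.card F = 2 ^ k + 1) := by
  rw [← redundant_sl2 (F := F) p]
  exact (red_quot (QuotientGroup.mk' (Subgroup.center SL)) (QuotientGroup.mk'_surjective _)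
    (by rw [QuotientGroup.ker_mk'])).symm

end SL2


end Cfsg.Agent.Helper15.SL2G
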