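import Mathlib
import Cfsg.Agent.Helper15.SL2G

/-!
# A redundant Sylow `p`-subgroup of `GL_p(q)` when `p` exactly divides `q - 1` (helper15)

The monomial group `Q0 = ⟨ζ⟩ ≀ C_p` is a Sylow `p`-subgroup of `GL_p(q)`; each of its elements
lies in a conjugate of `Q0` different from `Q0`.  Matrices are indexed by `ZMod p`.
-/

set_option autoImplicit false

namespace Cfsg.Agent.Helper15.GLP

open Cfsg Matrix
open Cfsg.Agent.Helper15.SL2G (Red Red' red_iff mem_smul_sylow red_quot)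

section Generic
variable {G : Type*} [Group G] {p : ℕ} [Finite G] [Fact p.Prime]

lemma other_sylow (Q : Sylow p G) (x g : G) (hx : g⁻¹ * x * g ∈ Q)
    (hg : g ∉ Subgroup.normalizer ((Q : Subgroup G) : Set G)) : ∃ P : Sylow p G, P ≠ Q ∧ x ∈ P := by
  refine ⟨g • Q, ?_, ?_⟩
  · intro h
    exact hg (Sylow.smul_eq_iff_mem_normalizer.mp h)
  · rw [mem_smul_sylow]
    exact hx

omit [Finite G] [Fact p.Prime] in
lemma not_norm {H : Subgroup G} (g y : G) (hy : y ∈ H) (hgy : g * y * g⁻¹ ∉ H) :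
    g ∉ Subgroup.normalizer (H : Set G) := by
  intro hg
  exact hgy ((Subgroup.mem_normalizer_iff.mp hg y).mp hy)

end Generic

section Mat
variable {F : Type*} [Field F] {p : ℕ} [Fact p.Prime]

/-- monomial matrix: entry `d j` at `(j, j + a)` -/
def mon (d : ZMod p → F) (a : ZMod p) : Matrix (ZMod p) (ZMod p) F :=
  Matrix.of fun j k => if k = j + a then d j else 0

lemma mon_apply (d : ZMod p → F) (a j k : ZMod p) :
    mon d a j k = if k = j + a then d j else 0 := rfl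

lemma mul_mon (A : Matrix (ZMod p) (ZMod p) F) (d : ZMod p → F) (a j k : ZMod p) :
    (A * mon d a) j k = A j (k - a) * d (k - a) := by
  rw [Matrix.mul_apply, Finset.sum_eq_single (k - a)]
  · rw [mon_apply, if_pos (by ring)]
  · intro l _ hl
    rw [mon_apply, if_neg, mul_zero]
    intro h
    apply hl
    rw [h]; ring
  · intro h
    exact absurd (Finset.mem_univ _) h

lemma mon_mul' (A : Matrix (ZMod p) (ZMod p) F) (d : ZMod p → F) (a j k : ZMod p) :
    (mon d a * A) j k = d j * A (j + a) k := by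
  rw [Matrix.mul_apply, Finset.sum_eq_single (j + a)]
  · rw [mon_apply, if_pos rfl]
  · intro l _ hl
    rw [mon_apply, if_neg hl, zero_mul]
  · intro h
    exact absurd (Finset.mem_univ _) h

lemma mon_mul_mon (d d' : ZMod p → F) (a a' : ZMod p) :
    mon d a * mon d' a' = mon (fun j => d j * d' (j + a)) (a + a') := by
  ext j k
  rw [mon_mul', mon_apply, mon_apply, add_assoc]
  split_ifs <;> simp

lemma mon_one : mon (fun _ => (1 : F)) (0 : ZMod p) = 1 := by
  ext j k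
  rw [mon_apply, Matrix.one_apply, add_zero]
  by_cases h : j = k
  · simp [h]
  · simp [h, Ne.symm h]

lemma mon_const (c : F) :
    mon (fun _ => c) (0 : ZMod p) = c • (1 : Matrix (ZMod p) (ZMod p) F) := by
  ext j k
  rw [mon_apply, Matrix.smul_apply, Matrix.one_apply, add_zero]
  by_cases h : j = k
  · simp [h]
  · simp [h, Ne.symm h]

lemma mon_congr {d d' : ZMod p → F} {a a' : ZMod p} (hd : ∀ j, d j = d' j) (ha : a = a') :
    mon d a = mon d' a' := by
  rw [ha, funext hd]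

/-- monomial element of `GL` -/
def monU (d : ZMod p → Fˣ) (a : ZMod p) : GL (ZMod p) F where
  val := mon (fun j => (d j : F)) a
  inv := mon (fun j => ((d (j - a))⁻¹ : Fˣ)) (-a)
  val_inv := by
    rw [mon_mul_mon, ← mon_one]
    apply mon_congr
    · intro j
      rw [add_sub_cancel_right]
      simp
    · ring
  inv_val := by
    rw [mon_mul_mon, ← mon_one]
    apply mon_congr
    · intro j
      rw [← sub_eq_add_neg]
      simp
    · ring

lemma monU_coe (d : ZMod p → Fˣ) (a : ZMod p) :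
    ((monU d a : GL (ZMod p) F) : Matrix (ZMod p) (ZMod p) F) = mon (fun j => (d j : F)) a := rfl

lemma monU_congr {d d' : ZMod p → Fˣ} {a a' : ZMod p} (hd : ∀ j, d j = d' j) (ha : a = a') :
    monU d a = monU d' a' := by
  rw [ha, funext hd]

lemma monU_mul (d d' : ZMod p → Fˣ) (a a' : ZMod p) :
    monU d a * monU d' a' = monU (fun j => d j * d' (j + a)) (a + a') := by
  apply Units.ext
  rw [Units.val_mul, monU_coe, monU_coe, monU_coe, mon_mul_mon]
  apply mon_congr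
  · intro j
    rw [Units.val_mul]
  · rfl

lemma monU_one : monU (fun _ => (1 : Fˣ)) (0 : ZMod p) = 1 := by
  apply Units.ext
  rw [monU_coe]
  refine Eq.trans ?_ mon_one
  apply mon_congr
  · intro j
    rw [Units.val_one]
  · rfl

lemma monU_inv (d : ZMod p → Fˣ) (a : ZMod p) :
    (monU d a)⁻¹ = monU (fun j => (d (j - a))⁻¹) (-a) := by
  apply inv_eq_of_mul_eq_one_right
  rw [monU_mul, ← monU_one]
  apply monU_congr
  · intro j
    rw [add_sub_cancel_right, mul_inv_cancel]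
  · ring

lemma monU_inj {d d' : ZMod p → Fˣ} {a a' : ZMod p} (h : monU d a = monU d' a') :
    a = a' ∧ d = d' := by
  have hm : mon (fun j => (d j : F)) a = mon (fun j => (d' j : F)) a' := by
    rw [← monU_coe, ← monU_coe, h]
  have ha : a = a' := by
    have h0 := congrFun (congrFun hm 0) a
    rw [mon_apply, mon_apply, if_pos (zero_add a).symm] at h0
    by_contra hne
    rw [if_neg (by rw [zero_add]; exact hne)] at h0
    exact (d 0).ne_zero h0
  refine ⟨ha, ?_⟩
  subst ha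
  funext j
  have hj := congrFun (congrFun hm j) (j + a)
  rw [mon_apply, mon_apply, if_pos rfl, if_pos rfl] at hj
  exact Units.ext hj

/-- the monomial `p`-group `⟨ζ⟩ ≀ C_p` -/
def Q0 (ζ : Fˣ) : Subgroup (GL (ZMod p) F) where
  carrier := {g | ∃ (d : ZMod p → Fˣ) (a : ZMod p),
    (∀ j, d j ∈ Subgroup.zpowers ζ) ∧ g = monU d a}
  mul_mem' := by
    rintro _ _ ⟨d, a, hd, rfl⟩ ⟨d', a', hd', rfl⟩
    exact ⟨_, _, fun j => mul_mem (hd j) (hd' _), monU_mul d d' a a'⟩
  one_mem' := ⟨fun _ => 1, 0, fun _ => one_mem _, monU_one.symm⟩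
  inv_mem' := by
    rintro _ ⟨d, a, hd, rfl⟩
    exact ⟨_, _, fun j => inv_mem (hd _), monU_inv d a⟩

lemma mem_Q0 (ζ : Fˣ) (g : GL (ZMod p) F) :
    g ∈ Q0 (p := p) ζ ↔ ∃ (d : ZMod p → Fˣ) (a : ZMod p),
      (∀ j, d j ∈ Subgroup.zpowers ζ) ∧ g = monU d a := Iff.rfl

lemma monU_mem (ζ : Fˣ) (d : ZMod p → Fˣ) (a : ZMod p) (hd : ∀ j, d j ∈ Subgroup.zpowers ζ) :
    monU d a ∈ Q0 (p := p) ζ := ⟨d, a, hd, rfl⟩

lemma card_Q0 (ζ : Fˣ) (hζ : orderOf ζ = p) : Nat.card (Q0 (p := p) ζ) = p ^ (p + 1) := by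
  let φ : (ZMod p → Subgroup.zpowers ζ) × ZMod p → Q0 (p := p) ζ := fun x =>
    ⟨monU (fun j => (x.1 j : Fˣ)) x.2, ⟨_, _, fun j => (x.1 j).2, rfl⟩⟩
  have hinj : Function.Injective φ := by
    rintro ⟨d, a⟩ ⟨d', a'⟩ h
    have h' := congrArg Subtype.val h
    obtain ⟨ha, hd⟩ := monU_inj h'
    refine Prod.ext ?_ ha
    funext j
    exact Subtype.ext (congrFun hd j)
  have hsurj : Function.Surjective φ := by
    rintro ⟨g, d, a, hd, rfl⟩
    exact ⟨(fun j => ⟨d j, hd j⟩, a), rfl⟩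
  rw [← Nat.card_congr (Equiv.ofBijective φ ⟨hinj, hsurj⟩), Nat.card_prod, Nat.card_fun,
    Nat.card_zpowers, hζ, Nat.card_eq_fintype_card, ZMod.card, pow_succ]

end Mat

section Mat2
variable {F : Type*} [Field F] {p : ℕ} [Fact p.Prime]

lemma transv_apply (j₀ k₀ j k : ZMod p) :
    (Matrix.transvection j₀ k₀ (1 : F)) j k
      = (if j = k then 1 else 0) + (if j₀ = j ∧ k₀ = k then 1 else 0) := by
  rw [Matrix.transvection, Matrix.add_apply, Matrix.one_apply, Matrix.single_apply]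

/-- the transvection as an element of `GL` -/
def tU (j₀ k₀ : ZMod p) (h : j₀ ≠ k₀) : GL (ZMod p) F where
  val := Matrix.transvection j₀ k₀ 1
  inv := Matrix.transvection j₀ k₀ (-1)
  val_inv := by rw [Matrix.transvection_mul_transvection_same j₀ k₀ h]; simp
  inv_val := by rw [Matrix.transvection_mul_transvection_same j₀ k₀ h]; simp

lemma tU_coe (j₀ k₀ : ZMod p) (h : j₀ ≠ k₀) :
    ((tU j₀ k₀ h : GL (ZMod p) F) : Matrix (ZMod p) (ZMod p) F)
      = Matrix.transvection j₀ k₀ 1 := rfl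

lemma tU_comm (j₀ k₀ : ZMod p) (h : j₀ ≠ k₀) (d : ZMod p → Fˣ) (hd : d j₀ = d k₀) :
    (tU j₀ k₀ h : GL (ZMod p) F) * monU d 0 = monU d 0 * tU j₀ k₀ h := by
  apply Units.ext
  rw [Units.val_mul, Units.val_mul, monU_coe, tU_coe]
  ext j k
  rw [mul_mon, mon_mul', sub_zero, add_zero, transv_apply]
  by_cases hjk : j = k
  · subst hjk; ring
  · by_cases h2 : j₀ = j ∧ k₀ = k
    · obtain ⟨rfl, rfl⟩ := h2
      rw [hd]; ring
    · rw [if_neg hjk, if_neg h2]; ring

lemma tU_not_mem (ζ : Fˣ) (j₀ k₀ : ZMod p) (h : j₀ ≠ k₀) (e : ZMod p → Fˣ)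
    (he : e j₀ ≠ e k₀) :
    tU j₀ k₀ h * monU e 0 * (tU j₀ k₀ h)⁻¹ ∉ Q0 (F := F) (p := p) ζ := by
  rintro ⟨d', a', -, hda⟩
  have h1 : (tU j₀ k₀ h : GL (ZMod p) F) * monU e 0 = monU d' a' * tU j₀ k₀ h := by
    rw [← hda]; group
  have h2 := congrArg Units.val h1
  rw [Units.val_mul, Units.val_mul, monU_coe, monU_coe, tU_coe] at h2
  have e1 := congrFun (congrFun h2 j₀) j₀
  have hk : ¬ (j₀ = j₀ ∧ k₀ = j₀) := fun hh => h hh.2.symm
  have hk2 : ¬ (j₀ = j₀ + a' ∧ k₀ = j₀) := fun hh => h hh.2.symm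
  rw [mul_mon, mon_mul', sub_zero, transv_apply, transv_apply, if_pos rfl,
    if_neg hk, if_neg hk2] at e1
  by_cases ha : a' = 0
  · subst ha
    have e2 := congrFun (congrFun h2 j₀) k₀
    rw [mul_mon, mon_mul', sub_zero, add_zero, transv_apply, if_neg h, if_pos ⟨rfl, rfl⟩] at e2
    have e1' : (e j₀ : F) = d' j₀ := by simpa using e1
    have e2' : (e k₀ : F) = d' j₀ := by simpa using e2
    exact he (Units.ext (e1'.trans e2'.symm))
  · rw [if_neg (by intro hh; apply ha; exact add_eq_left.mp hh)] at e1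
    have : (e j₀ : F) = 0 := by linear_combination e1
    exact (e j₀).ne_zero this

/-- the Vandermonde-type matrix -/
def vmat (d : ZMod p → F) : Matrix (ZMod p) (ZMod p) F := Matrix.of fun j k => d k ^ j.val

lemma vmat_apply (d : ZMod p → F) (j k : ZMod p) : vmat d j k = d k ^ j.val := rfl

lemma vmat_det (d : ZMod p → F) (hd : Function.Injective d) : (vmat d).det ≠ 0 := by
  let e : ZMod p ≃ Fin p := Equiv.ofBijective
    (fun j : ZMod p => (⟨j.val, ZMod.val_lt j⟩ : Fin p)) (by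
      rw [Fintype.bijective_iff_injective_and_card]
      refine ⟨?_, by rw [ZMod.card, Fintype.card_fin]⟩
      intro j k h
      exact ZMod.val_injective p (Fin.mk.inj h))
  have h1 : (vmat d)ᵀ = (Matrix.vandermonde (d ∘ e.symm)).submatrix e e := by
    ext k j
    rw [Matrix.transpose_apply, vmat_apply, Matrix.submatrix_apply, Matrix.vandermonde_apply]
    simp [e]
  rw [← Matrix.det_transpose, h1, Matrix.det_submatrix_equiv_self,
    Matrix.det_vandermonde_ne_zero_iff]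
  exact hd.comp e.symm.injective

lemma shift_vmat (d : ZMod p → F) (hd : ∀ k, d k ^ p = 1) (a : ZMod p) :
    mon (fun _ => (1 : F)) a * vmat d = vmat d * mon (fun k => d k ^ a.val) 0 := by
  ext j k
  rw [mon_mul', mul_mon, sub_zero, vmat_apply, vmat_apply, one_mul, ← pow_add, ZMod.val_add]
  exact (pow_eq_pow_mod _ (hd k)).symm

lemma val_one_h (hp3 : 3 ≤ p) : (1 : ZMod p).val = 1 := by
  apply ZMod.val_one''
  omega

lemma val_two_h (hp3 : 3 ≤ p) : (2 : ZMod p).val = 2 := by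
  rw [show (2 : ZMod p) = ((2 : ℕ) : ZMod p) by norm_cast]
  exact ZMod.val_natCast_of_lt (by omega)

lemma vmat_not_norm (hp3 : 3 ≤ p) (d : ZMod p → F) (hd0 : d 0 ≠ 0)
    (e d' : ZMod p → F) (a' : ZMod p) (he0 : e 0 ≠ 1) (he0' : e 0 ≠ 0)
    (he1 : e 1 = 1) (he2 : e 2 = 1) (h : mon e 0 * vmat d = vmat d * mon d' a') : False := by
  have r0 := congrFun (congrFun h 0) a'
  have r1 := congrFun (congrFun h 1) a'
  have r2 := congrFun (congrFun h 2) a'
  rw [mon_mul', mul_mon, add_zero, vmat_apply, vmat_apply, sub_self] at r0 r1 r2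
  rw [ZMod.val_zero, pow_zero, pow_zero] at r0
  rw [val_one_h hp3, pow_one, pow_one, he1] at r1
  rw [val_two_h hp3, he2] at r2
  have h3 : d 0 ^ 2 * (e 0 * (e 0 - 1)) = 0 := by
    have r0' : e 0 = d' 0 := by linear_combination r0
    rw [r0']
    have r1' : d a' = d 0 * d' 0 := by linear_combination r1
    rw [r1'] at r2
    linear_combination r2
  rcases mul_eq_zero.mp h3 with h4 | h4
  · exact hd0 (pow_eq_zero_iff (two_ne_zero) |>.mp h4)
  · rcases mul_eq_zero.mp h4 with h5 | h5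
    · exact he0' h5
    · exact he0 (sub_eq_zero.mp h5)

lemma one_add_not_norm (d e d' : ZMod p → F) (a a' : ZMod p) (ha : a ≠ 0) (ha2 : a + a ≠ 0)
    (hd0 : d 0 ≠ 0) (he0 : e 0 ≠ 0) (he0' : e 0 ≠ 1) (hea : e a = 1)
    (h : (1 + mon d a) * mon e 0 = mon d' a' * (1 + mon d a)) : False := by
  have hA : ∀ j k, ((1 : Matrix (ZMod p) (ZMod p) F) + mon d a) j k
      = (if j = k then 1 else 0) + (if k = j + a then d j else 0) := fun j k => by
    rw [Matrix.add_apply, Matrix.one_apply, mon_apply]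
  have A00 : ((1 : Matrix (ZMod p) (ZMod p) F) + mon d a) 0 0 = 1 := by
    rw [hA, if_pos rfl, if_neg (by rw [zero_add]; exact Ne.symm ha), add_zero]
  have A0a : ((1 : Matrix (ZMod p) (ZMod p) F) + mon d a) 0 a = d 0 := by
    rw [hA, if_neg (Ne.symm ha), if_pos (zero_add a).symm, zero_add]
  have r0 := congrFun (congrFun h 0) 0
  have ra := congrFun (congrFun h 0) a
  rw [mul_mon, mon_mul', sub_zero, zero_add, A00] at r0
  rw [mul_mon, mon_mul', sub_zero, zero_add, A0a, hea] at ra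
  by_cases ha' : a' = 0
  · subst ha'
    rw [A00] at r0
    rw [A0a] at ra
    have h1 : d 0 * (e 0 - 1) = 0 := by linear_combination r0 * d 0 - ra
    rcases mul_eq_zero.mp h1 with h2 | h2
    · exact hd0 h2
    · exact he0' (sub_eq_zero.mp h2)
  · by_cases haa : a' = a
    · subst haa
      have hz : ((1 : Matrix (ZMod p) (ZMod p) F) + mon d a') a' 0 = 0 := by
        rw [hA, if_neg ha, if_neg (by intro hh; exact ha2 hh.symm), add_zero]
      rw [hz] at r0
      apply he0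
      linear_combination r0
    · have hz : ((1 : Matrix (ZMod p) (ZMod p) F) + mon d a) a' a = 0 := by
        rw [hA, if_neg haa, if_neg (by intro hh; exact ha' (add_eq_right.mp hh.symm)), add_zero]
      rw [hz] at ra
      apply hd0
      linear_combination ra

lemma mon_pow (d : ZMod p → F) (a : ZMod p) (m : ℕ) :
    mon d a ^ m
      = mon (fun j => ∏ l ∈ Finset.range m, d (j + (l : ZMod p) * a)) ((m : ZMod p) * a) := by
  induction m with
  | zero =>
    rw [pow_zero]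
    simp only [Finset.range_zero, Finset.prod_empty, Nat.cast_zero, zero_mul]
    exact mon_one.symm
  | succ m ih =>
    rw [pow_succ, ih, mon_mul_mon]
    apply mon_congr
    · intro j
      rw [Finset.prod_range_succ]
    · push_cast; ring

lemma prod_cycle {M : Type*} [CommMonoid M] (a : ZMod p) (ha : a ≠ 0) (f : ZMod p → M)
    (j : ZMod p) : ∏ l ∈ Finset.range p, f (j + (l : ZMod p) * a) = ∏ k, f k := by
  have hinj : Set.InjOn (fun l : ℕ => j + (l : ZMod p) * a) (Finset.range p : Set ℕ) := by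
    intro l hl l' hl' h
    have h1 : (l : ZMod p) = (l' : ZMod p) := mul_right_cancel₀ ha (add_left_cancel h)
    rw [ZMod.natCast_eq_natCast_iff'] at h1
    rw [Finset.coe_range, Set.mem_Iio] at hl hl'
    rwa [Nat.mod_eq_of_lt hl, Nat.mod_eq_of_lt hl'] at h1
  rw [← Finset.prod_image (s := Finset.range p) (g := fun l : ℕ => j + (l : ZMod p) * a)
    (f := f) hinj]
  congr 1
  apply Finset.eq_univ_of_card
  rw [Finset.card_image_of_injOn hinj, Finset.card_range, ZMod.card]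

lemma mon_pow_p (d : ZMod p → F) (a : ZMod p) (ha : a ≠ 0) :
    mon d a ^ p = (∏ k, d k) • (1 : Matrix (ZMod p) (ZMod p) F) := by
  rw [mon_pow, ← mon_const]
  apply mon_congr
  · intro j
    exact prod_cycle a ha d j
  · rw [ZMod.natCast_self, zero_mul]

lemma one_add_mon_inv (hodd : Odd p) (d : ZMod p → F) (a : ZMod p) (ha : a ≠ 0)
    (hδ : 1 + ∏ k, d k ≠ 0) :
    ∃ B : Matrix (ZMod p) (ZMod p) F, (1 + mon d a) * B = 1 := by
  refine ⟨(1 + ∏ k, d k)⁻¹ • ∑ m ∈ Finset.range p, (-mon d a) ^ m, ?_⟩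
  have h1 := mul_neg_geom_sum (-mon d a) p
  rw [sub_neg_eq_add, hodd.neg_pow, sub_neg_eq_add, mon_pow_p d a ha] at h1
  rw [Matrix.mul_smul, h1]
  have h2 : (1 : Matrix (ZMod p) (ZMod p) F) + (∏ k, d k) • (1 : Matrix (ZMod p) (ZMod p) F)
      = (1 + ∏ k, d k) • (1 : Matrix (ZMod p) (ZMod p) F) := by
    rw [add_smul, one_smul]
  rw [h2, smul_smul, inv_mul_cancel₀ hδ, one_smul]

/-- a matrix with a right inverse as an element of `GL` -/
def mkU (A B : Matrix (ZMod p) (ZMod p) F) (h : A * B = 1) : GL (ZMod p) F where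
  val := A
  inv := B
  val_inv := h
  inv_val := _root_.mul_eq_one_comm.mp h

lemma mkU_coe (A B : Matrix (ZMod p) (ZMod p) F) (h : A * B = 1) :
    ((mkU A B h : GL (ZMod p) F) : Matrix (ZMod p) (ZMod p) F) = A := rfl

end Mat2

section Cases
variable {F : Type*} [Field F] {p : ℕ} [Fact p.Prime]

/-- the test function `ζ` at `j₀`, `1` elsewhere -/
def eU (ζ : Fˣ) (j₀ : ZMod p) : ZMod p → Fˣ := fun j => if j = j₀ then ζ else 1

lemma eU_mem (ζ : Fˣ) (j₀ j : ZMod p) : eU ζ j₀ j ∈ Subgroup.zpowers ζ := by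
  unfold eU
  split_ifs
  · exact Subgroup.mem_zpowers ζ
  · exact one_mem _

lemma case_noninj (ζ : Fˣ) (hζ1 : ζ ≠ 1) (d : ZMod p → Fˣ)
    (hd : ∀ j, d j ∈ Subgroup.zpowers ζ) (hni : ¬ Function.Injective d) :
    ∃ g : GL (ZMod p) F, g⁻¹ * monU d 0 * g ∈ Q0 (p := p) ζ ∧
      g ∉ Subgroup.normalizer ((Q0 (p := p) ζ : Subgroup (GL (ZMod p) F)) : Set (GL (ZMod p) F)) := by
  unfold Function.Injective at hni
  push Not at hni
  obtain ⟨j₀, k₀, hjk, hne⟩ := hni
  refine ⟨tU j₀ k₀ hne, ?_, ?_⟩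
  · have h := tU_comm j₀ k₀ hne d hjk
    rw [mul_assoc, ← h, ← mul_assoc, inv_mul_cancel, one_mul]
    exact monU_mem ζ d 0 hd
  · apply not_norm _ (monU (eU ζ j₀) 0) (monU_mem ζ _ 0 (eU_mem ζ j₀))
    apply tU_not_mem
    unfold eU
    rw [if_pos rfl, if_neg (Ne.symm hne)]
    exact hζ1

lemma exists_vU (d : ZMod p → Fˣ) (hinj : Function.Injective d) (hd : ∀ k, d k ^ p = 1) :
    ∃ VU : GL (ZMod p) F, (VU : Matrix (ZMod p) (ZMod p) F) = vmat (fun k => (d k : F)) ∧
      ∀ a : ZMod p, VU⁻¹ * monU (fun _ => 1) a * VU = monU (fun k => d k ^ a.val) 0 := by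
  have hdet : (vmat (fun k => (d k : F))).det ≠ 0 := by
    apply vmat_det
    intro j k h
    exact hinj (Units.ext h)
  have hunit : IsUnit (vmat (fun k => (d k : F))) :=
    (Matrix.isUnit_iff_isUnit_det _).mpr (IsUnit.mk0 _ hdet)
  refine ⟨hunit.unit, hunit.unit_spec, ?_⟩
  intro a
  have h1 : monU (fun _ => 1) a * hunit.unit = hunit.unit * monU (fun k => d k ^ a.val) 0 := by
    apply Units.ext
    rw [Units.val_mul, Units.val_mul, monU_coe, monU_coe, hunit.unit_spec]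
    have h2 := shift_vmat (fun k => (d k : F))
      (fun k => by rw [← Units.val_pow_eq_pow_val, hd k, Units.val_one]) a
    simp only [Units.val_one, Units.val_pow_eq_pow_val]
    exact h2
  rw [mul_assoc, h1, ← mul_assoc, inv_mul_cancel, one_mul]

lemma two_ne_zero_h (hp3 : 3 ≤ p) : (2 : ZMod p) ≠ 0 := by
  intro h
  have := congrArg ZMod.val h
  rw [val_two_h hp3, ZMod.val_zero] at this
  omega

lemma one_ne_zero_h (hp3 : 3 ≤ p) : (1 : ZMod p) ≠ 0 := by
  intro h
  have := congrArg ZMod.val h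
  rw [val_one_h hp3, ZMod.val_zero] at this
  omega

lemma vU_not_norm (hp3 : 3 ≤ p) (ζ : Fˣ) (hζ1 : ζ ≠ 1) (d : ZMod p → Fˣ) (VU : GL (ZMod p) F)
    (hV : (VU : Matrix (ZMod p) (ZMod p) F) = vmat (fun k => (d k : F))) :
    VU⁻¹ ∉ Subgroup.normalizer
      ((Q0 (p := p) ζ : Subgroup (GL (ZMod p) F)) : Set (GL (ZMod p) F)) := by
  apply not_norm _ (monU (eU ζ 0) 0) (monU_mem ζ _ 0 (eU_mem ζ 0))
  rw [inv_inv]
  rintro ⟨d', a', -, h⟩
  have h1 : monU (eU ζ 0) 0 * VU = VU * monU d' a' := by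
    rw [← h]; group
  have h2 := congrArg Units.val h1
  rw [Units.val_mul, Units.val_mul, monU_coe, monU_coe, hV] at h2
  refine vmat_not_norm hp3 _ (d 0).ne_zero _ _ a' ?_ ?_ ?_ ?_ h2
  · show ((eU ζ 0 0 : Fˣ) : F) ≠ 1
    unfold eU; rw [if_pos rfl]; intro h; exact hζ1 (Units.ext h)
  · show ((eU ζ 0 0 : Fˣ) : F) ≠ 0
    exact (eU ζ 0 0).ne_zero
  · show ((eU ζ 0 1 : Fˣ) : F) = 1
    unfold eU; rw [if_neg (one_ne_zero_h hp3)]; rfl
  · show ((eU ζ 0 2 : Fˣ) : F) = 1
    unfold eU; rw [if_neg (two_ne_zero_h hp3)]; rfl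

lemma case_inj (hp3 : 3 ≤ p) (ζ : Fˣ) (hζ1 : ζ ≠ 1)
    (hμ : ∀ u ∈ Subgroup.zpowers ζ, u ^ p = 1)
    (d : ZMod p → Fˣ) (hd : ∀ j, d j ∈ Subgroup.zpowers ζ) (hinj : Function.Injective d) :
    ∃ g : GL (ZMod p) F, g⁻¹ * monU d 0 * g ∈ Q0 (p := p) ζ ∧
      g ∉ Subgroup.normalizer ((Q0 (p := p) ζ : Subgroup (GL (ZMod p) F)) : Set (GL (ZMod p) F)) := by
  obtain ⟨VU, hV, hsh⟩ := exists_vU d hinj (fun k => hμ _ (hd k))
  refine ⟨VU⁻¹, ?_, vU_not_norm hp3 ζ hζ1 d VU hV⟩
  have h1 := hsh 1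
  rw [val_one_h hp3] at h1
  simp only [pow_one] at h1
  rw [inv_inv, ← h1]
  have h3 : VU * (VU⁻¹ * monU (fun _ => 1) 1 * VU) * VU⁻¹
      = monU (fun _ => (1 : Fˣ)) (1 : ZMod p) := by group
  rw [h3]
  exact monU_mem ζ _ _ (fun _ => one_mem _)

lemma exists_conj_shift (ζ : Fˣ) (d : ZMod p → Fˣ) (a : ZMod p) (ha : a ≠ 0)
    (hd : ∀ j, d j ∈ Subgroup.zpowers ζ) (hprod : ∏ k, d k = 1) :
    ∃ t : ZMod p → Fˣ, (∀ j, t j ∈ Subgroup.zpowers ζ) ∧
      monU t 0 * monU d a = monU (fun _ => 1) a * monU t 0 := by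
  have hpp : p.Prime := Fact.out
  refine ⟨fun j => ∏ l ∈ Finset.range (j * a⁻¹).val, d ((l : ZMod p) * a), ?_, ?_⟩
  · intro j
    exact Subgroup.prod_mem _ (fun l _ => hd _)
  · rw [monU_mul, monU_mul]
    apply monU_congr
    · intro j
      show (∏ l ∈ Finset.range (j * a⁻¹).val, d ((l : ZMod p) * a)) * d (j + 0)
        = 1 * ∏ l ∈ Finset.range ((j + a) * a⁻¹).val, d ((l : ZMod p) * a)
      rw [one_mul, add_zero]
      have hja : (j + a) * a⁻¹ = j * a⁻¹ + 1 := by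
        rw [add_mul, mul_inv_cancel₀ ha]
      have hj : (((j * a⁻¹).val : ℕ) : ZMod p) * a = j := by
        rw [ZMod.natCast_zmod_val, mul_assoc, inv_mul_cancel₀ ha, mul_one]
      rw [hja]
      have hlt := ZMod.val_lt (j * a⁻¹)
      have hone : (1 : ZMod p).val = 1 := ZMod.val_one'' hpp.one_lt.ne'
      by_cases hn : (j * a⁻¹).val + 1 < p
      · have hv : (j * a⁻¹ + 1).val = (j * a⁻¹).val + 1 := by
          rw [ZMod.val_add_of_lt (by rw [hone]; exact hn), hone]
        rw [hv, Finset.prod_range_succ, hj]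
      · have hn' : (j * a⁻¹).val + 1 = p := by omega
        have hz : j * a⁻¹ + 1 = 0 := by
          have h0 : (((j * a⁻¹).val + 1 : ℕ) : ZMod p) = 0 := by
            rw [hn', ZMod.natCast_self]
          rw [Nat.cast_add, ZMod.natCast_zmod_val, Nat.cast_one] at h0
          exact h0
        rw [hz, ZMod.val_zero, Finset.range_zero, Finset.prod_empty]
        have h1 : ∏ l ∈ Finset.range ((j * a⁻¹).val + 1), d ((0 : ZMod p) + (l : ZMod p) * a)
            = ∏ k, d k := by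
          rw [hn']
          exact prod_cycle a ha d 0
        rw [Finset.prod_range_succ, hprod] at h1
        simp only [zero_add] at h1
        rw [hj] at h1
        exact h1
    · ring

lemma case_shift_one (hp3 : 3 ≤ p) (ζ : Fˣ) (hζ : orderOf ζ = p) (hζ1 : ζ ≠ 1)
    (d : ZMod p → Fˣ) (a : ZMod p) (ha : a ≠ 0)
    (hd : ∀ j, d j ∈ Subgroup.zpowers ζ) (hprod : ∏ k, d k = 1) :
    ∃ g : GL (ZMod p) F, g⁻¹ * monU d a * g ∈ Q0 (p := p) ζ ∧
      g ∉ Subgroup.normalizer ((Q0 (p := p) ζ : Subgroup (GL (ZMod p) F)) : Set (GL (ZMod p) F)) := by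
  obtain ⟨t, ht, hta⟩ := exists_conj_shift ζ d a ha hd hprod
  have hinj : Function.Injective (fun k : ZMod p => ζ ^ k.val) := by
    intro j k h
    have h' := pow_injOn_Iio_orderOf (x := ζ) (by rw [hζ]; exact ZMod.val_lt j)
      (by rw [hζ]; exact ZMod.val_lt k) h
    exact ZMod.val_injective p h'
  have hζp : ζ ^ p = 1 := by
    rw [← hζ]
    exact pow_orderOf_eq_one ζ
  obtain ⟨VU, hV, hsh⟩ := exists_vU (fun k : ZMod p => ζ ^ k.val) hinj
    (fun k => by rw [← pow_mul, mul_comm, pow_mul, hζp, one_pow])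
  refine ⟨(monU t 0)⁻¹ * VU, ?_, ?_⟩
  · have h1 : ((monU t 0)⁻¹ * VU)⁻¹ * monU d a * ((monU t 0)⁻¹ * VU)
        = VU⁻¹ * (monU t 0 * monU d a * (monU t 0)⁻¹) * VU := by group
    rw [h1, hta]
    have h2 : VU⁻¹ * (monU (fun _ => 1) a * monU t 0 * (monU t 0)⁻¹) * VU
        = VU⁻¹ * monU (fun _ => 1) a * VU := by group
    rw [h2, hsh a]
    exact monU_mem ζ _ _
      (fun k => Subgroup.pow_mem _ (Subgroup.pow_mem _ (Subgroup.mem_zpowers ζ) _) _)
  · intro hg
    have hN := vU_not_norm hp3 ζ hζ1 (fun k : ZMod p => ζ ^ k.val) VU hV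
    apply hN
    have ht' : monU t 0 ∈ Subgroup.normalizer
        ((Q0 (p := p) ζ : Subgroup (GL (ZMod p) F)) : Set (GL (ZMod p) F)) :=
      Subgroup.le_normalizer (monU_mem ζ t 0 ht)
    have e : VU = monU t 0 * ((monU t 0)⁻¹ * VU) := by group
    rw [e]
    exact inv_mem (mul_mem ht' hg)

lemma case_shift_ne (hp3 : 3 ≤ p) (hodd : Odd p) (ζ : Fˣ) (hζ1 : ζ ≠ 1)
    (hμ : ∀ u ∈ Subgroup.zpowers ζ, u ^ p = 1)
    (d : ZMod p → Fˣ) (a : ZMod p) (ha : a ≠ 0)
    (hd : ∀ j, d j ∈ Subgroup.zpowers ζ) (hprod : ∏ k, d k ≠ 1) :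
    ∃ g : GL (ZMod p) F, g⁻¹ * monU d a * g ∈ Q0 (p := p) ζ ∧
      g ∉ Subgroup.normalizer ((Q0 (p := p) ζ : Subgroup (GL (ZMod p) F)) : Set (GL (ZMod p) F)) := by
  have hδp : (∏ k, d k) ^ p = 1 := hμ _ (Subgroup.prod_mem _ (fun k _ => hd k))
  have hδ : (1 : F) + ∏ k, (d k : F) ≠ 0 := by
    intro h0
    have e1 : (∏ k, (d k : F)) = -1 := by linear_combination h0
    have e2 : ((∏ k, d k : Fˣ) : F) = -1 := by rw [Units.coe_prod]; exact e1
    have e3 : ((∏ k, d k : Fˣ) : F) ^ p = 1 := by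
      rw [← Units.val_pow_eq_pow_val, hδp, Units.val_one]
    rw [e2, hodd.neg_one_pow] at e3
    apply hprod
    apply Units.ext
    rw [e2, Units.val_one, e3]
  obtain ⟨B, hB⟩ := one_add_mon_inv hodd (fun k => (d k : F)) a ha hδ
  refine ⟨mkU _ B hB, ?_, ?_⟩
  · have hc : mkU _ B hB * monU d a = monU d a * mkU _ B hB := by
      apply Units.ext
      rw [Units.val_mul, Units.val_mul, mkU_coe, monU_coe]
      rw [add_mul, mul_add, one_mul, mul_one]
    rw [mul_assoc, ← hc, ← mul_assoc, inv_mul_cancel, one_mul]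
    exact monU_mem ζ d a hd
  · apply not_norm _ (monU (eU ζ 0) 0) (monU_mem ζ _ 0 (eU_mem ζ 0))
    rintro ⟨d', a', -, h⟩
    have h1 : mkU _ B hB * monU (eU ζ 0) 0 = monU d' a' * mkU _ B hB := by
      rw [← h]; group
    have h2 := congrArg Units.val h1
    rw [Units.val_mul, Units.val_mul, monU_coe, monU_coe, mkU_coe] at h2
    have ha2 : a + a ≠ 0 := by
      intro h
      have h2a : (2 : ZMod p) * a = 0 := by rw [two_mul]; exact h
      rcases mul_eq_zero.mp h2a with h3 | h3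
      · exact two_ne_zero_h hp3 h3
      · exact ha h3
    refine one_add_not_norm _ _ _ a a' ha ha2 (d 0).ne_zero ?_ ?_ ?_ h2
    · show ((eU ζ 0 0 : Fˣ) : F) ≠ 0
      exact (eU ζ 0 0).ne_zero
    · show ((eU ζ 0 0 : Fˣ) : F) ≠ 1
      unfold eU; rw [if_pos rfl]; intro h; exact hζ1 (Units.ext h)
    · show ((eU ζ 0 a : Fˣ) : F) = 1
      unfold eU; rw [if_neg ha]; rfl

end Cases

section Order
variable {F : Type*} [Field F] [Fintype F] {p : ℕ} [Fact p.Prime]

lemma card_GL_fact (hp : p ≠ 2) (h1 : p ∣ Fintype.card F - 1)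
    (h2 : ¬ p ^ 2 ∣ Fintype.card F - 1) :
    (Nat.card (GL (Fin p) F)).factorization p = p + 1 := by
  have hpp : p.Prime := Fact.out
  have hodd : Odd p := hpp.odd_of_ne_two hp
  have hq : 1 < Fintype.card F := Fintype.one_lt_card
  obtain ⟨q, hqdef⟩ : ∃ q : ℕ, q = Fintype.card F := ⟨_, rfl⟩
  rw [Matrix.card_GL_field, ← hqdef]
  rw [← hqdef] at hq h1 h2
  have hq1 : q - 1 ≠ 0 := by omega
  have hpq : ¬ p ∣ q := by
    intro h
    have h3 := Nat.dvd_sub h h1
    rw [show q - (q - 1) = 1 by omega] at h3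
    exact hpp.one_lt.ne' (Nat.dvd_one.mp h3)
  have hv1 : padicValNat p (q - 1) = 1 := by
    have ha : 1 ≤ padicValNat p (q - 1) :=
      (padicValNat_dvd_iff_le hq1).mp (by simpa using h1)
    have hb : ¬ 2 ≤ padicValNat p (q - 1) := fun h => h2 ((padicValNat_dvd_iff_le hq1).mpr h)
    omega
  have key : ∀ i : ℕ, i < p → (q ^ p - q ^ i).factorization p = if i = 0 then 2 else 1 := by
    intro i hi
    have e : q ^ p - q ^ i = q ^ i * (q ^ (p - i) - 1) := by
      rw [Nat.mul_sub, mul_one, ← pow_add]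
      congr 2
      omega
    have hne : q ^ (p - i) - 1 ≠ 0 := by
      have : 1 < q ^ (p - i) := Nat.one_lt_pow (by omega) hq
      omega
    rw [e, Nat.factorization_mul (by positivity) hne, Finsupp.add_apply,
      Nat.factorization_def _ hpp, Nat.factorization_def _ hpp]
    have hqi : padicValNat p (q ^ i) = 0 :=
      padicValNat.eq_zero_of_not_dvd (fun h => hpq (hpp.dvd_of_dvd_pow h))
    have hlte := padicValNat.pow_sub_pow hodd hq (by simpa using h1) hpq (n := p - i) (by omega)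
    rw [one_pow] at hlte
    rw [hqi, hlte, hv1, zero_add]
    split_ifs with h0
    · subst h0; rw [Nat.sub_zero, padicValNat_self]
    · rw [padicValNat.eq_zero_of_not_dvd (Nat.not_dvd_of_pos_of_lt (by omega) (by omega))]
  have hne : ∀ i ∈ (Finset.univ : Finset (Fin p)), q ^ p - q ^ (i : ℕ) ≠ 0 := by
    intro i _
    have : q ^ (i : ℕ) < q ^ p := Nat.pow_lt_pow_right hq i.2
    omega
  have hsum : ∑ i : Fin p, (q ^ p - q ^ (i : ℕ)).factorization p
      = ∑ i : Fin p, (fun n : ℕ => if n = 0 then 2 else 1) (i : ℕ) :=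
    Finset.sum_congr rfl (fun i _ => key i i.2)
  rw [Nat.factorization_prod hne, Finsupp.finsetSum_apply, hsum,
    Fin.sum_univ_eq_sum_range (fun n : ℕ => if n = 0 then 2 else 1) p]
  obtain ⟨n, rfl⟩ : ∃ n, p = n + 1 := ⟨p - 1, by have := hpp.two_le; omega⟩
  rw [Finset.sum_range_succ']
  simp

/-- reindexing isomorphism -/
noncomputable def glEquiv : GL (ZMod p) F ≃* GL (Fin p) F :=
  Units.mapEquiv (Matrix.reindexAlgEquiv F F (Fintype.equivFinOfCardEq (ZMod.card p))).toMulEquiv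

theorem exists_red_zmod (hp : p ≠ 2) (h1 : p ∣ Fintype.card F - 1)
    (h2 : ¬ p ^ 2 ∣ Fintype.card F - 1) : ∃ Q : Sylow p (GL (ZMod p) F), Red Q := by
  have hpp : p.Prime := Fact.out
  have hodd : Odd p := hpp.odd_of_ne_two hp
  have hp3 : 3 ≤ p := by have := hpp.two_le; omega
  obtain ⟨ζ, hζ⟩ : ∃ ζ : Fˣ, orderOf ζ = p := by
    apply exists_prime_orderOf_dvd_card' p
    rw [Nat.card_units, Nat.card_eq_fintype_card]
    exact h1
  have hζ1 : ζ ≠ 1 := by
    rintro rfl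
    rw [orderOf_one] at hζ
    omega
  have hμ : ∀ u ∈ Subgroup.zpowers ζ, u ^ p = 1 := by
    rintro u ⟨k, rfl⟩
    show (ζ ^ k) ^ p = 1
    have hζp : ζ ^ p = 1 := by
      rw [← hζ]
      exact pow_orderOf_eq_one ζ
    rw [← zpow_natCast, ← _root_.zpow_mul, mul_comm, _root_.zpow_mul, zpow_natCast, hζp,
      _root_.one_zpow]
  have hcard : Nat.card (Q0 (p := p) ζ) = p ^ (Nat.card (GL (ZMod p) F)).factorization p := by
    rw [card_Q0 ζ hζ, Nat.card_congr (glEquiv (F := F) (p := p)).toEquiv, card_GL_fact hp h1 h2]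
  refine ⟨Sylow.ofCard (Q0 (p := p) ζ) hcard, ?_⟩
  rw [red_iff]
  intro x hx
  have hx' : x ∈ Q0 (p := p) ζ := hx
  obtain ⟨d, a, hd, rfl⟩ := hx'
  have key : ∃ g : GL (ZMod p) F, g⁻¹ * monU d a * g ∈ Q0 (p := p) ζ ∧
      g ∉ Subgroup.normalizer
        ((Q0 (p := p) ζ : Subgroup (GL (ZMod p) F)) : Set (GL (ZMod p) F)) := by
    by_cases ha : a = 0
    · subst ha
      by_cases hinj : Function.Injective d
      · exact case_inj hp3 ζ hζ1 hμ d hd hinj
      · exact case_noninj ζ hζ1 d hd hinj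
    · by_cases hprod : ∏ k, d k = 1
      · exact case_shift_one hp3 ζ hζ hζ1 d a ha hd hprod
      · exact case_shift_ne hp3 hodd ζ hζ1 hμ d a ha hd hprod
  obtain ⟨g, hg1, hg2⟩ := key
  exact other_sylow _ _ g hg1 hg2

theorem exists_red (hp : p ≠ 2) (h1 : p ∣ Fintype.card F - 1)
    (h2 : ¬ p ^ 2 ∣ Fintype.card F - 1) : ∃ Q : Sylow p (GL (Fin p) F), Red Q := by
  have h := exists_red_zmod (F := F) hp h1 h2
  refine (red_quot (glEquiv (F := F) (p := p)).toMonoidHom
    (glEquiv (F := F) (p := p)).surjective ?_).mp h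
  intro x hx
  have hx1 : x = 1 := by
    apply (glEquiv (F := F) (p := p)).injective
    rw [map_one]
    exact hx
  rw [hx1]
  exact one_mem _

end Order


end Cfsg.Agent.Helper15.GLP
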