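import Mathlib
import Cfsg.Agent.Helper15.PS

/-! The graph on the involutions of `PSL₂(F)` joining involutions with a product of odd order. -/

namespace Cfsg.Agent.Helper15.IG

open Polynomial
open Cfsg.Agent.Helper15.PS

section generic

/-- a non-complete graph in which any two distinct vertices are adjacent or have a common
neighbour is connected of diameter two -/
theorem diam_two {V : Type*} (G : SimpleGraph V) (u₀ v₀ : V) (hne : u₀ ≠ v₀)
    (hnadj : ¬ G.Adj u₀ v₀)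
    (h : ∀ u v : V, u ≠ v → G.Adj u v ∨ ∃ w, G.Adj u w ∧ G.Adj w v) :
    G.Connected ∧ G.diam = 2 := by
  have hreach : ∀ u v : V, G.Reachable u v := by
    intro u v
    by_cases huv : u = v
    · subst huv; exact SimpleGraph.Reachable.refl _
    · rcases h u v huv with h1 | ⟨w, h1, h2⟩
      · exact h1.reachable
      · exact h1.reachable.trans h2.reachable
  haveI : Nonempty V := ⟨u₀⟩
  have hconn : G.Connected := ⟨hreach⟩
  have hed : ∀ u v : V, G.edist u v ≤ 2 := by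
    intro u v
    by_cases huv : u = v
    · subst huv; simp
    · rcases h u v huv with h1 | ⟨w, h1, h2⟩
      · rw [SimpleGraph.edist_eq_one_iff_adj.mpr h1]; norm_num
      · have := SimpleGraph.edist_le
          (SimpleGraph.Walk.cons h1 (SimpleGraph.Walk.cons h2 SimpleGraph.Walk.nil))
        simpa using this
  have hediam : G.ediam ≤ 2 := SimpleGraph.ediam_le_of_edist_le hed
  have hdiam : G.diam ≤ 2 := ENat.toNat_le_of_le_natCast hediam
  have hne_top : G.ediam ≠ ⊤ := ne_top_of_le_ne_top (by simp) hediam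
  have hdist : 1 < G.dist u₀ v₀ := (hreach u₀ v₀).one_lt_dist_of_ne_of_not_adj hne hnadj
  have := SimpleGraph.dist_le_diam hne_top (u := u₀) (v := v₀)
  exact ⟨hconn, by omega⟩

/-- two involutions with a product of odd order are conjugate -/
theorem conj_of_odd {G : Type*} [Group G] (x z : G) (hx : x * x = 1) (hz : z * z = 1)
    (h : Odd (orderOf (x * z))) : IsConj x z := by
  obtain ⟨m, hm⟩ := h
  rw [isConj_iff]
  have hr : (x * z) ^ (2 * m + 1) = 1 := by rw [← hm]; exact pow_orderOf_eq_one _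
  have hxi : x⁻¹ = x := inv_eq_of_mul_eq_one_left hx
  have hzi : z⁻¹ = z := inv_eq_of_mul_eq_one_left hz
  have hs : SemiconjBy x (x * z)⁻¹ (x * z) := by
    show x * (x * z)⁻¹ = x * z * x
    rw [mul_inv_rev, hxi, hzi, ← mul_assoc]
  have hs2 : x * ((x * z)⁻¹) ^ m = (x * z) ^ m * x := (hs.pow_right m).eq
  refine ⟨(x * z) ^ m, ?_⟩
  have e1 : (x * z) ^ m * x * ((x * z) ^ m)⁻¹ = (x * z) ^ (2 * m) * x := by
    rw [mul_assoc, ← inv_pow, hs2, ← mul_assoc, ← pow_add, two_mul]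
  have e2 : (x * z) ^ (2 * m) = (x * z)⁻¹ := by
    rw [pow_succ] at hr
    exact eq_inv_of_mul_eq_one_left hr
  rw [e1, e2, mul_inv_rev, hxi, hzi, mul_assoc, hx, mul_one]

end generic


section sl2

variable {F : Type*} [Field F] [Fintype F]

local notation "SL" => Matrix.SpecialLinearGroup (Fin 2) F
local notation "PSL" => Matrix.ProjectiveSpecialLinearGroup (Fin 2) F

theorem tr0_11 (A : SL) (h : A.1.trace = 0) : A.1 1 1 = - A.1 0 0 := by
  rw [Matrix.trace_fin_two] at h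
  linear_combination h

theorem tr0_det (A : SL) (h : A.1.trace = 0) : A.1 0 0 ^ 2 + A.1 0 1 * A.1 1 0 = -1 := by
  have hd := A.2
  rw [Matrix.det_fin_two, tr0_11 A h] at hd
  linear_combination -hd

theorem trace_mul' (A C : SL) : (A * C).1.trace =
    A.1 0 0 * C.1 0 0 + A.1 0 1 * C.1 1 0 + A.1 1 0 * C.1 0 1 + A.1 1 1 * C.1 1 1 := by
  rw [Matrix.SpecialLinearGroup.coe_mul, Matrix.trace_fin_two, Matrix.mul_apply,
    Matrix.mul_apply, Fin.sum_univ_two, Fin.sum_univ_two]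
  ring

/-- trace-zero elements square to the identity in `PSL₂` -/
theorem sq_of_tr0 (C : SL) (h : C.1.trace = 0) :
    (QuotientGroup.mk C : PSL) * QuotientGroup.mk C = 1 := by
  rw [← sq, mk_pow_eq_one_iff]
  refine ⟨-1, by ring, ?_⟩
  have h11 := tr0_11 C h
  have hd := tr0_det C h
  rw [sq, Matrix.SpecialLinearGroup.coe_mul]
  ext i j
  fin_cases i <;> fin_cases j <;> simp [Matrix.mul_apply, Fin.sum_univ_two, h11]
  · linear_combination hd
  · ring
  · ring
  · linear_combination hd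

theorem mk_ne_one_of_01 (A : SL) (h : A.1 0 1 ≠ 0) : (QuotientGroup.mk A : PSL) ≠ 1 := by
  intro h1
  have h2 : (QuotientGroup.mk A : PSL) ^ 1 = 1 := by rw [pow_one]; exact h1
  rw [mk_pow_eq_one_iff] at h2
  obtain ⟨r, -, hr⟩ := h2
  rw [pow_one] at hr
  apply h
  rw [hr]
  simp

theorem mk_ne_one_of_tr (h2 : (2 : F) ≠ 0) (A : SL) (h : A.1.trace = 0) :
    (QuotientGroup.mk A : PSL) ≠ 1 := by
  intro h1
  have h3 : (QuotientGroup.mk A : PSL) ^ 1 = 1 := by rw [pow_one]; exact h1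
  rw [mk_pow_eq_one_iff] at h3
  obtain ⟨r, hr1, hr⟩ := h3
  rw [pow_one] at hr
  rw [hr, Matrix.trace_fin_two] at h
  simp at h
  have hr0 : r = 0 := by
    have : (2 : F) * r = 0 := by linear_combination h
    exact (mul_eq_zero.mp this).resolve_left h2
  rw [hr0] at hr1
  simp at hr1

/-- involutions of `PSL₂` lift to trace-zero matrices -/
theorem exists_lift (x : PSL) (hx : orderOf x = 2) :
    ∃ A : SL, (QuotientGroup.mk A : PSL) = x ∧ A.1.trace = 0 := by
  obtain ⟨A, rfl⟩ := QuotientGroup.mk_surjective x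
  refine ⟨A, rfl, ?_⟩
  have h2 : (QuotientGroup.mk A : PSL) ^ 2 = 1 := by
    have := pow_orderOf_eq_one (QuotientGroup.mk A : PSL)
    rw [hx] at this
    exact this
  have h1 : (QuotientGroup.mk A : PSL) ^ 1 ≠ 1 := by
    rw [pow_one]; intro h; rw [h, orderOf_one] at hx; omega
  rw [mk_pow_eq_one_iff] at h2
  obtain ⟨r, hr, hA⟩ := h2
  by_contra htr
  apply h1
  rw [mk_pow_eq_one_iff]
  rw [pow_two, Matrix.SpecialLinearGroup.coe_mul] at hA
  have e00 := congrFun (congrFun hA 0) 0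
  have e01 := congrFun (congrFun hA 0) 1
  have e10 := congrFun (congrFun hA 1) 0
  have e11 := congrFun (congrFun hA 1) 1
  simp [Matrix.mul_apply, Fin.sum_univ_two] at e00 e01 e10 e11
  rw [Matrix.trace_fin_two] at htr
  have hb : A.1 0 1 = 0 := by
    have : A.1 0 1 * (A.1 0 0 + A.1 1 1) = 0 := by linear_combination e01
    exact (mul_eq_zero.mp this).resolve_right htr
  have hc : A.1 1 0 = 0 := by
    have : A.1 1 0 * (A.1 0 0 + A.1 1 1) = 0 := by linear_combination e10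
    exact (mul_eq_zero.mp this).resolve_right htr
  have hd := A.2
  rw [Matrix.det_fin_two, hb, zero_mul, sub_zero] at hd
  have had : A.1 0 0 = A.1 1 1 := by
    have : (A.1 0 0 - A.1 1 1) * (A.1 0 0 + A.1 1 1) = 0 := by
      rw [hb, zero_mul, add_zero] at e00
      rw [hc, zero_mul, zero_add] at e11
      linear_combination e00 - e11
    have := (mul_eq_zero.mp this).resolve_right htr
    linear_combination this
  refine ⟨A.1 0 0, ?_, ?_⟩
  · rw [← had] at hd
    linear_combination hd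
  · rw [pow_one]
    ext i j
    fin_cases i <;> fin_cases j <;> simp [hb, hc, ← had]


theorem ringChar_ne_two (h2 : (2 : F) ≠ 0) : ringChar F ≠ 2 := by
  intro h
  apply h2
  have := CharP.cast_eq_zero F (ringChar F)
  rw [h] at this
  exact_mod_cast this

theorem ringChar_eq_two (h2 : (2 : F) = 0) : ringChar F = 2 := by
  haveI : Fact (ringChar F).Prime := ⟨CharP.char_is_prime F _⟩
  have h1 : ((2 : ℕ) : F) = 0 := by exact_mod_cast h2
  have h3 : ringChar F ∣ 2 := (CharP.cast_eq_zero_iff F (ringChar F) 2).mp h1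
  exact (Nat.prime_dvd_prime_iff_eq (Fact.out) Nat.prime_two).mp h3

/-- unipotent-type elements have odd order in odd characteristic -/
theorem odd_of_tr_sq (h2 : (2 : F) ≠ 0) (M : SL) (h : M.1.trace ^ 2 = 4) :
    Odd (orderOf (QuotientGroup.mk M : PSL)) := by
  haveI : Fact (ringChar F).Prime := ⟨CharP.char_is_prime F _⟩
  have hp : (ringChar F).Prime := Fact.out
  obtain ⟨c, hc, ht⟩ : ∃ c : F, c ^ 2 = 1 ∧ M.1.trace = c + c := by
    have : (M.1.trace - 2) * (M.1.trace + 2) = 0 := by linear_combination h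
    rcases mul_eq_zero.mp this with h' | h'
    · exact ⟨1, one_pow 2, by linear_combination h'⟩
    · exact ⟨-1, by ring, by linear_combination h'⟩
  have h1 : (X ^ 2 - C M.1.trace * X + 1 : F[X]) = (X - C c) ^ 2 := by
    rw [ht, C_add]
    have h3 : (C c : F[X]) ^ 2 = 1 := by rw [← C_pow, hc, C_1]
    linear_combination -h3
  have h3 : (X ^ ringChar F - C (c ^ ringChar F) : F[X]) = (X - C c) ^ ringChar F := by
    rw [C_pow, sub_pow_char]
  have hdvd : (X ^ 2 - C M.1.trace * X + 1 : F[X]) ∣ X ^ ringChar F - C (c ^ ringChar F) := by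
    rw [h1, h3]; exact pow_dvd_pow _ hp.two_le
  have hpow := pow_eq_smul_of_dvd M.1 M.2 (ringChar F) (c ^ ringChar F) hdvd
  have hone : (QuotientGroup.mk M : PSL) ^ ringChar F = 1 := by
    rw [mk_pow_eq_one_iff]
    exact ⟨c ^ ringChar F, by rw [← pow_mul, mul_comm, pow_mul, hc, one_pow],
      by rw [Matrix.SpecialLinearGroup.coe_pow]; exact hpow⟩
  have hdvd2 := orderOf_dvd_of_pow_eq_one hone
  rcases (Nat.dvd_prime hp).mp hdvd2 with h' | h'
  · rw [h']; exact odd_one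
  · rw [h']; exact hp.odd_of_ne_two (ringChar_ne_two h2)

/-- split-torus-type elements have odd order when `q ≡ 3 (mod 4)` -/
theorem odd_of_split (hq : Fintype.card F % 4 = 3) (M : SL) (d : F) (hd : d ≠ 0)
    (h : M.1.trace ^ 2 - 4 = d ^ 2) : Odd (orderOf (QuotientGroup.mk M : PSL)) := by
  have h2 : (2 : F) ≠ 0 := by
    intro h2
    have := two_eq_zero_iff.mp h2
    omega
  obtain ⟨t, ht⟩ : ∃ t : F, t = M.1.trace := ⟨_, rfl⟩
  rw [← ht] at h
  obtain ⟨c, hc⟩ : ∃ c : F, c = (t + d) / 2 := ⟨_, rfl⟩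
  have hroot : c ^ 2 - t * c + 1 = 0 := by
    rw [hc]
    field_simp
    linear_combination -h
  have hc2 : c ^ 2 ≠ 1 := by
    intro h1
    have h3 : t * c = 2 := by linear_combination -hroot + h1
    have h4 : t ^ 2 = 4 := by
      have : t ^ 2 * c ^ 2 = 4 := by rw [← mul_pow, h3]; norm_num
      rw [h1, mul_one] at this
      exact this
    apply hd
    have : d ^ 2 = 0 := by rw [← h, h4]; ring
    exact pow_eq_zero_iff (two_ne_zero) |>.mp this
  have hc0 : c ≠ 0 := by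
    rintro h0
    rw [h0] at hroot
    simp at hroot
  obtain ⟨k, hk⟩ : ∃ k : ℕ, k = (Fintype.card F - 1) / 2 := ⟨_, rfl⟩
  have hk2 : k + k = Fintype.card F - 1 := by omega
  have hεε : c ^ k * c ^ k = 1 := by
    rw [← pow_add, hk2, FiniteField.pow_card_sub_one_eq_one c hc0]
  have hdvd := dvd_of_root (K := F) t c (by simpa using hroot) hc2 k (c ^ k) hεε (by simp)
  rw [ht] at hdvd
  have hpow := pow_eq_smul_of_dvd M.1 M.2 k (c ^ k) hdvd
  have hone : (QuotientGroup.mk M : PSL) ^ k = 1 := by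
    rw [mk_pow_eq_one_iff]
    exact ⟨c ^ k, by rw [sq]; exact hεε, by rw [Matrix.SpecialLinearGroup.coe_pow]; exact hpow⟩
  have hodd : Odd k := by rw [Nat.odd_iff]; omega
  exact Odd.of_dvd_nat hodd (orderOf_dvd_of_pow_eq_one hone)

/-- in characteristic two, elements of nonzero trace have odd order -/
theorem odd_of_tr_ne (h2 : (2 : F) = 0) (M : SL) (h : M.1.trace ≠ 0) :
    Odd (orderOf (QuotientGroup.mk M : PSL)) := by
  have he := two_eq_zero_iff.mp h2
  have hq2 : 2 ≤ Fintype.card F := Fintype.one_lt_card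
  have hg := gcd_of_even he
  rcases psl2_order_dvd (QuotientGroup.mk M : PSL) with h' | h' | h'
  · rw [ringChar_eq_two h2] at h'
    rcases (Nat.dvd_prime Nat.prime_two).mp h' with h1 | h1
    · rw [h1]; exact odd_one
    · exfalso
      have hsq : (QuotientGroup.mk M : PSL) ^ 2 = 1 := by
        have := pow_orderOf_eq_one (QuotientGroup.mk M : PSL)
        rw [h1] at this
        exact this
      rw [mk_pow_eq_one_iff] at hsq
      obtain ⟨r, hr, hM⟩ := hsq
      have hr1 : r = 1 := by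
        have h3 : (r - 1) ^ 2 = 0 := by linear_combination hr + (1 - r) * h2
        have h4 := pow_eq_zero_iff (two_ne_zero) |>.mp h3
        linear_combination h4
      rw [hr1, one_smul, pow_two, Matrix.SpecialLinearGroup.coe_mul] at hM
      have e00 := congrFun (congrFun hM 0) 0
      have e01 := congrFun (congrFun hM 0) 1
      have e10 := congrFun (congrFun hM 1) 0
      have e11 := congrFun (congrFun hM 1) 1
      simp [Matrix.mul_apply, Fin.sum_univ_two] at e00 e01 e10 e11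
      rw [Matrix.trace_fin_two] at h
      have hb : M.1 0 1 = 0 := by
        have : M.1 0 1 * (M.1 0 0 + M.1 1 1) = 0 := by linear_combination e01
        exact (mul_eq_zero.mp this).resolve_right h
      have hc : M.1 1 0 = 0 := by
        have : M.1 1 0 * (M.1 0 0 + M.1 1 1) = 0 := by linear_combination e10
        exact (mul_eq_zero.mp this).resolve_right h
      rw [hb, zero_mul, add_zero] at e00
      rw [hc, zero_mul, zero_add] at e11
      have ha : M.1 0 0 = 1 := by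
        have h3 : (M.1 0 0 - 1) ^ 2 = 0 := by linear_combination e00 + (1 - M.1 0 0) * h2
        have h4 := pow_eq_zero_iff (two_ne_zero) |>.mp h3
        linear_combination h4
      have hd : M.1 1 1 = 1 := by
        have h3 : (M.1 1 1 - 1) ^ 2 = 0 := by linear_combination e11 + (1 - M.1 1 1) * h2
        have h4 := pow_eq_zero_iff (two_ne_zero) |>.mp h3
        linear_combination h4
      apply h
      rw [ha, hd]
      linear_combination h2
  · rw [hg, Nat.div_one] at h'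
    exact Odd.of_dvd_nat (by rw [Nat.odd_iff]; omega) h'
  · rw [hg, Nat.div_one] at h'
    exact Odd.of_dvd_nat (by rw [Nat.odd_iff]; omega) h'


section algebra

variable {K : Type*} [Field K]

theorem master1 (a b c e f g α β : K) (hA : a ^ 2 + b * c = -1) (hB : e ^ 2 + f * g = -1) :
    -((α * a + β * e + (b * g - c * f)) ^ 2) -
      (α * b + β * f + 2 * (a * f - b * e)) * (α * c + β * g + 2 * (c * e - a * g)) =
    α ^ 2 + β ^ 2 - α * β * (2 * a * e + b * g + c * f) + 4 - (2 * a * e + b * g + c * f) ^ 2 := by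
  linear_combination (-α ^ 2 + 4 * (e ^ 2 + f * g)) * hA + (-β ^ 2 - 4) * hB

theorem master2 (a b c e f g α β : K) (hA : a ^ 2 + b * c = -1) :
    2 * a * (α * a + β * e + (b * g - c * f)) + b * (α * c + β * g + 2 * (c * e - a * g)) +
      c * (α * b + β * f + 2 * (a * f - b * e)) =
    -2 * α + β * (2 * a * e + b * g + c * f) := by
  linear_combination (2 * α) * hA

theorem master3 (a b c e f g α β : K) (hB : e ^ 2 + f * g = -1) :
    2 * e * (α * a + β * e + (b * g - c * f)) + f * (α * c + β * g + 2 * (c * e - a * g)) +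
      g * (α * b + β * f + 2 * (a * f - b * e)) =
    α * (2 * a * e + b * g + c * f) - 2 * β := by
  linear_combination (2 * β) * hB

theorem master (a b c e f g α β T : K) (hA : a ^ 2 + b * c = -1) (hB : e ^ 2 + f * g = -1)
    (hT : T = 2 * a * e + b * g + c * f) :
    ∃ u v w : K, -(u ^ 2) - v * w = α ^ 2 + β ^ 2 - α * β * T + 4 - T ^ 2 ∧
      2 * a * u + b * w + c * v = -2 * α + β * T ∧
      2 * e * u + f * w + g * v = α * T - 2 * β := by
  subst hT
  exact ⟨_, _, _, master1 a b c e f g α β hA hB, master2 a b c e f g α β hA,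
    master3 a b c e f g α β hB⟩

/-- the case where `-1` is a square: a common neighbour with unipotent products -/
theorem core_sq (a b c e f g T i : K) (hA : a ^ 2 + b * c = -1) (hB : e ^ 2 + f * g = -1)
    (hT : T = 2 * a * e + b * g + c * f) (hi : i ^ 2 = -1) (hT2 : T ≠ 2) :
    ∃ u v w s : K, s ≠ 0 ∧ -(u ^ 2) - v * w = s ^ 2 ∧
      ((2 * a * u + b * w + c * v) / s) ^ 2 = 4 ∧ ((2 * e * u + f * w + g * v) / s) ^ 2 = 4 := by
  obtain ⟨u, v, w, m1, m2, m3⟩ := master a b c e f g (2 * i) (2 * i) T hA hB hT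
  have hi0 : i ≠ 0 := by
    rintro rfl
    simp at hi
  have hs : i * (2 - T) ≠ 0 := mul_ne_zero hi0 (sub_ne_zero.mpr (Ne.symm hT2))
  refine ⟨u, v, w, i * (2 - T), hs, ?_, ?_, ?_⟩
  · rw [m1]; linear_combination (4 - T ^ 2) * hi
  · rw [m2]; field_simp; ring
  · rw [m3]; field_simp; ring

/-- the case where `-1` is not a square: a common neighbour with split products -/
theorem core_ns (a b c e f g T δ r t : K) (h2 : (2 : K) ≠ 0) (hA : a ^ 2 + b * c = -1)
    (hB : e ^ 2 + f * g = -1) (hT : T = 2 * a * e + b * g + c * f)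
    (hQ : ∀ p q z : K, z ≠ 0 → p * q = -(z ^ 2) → (∃ s, p = s ^ 2) ∨ (∃ s, q = s ^ 2))
    (hδ : δ ≠ 0) (hδT : 4 - T ^ 2 = δ ^ 2) (hrt : r ^ 2 + t ^ 2 = -1) (hr : r ≠ 0) (ht : t ≠ 0)
    (hK : 4 * r ^ 2 + 2 + T ≠ 0) :
    ∃ u v w s : K, s ≠ 0 ∧ -(u ^ 2) - v * w = s ^ 2 ∧
      (∃ d : K, d ≠ 0 ∧ ((2 * a * u + b * w + c * v) / s) ^ 2 - 4 = d ^ 2) ∧
      (∃ d : K, d ≠ 0 ∧ ((2 * e * u + f * w + g * v) / s) ^ 2 - 4 = d ^ 2) := by
  obtain ⟨u₁, v₁, w₁, m1, m2, m3⟩ := master a b c e f g (2 * r) (2 * r) T hA hB hT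
  obtain ⟨u₂, v₂, w₂, n1, n2, n3⟩ := master a b c e f g (2 * t) (-(2 * t)) T hA hB hT
  have hd1 : -(u₁ ^ 2) - v₁ * w₁ = (2 - T) * (4 * r ^ 2 + 2 + T) := by rw [m1]; ring
  have hd2 : -(u₂ ^ 2) - v₂ * w₂ = -((2 + T) * (4 * r ^ 2 + 2 + T)) := by
    rw [n1]; linear_combination (8 + 4 * T) * hrt
  have hprod : (-(u₁ ^ 2) - v₁ * w₁) * (-(u₂ ^ 2) - v₂ * w₂) =
      -((δ * (4 * r ^ 2 + 2 + T)) ^ 2) := by
    rw [hd1, hd2]; linear_combination (-(4 * r ^ 2 + 2 + T) ^ 2) * hδT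
  have h2T : 2 - T ≠ 0 ∧ 2 + T ≠ 0 := by
    have : (2 - T) * (2 + T) ≠ 0 := by
      have e : (2 - T) * (2 + T) = δ ^ 2 := by linear_combination hδT
      rw [e]; exact pow_ne_zero 2 hδ
    exact ⟨left_ne_zero_of_mul this, right_ne_zero_of_mul this⟩
  rcases hQ _ _ (δ * (4 * r ^ 2 + 2 + T)) (mul_ne_zero hδ hK) hprod with ⟨s, hs⟩ | ⟨s, hs⟩
  · have hs' : (2 - T) * (4 * r ^ 2 + 2 + T) = s ^ 2 := by rw [← hd1]; exact hs
    have hs0 : s ≠ 0 := by
      rintro rfl
      have h0 : (2 - T) * (4 * r ^ 2 + 2 + T) = 0 := by rw [hs']; ring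
      rcases mul_eq_zero.mp h0 with h | h
      · exact h2T.1 h
      · exact hK h
    have hd0 : 2 * δ * t / s ≠ 0 := div_ne_zero (mul_ne_zero (mul_ne_zero h2 hδ) ht) hs0
    refine ⟨u₁, v₁, w₁, s, hs0, hs, ⟨2 * δ * t / s, hd0, ?_⟩, ⟨2 * δ * t / s, hd0, ?_⟩⟩
    · rw [m2]; field_simp
      linear_combination 4 * hs' + 4 * t ^ 2 * hδT - 4 * (4 - T ^ 2) * hrt
    · rw [m3]; field_simp
      linear_combination 4 * hs' + 4 * t ^ 2 * hδT - 4 * (4 - T ^ 2) * hrt
  · have hs' : -((2 + T) * (4 * r ^ 2 + 2 + T)) = s ^ 2 := by rw [← hd2]; exact hs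
    have hs0 : s ≠ 0 := by
      rintro rfl
      have h0 : (2 + T) * (4 * r ^ 2 + 2 + T) = 0 := by linear_combination -hs'
      rcases mul_eq_zero.mp h0 with h | h
      · exact h2T.2 h
      · exact hK h
    have hd0 : 2 * δ * r / s ≠ 0 := div_ne_zero (mul_ne_zero (mul_ne_zero h2 hδ) hr) hs0
    refine ⟨u₂, v₂, w₂, s, hs0, hs, ⟨2 * δ * r / s, hd0, ?_⟩, ⟨2 * δ * r / s, hd0, ?_⟩⟩
    · rw [n2]; field_simp
      linear_combination 4 * hs' + 4 * r ^ 2 * hδT + 4 * (2 + T) ^ 2 * hrt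
    · rw [n3]; field_simp
      linear_combination 4 * hs' + 4 * r ^ 2 * hδT + 4 * (2 + T) ^ 2 * hrt

end algebra

/-- the trace-zero element with entries `u, v, w`, scaled by `s⁻¹` -/
def tz (u v w s : F) (h : -(u ^ 2) - v * w = s ^ 2) (hs : s ≠ 0) : SL :=
  ⟨!![u / s, v / s; w / s, -u / s], by
    rw [Matrix.det_fin_two_of]
    field_simp
    linear_combination h⟩

theorem tz_trace (u v w s : F) (h : -(u ^ 2) - v * w = s ^ 2) (hs : s ≠ 0) :
    (tz u v w s h hs).1.trace = 0 := by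
  simp [tz, Matrix.trace_fin_two]
  ring

theorem tr_mul_tz (A : SL) (hA : A.1.trace = 0) (u v w s : F) (h : -(u ^ 2) - v * w = s ^ 2)
    (hs : s ≠ 0) :
    (A * tz u v w s h hs).1.trace = (2 * A.1 0 0 * u + A.1 0 1 * w + A.1 1 0 * v) / s := by
  rw [trace_mul', tr0_11 A hA]
  simp [tz]
  field_simp
  ring

theorem tr_tz_mul (B : SL) (hB : B.1.trace = 0) (u v w s : F) (h : -(u ^ 2) - v * w = s ^ 2)
    (hs : s ≠ 0) :
    (tz u v w s h hs * B).1.trace = (2 * B.1 0 0 * u + B.1 0 1 * w + B.1 1 0 * v) / s := by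
  rw [trace_mul', tr0_11 B hB]
  simp [tz]
  field_simp
  ring


theorem quad_dich (hneg : ¬ IsSquare (-1 : F)) (p q z : F) (hz : z ≠ 0)
    (h : p * q = -(z ^ 2)) : (∃ s, p = s ^ 2) ∨ (∃ s, q = s ^ 2) := by
  classical
  by_contra hcon
  push Not at hcon
  have hp : ¬ IsSquare p := fun ⟨s, hs⟩ => hcon.1 s (by rw [hs, sq])
  have hq : ¬ IsSquare q := fun ⟨s, hs⟩ => hcon.2 s (by rw [hs, sq])
  have h1 := quadraticChar_neg_one_iff_not_isSquare.mpr hp
  have h2 := quadraticChar_neg_one_iff_not_isSquare.mpr hq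
  have h3 : quadraticChar F (p * q) = 1 := by rw [map_mul, h1, h2]; norm_num
  have hpq : p * q ≠ 0 := by rw [h]; exact neg_ne_zero.mpr (pow_ne_zero 2 hz)
  obtain ⟨y, hy⟩ := (quadraticChar_one_iff_isSquare hpq).mp h3
  apply hneg
  refine ⟨y / z, ?_⟩
  field_simp
  linear_combination hy - h

theorem exists_conic (hF : 4 ≤ Fintype.card F) (h2 : (2 : F) ≠ 0) (hneg : ¬ IsSquare (-1 : F)) :
    ∃ r t : F, r ^ 2 + t ^ 2 = -1 ∧ r ^ 2 ≠ t ^ 2 ∧ r ≠ 0 ∧ t ≠ 0 := by
  classical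
  haveI : Fact (ringChar F).Prime := ⟨CharP.char_is_prime F _⟩
  haveI : NeZero (ringChar F) := ⟨(Fact.out : (ringChar F).Prime).ne_zero⟩
  obtain ⟨a', b', hab'⟩ := CharP.sq_add_sq F (ringChar F) (-1)
  obtain ⟨a, ha⟩ : ∃ a : F, a = (a' : F) := ⟨_, rfl⟩
  obtain ⟨b, hb⟩ : ∃ b : F, b = (b' : F) := ⟨_, rfl⟩
  have hab : a ^ 2 + b ^ 2 = -1 := by
    rw [ha, hb, hab']; push_cast; ring
  have hnz : ∀ r t : F, r ^ 2 + t ^ 2 = -1 → r ≠ 0 ∧ t ≠ 0 := by
    intro r t h
    constructor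
    · rintro rfl; apply hneg; exact ⟨t, by linear_combination -h⟩
    · rintro rfl; apply hneg; exact ⟨r, by linear_combination -h⟩
  by_cases hne : a ^ 2 = b ^ 2
  · obtain ⟨m, hm0, hm1, hm2⟩ : ∃ m : F, m ≠ 0 ∧ m ≠ 1 ∧ m ≠ -1 := by
      by_contra hcon
      push Not at hcon
      have hsub : (Finset.univ : Finset F) ⊆ {0, 1, -1} := by
        intro m _
        by_cases h0 : m = 0
        · simp [h0]
        by_cases h1 : m = 1
        · simp [h1]
        have := hcon m h0 h1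
        simp [this]
      have hc := Finset.card_le_card hsub
      have h3 : ({0, 1, -1} : Finset F).card ≤ 3 := Finset.card_le_three
      rw [Finset.card_univ] at hc
      omega
    have hm : 1 + m ^ 2 ≠ 0 := by
      intro h; apply hneg; exact ⟨m, by linear_combination -h⟩
    obtain ⟨r, hr⟩ : ∃ r : F, r = ((1 - m ^ 2) * a - 2 * m * b) / (1 + m ^ 2) := ⟨_, rfl⟩
    obtain ⟨t, ht⟩ : ∃ t : F, t = (2 * m * a + (1 - m ^ 2) * b) / (1 + m ^ 2) := ⟨_, rfl⟩
    have hrt : r ^ 2 + t ^ 2 = -1 := by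
      rw [hr, ht]; field_simp; linear_combination (1 + m ^ 2) ^ 2 * hab
    refine ⟨r, t, hrt, ?_, hnz r t hrt⟩
    intro heq
    have h8 : 8 * m * (1 - m ^ 2) * a * b = 0 := by
      rw [hr, ht] at heq
      field_simp at heq
      linear_combination ((1 - m ^ 2) ^ 2 - 4 * m ^ 2) * hne - heq
    have ha0 := (hnz a b hab).1
    have hb0 := (hnz a b hab).2
    have h80 : (8 : F) ≠ 0 := by
      have : (8 : F) = 2 * 2 * 2 := by norm_num
      rw [this]; exact mul_ne_zero (mul_ne_zero h2 h2) h2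
    have hmm : 1 - m ^ 2 ≠ 0 := by
      intro h
      have : (m - 1) * (m + 1) = 0 := by linear_combination -h
      rcases mul_eq_zero.mp this with h | h
      · exact hm1 (by linear_combination h)
      · exact hm2 (by linear_combination h)
    exact (mul_ne_zero (mul_ne_zero (mul_ne_zero (mul_ne_zero h80 hm0) hmm) ha0) hb0) h8
  · exact ⟨a, b, hab, hne, hnz a b hab⟩

theorem case_sq (h2 : (2 : F) ≠ 0) (i : F) (hi : i ^ 2 = -1) (A B : SL) (hA : A.1.trace = 0)
    (hB : B.1.trace = 0) :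
    Odd (orderOf (QuotientGroup.mk (A * B) : PSL)) ∨
      ∃ C : SL, C.1.trace = 0 ∧ Odd (orderOf (QuotientGroup.mk (A * C) : PSL)) ∧
        Odd (orderOf (QuotientGroup.mk (C * B) : PSL)) := by
  have hdA := tr0_det A hA
  have hdB := tr0_det B hB
  have hT : (A * B).1.trace = 2 * A.1 0 0 * B.1 0 0 + A.1 0 1 * B.1 1 0 + A.1 1 0 * B.1 0 1 := by
    rw [trace_mul', tr0_11 A hA, tr0_11 B hB]; ring
  by_cases hT2 : (A * B).1.trace = 2
  · left
    apply odd_of_tr_sq h2
    rw [hT2]; norm_num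
  · right
    obtain ⟨u, v, w, s, hs, hdet, h1, h2'⟩ := core_sq _ _ _ _ _ _ _ i hdA hdB hT hi hT2
    refine ⟨tz u v w s hdet hs, tz_trace _ _ _ _ _ _, ?_, ?_⟩
    · apply odd_of_tr_sq h2
      rw [tr_mul_tz A hA]; exact h1
    · apply odd_of_tr_sq h2
      rw [tr_tz_mul B hB]; exact h2'

theorem case_ns (hF : 4 ≤ Fintype.card F) (hq : Fintype.card F % 4 = 3) (A B : SL)
    (hA : A.1.trace = 0) (hB : B.1.trace = 0) :
    Odd (orderOf (QuotientGroup.mk (A * B) : PSL)) ∨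
      ∃ C : SL, C.1.trace = 0 ∧ Odd (orderOf (QuotientGroup.mk (A * C) : PSL)) ∧
        Odd (orderOf (QuotientGroup.mk (C * B) : PSL)) := by
  have h2 : (2 : F) ≠ 0 := by
    intro h2
    have := two_eq_zero_iff.mp h2
    omega
  have hneg : ¬ IsSquare (-1 : F) := by
    rw [FiniteField.isSquare_neg_one_iff]; omega
  have hdA := tr0_det A hA
  have hdB := tr0_det B hB
  have hT : (A * B).1.trace = 2 * A.1 0 0 * B.1 0 0 + A.1 0 1 * B.1 1 0 + A.1 1 0 * B.1 0 1 := by
    rw [trace_mul', tr0_11 A hA, tr0_11 B hB]; ring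
  by_cases hsq : IsSquare ((A * B).1.trace ^ 2 - 4)
  · left
    obtain ⟨d, hd⟩ := hsq
    by_cases hd0 : d = 0
    · apply odd_of_tr_sq h2
      rw [hd0] at hd
      linear_combination hd
    · exact odd_of_split hq (A * B) d hd0 (by rw [hd, sq])
  · right
    have hne0 : (A * B).1.trace ^ 2 - 4 ≠ 0 := by
      intro h; apply hsq; rw [h]; exact ⟨0, by ring⟩
    obtain ⟨δ, hδ0, hδ⟩ : ∃ δ : F, δ ≠ 0 ∧ 4 - (A * B).1.trace ^ 2 = δ ^ 2 := by
      rcases quad_dich hneg ((A * B).1.trace ^ 2 - 4) (4 - (A * B).1.trace ^ 2)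
        ((A * B).1.trace ^ 2 - 4) hne0 (by ring) with ⟨s, hs⟩ | ⟨s, hs⟩
      · exact absurd ⟨s, by rw [hs, sq]⟩ hsq
      · refine ⟨s, ?_, hs⟩
        rintro rfl
        apply hne0
        linear_combination -hs
    obtain ⟨r, t, hrt, hne, hr0, ht0⟩ := exists_conic hF h2 hneg
    by_cases hK : 4 * r ^ 2 + 2 + (A * B).1.trace = 0
    · have hK' : 4 * r ^ 2 + 2 + (-(A * B).1.trace) ≠ 0 := by
        intro h
        apply hne
        have h4 : (4 : F) * (r ^ 2 - t ^ 2) = 0 := by linear_combination hK + h - 4 * hrt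
        have h40 : (4 : F) ≠ 0 := by
          have : (4 : F) = 2 * 2 := by norm_num
          rw [this]; exact mul_ne_zero h2 h2
        have := (mul_eq_zero.mp h4).resolve_left h40
        linear_combination this
      have hdB' : (-B.1 0 0) ^ 2 + (-B.1 0 1) * (-B.1 1 0) = -1 := by linear_combination hdB
      have hT' : -(A * B).1.trace =
          2 * A.1 0 0 * (-B.1 0 0) + A.1 0 1 * (-B.1 1 0) + A.1 1 0 * (-B.1 0 1) := by
        rw [hT]; ring
      obtain ⟨u, v, w, s, hs, hdet, ⟨d1, hd1, h1⟩, ⟨d2, hd2, h2'⟩⟩ :=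
        core_ns _ _ _ _ _ _ _ δ r t h2 hdA hdB' hT' (quad_dich hneg) hδ0
          (by rw [← hδ]; ring) hrt hr0 ht0 hK'
      refine ⟨tz u v w s hdet hs, tz_trace _ _ _ _ _ _, ?_, ?_⟩
      · exact odd_of_split hq _ d1 hd1 (by rw [tr_mul_tz A hA]; exact h1)
      · apply odd_of_split hq _ d2 hd2
        rw [tr_tz_mul B hB, ← h2']; ring
    · obtain ⟨u, v, w, s, hs, hdet, ⟨d1, hd1, h1⟩, ⟨d2, hd2, h2'⟩⟩ :=
        core_ns _ _ _ _ _ _ _ δ r t h2 hdA hdB hT (quad_dich hneg) hδ0 hδ hrt hr0 ht0 hK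
      refine ⟨tz u v w s hdet hs, tz_trace _ _ _ _ _ _, ?_, ?_⟩
      · exact odd_of_split hq _ d1 hd1 (by rw [tr_mul_tz A hA]; exact h1)
      · exact odd_of_split hq _ d2 hd2 (by rw [tr_tz_mul B hB]; exact h2')


theorem case_two (h2 : (2 : F) = 0) (A B : SL) (hA : A.1.trace = 0) (hB : B.1.trace = 0)
    (hAn : ¬ (A.1 0 1 = 0 ∧ A.1 1 0 = 0)) (hBn : ¬ (B.1 0 1 = 0 ∧ B.1 1 0 = 0)) :
    ∃ C : SL, C.1.trace = 0 ∧ Odd (orderOf (QuotientGroup.mk (A * C) : PSL)) ∧
      Odd (orderOf (QuotientGroup.mk (C * B) : PSL)) := by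
  have hU1 : (!![1, 1; 0, 1] : Matrix (Fin 2) (Fin 2) F).det = 1 := by simp [Matrix.det_fin_two]
  have hU2 : (!![1, 0; 1, 1] : Matrix (Fin 2) (Fin 2) F).det = 1 := by simp [Matrix.det_fin_two]
  have hU3 : (!![0, 1; 1, 0] : Matrix (Fin 2) (Fin 2) F).det = 1 := by
    simp [Matrix.det_fin_two]
    linear_combination -h2
  obtain ⟨U1, e1⟩ : ∃ U : SL, U.1 = !![1, 1; 0, 1] := ⟨⟨_, hU1⟩, rfl⟩
  obtain ⟨U2, e2⟩ : ∃ U : SL, U.1 = !![1, 0; 1, 1] := ⟨⟨_, hU2⟩, rfl⟩
  obtain ⟨U3, e3⟩ : ∃ U : SL, U.1 = !![0, 1; 1, 0] := ⟨⟨_, hU3⟩, rfl⟩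
  have tr1 : U1.1.trace = 0 := by
    rw [e1]; simp [Matrix.trace_fin_two]; linear_combination h2
  have tr2 : U2.1.trace = 0 := by
    rw [e2]; simp [Matrix.trace_fin_two]; linear_combination h2
  have tr3 : U3.1.trace = 0 := by
    rw [e3]; simp [Matrix.trace_fin_two]
  have t1 : ∀ M : SL, M.1.trace = 0 → (M * U1).1.trace = M.1 1 0 := by
    intro M hM; rw [trace_mul', tr0_11 M hM, e1]; simp
  have t1' : ∀ M : SL, M.1.trace = 0 → (U1 * M).1.trace = M.1 1 0 := by
    intro M hM; rw [trace_mul', tr0_11 M hM, e1]; simp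
  have t2 : ∀ M : SL, M.1.trace = 0 → (M * U2).1.trace = M.1 0 1 := by
    intro M hM; rw [trace_mul', tr0_11 M hM, e2]; simp
  have t2' : ∀ M : SL, M.1.trace = 0 → (U2 * M).1.trace = M.1 0 1 := by
    intro M hM; rw [trace_mul', tr0_11 M hM, e2]; simp
  have t3 : ∀ M : SL, M.1.trace = 0 → (M * U3).1.trace = M.1 0 1 + M.1 1 0 := by
    intro M hM; rw [trace_mul', tr0_11 M hM, e3]; simp
  have t3' : ∀ M : SL, M.1.trace = 0 → (U3 * M).1.trace = M.1 0 1 + M.1 1 0 := by
    intro M hM; rw [trace_mul', tr0_11 M hM, e3]; simp [add_comm]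
  by_cases h1 : A.1 1 0 ≠ 0 ∧ B.1 1 0 ≠ 0
  · exact ⟨U1, tr1, odd_of_tr_ne h2 _ (by rw [t1 A hA]; exact h1.1),
      odd_of_tr_ne h2 _ (by rw [t1' B hB]; exact h1.2)⟩
  by_cases h3 : A.1 0 1 ≠ 0 ∧ B.1 0 1 ≠ 0
  · exact ⟨U2, tr2, odd_of_tr_ne h2 _ (by rw [t2 A hA]; exact h3.1),
      odd_of_tr_ne h2 _ (by rw [t2' B hB]; exact h3.2)⟩
  have h4 : A.1 0 1 + A.1 1 0 ≠ 0 ∧ B.1 0 1 + B.1 1 0 ≠ 0 := by
    by_cases hc : A.1 1 0 = 0
    · have hb : A.1 0 1 ≠ 0 := fun h => hAn ⟨h, hc⟩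
      have hf : B.1 0 1 = 0 := by
        by_contra hf; exact h3 ⟨hb, hf⟩
      have hg : B.1 1 0 ≠ 0 := fun h => hBn ⟨hf, h⟩
      rw [hc, hf, add_zero, zero_add]
      exact ⟨hb, hg⟩
    · have hg : B.1 1 0 = 0 := by
        by_contra hg; exact h1 ⟨hc, hg⟩
      have hf : B.1 0 1 ≠ 0 := fun h => hBn ⟨h, hg⟩
      have hb : A.1 0 1 = 0 := by
        by_contra hb; exact h3 ⟨hb, hf⟩
      rw [hb, hg, add_zero, zero_add]
      exact ⟨hc, hf⟩
  exact ⟨U3, tr3, odd_of_tr_ne h2 _ (by rw [t3 A hA]; exact h4.1),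
    odd_of_tr_ne h2 _ (by rw [t3' B hB]; exact h4.2)⟩

/-- two commuting distinct involutions -/
theorem exists_pair (hF : 4 ≤ Fintype.card F) : ∃ A B : SL, A.1.trace = 0 ∧ B.1.trace = 0 ∧
    (A * B).1.trace = 0 ∧ (QuotientGroup.mk A : PSL) ≠ 1 ∧ (QuotientGroup.mk B : PSL) ≠ 1 ∧
    (QuotientGroup.mk (A * B) : PSL) ≠ 1 := by
  classical
  by_cases h2 : (2 : F) = 0
  · obtain ⟨β, hβ0, hβ1⟩ : ∃ β : F, β ≠ 0 ∧ β ≠ 1 := by
      by_contra hcon
      push Not at hcon
      have hsub : (Finset.univ : Finset F) ⊆ {0, 1} := by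
        intro m _
        by_cases h0 : m = 0
        · simp [h0]
        have := hcon m h0
        simp [this]
      have hc := Finset.card_le_card hsub
      have h3 : ({0, 1} : Finset F).card ≤ 2 := Finset.card_le_two
      rw [Finset.card_univ] at hc
      omega
    have hU1 : (!![1, 1; 0, 1] : Matrix (Fin 2) (Fin 2) F).det = 1 := by
      simp [Matrix.det_fin_two]
    have hU2 : (!![1, β; 0, 1] : Matrix (Fin 2) (Fin 2) F).det = 1 := by
      simp [Matrix.det_fin_two]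
    obtain ⟨U1, e1⟩ : ∃ U : SL, U.1 = !![1, 1; 0, 1] := ⟨⟨_, hU1⟩, rfl⟩
    obtain ⟨U2, e2⟩ : ∃ U : SL, U.1 = !![1, β; 0, 1] := ⟨⟨_, hU2⟩, rfl⟩
    refine ⟨U1, U2, ?_, ?_, ?_, ?_, ?_, ?_⟩
    · rw [e1]; simp [Matrix.trace_fin_two]; linear_combination h2
    · rw [e2]; simp [Matrix.trace_fin_two]; linear_combination h2
    · rw [trace_mul', e1, e2]; simp; linear_combination h2
    · apply mk_ne_one_of_01; rw [e1]; simp
    · apply mk_ne_one_of_01; rw [e2]; simpa using hβ0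
    · apply mk_ne_one_of_01
      rw [Matrix.SpecialLinearGroup.coe_mul, e1, e2]
      simp [Matrix.mul_apply, Fin.sum_univ_two]
      intro h
      apply hβ1
      linear_combination h - h2
  · haveI : Fact (ringChar F).Prime := ⟨CharP.char_is_prime F _⟩
    haveI : NeZero (ringChar F) := ⟨(Fact.out : (ringChar F).Prime).ne_zero⟩
    obtain ⟨a', b', hab'⟩ := CharP.sq_add_sq F (ringChar F) (-1)
    obtain ⟨r, hr⟩ : ∃ a : F, a = (a' : F) := ⟨_, rfl⟩
    obtain ⟨t, ht⟩ : ∃ b : F, b = (b' : F) := ⟨_, rfl⟩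
    have hrt : r ^ 2 + t ^ 2 = -1 := by
      rw [hr, ht, hab']; push_cast; ring
    have hU1 : (!![0, 1; -1, 0] : Matrix (Fin 2) (Fin 2) F).det = 1 := by
      simp [Matrix.det_fin_two]
    have hU2 : (!![r, t; t, -r] : Matrix (Fin 2) (Fin 2) F).det = 1 := by
      simp [Matrix.det_fin_two]
      linear_combination -hrt
    obtain ⟨U1, e1⟩ : ∃ U : SL, U.1 = !![0, 1; -1, 0] := ⟨⟨_, hU1⟩, rfl⟩
    obtain ⟨U2, e2⟩ : ∃ U : SL, U.1 = !![r, t; t, -r] := ⟨⟨_, hU2⟩, rfl⟩
    have f1 : U1.1.trace = 0 := by rw [e1]; simp [Matrix.trace_fin_two]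
    have f2 : U2.1.trace = 0 := by rw [e2]; simp [Matrix.trace_fin_two]
    have f3 : (U1 * U2).1.trace = 0 := by
      rw [trace_mul', e1, e2]; simp
    exact ⟨U1, U2, f1, f2, f3, mk_ne_one_of_tr h2 _ f1, mk_ne_one_of_tr h2 _ f2,
      mk_ne_one_of_tr h2 _ f3⟩

/-- any two involutions of `PSL₂` have a product of odd order or a common neighbour -/
theorem common (hF : 4 ≤ Fintype.card F) (x y : PSL) (hx : orderOf x = 2) (hy : orderOf y = 2) :
    Odd (orderOf (x * y)) ∨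
      ∃ z : PSL, z * z = 1 ∧ Odd (orderOf (x * z)) ∧ Odd (orderOf (z * y)) := by
  obtain ⟨A, rfl, hA⟩ := exists_lift x hx
  obtain ⟨B, rfl, hB⟩ := exists_lift y hy
  have nonscalar : ∀ M : SL, M.1.trace = 0 → (2 : F) = 0 →
      orderOf (QuotientGroup.mk M : PSL) = 2 → ¬ (M.1 0 1 = 0 ∧ M.1 1 0 = 0) := by
    rintro M hM h2 hord ⟨hb, hc⟩
    have h1 : (QuotientGroup.mk M : PSL) ≠ 1 := by
      intro h; rw [h, orderOf_one] at hord; omega
    apply h1
    have h3 : (QuotientGroup.mk M : PSL) ^ 1 = 1 := by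
      rw [mk_pow_eq_one_iff]
      refine ⟨M.1 0 0, ?_, ?_⟩
      · have := tr0_det M hM
        rw [hb, zero_mul, add_zero] at this
        linear_combination this - h2
      · rw [pow_one]
        have h11 := tr0_11 M hM
        ext i j
        fin_cases i <;> fin_cases j <;> simp [hb, hc, h11]
        linear_combination (-(M.1 0 0)) * h2
    rwa [pow_one] at h3
  have key : Odd (orderOf (QuotientGroup.mk (A * B) : PSL)) ∨
      ∃ C : SL, C.1.trace = 0 ∧ Odd (orderOf (QuotientGroup.mk (A * C) : PSL)) ∧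
        Odd (orderOf (QuotientGroup.mk (C * B) : PSL)) := by
    by_cases h2 : (2 : F) = 0
    · right
      exact case_two h2 A B hA hB (nonscalar A hA h2 hx) (nonscalar B hB h2 hy)
    · by_cases hsq : IsSquare (-1 : F)
      · obtain ⟨i, hi⟩ := hsq
        exact case_sq h2 i (by rw [sq]; exact hi.symm) A B hA hB
      · have hq : Fintype.card F % 4 = 3 := by
          by_contra h; exact hsq (FiniteField.isSquare_neg_one_iff.mpr h)
        exact case_ns hF hq A B hA hB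
  rcases key with h | ⟨C, hC, h1, h2⟩
  · left; exact h
  · right; exact ⟨QuotientGroup.mk C, sq_of_tr0 C hC, h1, h2⟩

end sl2

end Cfsg.Agent.Helper15.IG
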