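import Mathlib
import Cfsg.Agent.Helper15.PL
import Cfsg.Agent.S2476

set_option autoImplicit false

namespace Cfsg.Agent.Helper15.PG

open Polynomial
open Cfsg.Agent.Helper15.PL

section poly
variable {F : Type*} [Field F]

/-- if every irreducible factor of `μ` divides `T` then `μ ∣ T ^ d` for `d ≥ deg μ` -/
theorem pow_dvd_of_factors (T : F[X]) : ∀ (d : ℕ) (μ : F[X]), μ ≠ 0 → μ.natDegree ≤ d →
    (∀ f : F[X], f.Monic → Irreducible f → f ∣ μ → f ∣ T) → μ ∣ T ^ d := by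
  intro d
  induction d with
  | zero =>
    intro μ hμ hd _
    have hu : IsUnit μ := by
      rw [Polynomial.isUnit_iff_degree_eq_zero, degree_eq_natDegree hμ]
      have : μ.natDegree = 0 := by omega
      rw [this]
      rfl
    exact hu.dvd
  | succ d ih =>
    intro μ hμ hd hf
    by_cases hu : IsUnit μ
    · exact hu.dvd
    obtain ⟨f, hfm, hfi, hfd⟩ := Polynomial.exists_monic_irreducible_factor μ hu
    obtain ⟨μ', rfl⟩ := hfd
    have hμ' : μ' ≠ 0 := right_ne_zero_of_mul hμ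
    have hdeg : μ'.natDegree ≤ d := by
      rw [natDegree_mul hfi.ne_zero hμ'] at hd
      have := hfi.natDegree_pos
      omega
    have h1 := ih μ' hμ' hdeg (fun g hgm hgi hgd => hf g hgm hgi (hgd.mul_left f))
    rw [pow_succ']
    exact mul_dvd_mul (hf f hfm hfi (dvd_mul_right _ _)) h1

theorem dvd_of_squarefree (μ T : F[X]) (hsq : Squarefree μ)
    (h : ∀ f : F[X], f.Monic → Irreducible f → f ∣ μ → f ∣ T) : μ ∣ T := by
  classical
  obtain ⟨h', hh'⟩ := EuclideanDomain.gcd_dvd_left μ T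
  by_cases hu : IsUnit h'
  · have ha : Associated (EuclideanDomain.gcd μ T) μ := ⟨hu.unit, by
      rw [IsUnit.unit_spec]
      exact hh'.symm⟩
    exact ha.symm.dvd.trans (EuclideanDomain.gcd_dvd_right μ T)
  · exfalso
    obtain ⟨f, hfm, hfi, hfd⟩ := exists_monic_irreducible_factor h' hu
    have h1 : f ∣ μ := hfd.trans (Dvd.intro_left _ hh'.symm)
    have h2 : f ∣ EuclideanDomain.gcd μ T := EuclideanDomain.dvd_gcd h1 (h f hfm hfi h1)
    have h3 : f * f ∣ EuclideanDomain.gcd μ T * h' := mul_dvd_mul h2 hfd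
    exact hfi.not_isUnit (hsq f (h3.trans (dvd_of_eq hh'.symm)))

variable [Fintype F]

theorem irr_dvd_pow_card_sub_one (f : F[X]) (hfi : Irreducible f) (hX : ¬ f ∣ X) :
    f ∣ X ^ (Fintype.card F ^ f.natDegree - 1) - 1 := by
  haveI : Fact (Irreducible f) := ⟨hfi⟩
  have hroot := root_pow_card_pow f hfi
  have h0 : AdjoinRoot.root f ≠ 0 := by
    intro h
    apply hX
    rw [← AdjoinRoot.mk_eq_zero, AdjoinRoot.mk_X]
    exact h
  have hpos : 1 ≤ Fintype.card F ^ f.natDegree := Nat.one_le_pow _ _ Fintype.card_pos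
  have h1 : AdjoinRoot.root f ^ (Fintype.card F ^ f.natDegree - 1) = 1 := by
    have : AdjoinRoot.root f ^ (Fintype.card F ^ f.natDegree - 1) * AdjoinRoot.root f =
        1 * AdjoinRoot.root f := by
      rw [← pow_succ, Nat.sub_add_cancel hpos, hroot, one_mul]
    exact mul_right_cancel₀ h0 this
  rw [← AdjoinRoot.mk_eq_zero, map_sub, map_pow, AdjoinRoot.mk_X, h1, map_one, sub_self]

theorem minpoly_natDegree_le {n : ℕ} (M : Matrix (Fin n) (Fin n) F) :
    (minpoly F M).natDegree ≤ n := by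
  have h1 := Polynomial.natDegree_le_of_dvd (Matrix.minpoly_dvd_charpoly M)
    (Matrix.charpoly_monic M).ne_zero
  rw [Matrix.charpoly_natDegree_eq_dim, Fintype.card_fin] at h1
  exact h1

theorem irr_factor_props {n : ℕ} (M : Matrix (Fin n) (Fin n) F) (N : ℕ) (hN : 0 < N)
    (hMN : M ^ N = 1) (f : F[X]) (hfi : Irreducible f) (hfd : f ∣ minpoly F M) :
    1 ≤ f.natDegree ∧ f.natDegree ≤ n ∧ f ∣ X ^ (Fintype.card F ^ f.natDegree - 1) - 1 := by
  classical
  have hn : 0 < n := by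
    rcases Nat.eq_zero_or_pos n with rfl | h
    · exfalso
      have h1 := Polynomial.natDegree_le_of_dvd hfd (by
        have hint : IsIntegral F M := Algebra.IsIntegral.isIntegral M
        exact minpoly.ne_zero hint)
      have h2 := minpoly_natDegree_le M
      have h3 := hfi.natDegree_pos
      omega
    · exact h
  haveI : Nonempty (Fin n) := ⟨⟨0, hn⟩⟩
  have hint : IsIntegral F M := Algebra.IsIntegral.isIntegral M
  have hμ0 : minpoly F M ≠ 0 := minpoly.ne_zero hint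
  have hμN : minpoly F M ∣ X ^ N - 1 := minpoly.dvd F M (by simp [hMN])
  refine ⟨hfi.natDegree_pos, (natDegree_le_of_dvd hfd hμ0).trans (minpoly_natDegree_le M), ?_⟩
  apply irr_dvd_pow_card_sub_one f hfi
  intro hfX
  have h1 : f ∣ X ^ N := hfX.trans (dvd_pow_self X hN.ne')
  have h2 : f ∣ X ^ N - (X ^ N - 1) := dvd_sub h1 (hfd.trans hμN)
  rw [sub_sub_cancel] at h2
  exact hfi.not_isUnit (isUnit_of_dvd_one h2)

theorem X_pow_sub_one_dvd (a b : ℕ) (h : a ∣ b) : (X ^ a - 1 : F[X]) ∣ X ^ b - 1 := by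
  obtain ⟨c, rfl⟩ := h
  rw [pow_mul]
  have := sub_dvd_pow_sub_pow (X ^ a : F[X]) 1 c
  rwa [one_pow] at this

theorem pow_eq_one_of_minpoly_dvd {n : ℕ} (M : Matrix (Fin n) (Fin n) F) (J : ℕ)
    (h : minpoly F M ∣ X ^ J - 1) : M ^ J = 1 := by
  have h1 := pow_eq_smul_of_minpoly_dvd M J 1 (by rw [C_1]; exact h)
  rwa [one_smul] at h1

/-- a matrix of finite order divisible by a prime `r ≠ p` has an irreducible factor `f` of its
minimal polynomial with `r ∣ q^(deg f) - 1` -/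
theorem exists_factor_of_prime_dvd_order (p : ℕ) [Fact p.Prime] [CharP F p] {n : ℕ}
    (M : Matrix (Fin n) (Fin n) F) (N : ℕ) (hN : 0 < N) (hMN : M ^ N = 1) {r : ℕ}
    (hr : r.Prime) (hrp : r ≠ p) (hrM : r ∣ orderOf M) :
    ∃ f : F[X], f.Monic ∧ Irreducible f ∧ f ∣ minpoly F M ∧ 1 ≤ f.natDegree ∧ f.natDegree ≤ n ∧
      r ∣ Fintype.card F ^ f.natDegree - 1 := by
  classical
  by_contra hcon
  push Not at hcon
  have hp : p.Prime := Fact.out
  have hint : IsIntegral F M := Algebra.IsIntegral.isIntegral M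
  have hμ0 : minpoly F M ≠ 0 := minpoly.ne_zero hint
  have hrΛ : ¬ r ∣ ∏ d ∈ (Finset.Icc 1 n).filter (fun d => ¬ r ∣ Fintype.card F ^ d - 1),
      (Fintype.card F ^ d - 1) := by
    rw [Prime.dvd_finsetProd_iff hr.prime]
    rintro ⟨d, hd, hdvd⟩
    exact (Finset.mem_filter.mp hd).2 hdvd
  have hfac : ∀ f : F[X], f.Monic → Irreducible f → f ∣ minpoly F M →
      f ∣ X ^ (∏ d ∈ (Finset.Icc 1 n).filter (fun d => ¬ r ∣ Fintype.card F ^ d - 1),
        (Fintype.card F ^ d - 1)) - 1 := by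
    intro f hfm hfi hfd
    obtain ⟨h1, h2, h3⟩ := irr_factor_props M N hN hMN f hfi hfd
    have hdeg : f.natDegree ∈ (Finset.Icc 1 n).filter
        (fun d => ¬ r ∣ Fintype.card F ^ d - 1) := by
      rw [Finset.mem_filter, Finset.mem_Icc]
      exact ⟨⟨h1, h2⟩, hcon f hfm hfi hfd h1 h2⟩
    exact h3.trans (X_pow_sub_one_dvd _ _ (Finset.dvd_prod_of_mem _ hdeg))
  have h4 := pow_dvd_of_factors _ n (minpoly F M) hμ0 (minpoly_natDegree_le M) hfac
  have h5 := h4.trans (pow_dvd_pow _ (Nat.lt_pow_self hp.one_lt).le : _ ∣ _ ^ (p ^ n))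
  rw [sub_pow_char_pow, one_pow, ← pow_mul] at h5
  have h7 := pow_eq_one_of_minpoly_dvd M _ h5
  have h9 := hrM.trans (orderOf_dvd_of_pow_eq_one h7)
  rcases (Nat.Prime.dvd_mul hr).mp h9 with h | h
  · exact hrΛ h
  · exact hrp ((Nat.prime_dvd_prime_iff_eq hr hp).mp (hr.dvd_of_dvd_pow h))

/-- a matrix of finite order divisible by the characteristic has a non-squarefree minimal
polynomial -/
theorem exists_sq_factor (p : ℕ) [Fact p.Prime] [CharP F p] {n : ℕ}
    (M : Matrix (Fin n) (Fin n) F) (N : ℕ) (hN : 0 < N) (hMN : M ^ N = 1)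
    (hpM : p ∣ orderOf M) :
    ∃ f : F[X], f.Monic ∧ Irreducible f ∧ f * f ∣ minpoly F M := by
  classical
  by_contra hcon
  push Not at hcon
  have hp : p.Prime := Fact.out
  have hsq : Squarefree (minpoly F M) := by
    intro x hx
    by_contra hu
    obtain ⟨f, hfm, hfi, hfd⟩ := exists_monic_irreducible_factor x hu
    exact hcon f hfm hfi ((mul_dvd_mul hfd hfd).trans hx)
  have hpq : p ∣ Fintype.card F := by
    obtain ⟨a, -, ha⟩ := FiniteField.card F p
    rw [ha]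
    exact dvd_pow_self p a.ne_zero
  have hpΛ : ¬ p ∣ ∏ d ∈ Finset.Icc 1 n, (Fintype.card F ^ d - 1) := by
    rw [Prime.dvd_finsetProd_iff hp.prime]
    rintro ⟨d, hd, hdvd⟩
    have hd1 : 1 ≤ d := (Finset.mem_Icc.mp hd).1
    have h1 : p ∣ Fintype.card F ^ d := hpq.trans (dvd_pow_self _ (by omega))
    have hpos : 1 ≤ Fintype.card F ^ d := Nat.one_le_pow _ _ Fintype.card_pos
    have h2 : Fintype.card F ^ d = (Fintype.card F ^ d - 1) + 1 := by omega
    rw [h2] at h1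
    exact hp.one_lt.ne' (Nat.dvd_one.mp ((Nat.dvd_add_right hdvd).mp h1))
  have hfac : ∀ f : F[X], f.Monic → Irreducible f → f ∣ minpoly F M →
      f ∣ X ^ (∏ d ∈ Finset.Icc 1 n, (Fintype.card F ^ d - 1)) - 1 := by
    intro f hfm hfi hfd
    obtain ⟨h1, h2, h3⟩ := irr_factor_props M N hN hMN f hfi hfd
    exact h3.trans (X_pow_sub_one_dvd _ _
      (Finset.dvd_prod_of_mem _ (Finset.mem_Icc.mpr ⟨h1, h2⟩)))
  have h4 := dvd_of_squarefree _ _ hsq hfac
  have h7 := pow_eq_one_of_minpoly_dvd M _ h4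
  exact hpΛ (hpM.trans (orderOf_dvd_of_pow_eq_one h7))

end poly


section zmod

theorem dvd_pow_sub_one_iff {r : ℕ} (q d : ℕ) (hq : 1 ≤ q) :
    r ∣ q ^ d - 1 ↔ ((q : ℕ) : ZMod r) ^ d = 1 := by
  have hpos : 1 ≤ q ^ d := Nat.one_le_pow _ _ hq
  rw [← ZMod.natCast_eq_zero_iff, Nat.cast_sub hpos, Nat.cast_pow, Nat.cast_one, sub_eq_zero]

theorem order_dvd_iff {r : ℕ} (q d : ℕ) (hq : 1 ≤ q) :
    orderOf ((q : ℕ) : ZMod r) ∣ d ↔ r ∣ q ^ d - 1 := by
  rw [dvd_pow_sub_one_iff q d hq, orderOf_dvd_iff_pow_eq_one]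

theorem order_pos {r : ℕ} [Fact r.Prime] (q : ℕ) (hrq : ¬ r ∣ q) :
    0 < orderOf ((q : ℕ) : ZMod r) := by
  have h0 : ((q : ℕ) : ZMod r) ≠ 0 := by
    rw [Ne, ZMod.natCast_eq_zero_iff]
    exact hrq
  have h1 := ZMod.pow_card_sub_one_eq_one h0
  have h2 := orderOf_dvd_of_pow_eq_one h1
  apply Nat.pos_of_ne_zero
  intro h
  rw [h, zero_dvd_iff] at h2
  have := (Fact.out : r.Prime).two_le
  omega

end zmod

section lift
variable {F : Type*} [Field F] [Fintype F] {n : ℕ}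

theorem lift_order (M : Matrix.SpecialLinearGroup (Fin n) F) :
    orderOf (QuotientGroup.mk M : Matrix.ProjectiveSpecialLinearGroup (Fin n) F) ∣ orderOf M.1 ∧
      ∃ N, 0 < N ∧ M.1 ^ N = 1 := by
  classical
  constructor
  · apply orderOf_dvd_of_pow_eq_one
    rw [mk_pow_eq_one_iff]
    exact ⟨1, by rw [pow_orderOf_eq_one, one_smul]⟩
  · refine ⟨orderOf M, orderOf_pos M, ?_⟩
    have h1 : (M ^ orderOf M).1 = (1 : Matrix.SpecialLinearGroup (Fin n) F).1 := by
      rw [pow_orderOf_eq_one]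
    rw [Matrix.SpecialLinearGroup.coe_pow, Matrix.SpecialLinearGroup.coe_one] at h1
    exact h1

theorem exists_order_ext (p : ℕ) [Fact p.Prime] [CharP F p] (m : ℕ) [NeZero m] (e : ℕ)
    (he : e ∣ Fintype.card F ^ m - 1) : ∃ y : FiniteField.Extension F p m, orderOf y = e := by
  classical
  have hK : Nat.card (FiniteField.Extension F p m) = Nat.card F ^ m :=
    FiniteField.natCard_extension F p m
  haveI : Fintype (FiniteField.Extension F p m) := Fintype.ofFinite _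
  obtain ⟨γ, hγ⟩ := IsCyclic.exists_generator (α := (FiniteField.Extension F p m)ˣ)
  have hγo : orderOf γ = Fintype.card F ^ m - 1 := by
    rw [orderOf_eq_card_of_forall_mem_zpowers hγ, Nat.card_units, hK, Nat.card_eq_fintype_card]
  have hpos : orderOf γ ≠ 0 := (orderOf_pos γ).ne'
  refine ⟨((γ ^ (orderOf γ / e) : (FiniteField.Extension F p m)ˣ) :
    FiniteField.Extension F p m), ?_⟩
  rw [orderOf_units]
  exact orderOf_pow_orderOf_div hpos (hγo ▸ he)

theorem norm_eq_one_of_coprime {A : Type*} [CommRing A] [Algebra F A] (y : A) (e : ℕ)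
    (he : 0 < e) (hy : y ^ e = 1) (hcop : Nat.Coprime e (Fintype.card F - 1)) :
    Algebra.norm F y = 1 := by
  have h1 : (Algebra.norm F y) ^ e = 1 := by rw [← map_pow, hy, map_one]
  have h0 : Algebra.norm F y ≠ 0 := by
    intro h
    rw [h, zero_pow he.ne'] at h1
    exact zero_ne_one h1
  have h2 : (Algebra.norm F y) ^ (Fintype.card F - 1) = 1 :=
    FiniteField.pow_card_sub_one_eq_one _ h0
  have h3 := Nat.dvd_gcd (orderOf_dvd_of_pow_eq_one h1) (orderOf_dvd_of_pow_eq_one h2)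
  rw [Nat.Coprime.gcd_eq_one hcop] at h3
  exact orderOf_eq_one_iff.mp (Nat.dvd_one.mp h3)

theorem dvd_of_pow_eq_smul {K : Type*} [Field K] [Algebra F K] (y : K) (e : ℕ) (he : 0 < e)
    (hy : orderOf y = e) (hcop : Nat.Coprime e (Fintype.card F - 1)) (j : ℕ) (c : F)
    (h : y ^ j = c • (1 : K)) : e ∣ j := by
  have hy0 : y ≠ 0 := by
    rintro rfl
    have h1 := pow_orderOf_eq_one (0 : K)
    rw [hy, zero_pow he.ne'] at h1
    exact zero_ne_one h1
  have hc0 : c ≠ 0 := by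
    rintro rfl
    rw [zero_smul] at h
    exact pow_ne_zero j hy0 h
  have h1 : y ^ (j * (Fintype.card F - 1)) = 1 := by
    rw [pow_mul, h, _root_.smul_pow, one_pow, FiniteField.pow_card_sub_one_eq_one c hc0, one_smul]
  have h2 := orderOf_dvd_of_pow_eq_one h1
  rw [hy] at h2
  exact hcop.dvd_of_dvd_mul_right h2

/-- an element of a commutative `F`-algebra of dimension `n` with norm one gives an element of
`PSL_n(F)` -/
theorem exists_of_algebra {A : Type*} [CommRing A] [Algebra F A] [Module.Finite F A]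
    (hfr : Module.finrank F A = n) (w : A) (hnorm : Algebra.norm F w = 1) :
    ∃ x : Matrix.ProjectiveSpecialLinearGroup (Fin n) F,
      ∀ j : ℕ, x ^ j = 1 ↔ ∃ c : F, w ^ j = c • (1 : A) := by
  classical
  have hΦinj := Algebra.leftMulMatrix_injective (Module.finBasisOfFinrankEq F A hfr)
  have hdet : (Algebra.leftMulMatrix (Module.finBasisOfFinrankEq F A hfr) w).det = 1 := by
    rw [← Algebra.norm_eq_matrix_det]
    exact hnorm
  obtain ⟨h, hh⟩ : ∃ h : Matrix.SpecialLinearGroup (Fin n) F,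
      h.1 = Algebra.leftMulMatrix (Module.finBasisOfFinrankEq F A hfr) w := ⟨⟨_, hdet⟩, rfl⟩
  refine ⟨QuotientGroup.mk h, fun j => ?_⟩
  rw [mk_pow_eq_one_iff, hh, ← map_pow]
  constructor
  · rintro ⟨c, hc⟩
    exact ⟨c, hΦinj (by rw [hc, map_smul, map_one])⟩
  · rintro ⟨c, hc⟩
    exact ⟨c, by rw [hc, map_smul, map_one]⟩

theorem pow_pos_aux (m : ℕ) (hm : 1 ≤ m) : 0 < Fintype.card F ^ m - 1 := by
  have hq2 : 2 ≤ Fintype.card F := Fintype.one_lt_card
  have h1 : 2 ^ m ≤ Fintype.card F ^ m := Nat.pow_le_pow_left hq2 m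
  have h2 : 2 ^ 1 ≤ 2 ^ m := Nat.pow_le_pow_right (by norm_num) hm
  omega

/-- elements of order `e ∣ q^m - 1`, `gcd(e, q-1) = 1`, `m ≤ n` -/
theorem exists_order_of_dvd (p : ℕ) [Fact p.Prime] [CharP F p] (m : ℕ) (hm : 1 ≤ m)
    (hmn : m ≤ n) (e : ℕ) (he : e ∣ Fintype.card F ^ m - 1)
    (hcop : Nat.Coprime e (Fintype.card F - 1)) :
    ∃ x : Matrix.ProjectiveSpecialLinearGroup (Fin n) F, orderOf x = e := by
  classical
  haveI : NeZero m := ⟨by omega⟩
  have he0 : 0 < e := Nat.pos_of_dvd_of_pos he (pow_pos_aux m hm)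
  obtain ⟨y, hy⟩ := exists_order_ext (F := F) p m e he
  have hfr : Module.finrank F (FiniteField.Extension F p m × (Fin (n - m) → F)) = n := by
    rw [Module.finrank_prod, FiniteField.finrank_extension, Module.finrank_fin_fun]
    omega
  have hnorm : Algebra.norm F ((y, 1) : FiniteField.Extension F p m × (Fin (n - m) → F)) = 1 := by
    rw [Cfsg.Agent.S2476.norm_prod']
    simp only
    rw [map_one, mul_one]
    exact norm_eq_one_of_coprime y e he0 (hy ▸ pow_orderOf_eq_one y) hcop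
  obtain ⟨x, hx⟩ := exists_of_algebra hfr _ hnorm
  refine ⟨x, ?_⟩
  apply Nat.dvd_antisymm
  · apply orderOf_dvd_of_pow_eq_one
    rw [hx]
    refine ⟨1, ?_⟩
    rw [Prod.pow_mk, one_pow, ← hy, pow_orderOf_eq_one, one_smul]
    rfl
  · obtain ⟨c, hc⟩ := (hx _).mp (pow_orderOf_eq_one x)
    have h1 := congrArg Prod.fst hc
    simp only [Prod.pow_mk, Prod.smul_fst, Prod.fst_one] at h1
    exact dvd_of_pow_eq_smul y e he0 hy hcop _ c h1

/-- elements of order `lcm e₁ e₂` from two field factors -/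
theorem exists_order_of_dvd_two (p : ℕ) [Fact p.Prime] [CharP F p] (m₁ m₂ : ℕ) (hm₁ : 1 ≤ m₁)
    (hm₂ : 1 ≤ m₂) (hmn : m₁ + m₂ ≤ n) (e₁ e₂ : ℕ) (he₁ : e₁ ∣ Fintype.card F ^ m₁ - 1)
    (he₂ : e₂ ∣ Fintype.card F ^ m₂ - 1) (hcop₁ : Nat.Coprime e₁ (Fintype.card F - 1))
    (hcop₂ : Nat.Coprime e₂ (Fintype.card F - 1)) :
    ∃ x : Matrix.ProjectiveSpecialLinearGroup (Fin n) F, orderOf x = Nat.lcm e₁ e₂ := by
  classical
  haveI : NeZero m₁ := ⟨by omega⟩
  haveI : NeZero m₂ := ⟨by omega⟩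
  have he₁0 : 0 < e₁ := Nat.pos_of_dvd_of_pos he₁ (pow_pos_aux m₁ hm₁)
  have he₂0 : 0 < e₂ := Nat.pos_of_dvd_of_pos he₂ (pow_pos_aux m₂ hm₂)
  obtain ⟨y₁, hy₁⟩ := exists_order_ext (F := F) p m₁ e₁ he₁
  obtain ⟨y₂, hy₂⟩ := exists_order_ext (F := F) p m₂ e₂ he₂
  have hfr : Module.finrank F (FiniteField.Extension F p m₁ ×
      (FiniteField.Extension F p m₂ × (Fin (n - m₁ - m₂) → F))) = n := by
    rw [Module.finrank_prod, Module.finrank_prod, FiniteField.finrank_extension,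
      FiniteField.finrank_extension, Module.finrank_fin_fun]
    omega
  have hnorm : Algebra.norm F ((y₁, (y₂, 1)) : FiniteField.Extension F p m₁ ×
      (FiniteField.Extension F p m₂ × (Fin (n - m₁ - m₂) → F))) = 1 := by
    rw [Cfsg.Agent.S2476.norm_prod', Cfsg.Agent.S2476.norm_prod']
    simp only
    rw [map_one, mul_one, norm_eq_one_of_coprime y₁ e₁ he₁0 (hy₁ ▸ pow_orderOf_eq_one y₁) hcop₁,
      norm_eq_one_of_coprime y₂ e₂ he₂0 (hy₂ ▸ pow_orderOf_eq_one y₂) hcop₂, one_mul]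
  obtain ⟨x, hx⟩ := exists_of_algebra hfr _ hnorm
  refine ⟨x, ?_⟩
  apply Nat.dvd_antisymm
  · apply orderOf_dvd_of_pow_eq_one
    rw [hx]
    refine ⟨1, ?_⟩
    have h1 : y₁ ^ Nat.lcm e₁ e₂ = 1 :=
      orderOf_dvd_iff_pow_eq_one.mp (hy₁ ▸ Nat.dvd_lcm_left e₁ e₂)
    have h2 : y₂ ^ Nat.lcm e₁ e₂ = 1 :=
      orderOf_dvd_iff_pow_eq_one.mp (hy₂ ▸ Nat.dvd_lcm_right e₁ e₂)
    rw [Prod.pow_mk, Prod.pow_mk, one_pow, h1, h2, one_smul]
    rfl
  · obtain ⟨c, hc⟩ := (hx _).mp (pow_orderOf_eq_one x)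
    have h1 := congrArg Prod.fst hc
    have h2 := congrArg (fun z => z.2.1) hc
    simp only [Prod.pow_mk, Prod.smul_fst, Prod.fst_one, Prod.smul_snd, Prod.snd_one] at h1 h2
    exact Nat.lcm_dvd (dvd_of_pow_eq_smul y₁ e₁ he₁0 hy₁ hcop₁ _ c h1)
      (dvd_of_pow_eq_smul y₂ e₂ he₂0 hy₂ hcop₂ _ c h2)

/-- a unipotent block of size `N' ≥ 2` next to a norm-one element `y` -/
theorem exists_p_mul {A₂ : Type*} [CommRing A₂] [Algebra F A₂] [Module.Finite F A₂]
    (p : ℕ) [Fact p.Prime] [CharP F p] (N' : ℕ) (hN : 2 ≤ N')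
    (hfr : N' + Module.finrank F A₂ = n) (y : A₂) (hnorm : Algebra.norm F y = 1) :
    ∃ x : Matrix.ProjectiveSpecialLinearGroup (Fin n) F, p ∣ orderOf x ∧ y ^ orderOf x = 1 := by
  classical
  have hp : p.Prime := Fact.out
  have hmon : (X ^ N' : F[X]).Monic := monic_X_pow N'
  haveI : Module.Finite F (AdjoinRoot (X ^ N' : F[X])) := (AdjoinRoot.powerBasis' hmon).finite
  have hfr1 : Module.finrank F (AdjoinRoot (X ^ N' : F[X])) = N' := by
    rw [(AdjoinRoot.powerBasis' hmon).finrank, AdjoinRoot.powerBasis'_dim, natDegree_X_pow]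
  have hev : (X ^ N' : F[X]).eval₂ (AlgHom.id F F) (0 : F) = 0 := by
    rw [eval₂_pow, eval₂_X, zero_pow (by omega)]
  set ε : AdjoinRoot (X ^ N' : F[X]) →ₐ[F] F :=
    AdjoinRoot.liftAlgHom _ (AlgHom.id F F) 0 hev with hε
  haveI : Nontrivial (AdjoinRoot (X ^ N' : F[X])) := ε.toRingHom.domain_nontrivial
  haveI : CharP (AdjoinRoot (X ^ N' : F[X])) p :=
    charP_of_injective_algebraMap (algebraMap F _).injective p
  have hroot : ∀ i, (AdjoinRoot.root (X ^ N' : F[X])) ^ i = 0 ↔ N' ≤ i := by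
    intro i
    rw [← AdjoinRoot.mk_X, ← map_pow, AdjoinRoot.mk_eq_zero]
    exact pow_dvd_pow_iff X_ne_zero not_isUnit_X
  set u : AdjoinRoot (X ^ N' : F[X]) := 1 + AdjoinRoot.root _ with hu
  have hu1 : u ^ p ^ N' = 1 := by
    rw [hu, add_pow_char_pow, one_pow, (hroot _).mpr (Nat.lt_pow_self hp.one_lt).le, add_zero]
  have hεu : ε u = 1 := by
    rw [hu, map_add, map_one, hε, AdjoinRoot.liftAlgHom_root, add_zero]
  have hune : u ≠ 1 := by
    intro h
    have h3 : (AdjoinRoot.root (X ^ N' : F[X])) ^ 1 = 0 := by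
      have h4 : (1 : AdjoinRoot (X ^ N' : F[X])) + AdjoinRoot.root (X ^ N' : F[X]) = 1 + 0 := by
        rw [add_zero]
        exact h
      rw [pow_one]
      exact add_left_cancel h4
    have := (hroot 1).mp h3
    omega
  have hpu : p ∣ orderOf u := by
    obtain ⟨k', -, hk'2⟩ := (Nat.dvd_prime_pow hp).mp (orderOf_dvd_of_pow_eq_one hu1)
    rw [hk'2]
    rcases Nat.eq_zero_or_pos k' with rfl | hk'
    · exfalso
      rw [pow_zero, orderOf_eq_one_iff] at hk'2
      exact hune hk'2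
    · exact dvd_pow_self p hk'.ne'
  have hnu : Algebra.norm F u = 1 := by
    have h1 : (Algebra.norm F u) ^ p ^ N' = 1 := by rw [← map_pow, hu1, map_one]
    exact det_eq_one_of_pow p _ N' h1
  have hfr' : Module.finrank F (AdjoinRoot (X ^ N' : F[X]) × A₂) = n := by
    rw [Module.finrank_prod, hfr1]
    exact hfr
  have hnorm' : Algebra.norm F ((u, y) : AdjoinRoot (X ^ N' : F[X]) × A₂) = 1 := by
    rw [Cfsg.Agent.S2476.norm_prod']
    simp only
    rw [hnu, hnorm, one_mul]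
  obtain ⟨x, hx⟩ := exists_of_algebra hfr' _ hnorm'
  refine ⟨x, ?_⟩
  obtain ⟨c, hc⟩ := (hx _).mp (pow_orderOf_eq_one x)
  have h1 := congrArg Prod.fst hc
  have h2 := congrArg Prod.snd hc
  simp only [Prod.pow_mk, Prod.smul_fst, Prod.fst_one, Prod.smul_snd, Prod.snd_one] at h1 h2
  have hc1 : c = 1 := by
    have := congrArg ε h1
    rw [map_pow, hεu, one_pow, map_smul, map_one, smul_eq_mul, mul_one] at this
    exact this.symm
  rw [hc1, one_smul] at h1 h2
  exact ⟨hpu.trans (orderOf_dvd_of_pow_eq_one h1), h2⟩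

end lift

end Cfsg.Agent.Helper15.PG
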