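import Mathlib
import Cfsg.Agent.Helper15.PS

set_option autoImplicit false

namespace Cfsg.Agent.Helper15.RE

section gen
variable {F : Type*} [Field F] [CharP F 3]

/-- entrywise cube (Frobenius) on `SL₂` -/
noncomputable def sig : Matrix.SpecialLinearGroup (Fin 2) F →* Matrix.SpecialLinearGroup (Fin 2) F :=
  Matrix.SpecialLinearGroup.map (frobenius F 3)

theorem sig_coe (s : Matrix.SpecialLinearGroup (Fin 2) F) (i j : Fin 2) :
    (sig s).1 i j = (s.1 i j) ^ 3 := by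
  show (frobenius F 3) (s.1 i j) = _
  rw [frobenius_def]

/-- the linear part of the twisted action on `M₂(F)` -/
noncomputable def lin (ε : F) (s : Matrix.SpecialLinearGroup (Fin 2) F)
    (X : Matrix (Fin 2) (Fin 2) F) : Matrix (Fin 2) (Fin 2) F :=
  ε • (s.1 * X * ((sig s)⁻¹).1)

theorem lin_add (ε : F) (s : Matrix.SpecialLinearGroup (Fin 2) F) (X Y : Matrix (Fin 2) (Fin 2) F) :
    lin ε s (X + Y) = lin ε s X + lin ε s Y := by
  simp [lin, Matrix.mul_add, Matrix.add_mul]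

theorem lin_zero (ε : F) (s : Matrix.SpecialLinearGroup (Fin 2) F) :
    lin ε s 0 = 0 := by
  simp [lin]

theorem lin_sub (ε : F) (s : Matrix.SpecialLinearGroup (Fin 2) F) (X Y : Matrix (Fin 2) (Fin 2) F) :
    lin ε s (X - Y) = lin ε s X - lin ε s Y := by
  simp [lin, Matrix.mul_sub, Matrix.sub_mul, smul_sub]

theorem lin_mul (ε ε' : F) (s s' : Matrix.SpecialLinearGroup (Fin 2) F)
    (X : Matrix (Fin 2) (Fin 2) F) :
    lin ε s (lin ε' s' X) = lin (ε * ε') (s * s') X := by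
  simp only [lin, map_mul, mul_inv_rev, Matrix.SpecialLinearGroup.coe_mul, Matrix.mul_smul,
    Matrix.smul_mul, smul_smul, Matrix.mul_assoc]

theorem lin_one (X : Matrix (Fin 2) (Fin 2) F) : lin 1 1 X = X := by
  simp [lin]

theorem lin_neg_one (s : Matrix.SpecialLinearGroup (Fin 2) F) (X : Matrix (Fin 2) (Fin 2) F) :
    lin (-1) s X = - lin 1 s X := by
  simp [lin]

/-- explicit form of the right factor -/
theorem r_eq (s : Matrix.SpecialLinearGroup (Fin 2) F) :
    ((sig s)⁻¹).1 = !![s.1 1 1 ^ 3, -(s.1 0 1 ^ 3); -(s.1 1 0 ^ 3), s.1 0 0 ^ 3] := by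
  rw [Matrix.SpecialLinearGroup.coe_inv, Matrix.adjugate_fin_two]
  simp [sig_coe]

/-- scalar matrices `±1` act trivially -/
theorem lin_pm (s : Matrix.SpecialLinearGroup (Fin 2) F) (c : F) (hc : c * c = 1)
    (hs : s.1 = c • (1 : Matrix (Fin 2) (Fin 2) F)) (X : Matrix (Fin 2) (Fin 2) F) :
    lin 1 s X = X := by
  have h00 : s.1 0 0 = c := by rw [hs]; simp
  have h11 : s.1 1 1 = c := by rw [hs]; simp
  have h01 : s.1 0 1 = 0 := by rw [hs]; simp
  have h10 : s.1 1 0 = 0 := by rw [hs]; simp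
  have hr : ((sig s)⁻¹).1 = c • (1 : Matrix (Fin 2) (Fin 2) F) := by
    rw [r_eq, h00, h11, h01, h10]
    have hc3 : c ^ 3 = c := by linear_combination c * hc
    ext i j; fin_cases i <;> fin_cases j <;> simp [hc3]
  rw [lin, hr, hs]
  simp [smul_smul, hc]

theorem ch2 (A : Matrix (Fin 2) (Fin 2) F) : A * A = A.trace • A - A.det • (1 : Matrix (Fin 2) (Fin 2) F) := by
  ext i j; fin_cases i <;> fin_cases j <;>
    simp [Matrix.mul_apply, Fin.sum_univ_two, Matrix.trace_fin_two, Matrix.det_fin_two] <;> ring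

theorem three_zero : (3 : F) = 0 := by
  have := CharP.cast_eq_zero F 3
  exact_mod_cast this

theorem sig_trace (s : Matrix.SpecialLinearGroup (Fin 2) F) :
    (sig s).1.trace = s.1.trace ^ 3 := by
  rw [Matrix.trace_fin_two, Matrix.trace_fin_two, sig_coe, sig_coe]
  linear_combination (-(s.1 0 0) ^ 2 * s.1 1 1 - s.1 0 0 * (s.1 1 1) ^ 2) * (three_zero (F := F))

/-- fixed-point-freeness -/
theorem fpf (ε : F) (hε : ε * ε = 1) (s : Matrix.SpecialLinearGroup (Fin 2) F)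
    (hne : s.1.trace ^ 3 ≠ ε * s.1.trace) (X : Matrix (Fin 2) (Fin 2) F)
    (hX : lin ε s X = X) : X = 0 := by
  set A := s.1 with hAdef
  set B := (sig s).1 with hBdef
  set R := ((sig s)⁻¹).1 with hRdef
  set t := A.trace with htdef
  have hA : A * A = t • A - 1 := by
    have := ch2 A
    rw [show A.det = 1 from s.2, one_smul] at this
    exact this
  have hB : B * B = t ^ 3 • B - 1 := by
    have := ch2 B
    rw [show B.det = 1 from (sig s).2, one_smul, show B.trace = t ^ 3 from sig_trace s] at this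
    exact this
  have hRB : R * B = 1 := by
    have : ((sig s)⁻¹ * sig s).1 = 1 := by rw [inv_mul_cancel]; rfl
    rwa [Matrix.SpecialLinearGroup.coe_mul] at this
  have hBR : B * R = 1 := by
    have : (sig s * (sig s)⁻¹).1 = 1 := by rw [mul_inv_cancel]; rfl
    rwa [Matrix.SpecialLinearGroup.coe_mul] at this
  have h1 : ε • (A * X) = X * B := by
    have h := congrArg (· * B) hX
    simp only [lin] at h
    rw [← hRdef, Matrix.smul_mul, Matrix.mul_assoc, hRB, Matrix.mul_one] at h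
    exact h
  have h2 : A * X = ε • (X * B) := by rw [← h1, smul_smul, hε, one_smul]
  have h3 : A * A * X = X * (B * B) := by
    calc A * A * X = A * (A * X) := by rw [Matrix.mul_assoc]
      _ = A * (ε • (X * B)) := by rw [h2]
      _ = ε • (A * X * B) := by rw [Matrix.mul_smul, Matrix.mul_assoc]
      _ = ε • (ε • (X * B) * B) := by rw [h2]
      _ = X * (B * B) := by rw [Matrix.smul_mul, smul_smul, hε, one_smul, Matrix.mul_assoc]
  rw [hA, hB] at h3
  have h4 : t • (A * X) = t ^ 3 • (X * B) := by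
    have h5 : t • (A * X) - X = t ^ 3 • (X * B) - X := by
      simpa [Matrix.sub_mul, Matrix.mul_sub, Matrix.smul_mul, Matrix.mul_smul] using h3
    exact sub_left_injective h5
  rw [h2, smul_smul] at h4
  have h5 : (t ^ 3 - ε * t) • (X * B) = 0 := by rw [sub_smul, ← h4, mul_comm, sub_self]
  have h6 : X * B = 0 := (smul_eq_zero.mp h5).resolve_left (sub_ne_zero.mpr hne)
  calc X = X * B * R := by rw [Matrix.mul_assoc, hBR, Matrix.mul_one]
    _ = 0 := by rw [h6, Matrix.zero_mul]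

end gen

section grp
variable {F : Type*} [Field F] [CharP F 3]

/-- the group `M₂(F) ⋊ (2 × L₂(F))` as a group of affine permutations of `M₂(F)` -/
noncomputable def Hs (F : Type*) [Field F] [CharP F 3] :
    Subgroup (Equiv.Perm (Matrix (Fin 2) (Fin 2) F)) where
  carrier := {T | ∃ (ε : F) (s : Matrix.SpecialLinearGroup (Fin 2) F)
    (v : Matrix (Fin 2) (Fin 2) F), (ε = 1 ∨ ε = -1) ∧ ∀ X, T X = lin ε s X + v}
  mul_mem' := by
    rintro T T' ⟨ε, s, v, hε, hT⟩ ⟨ε', s', v', hε', hT'⟩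
    refine ⟨ε * ε', s * s', lin ε s v' + v, ?_, fun X => ?_⟩
    · rcases hε with rfl | rfl <;> rcases hε' with rfl | rfl <;> simp
    · rw [Equiv.Perm.mul_apply, hT', hT, lin_add, lin_mul, add_assoc]
  one_mem' := ⟨1, 1, 0, Or.inl rfl, fun X => by simp [lin_one]⟩
  inv_mem' := by
    rintro T ⟨ε, s, v, hε, hT⟩
    have hε2 : ε * ε = 1 := by rcases hε with rfl | rfl <;> simp
    refine ⟨ε, s⁻¹, -(lin ε s⁻¹ v), hε, fun X => ?_⟩
    rw [Equiv.Perm.inv_eq_iff_eq, hT, ← sub_eq_add_neg, ← lin_sub, lin_mul, hε2, mul_inv_cancel,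
      lin_one, sub_add_cancel]

theorem mem_Hs (T : Equiv.Perm (Matrix (Fin 2) (Fin 2) F)) :
    T ∈ Hs F ↔ ∃ (ε : F) (s : Matrix.SpecialLinearGroup (Fin 2) F)
      (v : Matrix (Fin 2) (Fin 2) F), (ε = 1 ∨ ε = -1) ∧ ∀ X, T X = lin ε s X + v := Iff.rfl

theorem exists_mk (ε : F) (hε : ε = 1 ∨ ε = -1) (s : Matrix.SpecialLinearGroup (Fin 2) F)
    (v : Matrix (Fin 2) (Fin 2) F) :
    ∃ T : Equiv.Perm (Matrix (Fin 2) (Fin 2) F), T ∈ Hs F ∧ ∀ X, T X = lin ε s X + v := by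
  have hε2 : ε * ε = 1 := by rcases hε with rfl | rfl <;> simp
  refine ⟨⟨fun X => lin ε s X + v, fun Y => lin ε s⁻¹ (Y - v), ?_, ?_⟩,
    ⟨ε, s, v, hε, fun X => rfl⟩, fun X => rfl⟩
  · intro X
    show lin ε s⁻¹ (lin ε s X + v - v) = X
    rw [add_sub_cancel_right, lin_mul, hε2, inv_mul_cancel, lin_one]
  · intro Y
    show lin ε s (lin ε s⁻¹ (Y - v)) + v = Y
    rw [lin_mul, hε2, mul_inv_cancel, lin_one, sub_add_cancel]

theorem pow_form (T : Equiv.Perm (Matrix (Fin 2) (Fin 2) F)) (ε : F)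
    (s : Matrix.SpecialLinearGroup (Fin 2) F) (v : Matrix (Fin 2) (Fin 2) F)
    (hT : ∀ X, T X = lin ε s X + v) (n : ℕ) :
    ∃ w, ∀ X, (T ^ n) X = lin (ε ^ n) (s ^ n) X + w := by
  induction n with
  | zero => exact ⟨0, fun X => by simp [lin_one]⟩
  | succ n ih =>
    obtain ⟨w, hw⟩ := ih
    refine ⟨lin (ε ^ n) (s ^ n) v + w, fun X => ?_⟩
    rw [pow_succ, Equiv.Perm.mul_apply, hT, hw, lin_add, lin_mul, pow_succ, pow_succ, add_assoc]

theorem pow_lin (T : Equiv.Perm (Matrix (Fin 2) (Fin 2) F)) (ε : F)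
    (s : Matrix.SpecialLinearGroup (Fin 2) F)
    (hT : ∀ X, T X = lin ε s X) (n : ℕ) (X : Matrix (Fin 2) (Fin 2) F) :
    (T ^ n) X = lin (ε ^ n) (s ^ n) X := by
  induction n generalizing X with
  | zero => simp [lin_one]
  | succ n ih => rw [pow_succ, Equiv.Perm.mul_apply, hT, ih, lin_mul, pow_succ, pow_succ]

theorem pow_trans (T : Equiv.Perm (Matrix (Fin 2) (Fin 2) F)) (ε : F)
    (s : Matrix.SpecialLinearGroup (Fin 2) F) (v : Matrix (Fin 2) (Fin 2) F)
    (hT : ∀ X, T X = lin ε s X + v) (N : ℕ) (hεN : ε ^ N = 1) (c : F) (hc : c * c = 1)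
    (hs : (s ^ N).1 = c • (1 : Matrix (Fin 2) (Fin 2) F)) :
    ∃ w, ∀ X, (T ^ N) X = X + w := by
  obtain ⟨w, hw⟩ := pow_form T ε s v hT N
  exact ⟨w, fun X => by rw [hw, hεN, lin_pm _ c hc hs]⟩

theorem trans_cube (T : Equiv.Perm (Matrix (Fin 2) (Fin 2) F)) (w : Matrix (Fin 2) (Fin 2) F)
    (h : ∀ X, T X = X + w) : T ^ 3 = 1 := by
  have h3 : w + w + w = 0 := by
    ext i j
    simp only [Matrix.add_apply, Matrix.zero_apply]
    linear_combination (w i j) * three_zero (F := F)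
  apply Equiv.ext
  intro X
  have e : (T ^ 3) X = T (T (T X)) := by rw [pow_succ, pow_succ, pow_one]; rfl
  rw [e, h, h, h, add_assoc, add_assoc, ← add_assoc w, h3, add_zero]; rfl

theorem fpf_pow (T : Equiv.Perm (Matrix (Fin 2) (Fin 2) F)) (ε : F) (hε : ε * ε = 1)
    (s : Matrix.SpecialLinearGroup (Fin 2) F) (v : Matrix (Fin 2) (Fin 2) F)
    (hT : ∀ X, T X = lin ε s X + v) (hne : s.1.trace ^ 3 ≠ ε * s.1.trace) (N : ℕ)
    (w : Matrix (Fin 2) (Fin 2) F) (hN : ∀ X, (T ^ N) X = X + w) : T ^ N = 1 := by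
  have hc : T ((T ^ N) 0) = (T ^ N) (T 0) := by
    have h1 : T * T ^ N = T ^ N * T := (pow_mul_comm' T N).symm
    have h2 := congrArg (fun f : Equiv.Perm (Matrix (Fin 2) (Fin 2) F) => f 0) h1
    simpa [Equiv.Perm.mul_apply] using h2
  rw [hN, hN, hT, hT, lin_zero, zero_add, zero_add] at hc
  have hw : lin ε s w = w := by
    rw [add_comm] at hc
    exact add_left_cancel hc
  have hw0 := fpf ε hε s hne w hw
  apply Equiv.ext
  intro X
  rw [hN, hw0, add_zero]; rfl

theorem pm_pow_even (ε : F) (hε : ε * ε = 1) (n : ℕ) (hn : Even n) : ε ^ n = 1 := by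
  obtain ⟨j, rfl⟩ := hn
  rw [← two_mul, pow_mul, pow_two, hε, one_pow]

theorem sq_smul (c : F) : (c • (1 : Matrix (Fin 2) (Fin 2) F)) ^ 2 = (c * c) • 1 := by
  simp [pow_two, smul_smul]

theorem sq_of_tr (s : Matrix.SpecialLinearGroup (Fin 2) F) (ht : s.1.trace = 0) :
    (s ^ 2).1 = (-1 : F) • (1 : Matrix (Fin 2) (Fin 2) F) := by
  have hA := ch2 s.1
  rw [show s.1.det = 1 from s.2, ht, zero_smul, one_smul, zero_sub] at hA
  rw [Matrix.SpecialLinearGroup.coe_pow, pow_two, hA]; simp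

theorem cube_of_tr (s : Matrix.SpecialLinearGroup (Fin 2) F) (ht : s.1.trace = -1) :
    (s ^ 3).1 = (1 : F) • (1 : Matrix (Fin 2) (Fin 2) F) := by
  have hA := ch2 s.1
  rw [show s.1.det = 1 from s.2, ht, one_smul, neg_one_smul] at hA
  rw [Matrix.SpecialLinearGroup.coe_pow, pow_succ, pow_two, hA, Matrix.sub_mul, Matrix.neg_mul,
    hA, Matrix.one_mul, one_smul]
  abel

theorem cube_of_tr' (s : Matrix.SpecialLinearGroup (Fin 2) F) (ht : s.1.trace = 1) :
    (s ^ 3).1 = (-1 : F) • (1 : Matrix (Fin 2) (Fin 2) F) := by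
  have hA := ch2 s.1
  rw [show s.1.det = 1 from s.2, ht, one_smul, one_smul] at hA
  rw [Matrix.SpecialLinearGroup.coe_pow, pow_succ, pow_two, hA, Matrix.sub_mul,
    hA, Matrix.one_mul, neg_one_smul]
  abel

theorem neg_one_ne : (-1 : F) ≠ 1 := by
  intro h
  have h3 := three_zero (F := F)
  have : (1 : F) = 0 := by linear_combination h3 + h
  exact one_ne_zero this

theorem scalar_of_lin (δ : F) (hδ : δ = 1 ∨ δ = -1) (s : Matrix.SpecialLinearGroup (Fin 2) F)
    (h : ∀ X, lin δ s X = X) :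
    δ = 1 ∧ ∃ c : F, c * c = 1 ∧ s.1 = c • (1 : Matrix (Fin 2) (Fin 2) F) := by
  have hδ0 : δ ≠ 0 := by rcases hδ with rfl | rfl <;> simp
  set A := s.1 with hAdef
  set B := (sig s).1 with hBdef
  set R := ((sig s)⁻¹).1 with hRdef
  have hRB : R * B = 1 := by
    have : ((sig s)⁻¹ * sig s).1 = 1 := by rw [inv_mul_cancel]; rfl
    rwa [Matrix.SpecialLinearGroup.coe_mul] at this
  have hBR : B * R = 1 := by
    have : (sig s * (sig s)⁻¹).1 = 1 := by rw [mul_inv_cancel]; rfl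
    rwa [Matrix.SpecialLinearGroup.coe_mul] at this
  have hAB : δ • A = B := by
    have h1 := h B
    simp only [lin] at h1
    rw [← hRdef, ← hAdef, Matrix.mul_assoc, hBR, Matrix.mul_one] at h1
    exact h1
  have hcomm : ∀ X : Matrix (Fin 2) (Fin 2) F, A * X = X * A := by
    intro X
    have h1 := congrArg (· * B) (h X)
    simp only [lin] at h1
    rw [← hRdef, ← hAdef, Matrix.smul_mul, Matrix.mul_assoc, hRB, Matrix.mul_one, ← hAB,
      Matrix.mul_smul] at h1
    exact smul_right_injective _ hδ0 h1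
  have e1 := hcomm !![0, 1; 0, 0]
  have e2 := hcomm !![0, 0; 1, 0]
  have h10 : A 1 0 = 0 := by
    have := congrFun (congrFun e1 0) 0
    simp [Matrix.mul_apply, Fin.sum_univ_two] at this
    exact this.symm
  have h00 : A 0 0 = A 1 1 := by
    have := congrFun (congrFun e1 0) 1
    simpa [Matrix.mul_apply, Fin.sum_univ_two] using this
  have h01 : A 0 1 = 0 := by
    have := congrFun (congrFun e2 0) 0
    simpa [Matrix.mul_apply, Fin.sum_univ_two] using this
  have hdet : A 0 0 * A 1 1 - A 0 1 * A 1 0 = 1 := by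
    have := s.2
    rwa [Matrix.det_fin_two] at this
  have hcc : A 0 0 * A 0 0 = 1 := by
    rw [h01, ← h00] at hdet
    linear_combination hdet
  have hAs : A = A 0 0 • (1 : Matrix (Fin 2) (Fin 2) F) := by
    ext i j; fin_cases i <;> fin_cases j <;> simp [h01, h10, ← h00]
  refine ⟨?_, A 0 0, hcc, hAs⟩
  have h3 := congrFun (congrFun hAB 0) 0
  rw [hBdef, sig_coe, Matrix.smul_apply, smul_eq_mul, ← hAdef] at h3
  have hc0 : A 0 0 ≠ 0 := by
    intro h0; rw [h0] at hcc; simp at hcc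
  have h4 : (δ - 1) * A 0 0 = 0 := by linear_combination h3 + A 0 0 * hcc
  rcases mul_eq_zero.mp h4 with h5 | h5
  · linear_combination h5
  · exact absurd h5 hc0

end grp

section fin
variable {F : Type*} [Field F] [Fintype F] [CharP F 3]

theorem not_sq (hq : Fintype.card F % 8 = 3) (t : F) : t * t ≠ -1 := by
  intro h
  have h1 : IsSquare (-1 : F) := ⟨t, h.symm⟩
  rw [FiniteField.isSquare_neg_one_iff] at h1
  omega

theorem order_dvd (hq : Fintype.card F % 8 = 3) (T : Equiv.Perm (Matrix (Fin 2) (Fin 2) F))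
    (hT : T ∈ Hs F) :
    orderOf T ∣ 6 ∨ orderOf T ∣ 9 ∨ orderOf T ∣ Fintype.card F - 1 ∨
      orderOf T ∣ (Fintype.card F + 1) / 2 := by
  obtain ⟨ε, s, v, hε, hT⟩ := hT
  have hε2 : ε * ε = 1 := by rcases hε with rfl | rfl <;> simp
  by_cases hf : s.1.trace ^ 3 = ε * s.1.trace
  · by_cases ht : s.1.trace = 0
    · -- `s² = -1`
      obtain ⟨w, hw⟩ := pow_trans T ε s v hT 2 (by rw [pow_two, hε2]) (-1) (by ring) (sq_of_tr s ht)
      have h6 : T ^ 6 = 1 := by
        rw [show 6 = 2 * 3 from rfl, pow_mul]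
        exact trans_cube _ w hw
      exact Or.inl (orderOf_dvd_of_pow_eq_one h6)
    · have htt : s.1.trace * s.1.trace = ε := by
        have h1 : s.1.trace * (s.1.trace * s.1.trace) = s.1.trace * ε := by
          linear_combination hf
        exact mul_left_cancel₀ ht h1
      have hε1 : ε = 1 := by
        rcases hε with rfl | rfl
        · rfl
        · exact absurd htt (not_sq hq _)
      subst hε1
      have ht2 : s.1.trace = 1 ∨ s.1.trace = -1 := by
        have h1 : (s.1.trace - 1) * (s.1.trace + 1) = 0 := by linear_combination htt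
        rcases mul_eq_zero.mp h1 with h2 | h2
        · left; linear_combination h2
        · right; linear_combination h2
      have h3 : ∃ c : F, c * c = 1 ∧ (s ^ 3).1 = c • (1 : Matrix (Fin 2) (Fin 2) F) := by
        rcases ht2 with h | h
        · exact ⟨-1, by ring, cube_of_tr' s h⟩
        · exact ⟨1, by ring, cube_of_tr s h⟩
      obtain ⟨c, hc, hs3⟩ := h3
      obtain ⟨w, hw⟩ := pow_trans T 1 s v hT 3 (one_pow 3) c hc hs3
      have h9 : T ^ 9 = 1 := by
        rw [show 9 = 3 * 3 from rfl, pow_mul]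
        exact trans_cube _ w hw
      exact Or.inr (Or.inl (orderOf_dvd_of_pow_eq_one h9))
  · obtain ⟨k, ε', hε', hk, hdvd⟩ := PS.exists_dvd (s.1.trace)
    have hsk : s.1 ^ k = ε' • (1 : Matrix (Fin 2) (Fin 2) F) := PS.pow_eq_smul_of_dvd s.1 s.2 k ε' hdvd
    have hchar : ringChar F = 3 := ringChar.eq F 3
    have hgcd : Nat.gcd 2 (Fintype.card F - 1) = 2 := PS.gcd_of_odd (by omega)
    rw [hchar, hgcd] at hk
    rcases hk with rfl | rfl | rfl
    · -- `N = 6`
      have hs6 : (s ^ 6).1 = (1 : F) • (1 : Matrix (Fin 2) (Fin 2) F) := by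
        rw [Matrix.SpecialLinearGroup.coe_pow, show 6 = 3 * 2 from rfl, pow_mul, hsk, sq_smul, hε']
      obtain ⟨w, hw⟩ := pow_trans T ε s v hT 6 (pm_pow_even ε hε2 6 (by decide)) 1 (by ring) hs6
      exact Or.inl (orderOf_dvd_of_pow_eq_one (fpf_pow T ε hε2 s v hT hf 6 w hw))
    · -- `N = q - 1`
      have hN : Fintype.card F - 1 = (Fintype.card F - 1) / 2 * 2 := by omega
      have hsN : (s ^ (Fintype.card F - 1)).1 = (1 : F) • (1 : Matrix (Fin 2) (Fin 2) F) := by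
        rw [Matrix.SpecialLinearGroup.coe_pow, hN, pow_mul, hsk, sq_smul, hε']
      obtain ⟨w, hw⟩ := pow_trans T ε s v hT (Fintype.card F - 1)
        (pm_pow_even ε hε2 _ ⟨(Fintype.card F - 1) / 2, by omega⟩) 1 (by ring) hsN
      exact Or.inr (Or.inr (Or.inl (orderOf_dvd_of_pow_eq_one (fpf_pow T ε hε2 s v hT hf _ w hw))))
    · -- `N = (q + 1) / 2`
      have hsN : (s ^ ((Fintype.card F + 1) / 2)).1 = ε' • (1 : Matrix (Fin 2) (Fin 2) F) := by
        rw [Matrix.SpecialLinearGroup.coe_pow, hsk]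
      obtain ⟨w, hw⟩ := pow_trans T ε s v hT ((Fintype.card F + 1) / 2)
        (pm_pow_even ε hε2 _ ⟨(Fintype.card F + 1) / 4, by omega⟩) ε' hε' hsN
      exact Or.inr (Or.inr (Or.inr (orderOf_dvd_of_pow_eq_one (fpf_pow T ε hε2 s v hT hf _ w hw))))

theorem exists_u : ∃ u : Matrix.SpecialLinearGroup (Fin 2) F, u.1 = !![1, 1; 0, 1] :=
  ⟨⟨!![1, 1; 0, 1], by simp [Matrix.det_fin_two]⟩, rfl⟩

theorem u_cube (u : Matrix.SpecialLinearGroup (Fin 2) F) (hu : u.1 = !![1, 1; 0, 1]) :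
    (u ^ 3).1 = (1 : F) • (1 : Matrix (Fin 2) (Fin 2) F) := by
  apply cube_of_tr
  rw [hu, Matrix.trace_fin_two]
  simp only [Matrix.of_apply, Matrix.cons_val', Matrix.cons_val_zero, Matrix.cons_val_one,
    Matrix.cons_val_fin_one]
  linear_combination three_zero (F := F)

theorem exists_six : ∃ T : Equiv.Perm (Matrix (Fin 2) (Fin 2) F), T ∈ Hs F ∧ orderOf T = 6 := by
  obtain ⟨u, hu⟩ := exists_u (F := F)
  obtain ⟨T, hTm, hT⟩ := exists_mk (-1 : F) (Or.inr rfl) u 0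
  have hT' : ∀ X, T X = lin (-1) u X := fun X => by rw [hT, add_zero]
  refine ⟨T, hTm, ?_⟩
  have hu3 := u_cube u hu
  have h6 : T ^ 6 = 1 := by
    apply Equiv.ext
    intro X
    rw [pow_lin T _ u hT' 6 X, pm_pow_even (-1 : F) (by ring) 6 (by decide)]
    refine lin_pm _ 1 (by ring) ?_ X
    rw [Matrix.SpecialLinearGroup.coe_pow, show 6 = 3 * 2 from rfl, pow_mul,
      ← Matrix.SpecialLinearGroup.coe_pow, hu3, sq_smul, mul_one]
  have h3 : T ^ 3 ≠ 1 := by
    intro h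
    have h1 : ∀ X, lin ((-1 : F) ^ 3) (u ^ 3) X = X := by
      intro X
      rw [← pow_lin T _ u hT' 3 X, h]; rfl
    have h2 := (scalar_of_lin _ (Or.inr (by ring)) _ h1).1
    exact neg_one_ne (F := F) (by linear_combination h2)
  have h2 : T ^ 2 ≠ 1 := by
    intro h
    have h1 : ∀ X, lin ((-1 : F) ^ 2) (u ^ 2) X = X := by
      intro X
      rw [← pow_lin T _ u hT' 2 X, h]; rfl
    obtain ⟨-, c, -, hc⟩ := scalar_of_lin _ (Or.inl (by ring)) _ h1
    have h4 := congrFun (congrFun hc 0) 1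
    rw [Matrix.SpecialLinearGroup.coe_pow, pow_two, hu] at h4
    simp [Matrix.mul_apply, Fin.sum_univ_two] at h4
    have h3' := three_zero (F := F)
    have : (1 : F) = 0 := by linear_combination h3' - h4
    exact one_ne_zero this
  have hd : orderOf T ∣ 6 := orderOf_dvd_of_pow_eq_one h6
  have hle : orderOf T ≤ 6 := Nat.le_of_dvd (by norm_num) hd
  have hpos : 0 < orderOf T := Nat.pos_of_dvd_of_pos hd (by norm_num)
  have e2 : ¬ orderOf T ∣ 2 := fun h => h2 (orderOf_dvd_iff_pow_eq_one.mp h)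
  have e3 : ¬ orderOf T ∣ 3 := fun h => h3 (orderOf_dvd_iff_pow_eq_one.mp h)
  interval_cases h : orderOf T <;> simp_all

theorem exists_nine : ∃ T : Equiv.Perm (Matrix (Fin 2) (Fin 2) F), T ∈ Hs F ∧ orderOf T = 9 := by
  obtain ⟨u, hu⟩ := exists_u (F := F)
  obtain ⟨T, hTm, hT⟩ := exists_mk (1 : F) (Or.inl rfl) u !![0, 0; 1, 0]
  refine ⟨T, hTm, ?_⟩
  have hu3 := u_cube u hu
  obtain ⟨w, hw⟩ := pow_trans T 1 u _ hT 3 (one_pow 3) 1 (by ring) hu3
  have h9 : T ^ 3 ^ (1 + 1) = 1 := by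
    rw [show 3 ^ (1 + 1) = 3 * 3 from rfl, pow_mul]
    exact trans_cube _ w hw
  have hL : ∀ X, lin 1 u X = !![1, 1; 0, 1] * X * !![1, -1; 0, 1] := by
    intro X
    rw [lin, r_eq, hu]
    simp
  have h3 : ¬ T ^ 3 ^ 1 = 1 := by
    intro h
    have e : (T ^ 3) 0 = T (T (T 0)) := by rw [pow_succ, pow_succ, pow_one]; rfl
    rw [pow_one] at h
    rw [h, hT, hT, hT, hL, hL, hL] at e
    have h4 := congrFun (congrFun e 0) 1
    simp at h4
    have h3' := three_zero (F := F)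
    have : (1 : F) = 0 := by linear_combination (-1 : F) * h4 + 2 * h3'
    exact one_ne_zero this
  have := orderOf_eq_prime_pow h3 h9
  rw [this]; norm_num

theorem exists_b (hq : Fintype.card F % 8 = 3) :
    ∃ T : Equiv.Perm (Matrix (Fin 2) (Fin 2) F), T ∈ Hs F ∧
      (Fintype.card F + 1) / 2 ∣ orderOf T := by
  obtain ⟨g, hg⟩ := Cfsg.Agent.S2430.exists_nonsplit_gen (F := F)
  obtain ⟨T, hTm, hT⟩ := exists_mk (1 : F) (Or.inl rfl) g 0
  have hT' : ∀ X, T X = lin 1 g X := fun X => by rw [hT, add_zero]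
  refine ⟨T, hTm, ?_⟩
  have h1 : ∀ X, lin ((1 : F) ^ orderOf T) (g ^ orderOf T) X = X := by
    intro X
    rw [← pow_lin T _ g hT' _ X, pow_orderOf_eq_one]; rfl
  obtain ⟨-, c, hc, hgc⟩ := scalar_of_lin _ (Or.inl (one_pow _)) _ h1
  have h2 : g ^ (orderOf T * 2) = 1 := by
    apply Subtype.ext
    rw [Matrix.SpecialLinearGroup.coe_pow, pow_mul, ← Matrix.SpecialLinearGroup.coe_pow, hgc,
      sq_smul, hc, one_smul]; rfl
  have h3 := orderOf_dvd_of_pow_eq_one h2
  rw [hg] at h3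
  have h4 : Fintype.card F + 1 = (Fintype.card F + 1) / 2 * 2 := by omega
  rw [h4] at h3
  exact Nat.dvd_of_mul_dvd_mul_right (by norm_num) h3

theorem exists_a (hq : Fintype.card F % 8 = 3) :
    ∃ T : Equiv.Perm (Matrix (Fin 2) (Fin 2) F), T ∈ Hs F ∧
      Fintype.card F - 1 ∣ orderOf T := by
  obtain ⟨g, hg⟩ := Cfsg.Agent.S2430.exists_split_gen (F := F)
  obtain ⟨T, hTm, hT⟩ := exists_mk (-1 : F) (Or.inr rfl) g 0
  have hT' : ∀ X, T X = lin (-1) g X := fun X => by rw [hT, add_zero]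
  refine ⟨T, hTm, ?_⟩
  have h1 : ∀ X, lin ((-1 : F) ^ orderOf T) (g ^ orderOf T) X = X := by
    intro X
    rw [← pow_lin T _ g hT' _ X, pow_orderOf_eq_one]; rfl
  obtain ⟨he, c, hc, hgc⟩ := scalar_of_lin _ (neg_one_pow_eq_or F _) _ h1
  have hev : Even (orderOf T) := (neg_one_pow_eq_one_iff_even (neg_one_ne (F := F))).mp he
  have h2 : g ^ (orderOf T * 2) = 1 := by
    apply Subtype.ext
    rw [Matrix.SpecialLinearGroup.coe_pow, pow_mul, ← Matrix.SpecialLinearGroup.coe_pow, hgc,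
      sq_smul, hc, one_smul]; rfl
  have h3 := orderOf_dvd_of_pow_eq_one h2
  rw [hg] at h3
  have h4 : Fintype.card F - 1 = (Fintype.card F - 1) / 2 * 2 := by omega
  have h5 : (Fintype.card F - 1) / 2 ∣ orderOf T := by
    rw [h4] at h3
    exact Nat.dvd_of_mul_dvd_mul_right (by norm_num) h3
  have h6 : Nat.Coprime ((Fintype.card F - 1) / 2) 2 := by
    rw [Nat.coprime_two_right, Nat.odd_iff]; omega
  rw [h4]
  exact h6.mul_dvd_of_dvd_of_dvd h5 hev.two_dvd

end fin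

theorem maxset (S : Set ℕ) (a b c d : ℕ) (hS : ∀ m ∈ S, m ∣ a ∨ m ∣ b ∨ m ∣ c ∨ m ∣ d)
    (ha : a ∈ S) (hb : b ∈ S) (hc : c ∈ S) (hd : d ∈ S)
    (hab : ¬ a ∣ b) (hac : ¬ a ∣ c) (had : ¬ a ∣ d) (hba : ¬ b ∣ a) (hbc : ¬ b ∣ c)
    (hbd : ¬ b ∣ d) (hca : ¬ c ∣ a) (hcb : ¬ c ∣ b) (hcd : ¬ c ∣ d) (hda : ¬ d ∣ a)
    (hdb : ¬ d ∣ b) (hdc : ¬ d ∣ c) :
    {n : ℕ | n ∈ S ∧ ∀ m ∈ S, n ∣ m → m = n} = ({a, b, c, d} : Set ℕ) := by
  ext n
  simp only [Set.mem_ofPred_eq, Set.mem_insert_iff, Set.mem_singleton_iff]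
  constructor
  · rintro ⟨hn, hmax⟩
    rcases hS n hn with h | h | h | h
    · exact Or.inl (hmax a ha h).symm
    · exact Or.inr (Or.inl (hmax b hb h).symm)
    · exact Or.inr (Or.inr (Or.inl (hmax c hc h).symm))
    · exact Or.inr (Or.inr (Or.inr (hmax d hd h).symm))
  · rintro (rfl | rfl | rfl | rfl)
    · refine ⟨ha, fun m hm hnm => ?_⟩
      rcases hS m hm with h | h | h | h
      · exact Nat.dvd_antisymm h hnm
      · exact absurd (hnm.trans h) hab
      · exact absurd (hnm.trans h) hac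
      · exact absurd (hnm.trans h) had
    · refine ⟨hb, fun m hm hnm => ?_⟩
      rcases hS m hm with h | h | h | h
      · exact absurd (hnm.trans h) hba
      · exact Nat.dvd_antisymm h hnm
      · exact absurd (hnm.trans h) hbc
      · exact absurd (hnm.trans h) hbd
    · refine ⟨hc, fun m hm hnm => ?_⟩
      rcases hS m hm with h | h | h | h
      · exact absurd (hnm.trans h) hca
      · exact absurd (hnm.trans h) hcb
      · exact Nat.dvd_antisymm h hnm
      · exact absurd (hnm.trans h) hcd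
    · refine ⟨hd, fun m hm hnm => ?_⟩
      rcases hS m hm with h | h | h | h
      · exact absurd (hnm.trans h) hda
      · exact absurd (hnm.trans h) hdb
      · exact absurd (hnm.trans h) hdc
      · exact Nat.dvd_antisymm h hnm

section fin2
variable {F : Type*} [Field F] [Fintype F] [CharP F 3]

/-- the translation subgroup -/
noncomputable def Ps (F : Type*) [Field F] [CharP F 3] : Subgroup ↥(Hs F) where
  carrier := {T | ∃ v : Matrix (Fin 2) (Fin 2) F, ∀ X, (T : Equiv.Perm (Matrix (Fin 2) (Fin 2) F)) X = X + v}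
  mul_mem' := by
    rintro T T' ⟨v, hv⟩ ⟨v', hv'⟩
    refine ⟨v' + v, fun X => ?_⟩
    rw [Subgroup.coe_mul, Equiv.Perm.mul_apply, hv', hv, add_assoc]
  one_mem' := ⟨0, fun X => by simp⟩
  inv_mem' := by
    rintro T ⟨v, hv⟩
    refine ⟨-v, fun X => ?_⟩
    rw [Subgroup.coe_inv, Equiv.Perm.inv_eq_iff_eq, hv, neg_add_cancel_right]

theorem Ps_normal : (Ps F).Normal := by
  constructor
  rintro n ⟨v, hv⟩ g
  obtain ⟨ε, s, u, hε, hg⟩ := g.2
  refine ⟨lin ε s v, fun X => ?_⟩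
  rw [Subgroup.coe_mul, Subgroup.coe_mul, Subgroup.coe_inv, Equiv.Perm.mul_apply,
    Equiv.Perm.mul_apply, hv, hg, lin_add, add_right_comm, ← hg]
  congr 1
  exact Equiv.apply_symm_apply _ X

theorem Ps_ne_bot : Ps F ≠ ⊥ := by
  obtain ⟨T, hTm, hT⟩ := exists_mk (1 : F) (Or.inl rfl) 1 (1 : Matrix (Fin 2) (Fin 2) F)
  intro h
  have h1 : (⟨T, hTm⟩ : ↥(Hs F)) ∈ Ps F := ⟨1, fun X => by
    show T X = X + 1
    rw [hT, lin_one]⟩
  rw [h, Subgroup.mem_bot] at h1
  have h2 : T = 1 := congrArg Subtype.val h1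
  have h3 := hT 0
  rw [h2, lin_one, zero_add] at h3
  have h4 := congrFun (congrFun h3 0) 0
  simp at h4

theorem Ps_pgroup : IsPGroup 3 ↥(Ps F) := by
  rintro ⟨⟨T, hT⟩, v, hv⟩
  refine ⟨1, ?_⟩
  apply Subtype.ext
  apply Subtype.ext
  rw [pow_one]
  show T ^ 3 = 1
  exact trans_cube T v hv

theorem main (hq : Fintype.card F % 8 = 3) (hq27 : 27 ≤ Fintype.card F)
    (hq3 : Fintype.card F % 3 = 0) :
    (∃ P : Subgroup ↥(Hs F), P.Normal ∧ P ≠ ⊥ ∧ IsPGroup 3 ↥P) ∧
    {n : ℕ | n ∈ Set.range (orderOf : ↥(Hs F) → ℕ) ∧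
        ∀ m ∈ Set.range (orderOf : ↥(Hs F) → ℕ), n ∣ m → m = n}
      = ({6, 9, Fintype.card F - 1, (Fintype.card F + 1) / 2} : Set ℕ) := by
  refine ⟨⟨Ps F, Ps_normal, Ps_ne_bot, Ps_pgroup⟩, ?_⟩
  have hS : ∀ m ∈ Set.range (orderOf : ↥(Hs F) → ℕ),
      m ∣ 6 ∨ m ∣ 9 ∨ m ∣ Fintype.card F - 1 ∨ m ∣ (Fintype.card F + 1) / 2 := by
    rintro m ⟨T, rfl⟩
    rw [← Subgroup.orderOf_coe]
    exact order_dvd hq T.1 T.2
  have hdc : ¬ (Fintype.card F + 1) / 2 ∣ Fintype.card F - 1 := by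
    intro h
    have h1 : (Fintype.card F + 1) / 2 ∣ 2 * ((Fintype.card F + 1) / 2) := dvd_mul_left _ _
    have h2 := Nat.dvd_sub h1 h
    have h3 : 2 * ((Fintype.card F + 1) / 2) - (Fintype.card F - 1) = 2 := by omega
    rw [h3] at h2
    have := Nat.le_of_dvd (by norm_num) h2
    omega
  have hcd : ¬ Fintype.card F - 1 ∣ (Fintype.card F + 1) / 2 := by
    intro h
    have := Nat.le_of_dvd (by omega) h
    omega
  apply maxset _ _ _ _ _ hS
  · obtain ⟨T, hTm, hT⟩ := exists_six (F := F)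
    exact ⟨⟨T, hTm⟩, by rw [← Subgroup.orderOf_coe]; exact hT⟩
  · obtain ⟨T, hTm, hT⟩ := exists_nine (F := F)
    exact ⟨⟨T, hTm⟩, by rw [← Subgroup.orderOf_coe]; exact hT⟩
  · obtain ⟨T, hTm, hT⟩ := exists_a (F := F) hq
    refine ⟨⟨T, hTm⟩, ?_⟩
    rw [← Subgroup.orderOf_coe]
    show orderOf T = _
    rcases order_dvd hq T hTm with h | h | h | h
    · have := Nat.le_of_dvd (by norm_num) (hT.trans h); omega
    · have := Nat.le_of_dvd (by norm_num) (hT.trans h); omega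
    · exact Nat.dvd_antisymm h hT
    · exact absurd (hT.trans h) hcd
  · obtain ⟨T, hTm, hT⟩ := exists_b (F := F) hq
    refine ⟨⟨T, hTm⟩, ?_⟩
    rw [← Subgroup.orderOf_coe]
    show orderOf T = _
    rcases order_dvd hq T hTm with h | h | h | h
    · have := Nat.le_of_dvd (by norm_num) (hT.trans h); omega
    · have := Nat.le_of_dvd (by norm_num) (hT.trans h); omega
    · exact absurd (hT.trans h) hdc
    · exact Nat.dvd_antisymm h hT
  · decide
  · omega
  · omega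
  · decide
  · omega
  · omega
  · intro h; have := Nat.le_of_dvd (by norm_num) h; omega
  · intro h; have := Nat.le_of_dvd (by norm_num) h; omega
  · exact hcd
  · intro h; have := Nat.le_of_dvd (by norm_num) h; omega
  · intro h; have := Nat.le_of_dvd (by norm_num) h; omega
  · exact hdc

end fin2

end Cfsg.Agent.Helper15.RE
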