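import Mathlib
import Cfsg.Agent.Helper15.EU

/-!
# Field subalgebras of degree 3 in `M_3(F)` and their normalizers (Singer normalizers)
-/

set_option autoImplicit false
open scoped MatrixGroups Matrix
open Cfsg

namespace Cfsg.Agent.Helper15.SG

open Cfsg.Agent.Helper15.ES Cfsg.Agent.Helper15.EU

section basics
variable {F : Type*} [Field F]

/-- the invertibility property of a field subalgebra -/
def HasInv (K : Subalgebra F (Matrix (Fin 3) (Fin 3) F)) : Prop :=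
  ∀ x ∈ K, x ≠ 0 → ∃ y ∈ K, x * y = 1

theorem inv_mem (K : Subalgebra F (Matrix (Fin 3) (Fin 3) F)) (hK : HasInv K)
    (k : Matrix (Fin 3) (Fin 3) F) (hk : k ∈ K) (hk0 : k ≠ 0) : k.det ≠ 0 ∧ k⁻¹ ∈ K := by
  obtain ⟨y, hy, hxy⟩ := hK k hk hk0
  have h := congrArg Matrix.det hxy
  rw [Matrix.det_mul, Matrix.det_one] at h
  refine ⟨left_ne_zero_of_mul_eq_one h, ?_⟩
  rw [Matrix.inv_eq_right_inv hxy]
  exact hy

theorem ev_inj (K : Subalgebra F (Matrix (Fin 3) (Fin 3) F)) (hK : HasInv K)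
    (v : Fin 3 → F) (hv : v ≠ 0) (k : Matrix (Fin 3) (Fin 3) F) (hk : k ∈ K)
    (h : k *ᵥ v = 0) : k = 0 := by
  by_contra hk0
  obtain ⟨hd, -⟩ := inv_mem K hK k hk hk0
  apply hv
  have hu : IsUnit k.det := isUnit_iff_ne_zero.mpr hd
  calc v = (k⁻¹ * k) *ᵥ v := by rw [Matrix.nonsing_inv_mul k hu, Matrix.one_mulVec]
    _ = 0 := by rw [← Matrix.mulVec_mulVec, h, Matrix.mulVec_zero]

theorem ev_inj' (K : Subalgebra F (Matrix (Fin 3) (Fin 3) F)) (hK : HasInv K)
    (v : Fin 3 → F) (hv : v ≠ 0) (k k' : Matrix (Fin 3) (Fin 3) F) (hk : k ∈ K) (hk' : k' ∈ K)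
    (h : k *ᵥ v = k' *ᵥ v) : k = k' := by
  have h0 := ev_inj K hK v hv (k - k') (K.sub_mem hk hk') (by rw [Matrix.sub_mulVec, h, sub_self])
  exact sub_eq_zero.mp h0

/-- evaluation at a vector, as a linear map on the subalgebra -/
def evLin (K : Subalgebra F (Matrix (Fin 3) (Fin 3) F)) (v : Fin 3 → F) :
    ↥K →ₗ[F] (Fin 3 → F) where
  toFun k := (k : Matrix (Fin 3) (Fin 3) F) *ᵥ v
  map_add' a b := by simp [Matrix.add_mulVec]
  map_smul' c a := by simp [Matrix.smul_mulVec]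

theorem ev_surj (K : Subalgebra F (Matrix (Fin 3) (Fin 3) F)) (hK : HasInv K)
    (hfin : Module.finrank F K = 3) (v : Fin 3 → F) (hv : v ≠ 0) (u : Fin 3 → F) :
    ∃ k ∈ K, k *ᵥ v = u := by
  have hinj : Function.Injective (evLin K v) := by
    rw [← LinearMap.ker_eq_bot, LinearMap.ker_eq_bot']
    intro k hk
    exact Subtype.ext (ev_inj K hK v hv k.1 k.2 hk)
  haveI : FiniteDimensional F ↥K := Module.finite_of_finrank_pos (by rw [hfin]; norm_num)
  have hsurj := (LinearMap.injective_iff_surjective_of_finrank_eq_finrank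
    (by rw [hfin, Module.finrank_fin_fun])).mp hinj
  obtain ⟨k, hk⟩ := hsurj u
  exact ⟨k.1, k.2, hk⟩

/-- the unit group of a field subalgebra, inside `GL` -/
def unitsK (K : Subalgebra F (Matrix (Fin 3) (Fin 3) F)) (hK : HasInv K) :
    Subgroup (GL (Fin 3) F) where
  carrier := {g | (g : Matrix (Fin 3) (Fin 3) F) ∈ K}
  mul_mem' {a b} ha hb := by
    show ((a * b : GL (Fin 3) F) : Matrix (Fin 3) (Fin 3) F) ∈ K
    rw [Units.val_mul]
    exact K.mul_mem ha hb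
  one_mem' := by
    show ((1 : GL (Fin 3) F) : Matrix (Fin 3) (Fin 3) F) ∈ K
    rw [Units.val_one]
    exact K.one_mem
  inv_mem' {a} ha := by
    show ((a⁻¹ : GL (Fin 3) F) : Matrix (Fin 3) (Fin 3) F) ∈ K
    have h0 : (a : Matrix (Fin 3) (Fin 3) F) ≠ 0 := a.ne_zero
    rw [Matrix.coe_units_inv]
    exact (inv_mem K hK _ ha h0).2

theorem mem_unitsK (K : Subalgebra F (Matrix (Fin 3) (Fin 3) F)) (hK : HasInv K)
    (g : GL (Fin 3) F) : g ∈ unitsK K hK ↔ (g : Matrix (Fin 3) (Fin 3) F) ∈ K := Iff.rfl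

theorem card_unitsK [Fintype F] (K : Subalgebra F (Matrix (Fin 3) (Fin 3) F)) (hK : HasInv K) :
    Nat.card (unitsK K hK) = Nat.card K - 1 := by
  classical
  have e : unitsK K hK ≃ {k : ↥K // k ≠ 0} :=
    { toFun := fun g => ⟨⟨(g.1 : Matrix (Fin 3) (Fin 3) F), g.2⟩, fun h => by
        have h1 := congrArg Subtype.val h
        exact g.1.ne_zero h1⟩
      invFun := fun k => ⟨Matrix.GeneralLinearGroup.mkOfDetNeZero k.1.1
        (inv_mem K hK k.1.1 k.1.2 (fun h => k.2 (Subtype.ext h))).1, k.1.2⟩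
      left_inv := fun g => Subtype.ext (Units.ext rfl)
      right_inv := fun k => rfl }
  rw [Nat.card_congr e]
  haveI : Fintype ↥K := Fintype.ofFinite _
  rw [Nat.card_eq_fintype_card, Nat.card_eq_fintype_card, Fintype.card_subtype_compl,
    Fintype.card_subtype_eq]

end basics

section frob
variable {F : Type*} [Field F] [Fintype F]

theorem mat_ext (A B : Matrix (Fin 3) (Fin 3) F) (h : ∀ u, A *ᵥ u = B *ᵥ u) : A = B := by
  ext i j
  have h1 := congrFun (h (Pi.single j 1)) i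
  rw [Matrix.mulVec_single_one, Matrix.mulVec_single_one] at h1
  exact h1

theorem card_units3 (K : Subalgebra F (Matrix (Fin 3) (Fin 3) F)) (hK : HasInv K)
    (hfin : Module.finrank F K = 3) :
    Nat.card (unitsK K hK) = Fintype.card F ^ 3 - 1 := by
  haveI : FiniteDimensional F ↥K := Module.finite_of_finrank_pos (by rw [hfin]; norm_num)
  rw [card_unitsK, Module.natCard_eq_pow_finrank (K := F) (V := ↥K), hfin,
    Nat.card_eq_fintype_card]

theorem pow_q3 (K : Subalgebra F (Matrix (Fin 3) (Fin 3) F)) (hK : HasInv K)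
    (hfin : Module.finrank F K = 3) (k : Matrix (Fin 3) (Fin 3) F) (hk : k ∈ K) :
    k ^ (Fintype.card F ^ 3) = k := by
  have hpos : 1 ≤ Fintype.card F ^ 3 := Nat.one_le_pow _ _ Fintype.card_pos
  by_cases hk0 : k = 0
  · rw [hk0, zero_pow (by omega)]
  · obtain ⟨hd, -⟩ := inv_mem K hK k hk hk0
    have hcard := card_units3 K hK hfin
    have h1 : (⟨Matrix.GeneralLinearGroup.mkOfDetNeZero k hd, hk⟩ : unitsK K hK) ^
        (Fintype.card F ^ 3 - 1) = 1 := by
      rw [← hcard]; exact pow_card_eq_one'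
    have h2 := congrArg (fun g : unitsK K hK =>
      ((g : GL (Fin 3) F) : Matrix (Fin 3) (Fin 3) F)) h1
    simp only [Subgroup.coe_pow, Units.val_pow_eq_pow_val, Subgroup.coe_one, Units.val_one] at h2
    have h3 : k ^ (Fintype.card F ^ 3 - 1) = 1 := h2
    calc k ^ (Fintype.card F ^ 3) = k ^ (Fintype.card F ^ 3 - 1 + 1) := by
          rw [Nat.sub_add_cancel hpos]
      _ = k := by rw [pow_succ, h3, one_mul]

theorem frob_add (p : ℕ) [Fact p.Prime] [CharP F p] (K : Subalgebra F (Matrix (Fin 3) (Fin 3) F))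
    (hcomm : ∀ x ∈ K, ∀ y ∈ K, x * y = y * x) (a b : Matrix (Fin 3) (Fin 3) F)
    (ha : a ∈ K) (hb : b ∈ K) :
    (a + b) ^ Fintype.card F = a ^ Fintype.card F + b ^ Fintype.card F := by
  obtain ⟨n, -, hn⟩ := FiniteField.card F p
  rw [hn]
  exact add_pow_char_pow_of_commute p n (hcomm a ha b hb)

/-- the Frobenius map `k ↦ k^q` on a commutative subalgebra, as a linear map -/
def frobLin (p : ℕ) [Fact p.Prime] [CharP F p] (K : Subalgebra F (Matrix (Fin 3) (Fin 3) F))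
    (hcomm : ∀ x ∈ K, ∀ y ∈ K, x * y = y * x) : ↥K →ₗ[F] Matrix (Fin 3) (Fin 3) F where
  toFun k := (k : Matrix (Fin 3) (Fin 3) F) ^ Fintype.card F
  map_add' a b := frob_add p K hcomm a.1 b.1 a.2 b.2
  map_smul' c a := by
    simp only [Subalgebra.coe_smul, RingHom.id_apply]
    rw [smul_pow, FiniteField.pow_card]

/-- the matrix of the Frobenius automorphism of `K`, transported to `F^3` along `k ↦ k v` -/
theorem exists_frob (p : ℕ) [Fact p.Prime] [CharP F p] (K : Subalgebra F (Matrix (Fin 3) (Fin 3) F))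
    (hK : Geo.IsFieldSubalgebra 3 K) :
    ∃ Y : Matrix (Fin 3) (Fin 3) F, (∀ k ∈ K, Y * k = k ^ Fintype.card F * Y) ∧ Y * Y * Y = 1 := by
  classical
  have hinv : HasInv K := hK.inv
  obtain ⟨v, hvdef⟩ : ∃ v : Fin 3 → F, v = Pi.single 0 1 := ⟨_, rfl⟩
  have hv : v ≠ 0 := by
    intro h
    have := congrFun h 0
    rw [hvdef] at this
    simp at this
  have hinj : Function.Injective (evLin K v) := by
    rw [← LinearMap.ker_eq_bot, LinearMap.ker_eq_bot']
    intro k hk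
    exact Subtype.ext (ev_inj K hinv v hv k.1 k.2 hk)
  have hsurj : Function.Surjective (evLin K v) := fun u => by
    obtain ⟨k, hk, h⟩ := ev_surj K hinv hK.finrank_eq v hv u
    exact ⟨⟨k, hk⟩, h⟩
  let e : ↥K ≃ₗ[F] (Fin 3 → F) := LinearEquiv.ofBijective (evLin K v) ⟨hinj, hsurj⟩
  let mv : Matrix (Fin 3) (Fin 3) F →ₗ[F] (Fin 3 → F) :=
    { toFun := fun M => M *ᵥ v
      map_add' := fun a b => Matrix.add_mulVec a b v
      map_smul' := fun c a => Matrix.smul_mulVec c a v }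
  let φ : (Fin 3 → F) →ₗ[F] (Fin 3 → F) :=
    mv.comp ((frobLin p K hK.comm).comp e.symm.toLinearMap)
  have hφ : ∀ k (hk : k ∈ K), φ (k *ᵥ v) = (k ^ Fintype.card F) *ᵥ v := by
    intro k hk
    have h1 : e.symm (k *ᵥ v) = ⟨k, hk⟩ := by
      rw [LinearEquiv.symm_apply_eq]
      rfl
    show mv (frobLin p K hK.comm (e.symm (k *ᵥ v))) = _
    rw [h1]
    rfl
  have hY : ∀ k (hk : k ∈ K), LinearMap.toMatrix' φ *ᵥ (k *ᵥ v) = (k ^ Fintype.card F) *ᵥ v :=
    fun k hk => by rw [LinearMap.toMatrix'_mulVec, hφ k hk]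
  refine ⟨LinearMap.toMatrix' φ, ?_, ?_⟩
  · intro k hk
    apply mat_ext
    intro u
    obtain ⟨k', hk', rfl⟩ := ev_surj K hinv hK.finrank_eq v hv u
    calc (LinearMap.toMatrix' φ * k) *ᵥ (k' *ᵥ v)
        = LinearMap.toMatrix' φ *ᵥ ((k * k') *ᵥ v) := by
          rw [← Matrix.mulVec_mulVec (k' *ᵥ v) (LinearMap.toMatrix' φ) k, Matrix.mulVec_mulVec v k k']
      _ = ((k * k') ^ Fintype.card F) *ᵥ v := hY _ (K.mul_mem hk hk')
      _ = (k ^ Fintype.card F * k' ^ Fintype.card F) *ᵥ v := by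
          rw [(show Commute k k' from hK.comm k hk k' hk').mul_pow]
      _ = k ^ Fintype.card F *ᵥ (LinearMap.toMatrix' φ *ᵥ (k' *ᵥ v)) := by
          rw [hY _ hk', Matrix.mulVec_mulVec]
      _ = (k ^ Fintype.card F * LinearMap.toMatrix' φ) *ᵥ (k' *ᵥ v) := by
          rw [Matrix.mulVec_mulVec (k' *ᵥ v) (k ^ Fintype.card F) (LinearMap.toMatrix' φ)]
  · apply mat_ext
    intro u
    obtain ⟨k, hk, rfl⟩ := ev_surj K hinv hK.finrank_eq v hv u
    have e3 : Fintype.card F * (Fintype.card F * Fintype.card F) = Fintype.card F ^ 3 := by ring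
    rw [Matrix.one_mulVec, ← Matrix.mulVec_mulVec (k *ᵥ v) (LinearMap.toMatrix' φ * LinearMap.toMatrix' φ)
        (LinearMap.toMatrix' φ), hY k hk,
      ← Matrix.mulVec_mulVec (k ^ Fintype.card F *ᵥ v) (LinearMap.toMatrix' φ) (LinearMap.toMatrix' φ),
      hY _ (K.pow_mem hk _), hY _ (K.pow_mem (K.pow_mem hk _) _), ← pow_mul, ← pow_mul, e3,
      pow_q3 K hinv hK.finrank_eq k hk]

theorem frob_norm (K : Subalgebra F (Matrix (Fin 3) (Fin 3) F)) (Y : GL (Fin 3) F)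
    (hY2 : ∀ k ∈ K, (Y : Matrix (Fin 3) (Fin 3) F) * k =
      k ^ Fintype.card F * (Y : Matrix (Fin 3) (Fin 3) F))
    (hY3 : (Y : Matrix (Fin 3) (Fin 3) F) * (Y : Matrix (Fin 3) (Fin 3) F) *
      (Y : Matrix (Fin 3) (Fin 3) F) = 1) :
    Y ∈ Cfsg.Geo.subalgebraNormalizer K := by
  intro k
  constructor
  · intro hk
    rw [hY2 k hk, Matrix.mul_assoc, ← Units.val_mul, mul_inv_cancel, Units.val_one, Matrix.mul_one]
    exact K.pow_mem hk _
  · intro hk1
    have hinvY : Y⁻¹ = Y * Y := inv_eq_of_mul_eq_one_right (Units.ext (by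
      rw [Units.val_mul, Units.val_mul, ← Matrix.mul_assoc]; exact hY3))
    have e2 : k = ((Y⁻¹ : GL (Fin 3) F) : Matrix (Fin 3) (Fin 3) F) *
        ((Y : Matrix (Fin 3) (Fin 3) F) * k * ((Y⁻¹ : GL (Fin 3) F) : Matrix (Fin 3) (Fin 3) F)) *
        (Y : Matrix (Fin 3) (Fin 3) F) := by
      have h1 : ((Y⁻¹ : GL (Fin 3) F) : Matrix (Fin 3) (Fin 3) F) * (Y : Matrix (Fin 3) (Fin 3) F)
          = 1 := by rw [← Units.val_mul, inv_mul_cancel, Units.val_one]
      calc k = (((Y⁻¹ : GL (Fin 3) F) : Matrix (Fin 3) (Fin 3) F) *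
            (Y : Matrix (Fin 3) (Fin 3) F)) * k *
            (((Y⁻¹ : GL (Fin 3) F) : Matrix (Fin 3) (Fin 3) F) *
            (Y : Matrix (Fin 3) (Fin 3) F)) := by rw [h1, Matrix.one_mul, Matrix.mul_one]
        _ = _ := by simp only [Matrix.mul_assoc]
    obtain ⟨k₁, hk₁⟩ : ∃ k₁, k₁ = (Y : Matrix (Fin 3) (Fin 3) F) * k *
        ((Y⁻¹ : GL (Fin 3) F) : Matrix (Fin 3) (Fin 3) F) := ⟨_, rfl⟩
    rw [← hk₁] at hk1 e2
    have e3 : k = (k₁ ^ Fintype.card F) ^ Fintype.card F := by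
      rw [e2, hinvY, Units.val_mul]
      calc (Y : Matrix (Fin 3) (Fin 3) F) * (Y : Matrix (Fin 3) (Fin 3) F) * k₁ *
            (Y : Matrix (Fin 3) (Fin 3) F)
          = (Y : Matrix (Fin 3) (Fin 3) F) * ((Y : Matrix (Fin 3) (Fin 3) F) * k₁) *
            (Y : Matrix (Fin 3) (Fin 3) F) := by simp only [Matrix.mul_assoc]
        _ = ((Y : Matrix (Fin 3) (Fin 3) F) * k₁ ^ Fintype.card F) *
            ((Y : Matrix (Fin 3) (Fin 3) F) * (Y : Matrix (Fin 3) (Fin 3) F)) := by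
            rw [hY2 k₁ hk1]; simp only [Matrix.mul_assoc]
        _ = (k₁ ^ Fintype.card F) ^ Fintype.card F * ((Y : Matrix (Fin 3) (Fin 3) F) *
            (Y : Matrix (Fin 3) (Fin 3) F) * (Y : Matrix (Fin 3) (Fin 3) F)) := by
            rw [hY2 _ (K.pow_mem hk1 _)]; simp only [Matrix.mul_assoc]
        _ = (k₁ ^ Fintype.card F) ^ Fintype.card F := by rw [hY3, Matrix.mul_one]
    rw [e3]
    exact K.pow_mem (K.pow_mem hk1 _) _

theorem exists_prime_q (q : ℕ) (hq : 2 ≤ q) : ∃ r : ℕ, r.Prime ∧ r ∣ q ^ 3 - 1 ∧ ¬ r ∣ q - 1 := by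
  have hN : q ^ 3 - 1 = (q - 1) * (q ^ 2 + q + 1) := by
    obtain ⟨j, rfl⟩ : ∃ j, q = j + 1 := ⟨q - 1, by omega⟩
    simp only [Nat.add_sub_cancel]
    have : (j + 1) ^ 3 = j * ((j + 1) ^ 2 + (j + 1) + 1) + 1 := by ring
    rw [this, Nat.add_sub_cancel]
  by_cases h3 : q % 3 = 1
  · obtain ⟨j, rfl⟩ : ∃ j, q = 3 * j + 1 := ⟨q / 3, by omega⟩
    have hj : 1 ≤ j := by omega
    obtain ⟨m, hm⟩ : ∃ m, m = 3 * j * (j + 1) + 1 := ⟨_, rfl⟩
    have hNm : (3 * j + 1) ^ 2 + (3 * j + 1) + 1 = 3 * m := by rw [hm]; ring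
    have hm1 : m ≠ 1 := by
      rw [hm]
      have : 0 < 3 * j * (j + 1) := by positivity
      omega
    refine ⟨m.minFac, Nat.minFac_prime hm1, ?_, ?_⟩
    · rw [hN, hNm]
      exact Dvd.dvd.mul_left (Dvd.dvd.mul_left (Nat.minFac_dvd m) 3) _
    · intro hd
      have h1 : m.minFac ∣ 3 * j := by simpa using hd
      have h2 : m.minFac ∣ 3 * j * (j + 1) := Dvd.dvd.mul_right h1 _
      have h4 : m.minFac ∣ 3 * j * (j + 1) + 1 := by
        have := Nat.minFac_dvd m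
        rw [← hm]
        exact this
      have h5 : m.minFac ∣ 1 := (Nat.dvd_add_right h2).mp h4
      exact (Nat.minFac_prime hm1).one_lt.ne' (Nat.dvd_one.mp h5)
  · obtain ⟨N, hNdef⟩ : ∃ N, N = q ^ 2 + q + 1 := ⟨_, rfl⟩
    have hN1 : N ≠ 1 := by
      rw [hNdef]
      have : 0 < q ^ 2 := by positivity
      omega
    have hr := Nat.minFac_prime hN1
    refine ⟨N.minFac, hr, ?_, ?_⟩
    · rw [hN, ← hNdef]
      exact Dvd.dvd.mul_left (Nat.minFac_dvd N) _
    · intro hd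
      have h1 : q ^ 2 + q + 1 = (q - 1) * (q + 2) + 3 := by
        obtain ⟨j, rfl⟩ : ∃ j, q = j + 1 := ⟨q - 1, by omega⟩
        simp only [Nat.add_sub_cancel]
        ring
      have h2 : N.minFac ∣ 3 := by
        have h := Nat.minFac_dvd N
        have h' : N.minFac ∣ (q - 1) * (q + 2) + 3 := by
          rw [← h1, ← hNdef]
          exact h
        exact (Nat.dvd_add_right (Dvd.dvd.mul_right hd _)).mp h'
      have h3' : N.minFac = 3 := (Nat.prime_dvd_prime_iff_eq hr Nat.prime_three).mp h2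
      rw [h3'] at hd
      omega

theorem frob_nonscalar (K : Subalgebra F (Matrix (Fin 3) (Fin 3) F))
    (hK : Geo.IsFieldSubalgebra 3 K) (Y : Matrix (Fin 3) (Fin 3) F) (hYd : Y.det ≠ 0)
    (hY2 : ∀ k ∈ K, Y * k = k ^ Fintype.card F * Y) (c : F) : Y ≠ c • 1 := by
  intro hc
  have hinv : HasInv K := hK.inv
  have hq2 : 2 ≤ Fintype.card F := Fintype.one_lt_card
  have hc0 : c ≠ 0 := by
    rintro rfl
    rw [zero_smul] at hc
    rw [hc] at hYd
    simp at hYd
  have hfix : ∀ k ∈ K, k ^ Fintype.card F = k := by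
    intro k hk
    have h := hY2 k hk
    rw [hc, Matrix.smul_mul, Matrix.one_mul, Matrix.mul_smul, Matrix.mul_one] at h
    exact (smul_right_injective _ hc0 h).symm
  obtain ⟨r, hr, hr1, hr2⟩ := exists_prime_q (Fintype.card F) hq2
  have hcard := card_units3 K hinv hK.finrank_eq
  haveI : Fact r.Prime := ⟨hr⟩
  obtain ⟨g, hg⟩ := exists_prime_orderOf_dvd_card' r (by rw [hcard]; exact hr1)
  have h1 : (g : GL (Fin 3) F) ^ Fintype.card F = g :=
    Units.ext (by rw [Units.val_pow_eq_pow_val]; exact hfix _ g.2)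
  have h2 : g ^ (Fintype.card F - 1) = 1 := by
    apply Subtype.ext
    rw [Subgroup.coe_pow, Subgroup.coe_one]
    have h3 : (g : GL (Fin 3) F) ^ (Fintype.card F - 1) * g = 1 * g := by
      rw [← pow_succ, Nat.sub_add_cancel (by omega), one_mul]; exact h1
    exact mul_right_cancel h3
  have h4 := orderOf_dvd_of_pow_eq_one h2
  rw [hg] at h4
  exact hr2 h4

end frob

section obstruction
variable {F : Type*} [Field F] [Fintype F]

theorem no_dvd (q : ℕ) (hq2 : 2 ≤ q) (h : q ^ 2 - 1 ∣ q ^ 3 - 1) : False := by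
  obtain ⟨j, rfl⟩ : ∃ j, q = j + 2 := ⟨q - 2, by omega⟩
  have a1 : (j + 2) ^ 2 - 1 = j ^ 2 + 4 * j + 3 := by
    have : (j + 2) ^ 2 = j ^ 2 + 4 * j + 3 + 1 := by ring
    omega
  have a2 : (j + 2) ^ 3 - 1 = (j + 2) * (j ^ 2 + 4 * j + 3) + (j + 1) := by
    have : (j + 2) ^ 3 = (j + 2) * (j ^ 2 + 4 * j + 3) + (j + 1) + 1 := by ring
    omega
  rw [a1, a2] at h
  have h2 : j ^ 2 + 4 * j + 3 ∣ j + 1 := (Nat.dvd_add_right (Dvd.intro_left (j + 2) rfl)).mp h
  have h3 := Nat.le_of_dvd (by omega) h2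
  nlinarith

/-- an element normalizing a field subalgebra of degree 3 has no eigenspace of dimension 2 -/
theorem no_plane (K : Subalgebra F (Matrix (Fin 3) (Fin 3) F)) (hK : Geo.IsFieldSubalgebra 3 K)
    (y : GL (Fin 3) F) (hy : y ∈ Geo.subalgebraNormalizer K) (lam : F)
    (hE : Nat.card {u : Fin 3 → F // (y : Matrix (Fin 3) (Fin 3) F) *ᵥ u = lam • u} =
      Fintype.card F ^ 2) : False := by
  classical
  have hinv : HasInv K := hK.inv
  have hq2 : 2 ≤ Fintype.card F := Fintype.one_lt_card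
  obtain ⟨v, hvE, hv⟩ : ∃ v : Fin 3 → F,
      (y : Matrix (Fin 3) (Fin 3) F) *ᵥ v = lam • v ∧ v ≠ 0 := by
    by_contra hcon
    push Not at hcon
    have hsub : Subsingleton {u : Fin 3 → F // (y : Matrix (Fin 3) (Fin 3) F) *ᵥ u = lam • u} :=
      ⟨fun a b => Subtype.ext ((hcon a.1 a.2).trans (hcon b.1 b.2).symm)⟩
    have h1 : Nat.card {u : Fin 3 → F // (y : Matrix (Fin 3) (Fin 3) F) *ᵥ u = lam • u} ≤ 1 :=
      Finite.card_le_one_iff_subsingleton.mpr hsub
    rw [hE] at h1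
    nlinarith
  have hlam : lam ≠ 0 := by
    rintro rfl
    rw [zero_smul] at hvE
    apply hv
    have h := congrArg (fun w => ((y⁻¹ : GL (Fin 3) F) : Matrix (Fin 3) (Fin 3) F) *ᵥ w) hvE
    simp only [Matrix.mulVec_mulVec, Matrix.mulVec_zero] at h
    rw [← Units.val_mul, inv_mul_cancel, Units.val_one, Matrix.one_mulVec] at h
    exact h
  obtain ⟨C, hC⟩ : ∃ C : Subalgebra F (Matrix (Fin 3) (Fin 3) F),
      C = K ⊓ Subalgebra.centralizer F {(y : Matrix (Fin 3) (Fin 3) F)} := ⟨_, rfl⟩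
  have hCmem : ∀ k, k ∈ C ↔ k ∈ K ∧
      (y : Matrix (Fin 3) (Fin 3) F) * k = k * (y : Matrix (Fin 3) (Fin 3) F) := by
    intro k
    rw [hC, Algebra.mem_inf, Subalgebra.mem_centralizer_iff]
    simp
  have hCinv : HasInv C := by
    intro x hx hx0
    obtain ⟨hxK, hxy⟩ := (hCmem x).mp hx
    obtain ⟨x', hx'K, hxx'⟩ := hinv x hxK hx0
    have hx'x : x' * x = 1 := by rwa [mul_eq_one_comm] at hxx'
    refine ⟨x', (hCmem x').mpr ⟨hx'K, ?_⟩, hxx'⟩
    calc (y : Matrix (Fin 3) (Fin 3) F) * x'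
        = (x' * x) * ((y : Matrix (Fin 3) (Fin 3) F) * x') := by rw [hx'x, Matrix.one_mul]
      _ = x' * ((x * (y : Matrix (Fin 3) (Fin 3) F)) * x') := by simp only [Matrix.mul_assoc]
      _ = x' * (((y : Matrix (Fin 3) (Fin 3) F) * x) * x') := by rw [hxy]
      _ = x' * (y : Matrix (Fin 3) (Fin 3) F) * (x * x') := by simp only [Matrix.mul_assoc]
      _ = x' * (y : Matrix (Fin 3) (Fin 3) F) := by rw [hxx', Matrix.mul_one]
  have hcardC : Nat.card ↥C = Fintype.card F ^ 2 := by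
    rw [← hE]
    apply Nat.card_congr
    refine Equiv.ofBijective (fun k : ↥C => ⟨(k : Matrix (Fin 3) (Fin 3) F) *ᵥ v, ?_⟩) ⟨?_, ?_⟩
    · obtain ⟨-, hky⟩ := (hCmem k.1).mp k.2
      rw [Matrix.mulVec_mulVec, hky, ← Matrix.mulVec_mulVec, hvE, Matrix.mulVec_smul]
    · intro a b hab
      have h1 := congrArg Subtype.val hab
      exact Subtype.ext (ev_inj' K hinv v hv a.1 b.1 ((hCmem a.1).mp a.2).1
        ((hCmem b.1).mp b.2).1 h1)
    · rintro ⟨u, hu⟩
      obtain ⟨k, hkK, hkv⟩ := ev_surj K hinv hK.finrank_eq v hv u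
      have hk1 := (hy k).mp hkK
      have hk1v : ((y : Matrix (Fin 3) (Fin 3) F) * k *
          ((y⁻¹ : GL (Fin 3) F) : Matrix (Fin 3) (Fin 3) F)) *ᵥ v = k *ᵥ v := by
        have h1 : ((y : Matrix (Fin 3) (Fin 3) F) * k *
            ((y⁻¹ : GL (Fin 3) F) : Matrix (Fin 3) (Fin 3) F)) *ᵥ (lam • v) = lam • (k *ᵥ v) := by
          rw [← hvE, Matrix.mulVec_mulVec, Matrix.mul_assoc, Matrix.mul_assoc, ← Units.val_mul,
            inv_mul_cancel, Units.val_one, Matrix.mul_one, ← Matrix.mulVec_mulVec, hkv, hu]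
        rw [Matrix.mulVec_smul] at h1
        exact smul_right_injective _ hlam h1
      have hkk : (y : Matrix (Fin 3) (Fin 3) F) * k *
          ((y⁻¹ : GL (Fin 3) F) : Matrix (Fin 3) (Fin 3) F) = k :=
        ev_inj' K hinv v hv _ _ hk1 hkK hk1v
      have hyk : (y : Matrix (Fin 3) (Fin 3) F) * k = k * (y : Matrix (Fin 3) (Fin 3) F) := by
        calc (y : Matrix (Fin 3) (Fin 3) F) * k
            = (y : Matrix (Fin 3) (Fin 3) F) * k *
              (((y⁻¹ : GL (Fin 3) F) : Matrix (Fin 3) (Fin 3) F) *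
                (y : Matrix (Fin 3) (Fin 3) F)) := by
              rw [← Units.val_mul, inv_mul_cancel, Units.val_one, Matrix.mul_one]
          _ = ((y : Matrix (Fin 3) (Fin 3) F) * k *
              ((y⁻¹ : GL (Fin 3) F) : Matrix (Fin 3) (Fin 3) F)) *
                (y : Matrix (Fin 3) (Fin 3) F) := by simp only [Matrix.mul_assoc]
          _ = k * (y : Matrix (Fin 3) (Fin 3) F) := by rw [hkk]
      exact ⟨⟨k, (hCmem k).mpr ⟨hkK, hyk⟩⟩, Subtype.ext hkv⟩
  have h1 : Nat.card (unitsK C hCinv) = Fintype.card F ^ 2 - 1 := by rw [card_unitsK, hcardC]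
  have h2 := card_units3 K hinv hK.finrank_eq
  have hle : unitsK C hCinv ≤ unitsK K hinv := fun g hg => ((hCmem _).mp hg).1
  have hdvd := Subgroup.card_dvd_of_le hle
  rw [h1, h2] at hdvd
  exact no_dvd _ hq2 hdvd

theorem card_plane (x : Matrix (Fin 3) (Fin 3) F) (lam : F)
    (hx : ∀ u : Fin 3 → F, x *ᵥ u = lam • u ↔ u 2 = 0) :
    Nat.card {u : Fin 3 → F // x *ᵥ u = lam • u} = Fintype.card F ^ 2 := by
  have e : {u : Fin 3 → F // x *ᵥ u = lam • u} ≃ F × F :=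
    { toFun := fun u => (u.1 0, u.1 1)
      invFun := fun ab => ⟨![ab.1, ab.2, 0], (hx _).mpr rfl⟩
      left_inv := fun u => by
        apply Subtype.ext
        funext i
        have h2 := (hx u.1).mp u.2
        fin_cases i
        · rfl
        · rfl
        · exact h2.symm
      right_inv := fun ab => rfl }
  rw [Nat.card_congr e, Nat.card_prod, Nat.card_eq_fintype_card, sq]

theorem card_conj (x : Matrix (Fin 3) (Fin 3) F) (P : GL (Fin 3) F) (lam : F) :
    Nat.card {u : Fin 3 → F // (((P⁻¹ : GL (Fin 3) F) : Matrix (Fin 3) (Fin 3) F) * x *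
        (P : Matrix (Fin 3) (Fin 3) F)) *ᵥ u = lam • u} =
    Nat.card {u : Fin 3 → F // x *ᵥ u = lam • u} := by
  have hPP : (P : Matrix (Fin 3) (Fin 3) F) * ((P⁻¹ : GL (Fin 3) F) : Matrix (Fin 3) (Fin 3) F)
      = 1 := by rw [← Units.val_mul, mul_inv_cancel, Units.val_one]
  have hPP' : ((P⁻¹ : GL (Fin 3) F) : Matrix (Fin 3) (Fin 3) F) * (P : Matrix (Fin 3) (Fin 3) F)
      = 1 := by rw [← Units.val_mul, inv_mul_cancel, Units.val_one]
  apply Nat.card_congr
  refine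
    { toFun := fun u => ⟨(P : Matrix (Fin 3) (Fin 3) F) *ᵥ u.1, ?_⟩
      invFun := fun w => ⟨((P⁻¹ : GL (Fin 3) F) : Matrix (Fin 3) (Fin 3) F) *ᵥ w.1, ?_⟩
      left_inv := fun u => Subtype.ext (by
        show ((P⁻¹ : GL (Fin 3) F) : Matrix (Fin 3) (Fin 3) F) *ᵥ
          ((P : Matrix (Fin 3) (Fin 3) F) *ᵥ u.1) = u.1
        rw [Matrix.mulVec_mulVec, hPP', Matrix.one_mulVec])
      right_inv := fun w => Subtype.ext (by
        show (P : Matrix (Fin 3) (Fin 3) F) *ᵥ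
          (((P⁻¹ : GL (Fin 3) F) : Matrix (Fin 3) (Fin 3) F) *ᵥ w.1) = w.1
        rw [Matrix.mulVec_mulVec, hPP, Matrix.one_mulVec]) }
  · have h := congrArg (fun w => (P : Matrix (Fin 3) (Fin 3) F) *ᵥ w) u.2
    simp only [Matrix.mulVec_mulVec, Matrix.mulVec_smul] at h
    rw [← Matrix.mul_assoc, ← Matrix.mul_assoc, hPP, Matrix.one_mul] at h
    rw [Matrix.mulVec_mulVec]
    exact h
  · rw [Matrix.mulVec_mulVec, Matrix.mul_assoc, Matrix.mul_assoc, hPP, Matrix.mul_one,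
      ← Matrix.mulVec_mulVec, w.2, Matrix.mulVec_smul]

end obstruction

section ch
variable {F : Type*} [Field F]

/-- the second coefficient of the characteristic polynomial of a `3 × 3` matrix -/
def tr2 (M : Matrix (Fin 3) (Fin 3) F) : F :=
  M 0 0 * M 1 1 - M 0 1 * M 1 0 + (M 0 0 * M 2 2 - M 0 2 * M 2 0) + (M 1 1 * M 2 2 - M 1 2 * M 2 1)

theorem ch3 (M : Matrix (Fin 3) (Fin 3) F) :
    M * M * M = M.trace • (M * M) - tr2 M • M + M.det • (1 : Matrix (Fin 3) (Fin 3) F) := by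
  ext i j
  fin_cases i <;> fin_cases j <;>
    simp [Matrix.mul_apply, Fin.sum_univ_three, Matrix.det_fin_three, Matrix.trace_fin_three, tr2] <;>
    ring

theorem tr2_eq (M : Matrix (Fin 3) (Fin 3) F) : tr2 M = M.adjugate.trace := by
  rw [Matrix.adjugate_fin_three, Matrix.trace_fin_three]
  simp [tr2]
  ring

theorem det_sub (M : Matrix (Fin 3) (Fin 3) F) (c : F) :
    (M - c • (1 : Matrix (Fin 3) (Fin 3) F)).det =
      M.det - tr2 M * c + M.trace * c ^ 2 - c ^ 3 := by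
  rw [Matrix.det_fin_three, Matrix.det_fin_three, Matrix.trace_fin_three]
  simp [tr2]
  ring

theorem pow_ne_one3 (z : F) (hz3 : z ^ 3 = 1) (hz1 : z ≠ 1) (n : ℕ) (hn : n % 3 ≠ 0) :
    z ^ n ≠ 1 := by
  intro h
  have h' : z ^ (n % 3) = 1 := by
    rw [← Nat.div_add_mod n 3, pow_add, pow_mul, hz3, one_pow, one_mul] at h
    exact h
  rcases (by omega : n % 3 = 1 ∨ n % 3 = 2) with h1 | h1
  · rw [h1, pow_one] at h'
    exact hz1 h'
  · rw [h1] at h'
    exact hz1 (by linear_combination hz3 - z * h')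

theorem z_eq_one [Fintype F] (x : Matrix (Fin 3) (Fin 3) F) (z : F) (hx : x * x * x = z • 1)
    (hdet : x.det = 1) (hq : Fintype.card F % 9 = 4 ∨ Fintype.card F % 9 = 7) : z = 1 := by
  have hz3 : z ^ 3 = 1 := by
    have h := congrArg Matrix.det hx
    rw [Matrix.det_mul, Matrix.det_mul, hdet, Matrix.det_smul, Matrix.det_one] at h
    simpa using h.symm
  by_contra hz1
  have hz0 : z ≠ 0 := by
    rintro rfl
    simp at hz3
  obtain ⟨m, hm, hm3⟩ : ∃ m, Fintype.card F = 3 * m + 1 ∧ m % 3 ≠ 0 :=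
    ⟨(Fintype.card F - 1) / 3, by omega, by omega⟩
  have hx3 : x ^ 3 = z • (1 : Matrix (Fin 3) (Fin 3) F) := by rw [pow_three']; exact hx
  have hxq : x ^ Fintype.card F = z ^ m • x := by
    rw [hm, pow_succ, pow_mul, hx3, smul_pow, one_pow, Matrix.smul_mul, Matrix.one_mul]
  have hzm : z ^ m ≠ 1 := pow_ne_one3 z hz3 hz1 m hm3
  have hz2m : z ^ (2 * m) ≠ 1 := pow_ne_one3 z hz3 hz1 (2 * m) (by omega)
  have ht : x.trace = 0 := by
    have h1 := FiniteField.trace_pow_card x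
    rw [hxq, Matrix.trace_smul, FiniteField.pow_card, smul_eq_mul] at h1
    have h2 : (z ^ m - 1) * x.trace = 0 := by linear_combination h1
    rcases mul_eq_zero.mp h2 with h | h
    · exact absurd (sub_eq_zero.mp h) hzm
    · exact h
  have ht2 : (x * x).trace = 0 := by
    have h1 := FiniteField.trace_pow_card (x * x)
    have hxxq : (x * x) ^ Fintype.card F = z ^ (2 * m) • (x * x) := by
      rw [(Commute.refl x).mul_pow, hxq, Matrix.smul_mul, Matrix.mul_smul, smul_smul, ← pow_add]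
      congr 2
      ring
    rw [hxxq, Matrix.trace_smul, FiniteField.pow_card, smul_eq_mul] at h1
    have h2 : (z ^ (2 * m) - 1) * (x * x).trace = 0 := by linear_combination h1
    rcases mul_eq_zero.mp h2 with h | h
    · exact absurd (sub_eq_zero.mp h) hz2m
    · exact h
  have hadj : x.adjugate = z⁻¹ • (x * x) := by
    have h1 : x * x.adjugate = 1 := by rw [Matrix.mul_adjugate, hdet, one_smul]
    calc x.adjugate = (z⁻¹ • (x * x * x)) * x.adjugate := by
          rw [hx, smul_smul, inv_mul_cancel₀ hz0, one_smul, Matrix.one_mul]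
      _ = z⁻¹ • ((x * x) * (x * x.adjugate)) := by
          rw [Matrix.smul_mul]; simp only [Matrix.mul_assoc]
      _ = z⁻¹ • (x * x) := by rw [h1, Matrix.mul_one]
  have hs : tr2 x = 0 := by rw [tr2_eq, hadj, Matrix.trace_smul, ht2, smul_zero]
  have hch := ch3 x
  rw [ht, hs, hdet, zero_smul, zero_smul, sub_zero, zero_add, one_smul, hx] at hch
  apply hz1
  have h00 := congrFun (congrFun hch 0) 0
  simpa using h00

theorem z_eq_one' [Fintype F] (z : F) (hz3 : z ^ 3 = 1) (hq : Fintype.card F % 3 = 2) : z = 1 := by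
  have hz0 : z ≠ 0 := by
    rintro rfl
    simp at hz3
  have h := FiniteField.pow_card_sub_one_eq_one z hz0
  obtain ⟨m, hm⟩ : ∃ m, Fintype.card F - 1 = 3 * m + 1 := ⟨(Fintype.card F - 2) / 3, by omega⟩
  rw [hm, pow_succ, pow_mul, hz3, one_pow, one_mul] at h
  exact h

theorem three_ne [Fintype F] (p : ℕ) [Fact p.Prime] [CharP F p] (hq : Fintype.card F % 3 ≠ 0) :
    (3 : F) ≠ 0 := by
  intro h
  have h3 : ((3 : ℕ) : F) = 0 := by exact_mod_cast h
  rw [CharP.cast_eq_zero_iff F p] at h3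
  have hp3 : p = 3 := (Nat.prime_dvd_prime_iff_eq (Fact.out : p.Prime) Nat.prime_three).mp h3
  obtain ⟨n, -, hn⟩ := FiniteField.card F p
  apply hq
  rw [hn, hp3]
  exact Nat.mod_eq_zero_of_dvd (dvd_pow_self 3 n.ne_zero)

theorem no_omega [Fintype F] (p : ℕ) [Fact p.Prime] [CharP F p] (hq : Fintype.card F % 3 = 2)
    (μ : F) : μ ^ 2 + μ + 1 ≠ 0 := by
  intro h
  have h3 : μ ^ 3 = 1 := by linear_combination (μ - 1) * h
  have h1 := z_eq_one' μ h3 hq
  rw [h1] at h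
  have hq' : Fintype.card F % 3 ≠ 0 := by omega
  exact three_ne (F := F) p hq' (by linear_combination h)

end ch

section canon
variable {F : Type*} [Field F] [Fintype F]

theorem card_coord (k : Fin 3) :
    Nat.card {w : Fin 3 → F // w k = 0} = Fintype.card F ^ 2 := by
  fin_cases k
  · have e : {w : Fin 3 → F // w 0 = 0} ≃ F × F :=
      { toFun := fun w => (w.1 1, w.1 2)
        invFun := fun ab => ⟨![0, ab.1, ab.2], rfl⟩
        left_inv := fun w => by
          apply Subtype.ext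
          funext i
          fin_cases i
          · exact w.2.symm
          · rfl
          · rfl
        right_inv := fun ab => rfl }
    show Nat.card {w : Fin 3 → F // w 0 = 0} = _
    rw [Nat.card_congr e, Nat.card_prod, Nat.card_eq_fintype_card, sq]
  · have e : {w : Fin 3 → F // w 1 = 0} ≃ F × F :=
      { toFun := fun w => (w.1 0, w.1 2)
        invFun := fun ab => ⟨![ab.1, 0, ab.2], rfl⟩
        left_inv := fun w => by
          apply Subtype.ext
          funext i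
          fin_cases i
          · rfl
          · exact w.2.symm
          · rfl
        right_inv := fun ab => rfl }
    show Nat.card {w : Fin 3 → F // w 1 = 0} = _
    rw [Nat.card_congr e, Nat.card_prod, Nat.card_eq_fintype_card, sq]
  · have e : {w : Fin 3 → F // w 2 = 0} ≃ F × F :=
      { toFun := fun w => (w.1 0, w.1 1)
        invFun := fun ab => ⟨![ab.1, ab.2, 0], rfl⟩
        left_inv := fun w => by
          apply Subtype.ext
          funext i
          fin_cases i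
          · rfl
          · rfl
          · exact w.2.symm
        right_inv := fun ab => rfl }
    show Nat.card {w : Fin 3 → F // w 2 = 0} = _
    rw [Nat.card_congr e, Nat.card_prod, Nat.card_eq_fintype_card, sq]

theorem card_eig (M g : Matrix (Fin 3) (Fin 3) F) (δ : Fin 3 → F) (hg : g.det ≠ 0)
    (hgM : g * M = Matrix.diagonal δ * g) (a : F) (k : Fin 3) (hk : δ k ≠ a)
    (hothers : ∀ l, l ≠ k → δ l = a) :
    Nat.card {u : Fin 3 → F // M *ᵥ u = a • u} = Fintype.card F ^ 2 := by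
  rw [← card_coord (F := F) k]
  have hu : IsUnit g.det := isUnit_iff_ne_zero.mpr hg
  have key : ∀ u : Fin 3 → F, M *ᵥ u = a • u ↔ (g *ᵥ u) k = 0 := by
    intro u
    constructor
    · intro h
      have h1 : Matrix.diagonal δ *ᵥ (g *ᵥ u) = a • (g *ᵥ u) := by
        rw [Matrix.mulVec_mulVec, ← hgM, ← Matrix.mulVec_mulVec, h, Matrix.mulVec_smul]
      have h2 := congrFun h1 k
      rw [Matrix.mulVec_diagonal, Pi.smul_apply, smul_eq_mul] at h2
      have h3 : (δ k - a) * (g *ᵥ u) k = 0 := by linear_combination h2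
      rcases mul_eq_zero.mp h3 with h | h
      · exact absurd (sub_eq_zero.mp h) hk
      · exact h
    · intro h
      have h1 : Matrix.diagonal δ *ᵥ (g *ᵥ u) = a • (g *ᵥ u) := by
        funext l
        rw [Matrix.mulVec_diagonal, Pi.smul_apply, smul_eq_mul]
        by_cases hl : l = k
        · rw [hl, h, mul_zero, mul_zero]
        · rw [hothers l hl]
      have h2 : g *ᵥ (M *ᵥ u) = g *ᵥ (a • u) := by
        rw [Matrix.mulVec_mulVec, hgM, ← Matrix.mulVec_mulVec, h1, Matrix.mulVec_smul]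
      have h3 : g⁻¹ *ᵥ (g *ᵥ (M *ᵥ u)) = g⁻¹ *ᵥ (g *ᵥ (a • u)) := by rw [h2]
      rw [Matrix.mulVec_mulVec (M *ᵥ u) g⁻¹ g, Matrix.mulVec_mulVec (a • u) g⁻¹ g,
        Matrix.nonsing_inv_mul g hu, Matrix.one_mulVec, Matrix.one_mulVec] at h3
      exact h3
  apply Nat.card_congr
  exact
    { toFun := fun u => ⟨g *ᵥ u.1, (key u.1).mp u.2⟩
      invFun := fun w => ⟨g⁻¹ *ᵥ w.1, (key _).mpr (by
        rw [Matrix.mulVec_mulVec, Matrix.mul_nonsing_inv g hu, Matrix.one_mulVec]; exact w.2)⟩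
      left_inv := fun u => Subtype.ext (by
        show g⁻¹ *ᵥ (g *ᵥ u.1) = u.1
        rw [Matrix.mulVec_mulVec, Matrix.nonsing_inv_mul g hu, Matrix.one_mulVec])
      right_inv := fun w => Subtype.ext (by
        show g *ᵥ (g⁻¹ *ᵥ w.1) = w.1
        rw [Matrix.mulVec_mulVec, Matrix.mul_nonsing_inv g hu, Matrix.one_mulVec]) }

theorem dist_of_no_plane (M g : Matrix (Fin 3) (Fin 3) F) (δ : Fin 3 → F) (hg : g.det ≠ 0)
    (hgM : g * M = Matrix.diagonal δ * g) (hns : ∀ c : F, M ≠ c • 1)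
    (hnp : ∀ a : F, Nat.card {u : Fin 3 → F // M *ᵥ u = a • u} ≠ Fintype.card F ^ 2) :
    δ 0 ≠ δ 1 ∧ δ 0 ≠ δ 2 ∧ δ 1 ≠ δ 2 := by
  rcases pattern δ with h | ⟨h01, h02⟩ | ⟨k, hk1, hk2⟩
  · exact h
  · exact absurd (scalar_of_diag_const M g hg δ hgM h01 h02) (hns _)
  · exfalso
    obtain ⟨l, hl⟩ : ∃ l : Fin 3, l ≠ k := by
      fin_cases k
      · exact ⟨1, by decide⟩
      · exact ⟨0, by decide⟩
      · exact ⟨0, by decide⟩
    exact hnp (δ l) (card_eig M g δ hg hgM (δ l) k (hk1 l hl).symm (fun m hm => hk2 m l hm hl))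

theorem third (a c : F) (ha3 : a ^ 3 = 1) (h : a * a * c = 1) : a = c := by
  have ha0 : a ≠ 0 := by
    rintro rfl
    simp at ha3
  have h1 : a ^ 2 * (a - c) = 0 := by linear_combination ha3 - h
  rcases mul_eq_zero.mp h1 with h2 | h2
  · exact absurd h2 (pow_ne_zero _ ha0)
  · exact sub_eq_zero.mp h2

theorem dist_of_det (M g : Matrix (Fin 3) (Fin 3) F) (δ : Fin 3 → F) (hg : g.det ≠ 0)
    (hgM : g * M = Matrix.diagonal δ * g) (hns : ∀ c : F, M ≠ c • 1) (hdet : M.det = 1)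
    (hδ : ∀ i, δ i ^ 3 = 1) : δ 0 ≠ δ 1 ∧ δ 0 ≠ δ 2 ∧ δ 1 ≠ δ 2 := by
  have hprod : δ 0 * δ 1 * δ 2 = 1 := by
    have h := congrArg Matrix.det hgM
    rw [Matrix.det_mul, Matrix.det_mul, Matrix.det_diagonal, Fin.prod_univ_three, hdet,
      mul_one] at h
    exact (mul_right_cancel₀ hg (by rw [one_mul]; exact h)).symm
  have hsc : ¬ (δ 0 = δ 1 ∧ δ 0 = δ 2) := fun h =>
    hns _ (scalar_of_diag_const M g hg δ hgM h.1 h.2)
  refine ⟨fun h => hsc ⟨h, ?_⟩, fun h => hsc ⟨?_, h⟩, fun h => ?_⟩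
  · exact third (δ 0) (δ 2) (hδ 0) (by rw [← h] at hprod; exact hprod)
  · exact third (δ 0) (δ 1) (hδ 0) (by rw [← h] at hprod; linear_combination hprod)
  · have h10 : δ 1 = δ 0 := third (δ 1) (δ 0) (hδ 1) (by rw [← h] at hprod; linear_combination hprod)
    exact hsc ⟨h10.symm, h10.symm.trans h⟩

theorem reorder (ω : F) (hω : ω ^ 2 + ω + 1 = 0) (h3 : (3 : F) ≠ 0)
    (M g : Matrix (Fin 3) (Fin 3) F) (δ : Fin 3 → F)
    (hg : g.det ≠ 0) (hgM : g * M = Matrix.diagonal δ * g) (hδ : ∀ i, δ i ^ 3 = 1)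
    (hd : δ 0 ≠ δ 1 ∧ δ 0 ≠ δ 2 ∧ δ 1 ≠ δ 2) :
    ∃ g' : Matrix (Fin 3) (Fin 3) F, g'.det ≠ 0 ∧
      g' * M = Matrix.diagonal ![1, ω, ω ^ 2] * g' := by
  obtain ⟨j₀, j₁, j₂, h0, h1, h2⟩ :
      ∃ j₀ j₁ j₂ : Fin 3, δ j₀ = 1 ∧ δ j₁ = ω ∧ δ j₂ = ω ^ 2 := by
    rcases root3 ω hω (δ 0) (hδ 0) with a0 | a0 | a0 <;>
    rcases root3 ω hω (δ 1) (hδ 1) with a1 | a1 | a1 <;>
    rcases root3 ω hω (δ 2) (hδ 2) with a2 | a2 | a2 <;>
    first
      | exact absurd (a0.trans a1.symm) hd.1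
      | exact absurd (a0.trans a2.symm) hd.2.1
      | exact absurd (a1.trans a2.symm) hd.2.2
      | exact ⟨0, 1, 2, a0, a1, a2⟩
      | exact ⟨0, 2, 1, a0, a2, a1⟩
      | exact ⟨1, 0, 2, a1, a0, a2⟩
      | exact ⟨1, 2, 0, a1, a2, a0⟩
      | exact ⟨2, 0, 1, a2, a0, a1⟩
      | exact ⟨2, 1, 0, a2, a1, a0⟩
  have hω1 : ω ≠ 1 := zeta_ne_one ω hω h3
  have hω21 : ω ^ 2 ≠ 1 := zeta_sq_ne_one ω hω h3
  have hω2ω : ω ^ 2 ≠ ω := zeta_sq_ne ω hω h3
  have hj01 : j₀ ≠ j₁ := by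
    rintro rfl
    exact hω1 (h1.symm.trans h0)
  have hj02 : j₀ ≠ j₂ := by
    rintro rfl
    exact hω21 (h2.symm.trans h0)
  have hj12 : j₁ ≠ j₂ := by
    rintro rfl
    exact hω2ω (h2.symm.trans h1)
  have hj10 := hj01.symm
  have hj20 := hj02.symm
  have hj21 := hj12.symm
  obtain ⟨σ, hσ⟩ : ∃ σ : Fin 3 → Fin 3, σ = ![j₀, j₁, j₂] := ⟨_, rfl⟩
  have hinj : Function.Injective σ := by
    intro a b hab
    rw [hσ] at hab
    fin_cases a <;> fin_cases b <;> simp_all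
  obtain ⟨e, he⟩ : ∃ e : Equiv.Perm (Fin 3), ⇑e = σ :=
    ⟨Equiv.ofBijective σ ⟨hinj, Finite.surjective_of_injective hinj⟩, rfl⟩
  refine ⟨g.submatrix σ id, ?_, ?_⟩
  · have hdet : (g.submatrix σ id).det = ((Equiv.Perm.sign e : ℤˣ) : ℤ) * g.det := by
      rw [← he]
      exact_mod_cast Matrix.det_permute e g
    rw [hdet]
    refine mul_ne_zero ?_ hg
    rcases Int.units_eq_one_or (Equiv.Perm.sign e) with h | h <;> simp [h]
  · ext a b
    have h := congrFun (congrFun hgM (σ a)) b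
    rw [Matrix.diagonal_mul] at h
    rw [Matrix.diagonal_mul]
    have hδσ : δ (σ a) = ![1, ω, ω ^ 2] a := by
      rw [hσ]
      fin_cases a
      · exact h0
      · exact h1
      · exact h2
    rw [← hδσ]
    exact h

/-- the rational canonical form of a non-identity element of order three when there are no
primitive cube roots of unity -/
def T0 : Matrix (Fin 3) (Fin 3) F := !![1, 0, 0; 0, 0, -1; 0, 1, -1]

theorem quad_root (M : Matrix (Fin 3) (Fin 3) F) (h : M * M + M + 1 = 0) :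
    ∃ μ : F, μ ^ 2 + μ + 1 = 0 := by
  have hMM : M * M = -M - 1 := by
    have h' : M * M + 1 + M = 0 := by
      rw [← h]
      abel
    rw [eq_sub_iff_add_eq, eq_neg_iff_add_eq_zero]
    exact h'
  have hM3 : M * M * M = 1 := by
    rw [hMM, Matrix.sub_mul, Matrix.neg_mul, Matrix.one_mul, hMM]
    abel
  have hch := ch3 M
  rw [hM3, hMM] at hch
  have key : (M.trace + tr2 M) • M = (M.det - M.trace - 1) • (1 : Matrix (Fin 3) (Fin 3) F) := by
    ext i j
    have h1 := congrFun (congrFun hch i) j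
    simp only [Matrix.sub_apply, Matrix.add_apply, Matrix.smul_apply, Matrix.neg_apply,
      smul_eq_mul] at h1 ⊢
    linear_combination h1
  by_cases hts : M.trace + tr2 M = 0
  · have hd : M.det - M.trace - 1 = 0 := by
      rw [hts, zero_smul] at key
      have h00 := congrFun (congrFun key 0) 0
      simpa using h00.symm
    have hdet0 : (M - M.det • (1 : Matrix (Fin 3) (Fin 3) F)).det = 0 := by
      rw [det_sub]
      have hs : tr2 M = -M.trace := by linear_combination hts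
      have ht : M.trace = M.det - 1 := by linear_combination -hd
      rw [hs, ht]
      ring
    obtain ⟨u, hu0, hu⟩ := Matrix.exists_mulVec_eq_zero_iff.mpr hdet0
    have hMu : M *ᵥ u = M.det • u := by
      rw [Matrix.sub_mulVec, Matrix.smul_mulVec, Matrix.one_mulVec] at hu
      exact sub_eq_zero.mp hu
    have h2 : (M * M + M + 1) *ᵥ u = (M.det ^ 2 + M.det + 1) • u := by
      rw [Matrix.add_mulVec, Matrix.add_mulVec, Matrix.one_mulVec, ← Matrix.mulVec_mulVec, hMu,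
        Matrix.mulVec_smul, hMu]
      module
    rw [h, Matrix.zero_mulVec] at h2
    refine ⟨M.det, ?_⟩
    by_contra hne
    exact hu0 ((smul_eq_zero.mp h2.symm).resolve_left hne)
  · have hM : M = ((M.trace + tr2 M)⁻¹ * (M.det - M.trace - 1)) •
        (1 : Matrix (Fin 3) (Fin 3) F) := by
      rw [mul_smul, ← key, smul_smul, inv_mul_cancel₀ hts, one_smul]
    obtain ⟨c, hc⟩ : ∃ c : F, M = c • (1 : Matrix (Fin 3) (Fin 3) F) := ⟨_, hM⟩
    subst hc
    have h00 := congrFun (congrFun h 0) 0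
    simp at h00
    exact ⟨c, by linear_combination h00⟩

theorem canon2 (h3 : (3 : F) ≠ 0) (hno : ∀ μ : F, μ ^ 2 + μ + 1 ≠ 0)
    (M : Matrix (Fin 3) (Fin 3) F) (hM3 : M * M * M = 1) (hM1 : M ≠ 1) :
    ∃ g : Matrix (Fin 3) (Fin 3) F, g.det ≠ 0 ∧ M * g = g * T0 := by
  obtain ⟨N₁, hN₁⟩ : ∃ N₁ : Matrix (Fin 3) (Fin 3) F, N₁ = M * M + M + 1 := ⟨_, rfl⟩
  have hN0 : N₁ ≠ 0 := by
    intro h0
    rw [hN₁] at h0
    obtain ⟨μ, hμ⟩ := quad_root M h0
    exact hno μ hμ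
  have e1 : N₁ * (M - 1) = 0 := by
    rw [hN₁]
    calc (M * M + M + 1) * (M - 1) = M * M * M - 1 := by noncomm_ring
      _ = 0 := by rw [hM3, sub_self]
  have e2 : (M - 1) * N₁ = 0 := by
    rw [hN₁]
    calc (M - 1) * (M * M + M + 1) = M * M * M - 1 := by noncomm_ring
      _ = 0 := by rw [hM3, sub_self]
  have e3 : N₁ * M = M * N₁ := by
    rw [hN₁]
    noncomm_ring
  obtain ⟨u, hu⟩ : ∃ u, (M - 1) *ᵥ u ≠ 0 := by
    by_contra hcon
    push Not at hcon
    apply hM1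
    have h : M - 1 = 0 := mat_ext _ _ (fun u => by rw [hcon u, Matrix.zero_mulVec])
    exact sub_eq_zero.mp h
  obtain ⟨u', hu'⟩ : ∃ u', N₁ *ᵥ u' ≠ 0 := by
    by_contra hcon
    push Not at hcon
    exact hN0 (mat_ext _ _ (fun u => by rw [hcon u, Matrix.zero_mulVec]))
  obtain ⟨v₁, hv₁⟩ : ∃ v₁, v₁ = (M - 1) *ᵥ u := ⟨_, rfl⟩
  obtain ⟨v₀, hv₀⟩ : ∃ v₀, v₀ = N₁ *ᵥ u' := ⟨_, rfl⟩
  have hv₁0 : v₁ ≠ 0 := by rw [hv₁]; exact hu
  have hv₀0 : v₀ ≠ 0 := by rw [hv₀]; exact hu'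
  have hNv₁ : N₁ *ᵥ v₁ = 0 := by rw [hv₁, Matrix.mulVec_mulVec, e1, Matrix.zero_mulVec]
  have hMv₀ : M *ᵥ v₀ = v₀ := by
    have h : (M - 1) *ᵥ v₀ = 0 := by rw [hv₀, Matrix.mulVec_mulVec, e2, Matrix.zero_mulVec]
    rw [Matrix.sub_mulVec, Matrix.one_mulVec] at h
    exact sub_eq_zero.mp h
  have hMMv₁ : M *ᵥ (M *ᵥ v₁) = -v₁ - M *ᵥ v₁ := by
    have h := hNv₁
    rw [hN₁, Matrix.add_mulVec, Matrix.add_mulVec, Matrix.one_mulVec, ← Matrix.mulVec_mulVec] at h
    rw [eq_sub_iff_add_eq, eq_neg_iff_add_eq_zero]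
    exact h
  have hNv₀ : N₁ *ᵥ v₀ = (3 : F) • v₀ := by
    rw [hN₁, Matrix.add_mulVec, Matrix.add_mulVec, Matrix.one_mulVec, ← Matrix.mulVec_mulVec, hMv₀,
      hMv₀]
    module
  have hNMv₁ : N₁ *ᵥ (M *ᵥ v₁) = 0 := by
    rw [Matrix.mulVec_mulVec, e3, ← Matrix.mulVec_mulVec, hNv₁, Matrix.mulVec_zero]
  obtain ⟨g, hgdef⟩ : ∃ g : Matrix (Fin 3) (Fin 3) F,
      g = Matrix.of (fun i j => ![v₀ i, v₁ i, (M *ᵥ v₁) i] j) := ⟨_, rfl⟩
  have hgw : ∀ w : Fin 3 → F, g *ᵥ w = w 0 • v₀ + w 1 • v₁ + w 2 • (M *ᵥ v₁) := by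
    intro w
    funext i
    rw [hgdef]
    simp [Matrix.mulVec, dotProduct, Fin.sum_univ_three]
    ring
  refine ⟨g, ?_, ?_⟩
  · intro hdet
    obtain ⟨w, hw0, hw⟩ := Matrix.exists_mulVec_eq_zero_iff.mpr hdet
    rw [hgw] at hw
    have h1 : N₁ *ᵥ (w 0 • v₀ + w 1 • v₁ + w 2 • (M *ᵥ v₁)) = 0 := by
      rw [hw, Matrix.mulVec_zero]
    rw [Matrix.mulVec_add, Matrix.mulVec_add, Matrix.mulVec_smul, Matrix.mulVec_smul,
      Matrix.mulVec_smul, hNv₀, hNv₁, hNMv₁, smul_zero, smul_zero, add_zero, add_zero,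
      smul_smul] at h1
    have hw0' : w 0 = 0 := by
      rcases smul_eq_zero.mp h1 with h | h
      · exact (mul_eq_zero.mp h).resolve_right h3
      · exact absurd h hv₀0
    rw [hw0', zero_smul, zero_add] at hw
    by_cases hw2 : w 2 = 0
    · rw [hw2, zero_smul, add_zero] at hw
      have hw1 : w 1 = 0 := (smul_eq_zero.mp hw).resolve_right hv₁0
      apply hw0
      funext i
      fin_cases i
      · exact hw0'
      · exact hw1
      · exact hw2
    · have hμ : M *ᵥ v₁ = (-(w 1) / w 2) • v₁ := by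
        have h : w 2 • (M *ᵥ v₁) = (-(w 1)) • v₁ := by
          rw [neg_smul]
          exact eq_neg_of_add_eq_zero_right hw
        rw [div_eq_inv_mul, mul_smul, ← h, smul_smul, inv_mul_cancel₀ hw2, one_smul]
      have h2 := hNv₁
      rw [hN₁, Matrix.add_mulVec, Matrix.add_mulVec, Matrix.one_mulVec, ← Matrix.mulVec_mulVec, hμ,
        Matrix.mulVec_smul, hμ] at h2
      have h3' : ((-(w 1) / w 2) ^ 2 + (-(w 1) / w 2) + 1) • v₁ = 0 := by
        rw [← h2]
        module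
      exact hno _ ((smul_eq_zero.mp h3').resolve_right hv₁0)
  · apply mat_ext
    intro w
    rw [← Matrix.mulVec_mulVec, ← Matrix.mulVec_mulVec, hgw, hgw]
    rw [Matrix.mulVec_add, Matrix.mulVec_add, Matrix.mulVec_smul, Matrix.mulVec_smul,
      Matrix.mulVec_smul, hMv₀, hMMv₁]
    have t0 : (T0 *ᵥ w) 0 = w 0 := by
      simp [T0, Matrix.mulVec, dotProduct, Fin.sum_univ_three]
    have t1 : (T0 *ᵥ w) 1 = -w 2 := by
      simp [T0, Matrix.mulVec, dotProduct, Fin.sum_univ_three]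
    have t2 : (T0 *ᵥ w) 2 = w 1 - w 2 := by
      simp [T0, Matrix.mulVec, dotProduct, Fin.sum_univ_three]
      ring
    rw [t0, t1, t2]
    module

theorem conj_of_canon (x Y T gx gY : Matrix (Fin 3) (Fin 3) F) (hgx : gx.det ≠ 0)
    (hgY : gY.det ≠ 0) (h1 : x * gx = gx * T) (h2 : Y * gY = gY * T)
    (hE : ∀ e : F, Matrix.diagonal ![e, 1, 1] * T = T * Matrix.diagonal ![e, 1, 1]) :
    ∃ P : Matrix (Fin 3) (Fin 3) F, P.det = 1 ∧ x * P = P * Y := by
  have huY : IsUnit gY.det := isUnit_iff_ne_zero.mpr hgY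
  obtain ⟨e, he⟩ : ∃ e : F, e = gY.det * gx.det⁻¹ := ⟨_, rfl⟩
  refine ⟨gx * Matrix.diagonal ![e, 1, 1] * gY⁻¹, ?_, ?_⟩
  · rw [Matrix.det_mul, Matrix.det_mul, Matrix.det_diagonal, Fin.prod_univ_three,
      Matrix.det_nonsing_inv, Ring.inverse_eq_inv']
    simp only [Matrix.cons_val_zero, Matrix.cons_val_one, Matrix.cons_val_two, Matrix.head_cons,
      Matrix.tail_cons, mul_one]
    rw [he]
    field_simp
  · have hYg : gY⁻¹ * Y = T * gY⁻¹ := by
      calc gY⁻¹ * Y = gY⁻¹ * (Y * gY) * gY⁻¹ := by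
            rw [Matrix.mul_assoc, Matrix.mul_assoc, Matrix.mul_nonsing_inv gY huY, Matrix.mul_one]
        _ = T * gY⁻¹ := by
            rw [h2, ← Matrix.mul_assoc, Matrix.nonsing_inv_mul gY huY, Matrix.one_mul]
    calc x * (gx * Matrix.diagonal ![e, 1, 1] * gY⁻¹)
        = (x * gx) * Matrix.diagonal ![e, 1, 1] * gY⁻¹ := by simp only [Matrix.mul_assoc]
      _ = gx * (T * Matrix.diagonal ![e, 1, 1]) * gY⁻¹ := by rw [h1]; simp only [Matrix.mul_assoc]
      _ = gx * (Matrix.diagonal ![e, 1, 1] * T) * gY⁻¹ := by rw [hE e]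
      _ = gx * Matrix.diagonal ![e, 1, 1] * (T * gY⁻¹) := by simp only [Matrix.mul_assoc]
      _ = gx * Matrix.diagonal ![e, 1, 1] * gY⁻¹ * Y := by rw [← hYg]; simp only [Matrix.mul_assoc]

end canon

end Cfsg.Agent.Helper15.SG
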