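import Mathlib
import Cfsg.Agent.Helper15.SG

/-!
Final assembly for S5971 (PSL_3(q), normalizer of a degree-3 field subalgebra, elements of
order 3).
-/

set_option autoImplicit false
open scoped MatrixGroups Matrix
open Cfsg

namespace Cfsg.Agent.Helper15.SH

open Cfsg.Agent.Helper15.ES Cfsg.Agent.Helper15.EU Cfsg.Agent.Helper15.SG

section main
variable {F : Type*} [Field F] [Fintype F]

theorem no9 (q : ℕ) (h : q % 9 = 2 ∨ q % 9 = 5)
    (hd : 9 ∣ (q ^ 3 - 1) * (q ^ 3 - q) * (q ^ 3 - q ^ 2)) : False := by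
  have hdec : ∀ x : ZMod 9, (x.val % 9 = 2 ∨ x.val % 9 = 5) →
      (x ^ 3 - 1) * (x ^ 3 - x) * (x ^ 3 - x ^ 2) ≠ 0 := by decide
  have hp1 : 1 ≤ q := by omega
  have h1 : 1 ≤ q ^ 3 := Nat.one_le_pow _ _ hp1
  have h2 : q ≤ q ^ 3 := Nat.le_self_pow (by norm_num) q
  have h3 : q ^ 2 ≤ q ^ 3 := Nat.pow_le_pow_right hp1 (by norm_num)
  have hcast : (((q ^ 3 - 1) * (q ^ 3 - q) * (q ^ 3 - q ^ 2) : ℕ) : ZMod 9) = 0 :=
    (ZMod.natCast_eq_zero_iff _ _).mpr hd
  rw [Nat.cast_mul, Nat.cast_mul, Nat.cast_sub h1, Nat.cast_sub h2, Nat.cast_sub h3] at hcast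
  push_cast at hcast
  refine hdec (q : ZMod 9) ?_ hcast
  rw [ZMod.val_natCast]
  omega

theorem frob_data (p : ℕ) [Fact p.Prime] [CharP F p] (K : Subalgebra F (Matrix (Fin 3) (Fin 3) F))
    (hK : Geo.IsFieldSubalgebra 3 K) :
    ∃ Ym : Matrix (Fin 3) (Fin 3) F, Ym.det ≠ 0 ∧ Ym * Ym * Ym = 1 ∧ (∀ c : F, Ym ≠ c • 1) ∧
      (∀ a : F, Nat.card {u : Fin 3 → F // Ym *ᵥ u = a • u} ≠ Fintype.card F ^ 2) ∧
      (∀ Yg : GL (Fin 3) F, (Yg : Matrix (Fin 3) (Fin 3) F) = Ym →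
        Yg ∈ Cfsg.Geo.subalgebraNormalizer K) := by
  obtain ⟨Ym, hY2, hY3⟩ := exists_frob p K hK
  have hYd : Ym.det ≠ 0 := by
    intro h
    have := congrArg Matrix.det hY3
    rw [Matrix.det_mul, Matrix.det_mul, h, Matrix.det_one] at this
    simp at this
  have hN : ∀ Yg : GL (Fin 3) F, (Yg : Matrix (Fin 3) (Fin 3) F) = Ym →
        Yg ∈ Cfsg.Geo.subalgebraNormalizer K := by
    intro Yg hYg
    apply frob_norm K Yg
    · rw [hYg]; exact hY2
    · rw [hYg]; exact hY3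
  refine ⟨Ym, hYd, hY3, frob_nonscalar K hK Ym hYd hY2, ?_, hN⟩
  intro a h
  have hg := hN (Matrix.GeneralLinearGroup.mkOfDetNeZero Ym hYd) rfl
  exact no_plane K hK _ hg a h

theorem no_conj_plane (K : Subalgebra F (Matrix (Fin 3) (Fin 3) F))
    (hK : Geo.IsFieldSubalgebra 3 K) (x : Matrix.SpecialLinearGroup (Fin 3) F) (lam : F)
    (hx : ∀ u : Fin 3 → F, (x : Matrix (Fin 3) (Fin 3) F) *ᵥ u = lam • u ↔ u 2 = 0)
    (P : Matrix.SpecialLinearGroup (Fin 3) F)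
    (hP : P⁻¹ * x * P ∈ (Cfsg.Geo.subalgebraNormalizer K).comap
      (Matrix.SpecialLinearGroup.toGL : Matrix.SpecialLinearGroup (Fin 3) F →* GL (Fin 3) F)) :
    False := by
  rw [Subgroup.mem_comap] at hP
  have h1 := card_conj (x : Matrix (Fin 3) (Fin 3) F) (Matrix.SpecialLinearGroup.toGL P) lam
  rw [card_plane (x : Matrix (Fin 3) (Fin 3) F) lam hx] at h1
  refine no_plane K hK _ hP lam ?_
  rw [← h1]
  have e : ((Matrix.SpecialLinearGroup.toGL (P⁻¹ * x * P) : GL (Fin 3) F) :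
      Matrix (Fin 3) (Fin 3) F) =
      (((Matrix.SpecialLinearGroup.toGL P)⁻¹ : GL (Fin 3) F) : Matrix (Fin 3) (Fin 3) F) *
        (x : Matrix (Fin 3) (Fin 3) F) *
        ((Matrix.SpecialLinearGroup.toGL P : GL (Fin 3) F) : Matrix (Fin 3) (Fin 3) F) := by
    rw [map_mul, map_mul, map_inv]
    rfl
  rw [e]

theorem exC (h3 : (3 : F) = 0) : ∃ x : Matrix.SpecialLinearGroup (Fin 3) F,
    (∃ z : F, ((x ^ 3 : Matrix.SpecialLinearGroup (Fin 3) F) : Matrix (Fin 3) (Fin 3) F) =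
      z • (1 : Matrix (Fin 3) (Fin 3) F)) ∧
    (∀ z : F, (x : Matrix (Fin 3) (Fin 3) F) ≠ z • (1 : Matrix (Fin 3) (Fin 3) F)) ∧
    ∃ lam : F, ∀ u : Fin 3 → F, (x : Matrix (Fin 3) (Fin 3) F) *ᵥ u = lam • u ↔ u 2 = 0 := by
  have hdet : (!![1, 0, 1; 0, 1, 0; 0, 0, 1] : Matrix (Fin 3) (Fin 3) F).det = 1 := by
    rw [Matrix.det_fin_three]
    simp
  have h2' : (1 : F) + 1 + 1 = 0 := by rw [← h3]; ring
  obtain ⟨x, hx⟩ : ∃ x : Matrix.SpecialLinearGroup (Fin 3) F,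
      (x : Matrix (Fin 3) (Fin 3) F) = !![1, 0, 1; 0, 1, 0; 0, 0, 1] := ⟨⟨_, hdet⟩, rfl⟩
  refine ⟨x, ⟨1, ?_⟩, ?_, 1, ?_⟩
  · rw [Matrix.SpecialLinearGroup.coe_pow, pow_three, one_smul, hx]
    ext i j
    fin_cases i <;> fin_cases j <;>
      simp [Matrix.mul_apply, Fin.sum_univ_three] <;> (try exact h2')
  · intro z h
    rw [hx] at h
    have := congrFun (congrFun h 0) 2
    simp [Matrix.smul_apply, Matrix.one_apply] at this
  · intro u
    rw [one_smul, hx]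
    constructor
    · intro h
      have := congrFun h 0
      simp [Matrix.mulVec, dotProduct, Fin.sum_univ_three] at this
      exact this
    · intro h
      funext i
      fin_cases i <;> simp [Matrix.mulVec, dotProduct, Fin.sum_univ_three, h]

theorem exD (p : ℕ) [Fact p.Prime] [CharP F p] (h9 : Fintype.card F % 9 = 1) :
    ∃ x : Matrix.SpecialLinearGroup (Fin 3) F,
    (∃ z : F, ((x ^ 3 : Matrix.SpecialLinearGroup (Fin 3) F) : Matrix (Fin 3) (Fin 3) F) =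
      z • (1 : Matrix (Fin 3) (Fin 3) F)) ∧
    (∀ z : F, (x : Matrix (Fin 3) (Fin 3) F) ≠ z • (1 : Matrix (Fin 3) (Fin 3) F)) ∧
    ∃ lam : F, ∀ u : Fin 3 → F, (x : Matrix (Fin 3) (Fin 3) F) *ᵥ u = lam • u ↔ u 2 = 0 := by
  obtain ⟨ω, hω⟩ := ES.exists_omega (F := F) (by omega)
  have h3 : (3 : F) ≠ 0 := three_ne (F := F) p (by omega)
  have hω3 : ω ^ 3 = 1 := by linear_combination (ω - 1) * hω
  have hω1 : ω ≠ 1 := by
    intro h
    rw [h] at hω
    apply h3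
    linear_combination hω
  obtain ⟨l, hl⟩ := ES.cube_root (F := F) (Nat.dvd_of_mod_eq_zero (by omega)) (ω ^ 2)
    (by linear_combination (ω ^ 3 + 1) * hω3)
  have hl0 : l ≠ 0 := by
    intro h
    rw [h] at hl
    have hω0 : ω = 0 := by
      have : ω ^ 2 = 0 := by rw [← hl]; simp
      exact pow_eq_zero_iff (n := 2) (by norm_num) |>.mp this
    rw [hω0] at hω3
    simp at hω3
  have hdet : (Matrix.diagonal ![l, l, l * ω] : Matrix (Fin 3) (Fin 3) F).det = 1 := by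
    rw [Matrix.det_diagonal, Fin.prod_univ_three]
    simp only [Matrix.cons_val_zero, Matrix.cons_val_one, Matrix.cons_val_two, Matrix.head_cons,
      Matrix.tail_cons]
    linear_combination ω * hl + hω3
  obtain ⟨x, hx⟩ : ∃ x : Matrix.SpecialLinearGroup (Fin 3) F,
      (x : Matrix (Fin 3) (Fin 3) F) = Matrix.diagonal ![l, l, l * ω] := ⟨⟨_, hdet⟩, rfl⟩
  refine ⟨x, ⟨ω ^ 2, ?_⟩, ?_, l, ?_⟩
  · rw [Matrix.SpecialLinearGroup.coe_pow, hx, Matrix.diagonal_pow, ← Matrix.diagonal_one,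
      ← Matrix.diagonal_smul]
    congr 1
    funext i
    fin_cases i
    · simp [hl]
    · simp [hl]
    · simp
      linear_combination ω ^ 3 * hl + ω ^ 2 * hω3
  · intro z h
    rw [hx] at h
    have e0 := congrFun (congrFun h 0) 0
    have e2 := congrFun (congrFun h 2) 2
    simp [Matrix.smul_apply, Matrix.one_apply] at e0 e2
    rw [← e0] at e2
    have : l * (ω - 1) = 0 := by linear_combination e2
    rcases mul_eq_zero.mp this with ha | ha
    · exact hl0 ha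
    · exact hω1 (sub_eq_zero.mp ha)
  · intro u
    rw [hx]
    constructor
    · intro h
      have := congrFun h 2
      simp [Matrix.mulVec, dotProduct, Fin.sum_univ_three] at this
      rcases this with hc | hc
      · exfalso
        have hb : l * (ω - 1) = 0 := by linear_combination hc
        rcases mul_eq_zero.mp hb with hd | hd
        · exact hl0 hd
        · exact hω1 (sub_eq_zero.mp hd)
      · exact hc
    · intro h
      funext i
      fin_cases i <;> simp [Matrix.mulVec, dotProduct, Fin.sum_univ_three, h]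

theorem no25 (K : Subalgebra F (Matrix (Fin 3) (Fin 3) F)) (Ym : Matrix (Fin 3) (Fin 3) F)
    (hY3 : Ym * Ym * Ym = 1) (hY1 : Ym ≠ 1)
    (hN : ∀ Yg : GL (Fin 3) F, (Yg : Matrix (Fin 3) (Fin 3) F) = Ym →
        Yg ∈ Cfsg.Geo.subalgebraNormalizer K)
    (hΩ : 3 ∣ ((Cfsg.Geo.subalgebraNormalizer K).comap
      (Matrix.SpecialLinearGroup.toGL :
        Matrix.SpecialLinearGroup (Fin 3) F →* GL (Fin 3) F)).index)
    (hq : Fintype.card F % 9 = 2 ∨ Fintype.card F % 9 = 5) : False := by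
  have hdet : Ym.det = 1 := by
    apply z_eq_one' _ _ (by omega)
    have := congrArg Matrix.det hY3
    rw [Matrix.det_mul, Matrix.det_mul, Matrix.det_one] at this
    rw [← this]
    ring
  obtain ⟨Ys, hYsv⟩ : ∃ x : Matrix.SpecialLinearGroup (Fin 3) F,
      (x : Matrix (Fin 3) (Fin 3) F) = Ym := ⟨⟨_, hdet⟩, rfl⟩
  have hYs : Ys ∈ (Cfsg.Geo.subalgebraNormalizer K).comap
      (Matrix.SpecialLinearGroup.toGL :
        Matrix.SpecialLinearGroup (Fin 3) F →* GL (Fin 3) F) := by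
    rw [Subgroup.mem_comap]
    exact hN _ hYsv
  have ho : orderOf Ys = 3 := by
    haveI : Fact (Nat.Prime 3) := ⟨Nat.prime_three⟩
    apply orderOf_eq_prime
    · apply Matrix.SpecialLinearGroup.ext
      intro i j
      rw [Matrix.SpecialLinearGroup.coe_pow, pow_three', hYsv, hY3]
      rfl
    · intro h
      apply hY1
      rw [← hYsv, h]
      rfl
  have h3 : 3 ∣ Nat.card ((Cfsg.Geo.subalgebraNormalizer K).comap
      (Matrix.SpecialLinearGroup.toGL :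
        Matrix.SpecialLinearGroup (Fin 3) F →* GL (Fin 3) F)) := by
    have := orderOf_dvd_natCard (⟨Ys, hYs⟩ : ((Cfsg.Geo.subalgebraNormalizer K).comap
      (Matrix.SpecialLinearGroup.toGL :
        Matrix.SpecialLinearGroup (Fin 3) F →* GL (Fin 3) F)))
    rwa [Subgroup.orderOf_mk, ho] at this
  have h9 : 3 * 3 ∣ Nat.card (Matrix.SpecialLinearGroup (Fin 3) F) := by
    rw [← Subgroup.card_mul_index ((Cfsg.Geo.subalgebraNormalizer K).comap
      (Matrix.SpecialLinearGroup.toGL :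
        Matrix.SpecialLinearGroup (Fin 3) F →* GL (Fin 3) F))]
    exact Nat.mul_dvd_mul h3 hΩ
  have hprod := Cfsg.Agent.S0242.result (F := F) rfl 3 (by norm_num)
  rw [Fin.prod_univ_three] at hprod
  simp only [Fin.val_zero, Fin.val_one, Fin.val_two, pow_zero, pow_one] at hprod
  apply no9 (Fintype.card F) hq
  rw [← hprod]
  exact Dvd.dvd.mul_left h9 _

theorem finish (K : Subalgebra F (Matrix (Fin 3) (Fin 3) F)) (Ym : Matrix (Fin 3) (Fin 3) F)
    (hN : ∀ Yg : GL (Fin 3) F, (Yg : Matrix (Fin 3) (Fin 3) F) = Ym →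
        Yg ∈ Cfsg.Geo.subalgebraNormalizer K)
    (x : Matrix.SpecialLinearGroup (Fin 3) F) (P : Matrix (Fin 3) (Fin 3) F) (hP : P.det = 1)
    (hxP : (x : Matrix (Fin 3) (Fin 3) F) * P = P * Ym) :
    ∃ Ps : Matrix.SpecialLinearGroup (Fin 3) F, Ps⁻¹ * x * Ps ∈
      (Cfsg.Geo.subalgebraNormalizer K).comap
      (Matrix.SpecialLinearGroup.toGL :
        Matrix.SpecialLinearGroup (Fin 3) F →* GL (Fin 3) F) := by
  obtain ⟨Ps, hPs⟩ : ∃ x : Matrix.SpecialLinearGroup (Fin 3) F,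
      (x : Matrix (Fin 3) (Fin 3) F) = P := ⟨⟨_, hP⟩, rfl⟩
  refine ⟨Ps, ?_⟩
  rw [Subgroup.mem_comap]
  apply hN
  show ((Ps⁻¹ * x * Ps : Matrix.SpecialLinearGroup (Fin 3) F) : Matrix (Fin 3) (Fin 3) F) = Ym
  rw [Matrix.SpecialLinearGroup.coe_mul, Matrix.SpecialLinearGroup.coe_mul, Matrix.mul_assoc,
    hPs, hxP, ← Matrix.mul_assoc]
  have h1 : ((Ps⁻¹ : Matrix.SpecialLinearGroup (Fin 3) F) : Matrix (Fin 3) (Fin 3) F) * P = 1 := by
    rw [← hPs, ← Matrix.SpecialLinearGroup.coe_mul, inv_mul_cancel,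
      Matrix.SpecialLinearGroup.coe_one]
  rw [h1, Matrix.one_mul]

theorem conj47 (p : ℕ) [Fact p.Prime] [CharP F p]
    (hq : Fintype.card F % 9 = 4 ∨ Fintype.card F % 9 = 7) (Ym : Matrix (Fin 3) (Fin 3) F)
    (hY3 : Ym * Ym * Ym = 1) (hYns : ∀ c : F, Ym ≠ c • 1)
    (hnpY : ∀ a : F, Nat.card {u : Fin 3 → F // Ym *ᵥ u = a • u} ≠ Fintype.card F ^ 2)
    (x : Matrix (Fin 3) (Fin 3) F) (hdet : x.det = 1) (hx3 : x * x * x = 1)
    (hxns : ∀ c : F, x ≠ c • 1) :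
    ∃ P : Matrix (Fin 3) (Fin 3) F, P.det = 1 ∧ x * P = P * Ym := by
  obtain ⟨ω, hω⟩ := ES.exists_omega (F := F) (by omega)
  have h3 : (3 : F) ≠ 0 := three_ne (F := F) p (by omega)
  obtain ⟨δ, g, hδ, hg, hgx⟩ := ES.spec3 x 1 1 ω (by rw [hx3, one_smul]) (by norm_num)
    one_ne_zero hω h3
  have hd := dist_of_det x g δ hg hgx hxns hdet hδ
  obtain ⟨g₁, hg₁, hg₁x⟩ := reorder ω hω h3 x g δ hg hgx hδ hd
  obtain ⟨δ', g', hδ', hg', hgY⟩ := ES.spec3 Ym 1 1 ω (by rw [hY3, one_smul]) (by norm_num)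
    one_ne_zero hω h3
  have hd' := dist_of_no_plane Ym g' δ' hg' hgY hYns hnpY
  obtain ⟨g₂, hg₂, hg₂Y⟩ := reorder ω hω h3 Ym g' δ' hg' hgY hδ' hd'
  refine conj_of_canon x Ym (Matrix.diagonal ![1, ω, ω ^ 2]) g₁⁻¹ g₂⁻¹ (EU.det_inv_ne g₁ hg₁)
    (EU.det_inv_ne g₂ hg₂) (EU.inv_conj_eq g₁ x _ hg₁ hg₁x) (EU.inv_conj_eq g₂ Ym _ hg₂ hg₂Y) ?_
  intro e
  rw [Matrix.diagonal_mul_diagonal, Matrix.diagonal_mul_diagonal]
  congr 1
  funext i
  exact mul_comm _ _

theorem conj8 (p : ℕ) [Fact p.Prime] [CharP F p] (hq : Fintype.card F % 9 = 8)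
    (Ym : Matrix (Fin 3) (Fin 3) F) (hY3 : Ym * Ym * Ym = 1) (hY1 : Ym ≠ 1)
    (x : Matrix (Fin 3) (Fin 3) F) (hx3 : x * x * x = 1) (hx1 : x ≠ 1) :
    ∃ P : Matrix (Fin 3) (Fin 3) F, P.det = 1 ∧ x * P = P * Ym := by
  have h3 : (3 : F) ≠ 0 := three_ne (F := F) p (by omega)
  have hno := no_omega (F := F) p (by omega)
  obtain ⟨g₁, hg₁, h1⟩ := canon2 h3 hno x hx3 hx1
  obtain ⟨g₂, hg₂, h2⟩ := canon2 h3 hno Ym hY3 hY1
  refine conj_of_canon x Ym T0 g₁ g₂ hg₁ hg₂ h1 h2 ?_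
  intro e
  ext i j
  fin_cases i <;> fin_cases j <;> simp [T0, Matrix.mul_apply, Fin.sum_univ_three]

theorem key (p : ℕ) [Fact p.Prime] [CharP F p] (K : Subalgebra F (Matrix (Fin 3) (Fin 3) F))
    (hK : Geo.IsFieldSubalgebra 3 K)
    (hΩ : 3 ∣ ((Cfsg.Geo.subalgebraNormalizer K).comap
      (Matrix.SpecialLinearGroup.toGL :
        Matrix.SpecialLinearGroup (Fin 3) F →* GL (Fin 3) F)).index) :
    (∀ x : Matrix.SpecialLinearGroup (Fin 3) F,
      (∃ z : F, ((x ^ 3 : Matrix.SpecialLinearGroup (Fin 3) F) : Matrix (Fin 3) (Fin 3) F) =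
        z • (1 : Matrix (Fin 3) (Fin 3) F)) →
      (∀ z : F, (x : Matrix (Fin 3) (Fin 3) F) ≠ z • (1 : Matrix (Fin 3) (Fin 3) F)) →
      ∃ P : Matrix.SpecialLinearGroup (Fin 3) F, P⁻¹ * x * P ∈
        ((Cfsg.Geo.subalgebraNormalizer K).comap
          (Matrix.SpecialLinearGroup.toGL :
            Matrix.SpecialLinearGroup (Fin 3) F →* GL (Fin 3) F))) ↔
    (Fintype.card F % 9 = 4 ∨ Fintype.card F % 9 = 7 ∨ Fintype.card F % 9 = 8) := by
  obtain ⟨Ym, hYd, hY3, hYns, hnpY, hN⟩ := frob_data p K hK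
  have hY1 : Ym ≠ 1 := by
    have := hYns 1
    rwa [one_smul] at this
  constructor
  · intro H
    by_contra hcon
    have hcases : Fintype.card F % 3 = 0 ∨ Fintype.card F % 9 = 1 ∨
        (Fintype.card F % 9 = 2 ∨ Fintype.card F % 9 = 5) := by omega
    rcases hcases with h | h | h
    · have h3 : (3 : F) = 0 := by
        obtain ⟨n, hp, hc⟩ := FiniteField.card F p
        have h3d : 3 ∣ p ^ (n : ℕ) := by rw [← hc]; exact Nat.dvd_of_mod_eq_zero h
        have h3p : 3 ∣ p := Nat.Prime.dvd_of_dvd_pow Nat.prime_three h3d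
        have hp3 : p = 3 := ((Nat.prime_dvd_prime_iff_eq Nat.prime_three hp).mp h3p).symm
        have := CharP.cast_eq_zero F p
        rw [hp3] at this
        exact_mod_cast this
      obtain ⟨x, hx3, hxns, lam, hxl⟩ := exC h3
      obtain ⟨P, hP⟩ := H x hx3 hxns
      exact no_conj_plane K hK x lam hxl P hP
    · obtain ⟨x, hx3, hxns, lam, hxl⟩ := exD p h
      obtain ⟨P, hP⟩ := H x hx3 hxns
      exact no_conj_plane K hK x lam hxl P hP
    · exact no25 K Ym hY3 hY1 hN hΩ h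
  · intro hq x hx3 hxns
    obtain ⟨z, hz⟩ := hx3
    rw [Matrix.SpecialLinearGroup.coe_pow, pow_three'] at hz
    have hz1 : z = 1 := by
      rcases hq with h | h | h
      · exact z_eq_one (x : Matrix (Fin 3) (Fin 3) F) z hz x.prop (Or.inl h)
      · exact z_eq_one (x : Matrix (Fin 3) (Fin 3) F) z hz x.prop (Or.inr h)
      · apply z_eq_one' z _ (by omega)
        have := congrArg Matrix.det hz
        rw [Matrix.det_mul, Matrix.det_mul, x.prop, Matrix.det_smul, Matrix.det_one] at this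
        simp at this
        exact this.symm
    rw [hz1, one_smul] at hz
    have hx1 : (x : Matrix (Fin 3) (Fin 3) F) ≠ 1 := by
      have := hxns 1
      rwa [one_smul] at this
    have hex : ∃ P : Matrix (Fin 3) (Fin 3) F, P.det = 1 ∧
        (x : Matrix (Fin 3) (Fin 3) F) * P = P * Ym := by
      rcases hq with h | h | h
      · exact conj47 p (Or.inl h) Ym hY3 hYns hnpY _ x.prop hz hxns
      · exact conj47 p (Or.inr h) Ym hY3 hYns hnpY _ x.prop hz hxns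
      · exact conj8 p h Ym hY3 hY1 _ hz hx1
    obtain ⟨P, hPd, hxP⟩ := hex
    exact finish K Ym hN x P hPd hxP

end main

end Cfsg.Agent.Helper15.SH
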