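import Mathlib
import Cfsg.Agent.Helper15.SH

/-!
# Field subalgebras of prime degree `n` in `M_n(F)` and their normalizers (general `n`)
-/

set_option autoImplicit false
open scoped MatrixGroups Matrix
open Cfsg

namespace Cfsg.Agent.Helper15.SN

section basics
variable {F : Type*} [Field F] {n : ℕ}

/-- the invertibility property of a field subalgebra -/
def HasInv (K : Subalgebra F (Matrix (Fin n) (Fin n) F)) : Prop :=
  ∀ x ∈ K, x ≠ 0 → ∃ y ∈ K, x * y = 1

theorem inv_mem (K : Subalgebra F (Matrix (Fin n) (Fin n) F)) (hK : HasInv K)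
    (k : Matrix (Fin n) (Fin n) F) (hk : k ∈ K) (hk0 : k ≠ 0) : k.det ≠ 0 ∧ k⁻¹ ∈ K := by
  obtain ⟨y, hy, hxy⟩ := hK k hk hk0
  have h := congrArg Matrix.det hxy
  rw [Matrix.det_mul, Matrix.det_one] at h
  refine ⟨left_ne_zero_of_mul_eq_one h, ?_⟩
  rw [Matrix.inv_eq_right_inv hxy]
  exact hy

theorem ev_inj (K : Subalgebra F (Matrix (Fin n) (Fin n) F)) (hK : HasInv K)
    (v : Fin n → F) (hv : v ≠ 0) (k : Matrix (Fin n) (Fin n) F) (hk : k ∈ K)
    (h : k *ᵥ v = 0) : k = 0 := by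
  by_contra hk0
  obtain ⟨hd, -⟩ := inv_mem K hK k hk hk0
  apply hv
  have hu : IsUnit k.det := isUnit_iff_ne_zero.mpr hd
  calc v = (k⁻¹ * k) *ᵥ v := by rw [Matrix.nonsing_inv_mul k hu, Matrix.one_mulVec]
    _ = 0 := by rw [← Matrix.mulVec_mulVec, h, Matrix.mulVec_zero]

theorem ev_inj' (K : Subalgebra F (Matrix (Fin n) (Fin n) F)) (hK : HasInv K)
    (v : Fin n → F) (hv : v ≠ 0) (k k' : Matrix (Fin n) (Fin n) F) (hk : k ∈ K) (hk' : k' ∈ K)
    (h : k *ᵥ v = k' *ᵥ v) : k = k' := by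
  have h0 := ev_inj K hK v hv (k - k') (K.sub_mem hk hk') (by rw [Matrix.sub_mulVec, h, sub_self])
  exact sub_eq_zero.mp h0

/-- evaluation at a vector, as a linear map on the subalgebra -/
def evLin (K : Subalgebra F (Matrix (Fin n) (Fin n) F)) (v : Fin n → F) :
    ↥K →ₗ[F] (Fin n → F) where
  toFun k := (k : Matrix (Fin n) (Fin n) F) *ᵥ v
  map_add' a b := by simp [Matrix.add_mulVec]
  map_smul' c a := by simp [Matrix.smul_mulVec]

theorem ev_surj (K : Subalgebra F (Matrix (Fin n) (Fin n) F)) (hK : HasInv K) (hn : 0 < n)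
    (hfin : Module.finrank F K = n) (v : Fin n → F) (hv : v ≠ 0) (u : Fin n → F) :
    ∃ k ∈ K, k *ᵥ v = u := by
  have hinj : Function.Injective (evLin K v) := by
    rw [← LinearMap.ker_eq_bot, LinearMap.ker_eq_bot']
    intro k hk
    exact Subtype.ext (ev_inj K hK v hv k.1 k.2 hk)
  haveI : FiniteDimensional F ↥K := Module.finite_of_finrank_pos (by rw [hfin]; exact hn)
  have hsurj := (LinearMap.injective_iff_surjective_of_finrank_eq_finrank
    (by rw [hfin, Module.finrank_fin_fun])).mp hinj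
  obtain ⟨k, hk⟩ := hsurj u
  exact ⟨k.1, k.2, hk⟩

/-- the unit group of a field subalgebra, inside `GL` -/
def unitsK (K : Subalgebra F (Matrix (Fin n) (Fin n) F)) (hK : HasInv K) :
    Subgroup (GL (Fin n) F) where
  carrier := {g | (g : Matrix (Fin n) (Fin n) F) ∈ K}
  mul_mem' {a b} ha hb := by
    show ((a * b : GL (Fin n) F) : Matrix (Fin n) (Fin n) F) ∈ K
    rw [Units.val_mul]
    exact K.mul_mem ha hb
  one_mem' := by
    show ((1 : GL (Fin n) F) : Matrix (Fin n) (Fin n) F) ∈ K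
    rw [Units.val_one]
    exact K.one_mem
  inv_mem' {a} ha := by
    show ((a⁻¹ : GL (Fin n) F) : Matrix (Fin n) (Fin n) F) ∈ K
    by_cases h0 : (a : Matrix (Fin n) (Fin n) F) = 0
    · have h1 : ((a⁻¹ : GL (Fin n) F) : Matrix (Fin n) (Fin n) F) = 0 := by
        have h2 : ((a⁻¹ * a * a⁻¹ : GL (Fin n) F) : Matrix (Fin n) (Fin n) F) = 0 := by
          rw [Units.val_mul, Units.val_mul, h0, Matrix.mul_zero, Matrix.zero_mul]
        rwa [inv_mul_cancel, one_mul] at h2
      rw [h1]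
      exact K.zero_mem
    · rw [Matrix.coe_units_inv]
      exact (inv_mem K hK _ ha h0).2

theorem mem_unitsK (K : Subalgebra F (Matrix (Fin n) (Fin n) F)) (hK : HasInv K)
    (g : GL (Fin n) F) : g ∈ unitsK K hK ↔ (g : Matrix (Fin n) (Fin n) F) ∈ K := Iff.rfl

theorem card_unitsK [Fintype F] (K : Subalgebra F (Matrix (Fin n) (Fin n) F)) (hK : HasInv K)
    (hn : 0 < n) : Nat.card (unitsK K hK) = Nat.card K - 1 := by
  classical
  haveI : NeZero n := ⟨by omega⟩
  have e : unitsK K hK ≃ {k : ↥K // k ≠ 0} :=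
    { toFun := fun g => ⟨⟨(g.1 : Matrix (Fin n) (Fin n) F), g.2⟩, fun h => by
        have h1 := congrArg Subtype.val h
        exact g.1.ne_zero h1⟩
      invFun := fun k => ⟨Matrix.GeneralLinearGroup.mkOfDetNeZero k.1.1
        (inv_mem K hK k.1.1 k.1.2 (fun h => k.2 (Subtype.ext h))).1, k.1.2⟩
      left_inv := fun g => Subtype.ext (Units.ext rfl)
      right_inv := fun k => rfl }
  rw [Nat.card_congr e]
  haveI : Fintype ↥K := Fintype.ofFinite _
  rw [Nat.card_eq_fintype_card, Nat.card_eq_fintype_card, Fintype.card_subtype_compl,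
    Fintype.card_subtype_eq]

end basics

section frob
variable {F : Type*} [Field F] [Fintype F] {n : ℕ}

theorem mat_ext (A B : Matrix (Fin n) (Fin n) F) (h : ∀ u, A *ᵥ u = B *ᵥ u) : A = B := by
  ext i j
  have h1 := congrFun (h (Pi.single j 1)) i
  rw [Matrix.mulVec_single_one, Matrix.mulVec_single_one] at h1
  exact h1

theorem card_unitsN (K : Subalgebra F (Matrix (Fin n) (Fin n) F)) (hK : HasInv K) (hn : 0 < n)
    (hfin : Module.finrank F K = n) :
    Nat.card (unitsK K hK) = Fintype.card F ^ n - 1 := by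
  haveI : FiniteDimensional F ↥K := Module.finite_of_finrank_pos (by rw [hfin]; exact hn)
  rw [card_unitsK K hK hn, Module.natCard_eq_pow_finrank (K := F) (V := ↥K), hfin,
    Nat.card_eq_fintype_card]

theorem pow_qn (K : Subalgebra F (Matrix (Fin n) (Fin n) F)) (hK : HasInv K) (hn : 0 < n)
    (hfin : Module.finrank F K = n) (k : Matrix (Fin n) (Fin n) F) (hk : k ∈ K) :
    k ^ (Fintype.card F ^ n) = k := by
  have hpos : 1 ≤ Fintype.card F ^ n := Nat.one_le_pow _ _ Fintype.card_pos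
  by_cases hk0 : k = 0
  · rw [hk0, zero_pow (by omega)]
  · obtain ⟨hd, -⟩ := inv_mem K hK k hk hk0
    have hcard := card_unitsN K hK hn hfin
    have h1 : (⟨Matrix.GeneralLinearGroup.mkOfDetNeZero k hd, hk⟩ : unitsK K hK) ^
        (Fintype.card F ^ n - 1) = 1 := by
      rw [← hcard]; exact pow_card_eq_one'
    have h2 := congrArg (fun g : unitsK K hK =>
      ((g : GL (Fin n) F) : Matrix (Fin n) (Fin n) F)) h1
    simp only [Subgroup.coe_pow, Units.val_pow_eq_pow_val, Subgroup.coe_one, Units.val_one] at h2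
    have h3 : k ^ (Fintype.card F ^ n - 1) = 1 := h2
    calc k ^ (Fintype.card F ^ n) = k ^ (Fintype.card F ^ n - 1 + 1) := by
          rw [Nat.sub_add_cancel hpos]
      _ = k := by rw [pow_succ, h3, one_mul]

theorem frob_add (p : ℕ) [Fact p.Prime] [CharP F p] (hn : 0 < n)
    (K : Subalgebra F (Matrix (Fin n) (Fin n) F))
    (hcomm : ∀ x ∈ K, ∀ y ∈ K, x * y = y * x) (a b : Matrix (Fin n) (Fin n) F)
    (ha : a ∈ K) (hb : b ∈ K) :
    (a + b) ^ Fintype.card F = a ^ Fintype.card F + b ^ Fintype.card F := by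
  haveI : NeZero n := ⟨by omega⟩
  obtain ⟨m, -, hm⟩ := FiniteField.card F p
  rw [hm]
  exact add_pow_char_pow_of_commute p m (hcomm a ha b hb)

/-- the Frobenius map `k ↦ k^q` on a commutative subalgebra, as a linear map -/
def frobLin (p : ℕ) [Fact p.Prime] [CharP F p] (hn : 0 < n)
    (K : Subalgebra F (Matrix (Fin n) (Fin n) F))
    (hcomm : ∀ x ∈ K, ∀ y ∈ K, x * y = y * x) : ↥K →ₗ[F] Matrix (Fin n) (Fin n) F where
  toFun k := (k : Matrix (Fin n) (Fin n) F) ^ Fintype.card F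
  map_add' a b := frob_add p hn K hcomm a.1 b.1 a.2 b.2
  map_smul' c a := by
    simp only [Subalgebra.coe_smul, RingHom.id_apply]
    rw [smul_pow, FiniteField.pow_card]

/-- the matrix of the Frobenius automorphism of `K`, transported to `F^n` along `k ↦ k v` -/
theorem exists_frob (p : ℕ) [Fact p.Prime] [CharP F p] (hn : 0 < n)
    (K : Subalgebra F (Matrix (Fin n) (Fin n) F)) (hK : Geo.IsFieldSubalgebra n K) :
    ∃ Y : Matrix (Fin n) (Fin n) F, (∀ k ∈ K, Y * k = k ^ Fintype.card F * Y) ∧ Y ^ n = 1 := by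
  classical
  have hinv : HasInv K := hK.inv
  obtain ⟨v, hvdef⟩ : ∃ v : Fin n → F, v = Pi.single (⟨0, hn⟩ : Fin n) 1 := ⟨_, rfl⟩
  have hv : v ≠ 0 := by
    intro h
    have := congrFun h ⟨0, hn⟩
    rw [hvdef] at this
    simp at this
  have hinj : Function.Injective (evLin K v) := by
    rw [← LinearMap.ker_eq_bot, LinearMap.ker_eq_bot']
    intro k hk
    exact Subtype.ext (ev_inj K hinv v hv k.1 k.2 hk)
  have hsurj : Function.Surjective (evLin K v) := fun u => by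
    obtain ⟨k, hk, h⟩ := ev_surj K hinv hn hK.finrank_eq v hv u
    exact ⟨⟨k, hk⟩, h⟩
  let e : ↥K ≃ₗ[F] (Fin n → F) := LinearEquiv.ofBijective (evLin K v) ⟨hinj, hsurj⟩
  let mv : Matrix (Fin n) (Fin n) F →ₗ[F] (Fin n → F) :=
    { toFun := fun M => M *ᵥ v
      map_add' := fun a b => Matrix.add_mulVec a b v
      map_smul' := fun c a => Matrix.smul_mulVec c a v }
  let φ : (Fin n → F) →ₗ[F] (Fin n → F) :=
    mv.comp ((frobLin p hn K hK.comm).comp e.symm.toLinearMap)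
  have hφ : ∀ k (hk : k ∈ K), φ (k *ᵥ v) = (k ^ Fintype.card F) *ᵥ v := by
    intro k hk
    have h1 : e.symm (k *ᵥ v) = ⟨k, hk⟩ := by
      rw [LinearEquiv.symm_apply_eq]
      rfl
    show mv (frobLin p hn K hK.comm (e.symm (k *ᵥ v))) = _
    rw [h1]
    rfl
  have hY : ∀ k (hk : k ∈ K), LinearMap.toMatrix' φ *ᵥ (k *ᵥ v) = (k ^ Fintype.card F) *ᵥ v :=
    fun k hk => by rw [LinearMap.toMatrix'_mulVec, hφ k hk]
  have hYpow : ∀ (j : ℕ) k (hk : k ∈ K),
      (LinearMap.toMatrix' φ ^ j) *ᵥ (k *ᵥ v) = (k ^ (Fintype.card F ^ j)) *ᵥ v := by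
    intro j
    induction j with
    | zero => intro k hk; simp
    | succ j ih =>
      intro k hk
      rw [pow_succ, ← Matrix.mulVec_mulVec (k *ᵥ v) (LinearMap.toMatrix' φ ^ j)
        (LinearMap.toMatrix' φ), hY k hk, ih _ (K.pow_mem hk _), ← pow_mul, pow_succ']
  refine ⟨LinearMap.toMatrix' φ, ?_, ?_⟩
  · intro k hk
    apply mat_ext
    intro u
    obtain ⟨k', hk', rfl⟩ := ev_surj K hinv hn hK.finrank_eq v hv u
    calc (LinearMap.toMatrix' φ * k) *ᵥ (k' *ᵥ v)
        = LinearMap.toMatrix' φ *ᵥ ((k * k') *ᵥ v) := by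
          rw [← Matrix.mulVec_mulVec (k' *ᵥ v) (LinearMap.toMatrix' φ) k, Matrix.mulVec_mulVec v k k']
      _ = ((k * k') ^ Fintype.card F) *ᵥ v := hY _ (K.mul_mem hk hk')
      _ = (k ^ Fintype.card F * k' ^ Fintype.card F) *ᵥ v := by
          rw [(show Commute k k' from hK.comm k hk k' hk').mul_pow]
      _ = k ^ Fintype.card F *ᵥ (LinearMap.toMatrix' φ *ᵥ (k' *ᵥ v)) := by
          rw [hY _ hk', Matrix.mulVec_mulVec]
      _ = (k ^ Fintype.card F * LinearMap.toMatrix' φ) *ᵥ (k' *ᵥ v) := by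
          rw [Matrix.mulVec_mulVec (k' *ᵥ v) (k ^ Fintype.card F) (LinearMap.toMatrix' φ)]
  · apply mat_ext
    intro u
    obtain ⟨k, hk, rfl⟩ := ev_surj K hinv hn hK.finrank_eq v hv u
    rw [Matrix.one_mulVec, hYpow n k hk, pow_qn K hinv hn hK.finrank_eq k hk]

theorem frob_pow (K : Subalgebra F (Matrix (Fin n) (Fin n) F)) (Y : Matrix (Fin n) (Fin n) F)
    (hY2 : ∀ k ∈ K, Y * k = k ^ Fintype.card F * Y) (j : ℕ) :
    ∀ k ∈ K, Y ^ j * k = k ^ (Fintype.card F ^ j) * Y ^ j := by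
  induction j with
  | zero => intro k hk; simp
  | succ j ih =>
    intro k hk
    calc Y ^ (j + 1) * k = Y ^ j * (Y * k) := by rw [pow_succ, Matrix.mul_assoc]
      _ = Y ^ j * (k ^ Fintype.card F * Y) := by rw [hY2 k hk]
      _ = (Y ^ j * k ^ Fintype.card F) * Y := by rw [Matrix.mul_assoc]
      _ = ((k ^ Fintype.card F) ^ (Fintype.card F ^ j) * Y ^ j) * Y := by
          rw [ih _ (K.pow_mem hk _)]
      _ = k ^ (Fintype.card F ^ (j + 1)) * Y ^ (j + 1) := by
          rw [← pow_mul, ← pow_succ', Matrix.mul_assoc, ← pow_succ]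

theorem frob_norm (hn : 0 < n) (K : Subalgebra F (Matrix (Fin n) (Fin n) F)) (Y : GL (Fin n) F)
    (hY2 : ∀ k ∈ K, (Y : Matrix (Fin n) (Fin n) F) * k =
      k ^ Fintype.card F * (Y : Matrix (Fin n) (Fin n) F))
    (hYn : (Y : Matrix (Fin n) (Fin n) F) ^ n = 1) :
    Y ∈ Cfsg.Geo.subalgebraNormalizer K := by
  intro k
  constructor
  · intro hk
    rw [hY2 k hk, Matrix.mul_assoc, ← Units.val_mul, mul_inv_cancel, Units.val_one, Matrix.mul_one]
    exact K.pow_mem hk _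
  · intro hk1
    have hYn' : Y ^ n = 1 := Units.ext (by rw [Units.val_pow_eq_pow_val, hYn, Units.val_one])
    have hinvY : Y⁻¹ = Y ^ (n - 1) := by
      apply inv_eq_of_mul_eq_one_right
      rw [← pow_succ', Nat.sub_add_cancel hn, hYn']
    have h1 : ((Y⁻¹ : GL (Fin n) F) : Matrix (Fin n) (Fin n) F) * (Y : Matrix (Fin n) (Fin n) F)
        = 1 := by rw [← Units.val_mul, inv_mul_cancel, Units.val_one]
    obtain ⟨k₁, hk₁⟩ : ∃ k₁, k₁ = (Y : Matrix (Fin n) (Fin n) F) * k *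
        ((Y⁻¹ : GL (Fin n) F) : Matrix (Fin n) (Fin n) F) := ⟨_, rfl⟩
    rw [← hk₁] at hk1
    have e2 : k = ((Y⁻¹ : GL (Fin n) F) : Matrix (Fin n) (Fin n) F) * k₁ *
        (Y : Matrix (Fin n) (Fin n) F) := by
      rw [hk₁]
      calc k = (((Y⁻¹ : GL (Fin n) F) : Matrix (Fin n) (Fin n) F) *
            (Y : Matrix (Fin n) (Fin n) F)) * k *
            (((Y⁻¹ : GL (Fin n) F) : Matrix (Fin n) (Fin n) F) *
            (Y : Matrix (Fin n) (Fin n) F)) := by rw [h1, Matrix.one_mul, Matrix.mul_one]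
        _ = _ := by simp only [Matrix.mul_assoc]
    have e3 : k = k₁ ^ (Fintype.card F ^ (n - 1)) := by
      rw [e2, hinvY, Units.val_pow_eq_pow_val, frob_pow K _ hY2 (n - 1) k₁ hk1, Matrix.mul_assoc,
        ← pow_succ, Nat.sub_add_cancel hn, hYn, Matrix.mul_one]
    rw [e3]
    exact K.pow_mem hk1 _

theorem frob_ne_one (hn : 0 < n) (K : Subalgebra F (Matrix (Fin n) (Fin n) F))
    (hK : Geo.IsFieldSubalgebra n K) (Y : Matrix (Fin n) (Fin n) F)
    (hY2 : ∀ k ∈ K, Y * k = k ^ Fintype.card F * Y) (r : ℕ) (hr : r.Prime)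
    (hr1 : r ∣ Fintype.card F ^ n - 1) (hr2 : ¬ r ∣ Fintype.card F - 1) : Y ≠ 1 := by
  intro hc
  have hinv : HasInv K := hK.inv
  have hq2 : 2 ≤ Fintype.card F := Fintype.one_lt_card
  have hfix : ∀ k ∈ K, k ^ Fintype.card F = k := by
    intro k hk
    have h := hY2 k hk
    rw [hc, Matrix.one_mul, Matrix.mul_one] at h
    exact h.symm
  have hcard := card_unitsN K hinv hn hK.finrank_eq
  haveI : Fact r.Prime := ⟨hr⟩
  obtain ⟨g, hg⟩ := exists_prime_orderOf_dvd_card' r (by rw [hcard]; exact hr1)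
  have h1 : (g : GL (Fin n) F) ^ Fintype.card F = g :=
    Units.ext (by rw [Units.val_pow_eq_pow_val]; exact hfix _ g.2)
  have h2 : g ^ (Fintype.card F - 1) = 1 := by
    apply Subtype.ext
    rw [Subgroup.coe_pow, Subgroup.coe_one]
    have h3 : (g : GL (Fin n) F) ^ (Fintype.card F - 1) * g = 1 * g := by
      rw [← pow_succ, Nat.sub_add_cancel (by omega), one_mul]; exact h1
    exact mul_right_cancel h3
  have h4 := orderOf_dvd_of_pow_eq_one h2
  rw [hg] at h4
  exact hr2 h4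

end frob

section obstruction
variable {F : Type*} [Field F] [Fintype F] {n : ℕ}

theorem dvd_of_pow_sub_one_dvd (q d m : ℕ) (hq : 2 ≤ q) (h : q ^ d - 1 ∣ q ^ m - 1) : d ∣ m := by
  have hg := Nat.pow_sub_one_gcd_pow_sub_one q d m
  rw [Nat.gcd_eq_left h] at hg
  have h1 : q ^ d = q ^ (Nat.gcd d m) := by
    have a1 : 1 ≤ q ^ d := Nat.one_le_pow _ _ (by omega)
    have a2 : 1 ≤ q ^ (Nat.gcd d m) := Nat.one_le_pow _ _ (by omega)
    omega
  have h2 : d = Nat.gcd d m := Nat.pow_right_injective hq h1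
  rw [h2]
  exact Nat.gcd_dvd_right d m

/-- the eigenspaces of an element normalizing a field subalgebra of degree `n` are in bijection
with a subfield of it -/
theorem card_eig_dvd (hn : 0 < n) (K : Subalgebra F (Matrix (Fin n) (Fin n) F))
    (hK : Geo.IsFieldSubalgebra n K)
    (y : GL (Fin n) F) (hy : y ∈ Geo.subalgebraNormalizer K) (lam : F)
    (v : Fin n → F) (hv : v ≠ 0) (hvE : (y : Matrix (Fin n) (Fin n) F) *ᵥ v = lam • v) :
    Nat.card {u : Fin n → F // (y : Matrix (Fin n) (Fin n) F) *ᵥ u = lam • u} - 1 ∣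
      Fintype.card F ^ n - 1 := by
  classical
  have hinv : HasInv K := hK.inv
  have hlam : lam ≠ 0 := by
    rintro rfl
    rw [zero_smul] at hvE
    apply hv
    have h := congrArg (fun w => ((y⁻¹ : GL (Fin n) F) : Matrix (Fin n) (Fin n) F) *ᵥ w) hvE
    simp only [Matrix.mulVec_mulVec, Matrix.mulVec_zero] at h
    rw [← Units.val_mul, inv_mul_cancel, Units.val_one, Matrix.one_mulVec] at h
    exact h
  obtain ⟨C, hC⟩ : ∃ C : Subalgebra F (Matrix (Fin n) (Fin n) F),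
      C = K ⊓ Subalgebra.centralizer F {(y : Matrix (Fin n) (Fin n) F)} := ⟨_, rfl⟩
  have hCmem : ∀ k, k ∈ C ↔ k ∈ K ∧
      (y : Matrix (Fin n) (Fin n) F) * k = k * (y : Matrix (Fin n) (Fin n) F) := by
    intro k
    rw [hC, Algebra.mem_inf, Subalgebra.mem_centralizer_iff]
    simp
  have hCinv : HasInv C := by
    intro x hx hx0
    obtain ⟨hxK, hxy⟩ := (hCmem x).mp hx
    obtain ⟨x', hx'K, hxx'⟩ := hinv x hxK hx0
    have hx'x : x' * x = 1 := by rwa [mul_eq_one_comm] at hxx'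
    refine ⟨x', (hCmem x').mpr ⟨hx'K, ?_⟩, hxx'⟩
    calc (y : Matrix (Fin n) (Fin n) F) * x'
        = (x' * x) * ((y : Matrix (Fin n) (Fin n) F) * x') := by rw [hx'x, Matrix.one_mul]
      _ = x' * ((x * (y : Matrix (Fin n) (Fin n) F)) * x') := by simp only [Matrix.mul_assoc]
      _ = x' * (((y : Matrix (Fin n) (Fin n) F) * x) * x') := by rw [hxy]
      _ = x' * (y : Matrix (Fin n) (Fin n) F) * (x * x') := by simp only [Matrix.mul_assoc]
      _ = x' * (y : Matrix (Fin n) (Fin n) F) := by rw [hxx', Matrix.mul_one]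
  have hcardC : Nat.card ↥C =
      Nat.card {u : Fin n → F // (y : Matrix (Fin n) (Fin n) F) *ᵥ u = lam • u} := by
    apply Nat.card_congr
    refine Equiv.ofBijective (fun k : ↥C => ⟨(k : Matrix (Fin n) (Fin n) F) *ᵥ v, ?_⟩) ⟨?_, ?_⟩
    · obtain ⟨-, hky⟩ := (hCmem k.1).mp k.2
      rw [Matrix.mulVec_mulVec, hky, ← Matrix.mulVec_mulVec, hvE, Matrix.mulVec_smul]
    · intro a b hab
      have h1 := congrArg Subtype.val hab
      exact Subtype.ext (ev_inj' K hinv v hv a.1 b.1 ((hCmem a.1).mp a.2).1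
        ((hCmem b.1).mp b.2).1 h1)
    · rintro ⟨u, hu⟩
      obtain ⟨k, hkK, hkv⟩ := ev_surj K hinv hn hK.finrank_eq v hv u
      have hk1 := (hy k).mp hkK
      have hk1v : ((y : Matrix (Fin n) (Fin n) F) * k *
          ((y⁻¹ : GL (Fin n) F) : Matrix (Fin n) (Fin n) F)) *ᵥ v = k *ᵥ v := by
        have h1 : ((y : Matrix (Fin n) (Fin n) F) * k *
            ((y⁻¹ : GL (Fin n) F) : Matrix (Fin n) (Fin n) F)) *ᵥ (lam • v) = lam • (k *ᵥ v) := by
          rw [← hvE, Matrix.mulVec_mulVec, Matrix.mul_assoc, Matrix.mul_assoc, ← Units.val_mul,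
            inv_mul_cancel, Units.val_one, Matrix.mul_one, ← Matrix.mulVec_mulVec, hkv, hu]
        rw [Matrix.mulVec_smul] at h1
        exact smul_right_injective _ hlam h1
      have hkk : (y : Matrix (Fin n) (Fin n) F) * k *
          ((y⁻¹ : GL (Fin n) F) : Matrix (Fin n) (Fin n) F) = k :=
        ev_inj' K hinv v hv _ _ hk1 hkK hk1v
      have hyk : (y : Matrix (Fin n) (Fin n) F) * k = k * (y : Matrix (Fin n) (Fin n) F) := by
        calc (y : Matrix (Fin n) (Fin n) F) * k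
            = (y : Matrix (Fin n) (Fin n) F) * k *
              (((y⁻¹ : GL (Fin n) F) : Matrix (Fin n) (Fin n) F) *
                (y : Matrix (Fin n) (Fin n) F)) := by
              rw [← Units.val_mul, inv_mul_cancel, Units.val_one, Matrix.mul_one]
          _ = ((y : Matrix (Fin n) (Fin n) F) * k *
              ((y⁻¹ : GL (Fin n) F) : Matrix (Fin n) (Fin n) F)) *
                (y : Matrix (Fin n) (Fin n) F) := by simp only [Matrix.mul_assoc]
          _ = k * (y : Matrix (Fin n) (Fin n) F) := by rw [hkk]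
      exact ⟨⟨k, (hCmem k).mpr ⟨hkK, hyk⟩⟩, Subtype.ext hkv⟩
  have h1 : Nat.card (unitsK C hCinv) =
      Nat.card {u : Fin n → F // (y : Matrix (Fin n) (Fin n) F) *ᵥ u = lam • u} - 1 := by
    rw [card_unitsK C hCinv hn, hcardC]
  have h2 := card_unitsN K hinv hn hK.finrank_eq
  have hle : unitsK C hCinv ≤ unitsK K hinv := fun g hg => ((hCmem _).mp hg).1
  have hdvd := Subgroup.card_dvd_of_le hle
  rw [h1, h2] at hdvd
  exact hdvd

theorem no_mid (hnp : n.Prime) (K : Subalgebra F (Matrix (Fin n) (Fin n) F))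
    (hK : Geo.IsFieldSubalgebra n K)
    (y : GL (Fin n) F) (hy : y ∈ Geo.subalgebraNormalizer K) (lam : F) (d : ℕ) (hd2 : 2 ≤ d)
    (hdn : d < n)
    (hE : Nat.card {u : Fin n → F // (y : Matrix (Fin n) (Fin n) F) *ᵥ u = lam • u} =
      Fintype.card F ^ d) : False := by
  have hq2 : 2 ≤ Fintype.card F := Fintype.one_lt_card
  obtain ⟨v, hvE, hv⟩ : ∃ v : Fin n → F,
      (y : Matrix (Fin n) (Fin n) F) *ᵥ v = lam • v ∧ v ≠ 0 := by
    by_contra hcon
    push Not at hcon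
    have hsub : Subsingleton {u : Fin n → F // (y : Matrix (Fin n) (Fin n) F) *ᵥ u = lam • u} :=
      ⟨fun a b => Subtype.ext ((hcon a.1 a.2).trans (hcon b.1 b.2).symm)⟩
    have h1 : Nat.card {u : Fin n → F // (y : Matrix (Fin n) (Fin n) F) *ᵥ u = lam • u} ≤ 1 :=
      Finite.card_le_one_iff_subsingleton.mpr hsub
    rw [hE] at h1
    have h2 : Fintype.card F ^ 1 ≤ Fintype.card F ^ d := Nat.pow_le_pow_right (by omega) (by omega)
    rw [pow_one] at h2
    omega
  have h := card_eig_dvd hnp.pos K hK y hy lam v hv hvE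
  rw [hE] at h
  have hdvd := dvd_of_pow_sub_one_dvd _ d n hq2 h
  rcases (Nat.dvd_prime hnp).mp hdvd with h1 | h1 <;> omega

theorem card_conj (x : Matrix (Fin n) (Fin n) F) (P : GL (Fin n) F) (lam : F) :
    Nat.card {u : Fin n → F // (((P⁻¹ : GL (Fin n) F) : Matrix (Fin n) (Fin n) F) * x *
        (P : Matrix (Fin n) (Fin n) F)) *ᵥ u = lam • u} =
    Nat.card {u : Fin n → F // x *ᵥ u = lam • u} := by
  have hPP : (P : Matrix (Fin n) (Fin n) F) * ((P⁻¹ : GL (Fin n) F) : Matrix (Fin n) (Fin n) F)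
      = 1 := by rw [← Units.val_mul, mul_inv_cancel, Units.val_one]
  have hPP' : ((P⁻¹ : GL (Fin n) F) : Matrix (Fin n) (Fin n) F) * (P : Matrix (Fin n) (Fin n) F)
      = 1 := by rw [← Units.val_mul, inv_mul_cancel, Units.val_one]
  apply Nat.card_congr
  refine
    { toFun := fun u => ⟨(P : Matrix (Fin n) (Fin n) F) *ᵥ u.1, ?_⟩
      invFun := fun w => ⟨((P⁻¹ : GL (Fin n) F) : Matrix (Fin n) (Fin n) F) *ᵥ w.1, ?_⟩
      left_inv := fun u => Subtype.ext (by
        show ((P⁻¹ : GL (Fin n) F) : Matrix (Fin n) (Fin n) F) *ᵥ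
          ((P : Matrix (Fin n) (Fin n) F) *ᵥ u.1) = u.1
        rw [Matrix.mulVec_mulVec, hPP', Matrix.one_mulVec])
      right_inv := fun w => Subtype.ext (by
        show (P : Matrix (Fin n) (Fin n) F) *ᵥ
          (((P⁻¹ : GL (Fin n) F) : Matrix (Fin n) (Fin n) F) *ᵥ w.1) = w.1
        rw [Matrix.mulVec_mulVec, hPP, Matrix.one_mulVec]) }
  · have h := congrArg (fun w => (P : Matrix (Fin n) (Fin n) F) *ᵥ w) u.2
    simp only [Matrix.mulVec_mulVec, Matrix.mulVec_smul] at h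
    rw [← Matrix.mul_assoc, ← Matrix.mul_assoc, hPP, Matrix.one_mul] at h
    rw [Matrix.mulVec_mulVec]
    exact h
  · rw [Matrix.mulVec_mulVec, Matrix.mul_assoc, Matrix.mul_assoc, hPP, Matrix.mul_one,
      ← Matrix.mulVec_mulVec, w.2, Matrix.mulVec_smul]

end obstruction

section cyclic
variable {F : Type*} [Field F] [Fintype F] {n : ℕ}

/-- the cyclic shift matrix -/
def Cyc (n : ℕ) : Matrix (Fin n) (Fin n) F :=
  Matrix.of fun j i => if j.val = (i.val + 1) % n then 1 else 0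

theorem geom_fix (M : Matrix (Fin n) (Fin n) F) (hMn : M ^ n = 1) :
    M * (∑ i ∈ Finset.range n, M ^ i) = ∑ i ∈ Finset.range n, M ^ i := by
  have h := mul_geom_sum M n
  rw [hMn, sub_self, sub_mul, one_mul] at h
  exact sub_eq_zero.mp h

theorem geom_fix' (M : Matrix (Fin n) (Fin n) F) (hMn : M ^ n = 1) :
    (∑ i ∈ Finset.range n, M ^ i) * M = ∑ i ∈ Finset.range n, M ^ i := by
  have h : ∀ i : ℕ, M ^ i * M = M * M ^ i := fun i => by rw [← pow_succ, ← pow_succ']
  rw [Finset.sum_mul, Finset.sum_congr rfl (fun i _ => h i), ← Finset.mul_sum]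
  exact geom_fix M hMn

theorem pow_geom_fix (M : Matrix (Fin n) (Fin n) F) (hMn : M ^ n = 1) (j : ℕ) :
    M ^ j * (∑ i ∈ Finset.range n, M ^ i) = ∑ i ∈ Finset.range n, M ^ i := by
  induction j with
  | zero => simp
  | succ j ih => rw [pow_succ, Matrix.mul_assoc, geom_fix M hMn, ih]

theorem geom_sq (M : Matrix (Fin n) (Fin n) F) (hMn : M ^ n = 1) :
    (∑ i ∈ Finset.range n, M ^ i) * (∑ i ∈ Finset.range n, M ^ i) =
      (n : F) • ∑ i ∈ Finset.range n, M ^ i := by
  conv_lhs => rw [Finset.sum_mul]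
  rw [Finset.sum_congr rfl (fun j _ => pow_geom_fix M hMn j), Finset.sum_const, Finset.card_range,
    Nat.cast_smul_eq_nsmul]

theorem pow_fixed_vec (M : Matrix (Fin n) (Fin n) F) (v : Fin n → F) (hv : M *ᵥ v = v) (j : ℕ) :
    M ^ j *ᵥ v = v := by
  induction j with
  | zero => simp
  | succ j ih => rw [pow_succ, ← Matrix.mulVec_mulVec, hv, ih]

theorem geom_fixed_vec (M : Matrix (Fin n) (Fin n) F) (v : Fin n → F) (hv : M *ᵥ v = v) :
    (∑ i ∈ Finset.range n, M ^ i) *ᵥ v = (n : F) • v := by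
  rw [Matrix.sum_mulVec, Finset.sum_congr rfl (fun j _ => pow_fixed_vec M v hv j), Finset.sum_const,
    Finset.card_range, Nat.cast_smul_eq_nsmul]

/-- an invariant subspace on which a matrix of prime order `n` acts without nonzero fixed vectors
has cardinality `≡ 1` modulo `n` -/
theorem card_inv_modEq (hnp : n.Prime) (hnF : (n : F) ≠ 0) (M : Matrix (Fin n) (Fin n) F)
    (hMn : M ^ n = 1) (W : Submodule F (Fin n → F)) (hW : ∀ w ∈ W, M *ᵥ w ∈ W)
    (hWN : ∀ w ∈ W, (∑ i ∈ Finset.range n, M ^ i) *ᵥ w = 0) :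
    Nat.card W ≡ 1 [MOD n] := by
  classical
  haveI : Fact n.Prime := ⟨hnp⟩
  haveI : Fintype W := Fintype.ofFinite _
  let f : Function.End W := fun w => ⟨M *ᵥ w.1, hW w.1 w.2⟩
  have hfpow : ∀ (j : ℕ) (w : W), ((f ^ j) w : Fin n → F) = M ^ j *ᵥ (w : Fin n → F) := by
    intro j
    induction j with
    | zero =>
      intro w
      rw [pow_zero, pow_zero, Matrix.one_mulVec]
      rfl
    | succ j ih =>
      intro w
      rw [pow_succ]
      show ((f ^ j) (f w) : Fin n → F) = _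
      rw [ih (f w)]
      show M ^ j *ᵥ (M *ᵥ (w : Fin n → F)) = _
      rw [Matrix.mulVec_mulVec, ← pow_succ]
  have hf : f ^ n ^ 1 = 1 := by
    rw [pow_one]
    funext w
    apply Subtype.ext
    rw [hfpow, hMn, Matrix.one_mulVec]
    rfl
  have h := Equiv.Perm.card_fixedPoints_modEq (p := n) (n := 1) hf
  have hfix : Fintype.card (Function.fixedPoints f) = 1 := by
    rw [Fintype.card_eq_one_iff]
    refine ⟨⟨0, ?_⟩, ?_⟩
    · show f 0 = 0
      apply Subtype.ext
      show M *ᵥ (0 : Fin n → F) = 0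
      exact Matrix.mulVec_zero M
    · rintro ⟨w, hw⟩
      apply Subtype.ext
      apply Subtype.ext
      have h1 : M *ᵥ (w : Fin n → F) = w := congrArg Subtype.val hw
      have h2 := geom_fixed_vec M _ h1
      rw [hWN w.1 w.2] at h2
      exact (smul_eq_zero.mp h2.symm).resolve_left hnF
  rw [hfix] at h
  rw [Nat.card_eq_fintype_card]
  exact h

/-- a matrix of prime order `n` in dimension `n` is conjugate to the cyclic shift when `q` has
order `n - 1` modulo `n` -/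
theorem exists_cyclic (hnp : n.Prime) (hn3 : 3 ≤ n) (hnF : (n : F) ≠ 0)
    (hord : orderOf ((Fintype.card F : ℕ) : ZMod n) = n - 1)
    (M : Matrix (Fin n) (Fin n) F) (hMn : M ^ n = 1) (hM1 : M ≠ 1) :
    ∃ g : Matrix (Fin n) (Fin n) F, g.det ≠ 0 ∧ M * g = g * Cyc n := by
  classical
  obtain ⟨N, hN⟩ : ∃ N : Matrix (Fin n) (Fin n) F, N = ∑ i ∈ Finset.range n, M ^ i := ⟨_, rfl⟩
  have hMN : M * N = N := by rw [hN]; exact geom_fix M hMn
  have hNM : N * M = N := by rw [hN]; exact geom_fix' M hMn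
  have hNN : N * N = (n : F) • N := by rw [hN]; exact geom_sq M hMn
  have hdiv : ∀ W : Submodule F (Fin n → F), (∀ w ∈ W, M *ᵥ w ∈ W) → (∀ w ∈ W, N *ᵥ w = 0) →
      (n - 1) ∣ Module.finrank F W := by
    intro W hW hWN
    have h1 := card_inv_modEq hnp hnF M hMn W hW (by rw [← hN]; exact hWN)
    rw [Module.natCard_eq_pow_finrank (K := F) (V := W), Nat.card_eq_fintype_card] at h1
    have h2 : (((Fintype.card F : ℕ) : ZMod n)) ^ Module.finrank F W = 1 := by
      have := (ZMod.natCast_eq_natCast_iff _ _ _).mpr h1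
      push_cast at this
      exact this
    have h3 := orderOf_dvd_of_pow_eq_one h2
    rwa [hord] at h3
  obtain ⟨v₁, hv₁N, hv₁⟩ : ∃ v₁ : Fin n → F, N *ᵥ v₁ = 0 ∧ v₁ ≠ 0 := by
    by_contra hcon
    push Not at hcon
    apply hM1
    apply mat_ext
    intro u
    have h1 : N *ᵥ ((n : F) • u - N *ᵥ u) = 0 := by
      rw [Matrix.mulVec_sub, Matrix.mulVec_smul, Matrix.mulVec_mulVec, hNN, Matrix.smul_mulVec,
        sub_self]
    have h2 := hcon _ h1
    have h3 : N *ᵥ u = (n : F) • u := (sub_eq_zero.mp h2).symm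
    have h4 : M *ᵥ ((n : F) • u) = (n : F) • u := by
      rw [← h3, Matrix.mulVec_mulVec, hMN]
    rw [Matrix.mulVec_smul] at h4
    rw [Matrix.one_mulVec]
    exact smul_right_injective _ hnF h4
  obtain ⟨v₀, hv₀M, hv₀⟩ : ∃ v₀ : Fin n → F, M *ᵥ v₀ = v₀ ∧ v₀ ≠ 0 := by
    by_contra hcon
    push Not at hcon
    have hN0 : ∀ u, N *ᵥ u = 0 := by
      intro u
      apply hcon
      rw [Matrix.mulVec_mulVec, hMN]
    have h1 := hdiv ⊤ (fun w _ => Submodule.mem_top) (fun w _ => hN0 w)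
    rw [finrank_top, Module.finrank_fin_fun] at h1
    obtain ⟨c, hc⟩ := h1
    rcases c with _ | _ | c
    · omega
    · omega
    · have : n = (n - 1) * (c + 2) := hc
      have h5 : 2 * (n - 1) ≤ (n - 1) * (c + 2) := by
        rw [mul_comm]; exact Nat.mul_le_mul_left _ (by omega)
      omega
  obtain ⟨v, hvdef⟩ : ∃ v : Fin n → F, v = v₀ + v₁ := ⟨_, rfl⟩
  have hNv₀ : N *ᵥ v₀ = (n : F) • v₀ := by rw [hN]; exact geom_fixed_vec M v₀ hv₀M
  have hNv : N *ᵥ v = (n : F) • v₀ := by rw [hvdef, Matrix.mulVec_add, hNv₀, hv₁N, add_zero]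
  obtain ⟨W, hWdef⟩ : ∃ W : Submodule F (Fin n → F),
      W = Submodule.span F (Set.range fun i : ℕ => M ^ i *ᵥ v) := ⟨_, rfl⟩
  have hgen : ∀ i : ℕ, M ^ i *ᵥ v ∈ W := fun i => by
    rw [hWdef]; exact Submodule.subset_span ⟨i, rfl⟩
  have hWinv : ∀ w ∈ W, M *ᵥ w ∈ W := by
    intro w hw
    rw [hWdef] at hw
    induction hw using Submodule.span_induction with
    | mem x hx =>
      obtain ⟨i, rfl⟩ := hx
      rw [Matrix.mulVec_mulVec, ← pow_succ']
      exact hgen (i + 1)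
    | zero => rw [Matrix.mulVec_zero]; exact W.zero_mem
    | add x y _ _ hx hy => rw [Matrix.mulVec_add]; exact W.add_mem hx hy
    | smul c x _ hx => rw [Matrix.mulVec_smul]; exact W.smul_mem c hx
  have hvW : v ∈ W := by
    have := hgen 0
    rwa [pow_zero, Matrix.one_mulVec] at this
  have hNvW : N *ᵥ v ∈ W := by
    rw [hN, Matrix.sum_mulVec]
    exact W.sum_mem (fun i _ => hgen i)
  obtain ⟨W', hW'def⟩ : ∃ W' : Submodule F (Fin n → F),
      W' = W ⊓ LinearMap.ker (Matrix.mulVecLin N) := ⟨_, rfl⟩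
  have hW'mem : ∀ w, w ∈ W' ↔ w ∈ W ∧ N *ᵥ w = 0 := by
    intro w
    rw [hW'def, Submodule.mem_inf, LinearMap.mem_ker, Matrix.mulVecLin_apply]
  have hW'inv : ∀ w ∈ W', M *ᵥ w ∈ W' := by
    intro w hw
    obtain ⟨h1, h2⟩ := (hW'mem w).mp hw
    refine (hW'mem _).mpr ⟨hWinv w h1, ?_⟩
    rw [Matrix.mulVec_mulVec, hNM, h2]
  have hW'N : ∀ w ∈ W', N *ᵥ w = 0 := fun w hw => ((hW'mem w).mp hw).2
  have hd' := hdiv W' hW'inv hW'N
  have hv₁W' : (n : F) • v₁ ∈ W' := by
    refine (hW'mem _).mpr ⟨?_, ?_⟩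
    · have : (n : F) • v₁ = (n : F) • v - N *ᵥ v := by
        rw [hNv, hvdef, smul_add, add_sub_cancel_left]
      rw [this]
      exact W.sub_mem (W.smul_mem _ hvW) hNvW
    · rw [Matrix.mulVec_smul, hv₁N, smul_zero]
  have hv₁ne : (n : F) • v₁ ≠ 0 := smul_ne_zero hnF hv₁
  have hpos : 0 < Module.finrank F W' := by
    rw [Module.finrank_pos_iff_exists_ne_zero]
    exact ⟨⟨_, hv₁W'⟩, fun h => hv₁ne (congrArg Subtype.val h)⟩
  have hge : n - 1 ≤ Module.finrank F W' := Nat.le_of_dvd hpos hd'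
  have hlt : W' < W := by
    refine lt_of_le_of_ne (by rw [hW'def]; exact inf_le_left) ?_
    intro heq
    have h1 : N *ᵥ v ∈ W' := by rw [heq]; exact hNvW
    have h2 := ((hW'mem _).mp h1).2
    rw [hNv, Matrix.mulVec_smul, hNv₀, smul_smul] at h2
    rcases smul_eq_zero.mp h2 with h | h
    · exact hnF (mul_self_eq_zero.mp h)
    · exact hv₀ h
  have hWtop : W = ⊤ := by
    apply Submodule.eq_top_of_finrank_eq
    rw [Module.finrank_fin_fun]
    have h1 := Submodule.finrank_lt_finrank_of_lt hlt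
    have h2 := Submodule.finrank_le W
    rw [Module.finrank_fin_fun] at h2
    omega
  obtain ⟨b, hb⟩ : ∃ b : Fin n → (Fin n → F), b = fun i => M ^ i.val *ᵥ v := ⟨_, rfl⟩
  have hspan : ⊤ ≤ Submodule.span F (Set.range b) := by
    rw [← hWtop, hWdef, Submodule.span_le]
    rintro _ ⟨i, rfl⟩
    apply Submodule.subset_span
    refine ⟨⟨i % n, Nat.mod_lt _ hnp.pos⟩, ?_⟩
    rw [hb]
    show M ^ (i % n) *ᵥ v = M ^ i *ᵥ v
    rw [← pow_eq_pow_mod i hMn]
  have hli : LinearIndependent F b :=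
    linearIndependent_of_top_le_span_of_card_eq_finrank hspan
      (by rw [Fintype.card_fin, Module.finrank_fin_fun])
  obtain ⟨g, hg⟩ : ∃ g : Matrix (Fin n) (Fin n) F, g = Matrix.of fun j i => b i j := ⟨_, rfl⟩
  have hgw : ∀ w : Fin n → F, g *ᵥ w = ∑ i, w i • b i := by
    intro w
    funext j
    rw [hg]
    simp only [Matrix.mulVec, dotProduct, Matrix.of_apply, Finset.sum_apply, Pi.smul_apply,
      smul_eq_mul]
    exact Finset.sum_congr rfl (fun i _ => mul_comm _ _)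
  refine ⟨g, ?_, ?_⟩
  · intro hdet
    obtain ⟨w, hw0, hw⟩ := Matrix.exists_mulVec_eq_zero_iff.mpr hdet
    rw [hgw] at hw
    apply hw0
    funext i
    exact Fintype.linearIndependent_iff.mp hli w hw i
  · ext j i
    rw [Matrix.mul_apply, Matrix.mul_apply]
    have hL : ∑ k, M j k * g k i = (M ^ (i.val + 1) *ᵥ v) j := by
      rw [pow_succ', ← Matrix.mulVec_mulVec]
      rw [hg, hb]
      rfl
    have hR : ∑ k, g j k * Cyc (F := F) n k i = (M ^ ((i.val + 1) % n) *ᵥ v) j := by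
      rw [Finset.sum_eq_single (⟨(i.val + 1) % n, Nat.mod_lt _ hnp.pos⟩ : Fin n)]
      · rw [hg, hb]
        simp [Cyc]
      · intro k _ hk
        have : ¬ (k.val = (i.val + 1) % n) := fun h => hk (Fin.ext h)
        simp [Cyc, this]
      · intro h
        exact absurd (Finset.mem_univ _) h
    rw [hL, hR, ← pow_eq_pow_mod (i.val + 1) hMn]

end cyclic

section bad
variable {F : Type*} [Field F] [Fintype F]

theorem fromBlocks_pow {a b : ℕ} (g : Matrix (Fin b) (Fin b) F) (j : ℕ) :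
    (Matrix.fromBlocks (1 : Matrix (Fin a) (Fin a) F) 0 0 g) ^ j =
      Matrix.fromBlocks 1 0 0 (g ^ j) := by
  induction j with
  | zero => rw [pow_zero, pow_zero, Matrix.fromBlocks_one]
  | succ j ih =>
    rw [pow_succ, ih, Matrix.fromBlocks_multiply]
    simp [pow_succ]

theorem dvd_card_SL (n : ℕ) (hnp : n.Prime) (hn5 : 5 ≤ n)
    (hq0 : ((Fintype.card F : ℕ) : ZMod n) ≠ 0)
    (hord : orderOf ((Fintype.card F : ℕ) : ZMod n) ≠ n - 1) :
    ∃ m : ℕ, 2 ≤ m ∧ m + 2 ≤ n ∧ n ∣ Nat.card (Matrix.SpecialLinearGroup (Fin m) F) := by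
  haveI : Fact n.Prime := ⟨hnp⟩
  obtain ⟨e, he⟩ : ∃ e, e = orderOf ((Fintype.card F : ℕ) : ZMod n) := ⟨_, rfl⟩
  have hq2 : 2 ≤ Fintype.card F := Fintype.one_lt_card
  have hfermat := ZMod.pow_card_sub_one_eq_one hq0
  have hdvd : e ∣ n - 1 := by rw [he]; exact orderOf_dvd_of_pow_eq_one hfermat
  have he1 : 1 ≤ e := by
    rcases Nat.eq_zero_or_pos e with h | h
    · rw [h] at hdvd
      have := Nat.eq_zero_of_zero_dvd hdvd
      omega
    · exact h
  have he2 : 2 * e ≤ n - 1 := by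
    obtain ⟨c, hc⟩ := hdvd
    rcases c with _ | _ | c
    · omega
    · exfalso
      apply hord
      rw [← he]
      omega
    · rw [hc]
      nlinarith
  have hpow : ((Fintype.card F : ℕ) : ZMod n) ^ e = 1 := by rw [he]; exact pow_orderOf_eq_one _
  have hnd : n ∣ Fintype.card F ^ e - 1 := by
    have h1 : 1 ≤ Fintype.card F ^ e := Nat.one_le_pow _ _ (by omega)
    rw [← ZMod.natCast_eq_zero_iff, Nat.cast_sub h1, Nat.cast_pow, hpow, Nat.cast_one, sub_self]
  by_cases h1 : e = 1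
  · refine ⟨2, le_refl _, by omega, ?_⟩
    have hprod := Cfsg.Agent.S0242.result (F := F) rfl 2 (by norm_num)
    rw [Fin.prod_univ_two] at hprod
    simp only [Fin.val_zero, Fin.val_one, pow_zero, pow_one] at hprod
    rw [h1, pow_one] at hnd
    have e1 : Fintype.card F ^ 2 - Fintype.card F = (Fintype.card F - 1) * Fintype.card F := by
      obtain ⟨j, hj⟩ : ∃ j, Fintype.card F = j + 1 := ⟨Fintype.card F - 1, by omega⟩
      rw [hj]
      simp only [Nat.add_sub_cancel]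
      have : (j + 1) ^ 2 = j * (j + 1) + (j + 1) := by ring
      omega
    have e2 : Nat.card (Matrix.SpecialLinearGroup (Fin 2) F) =
        (Fintype.card F ^ 2 - 1) * Fintype.card F := by
      have hpos : 0 < Fintype.card F - 1 := by omega
      apply Nat.eq_of_mul_eq_mul_left hpos
      rw [hprod, e1]
      ring
    rw [e2]
    have e3 : Fintype.card F - 1 ∣ Fintype.card F ^ 2 - 1 := by
      have := Nat.sub_dvd_pow_sub_pow (Fintype.card F) 1 2
      simpa using this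
    exact Dvd.dvd.mul_right (hnd.trans e3) _
  · have he2' : 2 ≤ e := by omega
    refine ⟨e, he2', by omega, ?_⟩
    have hprod := Cfsg.Agent.S0242.result (F := F) rfl e (by omega)
    have h2 : n ∣ ∏ i : Fin e, (Fintype.card F ^ e - Fintype.card F ^ (i : ℕ)) := by
      refine Dvd.dvd.trans ?_ (Finset.dvd_prod_of_mem _ (Finset.mem_univ (⟨0, by omega⟩ : Fin e)))
      simpa using hnd
    rw [← hprod] at h2
    have h3 : ¬ n ∣ Fintype.card F - 1 := by
      intro h
      have h4 : ((Fintype.card F : ℕ) : ZMod n) ^ 1 = 1 := by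
        rw [pow_one]
        have h5 : (((Fintype.card F - 1 : ℕ)) : ZMod n) = 0 := (ZMod.natCast_eq_zero_iff _ _).mpr h
        rw [Nat.cast_sub (by omega), Nat.cast_one, sub_eq_zero] at h5
        exact h5
      have h6 := orderOf_dvd_of_pow_eq_one h4
      rw [← he] at h6
      exact h1 (Nat.dvd_one.mp h6)
    exact (hnp.dvd_mul.mp h2).resolve_left h3

theorem exists_bad (n : ℕ) (hnp : n.Prime) (m : ℕ) (hm2 : 2 ≤ m) (hmn : m + 2 ≤ n)
    (hdvd : n ∣ Nat.card (Matrix.SpecialLinearGroup (Fin m) F)) :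
    ∃ x : Matrix.SpecialLinearGroup (Fin n) F,
      (x : Matrix (Fin n) (Fin n) F) ^ n = 1 ∧ (x : Matrix (Fin n) (Fin n) F) ≠ 1 ∧
      ∃ d : ℕ, 2 ≤ d ∧ d < n ∧
        Nat.card {u : Fin n → F // (x : Matrix (Fin n) (Fin n) F) *ᵥ u = (1 : F) • u} =
          Fintype.card F ^ d := by
  classical
  haveI : Fact n.Prime := ⟨hnp⟩
  obtain ⟨g, hg⟩ := exists_prime_orderOf_dvd_card' n hdvd
  have hsum : (n - m) + m = n := by omega
  obtain ⟨e, he⟩ : ∃ e : Fin (n - m) ⊕ Fin m ≃ Fin n,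
      e = finSumFinEquiv.trans (finCongr hsum) := ⟨_, rfl⟩
  obtain ⟨B, hB⟩ : ∃ B : Matrix (Fin (n - m) ⊕ Fin m) (Fin (n - m) ⊕ Fin m) F,
      B = Matrix.fromBlocks 1 0 0 (g : Matrix (Fin m) (Fin m) F) := ⟨_, rfl⟩
  obtain ⟨X, hX⟩ : ∃ X : Matrix (Fin n) (Fin n) F, X = Matrix.reindexAlgEquiv F F e B :=
    ⟨_, rfl⟩
  have hXdet : X.det = 1 := by
    rw [hX, Matrix.det_reindexAlgEquiv, hB, Matrix.det_fromBlocks_zero₂₁, Matrix.det_one, one_mul]
    exact g.prop
  have hBn : B ^ n = 1 := by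
    rw [hB, fromBlocks_pow, ← Matrix.SpecialLinearGroup.coe_pow, ← hg, pow_orderOf_eq_one,
      Matrix.SpecialLinearGroup.coe_one, Matrix.fromBlocks_one]
  have hXn : X ^ n = 1 := by rw [hX, ← map_pow, hBn, map_one]
  have hX1 : X ≠ 1 := by
    intro h
    rw [hX] at h
    have h1 : B = 1 := by
      apply (Matrix.reindexAlgEquiv F F e).injective
      rw [h, map_one]
    rw [hB, ← Matrix.fromBlocks_one, Matrix.fromBlocks_inj] at h1
    have h2 : g = 1 := Subtype.ext h1.2.2.2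
    rw [h2, orderOf_one] at hg
    exact hnp.one_lt.ne hg
  obtain ⟨x, hx⟩ : ∃ x : Matrix.SpecialLinearGroup (Fin n) F,
      (x : Matrix (Fin n) (Fin n) F) = X := ⟨⟨X, hXdet⟩, rfl⟩
  refine ⟨x, by rw [hx]; exact hXn, by rw [hx]; exact hX1, ?_⟩
  obtain ⟨W, hW⟩ : ∃ W : Submodule F (Fin n → F),
      W = LinearMap.ker (Matrix.mulVecLin (X - 1)) := ⟨_, rfl⟩
  have hWmem : ∀ u, u ∈ W ↔ X *ᵥ u = u := by
    intro u
    rw [hW, LinearMap.mem_ker, Matrix.mulVecLin_apply, Matrix.sub_mulVec, Matrix.one_mulVec,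
      sub_eq_zero]
  refine ⟨Module.finrank F W, ?_, ?_, ?_⟩
  · have h0 : 0 < n - m := by omega
    have h1 : 1 < n - m := by omega
    obtain ⟨j₁, hj₁⟩ : ∃ j : Fin n, j = e (Sum.inl ⟨0, h0⟩) := ⟨_, rfl⟩
    obtain ⟨j₂, hj₂⟩ : ∃ j : Fin n, j = e (Sum.inl ⟨1, h1⟩) := ⟨_, rfl⟩
    have hj : j₁ ≠ j₂ := by
      rw [hj₁, hj₂]
      intro h
      have := e.injective h
      simp at this
    have hfix : ∀ a : Fin (n - m),
        X *ᵥ Pi.single (e (Sum.inl a)) 1 = Pi.single (e (Sum.inl a)) 1 := by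
      intro a
      rw [Matrix.mulVec_single_one]
      funext i
      show X i (e (Sum.inl a)) = _
      rw [hX, Matrix.reindexAlgEquiv_apply, Matrix.reindex_apply, Matrix.submatrix_apply,
        Equiv.symm_apply_apply, hB]
      rcases h : e.symm i with a' | c
      · rw [Matrix.fromBlocks_apply₁₁, Matrix.one_apply, Pi.single_apply]
        have hi : i = e (Sum.inl a') := by rw [← h, Equiv.apply_symm_apply]
        rw [hi]
        simp [e.injective.eq_iff]
      · rw [Matrix.fromBlocks_apply₂₁, Matrix.zero_apply, Pi.single_apply]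
        have hi : i = e (Sum.inr c) := by rw [← h, Equiv.apply_symm_apply]
        rw [hi]
        simp [e.injective.eq_iff]
    have hli : LinearIndependent F ![(Pi.single j₁ 1 : Fin n → F), Pi.single j₂ 1] := by
      rw [LinearIndependent.pair_iff]
      intro s t hst
      have h1 := congrFun hst j₁
      have h2 := congrFun hst j₂
      simp [Pi.single_apply, hj, hj.symm] at h1 h2
      exact ⟨h1, h2⟩
    have hspan : Submodule.span F (Set.range ![(Pi.single j₁ 1 : Fin n → F), Pi.single j₂ 1])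
        ≤ W := by
      rw [Submodule.span_le]
      rintro _ ⟨i, rfl⟩
      fin_cases i
      · exact (hWmem _).mpr (by rw [hj₁]; exact hfix _)
      · exact (hWmem _).mpr (by rw [hj₂]; exact hfix _)
    have := Submodule.finrank_mono hspan
    rw [finrank_span_eq_card hli, Fintype.card_fin] at this
    exact this
  · have hne : W ≠ ⊤ := by
      intro h
      apply hX1
      apply mat_ext
      intro u
      rw [Matrix.one_mulVec]
      exact (hWmem u).mp (by rw [h]; exact Submodule.mem_top)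
    have := Submodule.finrank_lt hne
    rwa [Module.finrank_fin_fun] at this
  · rw [← Nat.card_eq_fintype_card (α := F), ← Module.natCard_eq_pow_finrank (K := F) (V := W)]
    apply Nat.card_congr
    exact Equiv.subtypeEquivRight (fun u => by rw [hx, one_smul]; exact (hWmem u).symm)

end bad

section main
variable {F : Type*} [Field F] [Fintype F] {n : ℕ}

theorem geom_nat (j m : ℕ) : j * ∑ i ∈ Finset.range m, (j + 1) ^ i + 1 = (j + 1) ^ m := by
  induction m with
  | zero => simp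
  | succ m ih =>
    calc j * ∑ i ∈ Finset.range (m + 1), (j + 1) ^ i + 1
        = (j * ∑ i ∈ Finset.range m, (j + 1) ^ i + 1) + j * (j + 1) ^ m := by
          rw [Finset.sum_range_succ]; ring
      _ = (j + 1) ^ m + j * (j + 1) ^ m := by rw [ih]
      _ = (j + 1) ^ (m + 1) := by ring

theorem exists_prime_qn (q m : ℕ) (hq : 2 ≤ q) (hmp : m.Prime) (hmq : ¬ m ∣ q - 1) :
    ∃ r : ℕ, r.Prime ∧ r ∣ q ^ m - 1 ∧ ¬ r ∣ q - 1 := by
  obtain ⟨j, rfl⟩ : ∃ j, q = j + 1 := ⟨q - 1, by omega⟩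
  obtain ⟨Φ, hΦ⟩ : ∃ Φ, Φ = ∑ i ∈ Finset.range m, (j + 1) ^ i := ⟨_, rfl⟩
  have hgeo : j * Φ + 1 = (j + 1) ^ m := by rw [hΦ]; exact geom_nat j m
  have hΦ1 : Φ ≠ 1 := by
    intro h
    rw [h, mul_one] at hgeo
    have h1 : (j + 1) ^ 1 = (j + 1) ^ m := by rw [pow_one]; exact hgeo
    have h2 := Nat.pow_right_injective hq h1
    exact hmp.one_lt.ne h2
  obtain ⟨r, hrdef⟩ : ∃ r, r = Φ.minFac := ⟨_, rfl⟩
  have hr : r.Prime := by rw [hrdef]; exact Nat.minFac_prime hΦ1
  have hrΦ : r ∣ Φ := by rw [hrdef]; exact Nat.minFac_dvd Φ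
  refine ⟨r, hr, ?_, ?_⟩
  · have h1 : (j + 1) ^ m - 1 = j * Φ := by omega
    rw [h1]
    exact Dvd.dvd.mul_left hrΦ _
  · intro hd
    simp only [Nat.add_sub_cancel] at hd hmq
    haveI : Fact r.Prime := ⟨hr⟩
    have hq1 : (((j + 1 : ℕ)) : ZMod r) = 1 := by
      have h5 : ((j : ℕ) : ZMod r) = 0 := (ZMod.natCast_eq_zero_iff _ _).mpr hd
      rw [Nat.cast_add, h5, zero_add, Nat.cast_one]
    have h2 : ((Φ : ℕ) : ZMod r) = (m : ZMod r) := by
      rw [hΦ, Nat.cast_sum]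
      simp only [Nat.cast_pow, hq1, one_pow, Finset.sum_const, Finset.card_range, nsmul_eq_mul,
        mul_one]
    have h3 : ((Φ : ℕ) : ZMod r) = 0 := (ZMod.natCast_eq_zero_iff _ _).mpr hrΦ
    rw [h3] at h2
    have h4 := (ZMod.natCast_eq_zero_iff _ _).mp h2.symm
    have h5 : r = m := (Nat.prime_dvd_prime_iff_eq hr hmp).mp h4
    rw [h5] at hd
    exact hmq hd

theorem exists_root (hco : Nat.Coprime (Nat.card Fˣ) n) (a : F) (ha : a ≠ 0) :
    ∃ c : F, c ≠ 0 ∧ c ^ n = a := by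
  obtain ⟨c, hc⟩ := (powCoprime hco).surjective (Units.mk0 a ha)
  refine ⟨c.val, c.ne_zero, ?_⟩
  have h := congrArg Units.val hc
  simpa [powCoprime] using h

theorem det_inv_ne' (g : Matrix (Fin n) (Fin n) F) (hg : g.det ≠ 0) : g⁻¹.det ≠ 0 := by
  have hu : IsUnit g.det := isUnit_iff_ne_zero.mpr hg
  have h := congrArg Matrix.det (Matrix.mul_nonsing_inv g hu)
  rw [Matrix.det_mul, Matrix.det_one] at h
  exact right_ne_zero_of_mul_eq_one h

theorem smul_mem_norm (K : Subalgebra F (Matrix (Fin n) (Fin n) F)) (Yg Zg : GL (Fin n) F) (c : F)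
    (hc : c ≠ 0) (hZ : (Zg : Matrix (Fin n) (Fin n) F) = c • (Yg : Matrix (Fin n) (Fin n) F))
    (hY : Yg ∈ Cfsg.Geo.subalgebraNormalizer K) : Zg ∈ Cfsg.Geo.subalgebraNormalizer K := by
  have hinv : ((Zg⁻¹ : GL (Fin n) F) : Matrix (Fin n) (Fin n) F) =
      c⁻¹ • ((Yg⁻¹ : GL (Fin n) F) : Matrix (Fin n) (Fin n) F) := by
    apply Units.inv_eq_of_mul_eq_one_right
    rw [hZ, Matrix.smul_mul, Matrix.mul_smul, smul_smul, mul_inv_cancel₀ hc, one_smul,
      ← Units.val_mul, mul_inv_cancel, Units.val_one]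
  intro k
  have e : (Zg : Matrix (Fin n) (Fin n) F) * k * ((Zg⁻¹ : GL (Fin n) F) : Matrix (Fin n) (Fin n) F)
      = (Yg : Matrix (Fin n) (Fin n) F) * k *
        ((Yg⁻¹ : GL (Fin n) F) : Matrix (Fin n) (Fin n) F) := by
    rw [hZ, hinv, Matrix.smul_mul, Matrix.smul_mul, Matrix.mul_smul, smul_smul,
      mul_inv_cancel₀ hc, one_smul]
  rw [e]
  exact hY k

theorem finish (K : Subalgebra F (Matrix (Fin n) (Fin n) F)) (Ym : Matrix (Fin n) (Fin n) F)
    (hN : ∀ Yg : GL (Fin n) F, (Yg : Matrix (Fin n) (Fin n) F) = Ym →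
        Yg ∈ Cfsg.Geo.subalgebraNormalizer K)
    (x : Matrix.SpecialLinearGroup (Fin n) F) (P : Matrix (Fin n) (Fin n) F) (hP : P.det = 1)
    (hxP : (x : Matrix (Fin n) (Fin n) F) * P = P * Ym) :
    ∃ Ps : Matrix.SpecialLinearGroup (Fin n) F, Ps⁻¹ * x * Ps ∈
      (Cfsg.Geo.subalgebraNormalizer K).comap
      (Matrix.SpecialLinearGroup.toGL :
        Matrix.SpecialLinearGroup (Fin n) F →* GL (Fin n) F) := by
  obtain ⟨Ps, hPs⟩ : ∃ x : Matrix.SpecialLinearGroup (Fin n) F,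
      (x : Matrix (Fin n) (Fin n) F) = P := ⟨⟨_, hP⟩, rfl⟩
  refine ⟨Ps, ?_⟩
  rw [Subgroup.mem_comap]
  apply hN
  show ((Ps⁻¹ * x * Ps : Matrix.SpecialLinearGroup (Fin n) F) : Matrix (Fin n) (Fin n) F) = Ym
  rw [Matrix.SpecialLinearGroup.coe_mul, Matrix.SpecialLinearGroup.coe_mul, Matrix.mul_assoc,
    hPs, hxP, ← Matrix.mul_assoc]
  have h1 : ((Ps⁻¹ : Matrix.SpecialLinearGroup (Fin n) F) : Matrix (Fin n) (Fin n) F) * P = 1 := by
    rw [← hPs, ← Matrix.SpecialLinearGroup.coe_mul, inv_mul_cancel,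
      Matrix.SpecialLinearGroup.coe_one]
  rw [h1, Matrix.one_mul]

theorem no_conj_mid (hnp : n.Prime) (K : Subalgebra F (Matrix (Fin n) (Fin n) F))
    (hK : Geo.IsFieldSubalgebra n K) (x : Matrix.SpecialLinearGroup (Fin n) F) (d : ℕ)
    (hd2 : 2 ≤ d) (hdn : d < n)
    (hx : Nat.card {u : Fin n → F // (x : Matrix (Fin n) (Fin n) F) *ᵥ u = (1 : F) • u} =
      Fintype.card F ^ d)
    (P : Matrix.SpecialLinearGroup (Fin n) F)
    (hP : P⁻¹ * x * P ∈ (Cfsg.Geo.subalgebraNormalizer K).comap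
      (Matrix.SpecialLinearGroup.toGL : Matrix.SpecialLinearGroup (Fin n) F →* GL (Fin n) F)) :
    False := by
  rw [Subgroup.mem_comap] at hP
  have h1 := card_conj (x : Matrix (Fin n) (Fin n) F) (Matrix.SpecialLinearGroup.toGL P) 1
  rw [hx] at h1
  refine no_mid hnp K hK _ hP 1 d hd2 hdn ?_
  rw [← h1]
  have e : ((Matrix.SpecialLinearGroup.toGL (P⁻¹ * x * P) : GL (Fin n) F) :
      Matrix (Fin n) (Fin n) F) =
      (((Matrix.SpecialLinearGroup.toGL P)⁻¹ : GL (Fin n) F) : Matrix (Fin n) (Fin n) F) *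
        (x : Matrix (Fin n) (Fin n) F) *
        ((Matrix.SpecialLinearGroup.toGL P : GL (Fin n) F) : Matrix (Fin n) (Fin n) F) := by
    rw [map_mul, map_mul, map_inv]
    rfl
  rw [e]

/-- S5970: elements of order `n` of `PSL_n(q)` (`n > 3` prime, `n ≠ p`) and the normalizer of a
field subalgebra of degree `n` -/
theorem key (p : ℕ) [Fact p.Prime] [CharP F p] (n : ℕ) (hnp : n.Prime) (hn3 : 3 < n) (hne : n ≠ p)
    (K : Subalgebra F (Matrix (Fin n) (Fin n) F)) (hK : Geo.IsFieldSubalgebra n K) :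
    (∀ x : Matrix.SpecialLinearGroup (Fin n) F,
      (∃ z : F, ((x ^ n : Matrix.SpecialLinearGroup (Fin n) F) : Matrix (Fin n) (Fin n) F) =
        z • (1 : Matrix (Fin n) (Fin n) F)) →
      (∀ z : F, (x : Matrix (Fin n) (Fin n) F) ≠ z • (1 : Matrix (Fin n) (Fin n) F)) →
      ∃ P : Matrix.SpecialLinearGroup (Fin n) F, P⁻¹ * x * P ∈
        ((Cfsg.Geo.subalgebraNormalizer K).comap
          (Matrix.SpecialLinearGroup.toGL :
            Matrix.SpecialLinearGroup (Fin n) F →* GL (Fin n) F))) ↔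
    orderOf ((Fintype.card F : ℕ) : ZMod n) = n - 1 := by
  classical
  haveI : Fact n.Prime := ⟨hnp⟩
  have hpp : p.Prime := Fact.out
  have hq2 : 2 ≤ Fintype.card F := Fintype.one_lt_card
  have hn5 : 5 ≤ n := by
    rcases Nat.lt_or_ge n 5 with h | h
    · have h4 : n = 4 := by omega
      rw [h4] at hnp
      exact absurd hnp (by norm_num)
    · exact h
  have hnF : (n : F) ≠ 0 := by
    intro h
    have h1 := (CharP.cast_eq_zero_iff F p n).mp h
    exact hne ((Nat.prime_dvd_prime_iff_eq hpp hnp).mp h1).symm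
  have hq0 : ((Fintype.card F : ℕ) : ZMod n) ≠ 0 := by
    intro h
    have h1 := (ZMod.natCast_eq_zero_iff _ _).mp h
    obtain ⟨f, -, hf⟩ := FiniteField.card F p
    rw [hf] at h1
    have h2 := hnp.dvd_of_dvd_pow h1
    exact hne ((Nat.prime_dvd_prime_iff_eq hnp hpp).mp h2)
  constructor
  · intro H
    by_contra hord
    obtain ⟨m, hm2, hmn, hdvd⟩ := dvd_card_SL (F := F) n hnp hn5 hq0 hord
    obtain ⟨x, hxn, hx1, d, hd2, hdn, hcard⟩ := exists_bad (F := F) n hnp m hm2 hmn hdvd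
    have hx3 : ∃ z : F, ((x ^ n : Matrix.SpecialLinearGroup (Fin n) F) :
        Matrix (Fin n) (Fin n) F) = z • (1 : Matrix (Fin n) (Fin n) F) :=
      ⟨1, by rw [Matrix.SpecialLinearGroup.coe_pow, hxn, one_smul]⟩
    have hxns : ∀ z : F, (x : Matrix (Fin n) (Fin n) F) ≠ z • (1 : Matrix (Fin n) (Fin n) F) := by
      intro z hz
      obtain ⟨u, hu, hu0⟩ : ∃ u : Fin n → F,
          (x : Matrix (Fin n) (Fin n) F) *ᵥ u = (1 : F) • u ∧ u ≠ 0 := by
        by_contra hcon
        push Not at hcon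
        have hsub : Subsingleton {u : Fin n → F //
            (x : Matrix (Fin n) (Fin n) F) *ᵥ u = (1 : F) • u} :=
          ⟨fun a b => Subtype.ext ((hcon a.1 a.2).trans (hcon b.1 b.2).symm)⟩
        have h1 : Nat.card {u : Fin n → F //
            (x : Matrix (Fin n) (Fin n) F) *ᵥ u = (1 : F) • u} ≤ 1 :=
          Finite.card_le_one_iff_subsingleton.mpr hsub
        rw [hcard] at h1
        have h2 : Fintype.card F ^ 1 ≤ Fintype.card F ^ d :=
          Nat.pow_le_pow_right (by omega) (by omega)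
        rw [pow_one] at h2
        omega
      rw [hz, Matrix.smul_mulVec, Matrix.one_mulVec] at hu
      have hz1 : z = 1 := by
        have h3 : (z - 1) • u = 0 := by rw [sub_smul, hu, sub_self]
        rcases smul_eq_zero.mp h3 with h | h
        · exact sub_eq_zero.mp h
        · exact absurd h hu0
      apply hx1
      rw [hz, hz1, one_smul]
    obtain ⟨P, hP⟩ := H x hx3 hxns
    exact no_conj_mid hnp K hK x d hd2 hdn hcard P hP
  · intro hord x hx3 hxns
    have hnq : ¬ n ∣ Fintype.card F - 1 := by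
      intro h
      have h4 : ((Fintype.card F : ℕ) : ZMod n) ^ 1 = 1 := by
        rw [pow_one]
        have h5 : (((Fintype.card F - 1 : ℕ)) : ZMod n) = 0 := (ZMod.natCast_eq_zero_iff _ _).mpr h
        rw [Nat.cast_sub (by omega), Nat.cast_one, sub_eq_zero] at h5
        exact h5
      have h6 := orderOf_dvd_of_pow_eq_one h4
      rw [hord] at h6
      have h7 := Nat.dvd_one.mp h6
      omega
    have hco : Nat.Coprime (Nat.card Fˣ) n := by
      rw [Nat.card_units, Nat.card_eq_fintype_card, Nat.coprime_comm]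
      exact (Nat.Prime.coprime_iff_not_dvd hnp).mpr hnq
    obtain ⟨Y, hY2, hYn⟩ := exists_frob p hnp.pos K hK
    obtain ⟨r, hr, hr1, hr2⟩ := exists_prime_qn (Fintype.card F) n hq2 hnp hnq
    have hY1 : Y ≠ 1 := frob_ne_one hnp.pos K hK Y hY2 r hr hr1 hr2
    have hYd : Y.det ≠ 0 := by
      intro h
      have h1 := congrArg Matrix.det hYn
      rw [Matrix.det_pow, h, Matrix.det_one, zero_pow hnp.ne_zero] at h1
      exact zero_ne_one h1
    have hYN : Matrix.GeneralLinearGroup.mkOfDetNeZero Y hYd ∈ Cfsg.Geo.subalgebraNormalizer K :=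
      frob_norm hnp.pos K _ hY2 hYn
    obtain ⟨z, hz⟩ := hx3
    rw [Matrix.SpecialLinearGroup.coe_pow] at hz
    have hz0 : z ≠ 0 := by
      rintro rfl
      rw [zero_smul] at hz
      have h1 := congrArg Matrix.det hz
      haveI : Nonempty (Fin n) := ⟨⟨0, hnp.pos⟩⟩
      rw [Matrix.det_pow, x.prop, one_pow, Matrix.det_zero] at h1
      exact one_ne_zero h1
    obtain ⟨l, hl0, hl⟩ := exists_root hco z hz0
    obtain ⟨x', hx'⟩ : ∃ x' : Matrix (Fin n) (Fin n) F,
        x' = l⁻¹ • (x : Matrix (Fin n) (Fin n) F) := ⟨_, rfl⟩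
    have hx'n : x' ^ n = 1 := by
      rw [hx', smul_pow, hz, smul_smul, inv_pow, hl, inv_mul_cancel₀ hz0, one_smul]
    have hxx : (x : Matrix (Fin n) (Fin n) F) = l • x' := by
      rw [hx', smul_smul, mul_inv_cancel₀ hl0, one_smul]
    have hx'1 : x' ≠ 1 := by
      intro h
      apply hxns l
      rw [hxx, h]
    obtain ⟨g₁, hg₁, h1⟩ := exists_cyclic hnp (by omega) hnF hord x' hx'n hx'1
    obtain ⟨g₂, hg₂, h2⟩ := exists_cyclic hnp (by omega) hnF hord Y hYn hY1
    have hu2 : IsUnit g₂.det := isUnit_iff_ne_zero.mpr hg₂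
    have hCg : Cyc (F := F) n * g₂⁻¹ = g₂⁻¹ * Y := by
      calc Cyc (F := F) n * g₂⁻¹ = g₂⁻¹ * (g₂ * Cyc (F := F) n) * g₂⁻¹ := by
            rw [← Matrix.mul_assoc, Matrix.nonsing_inv_mul g₂ hu2, Matrix.one_mul]
        _ = g₂⁻¹ * (Y * g₂) * g₂⁻¹ := by rw [h2]
        _ = g₂⁻¹ * Y := by
            rw [Matrix.mul_assoc, Matrix.mul_assoc, Matrix.mul_nonsing_inv g₂ hu2, Matrix.mul_one]
    obtain ⟨P₀, hP₀⟩ : ∃ P₀ : Matrix (Fin n) (Fin n) F, P₀ = g₁ * g₂⁻¹ := ⟨_, rfl⟩
    have hP₀d : P₀.det ≠ 0 := by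
      rw [hP₀, Matrix.det_mul]
      exact mul_ne_zero hg₁ (det_inv_ne' g₂ hg₂)
    have hxP₀ : x' * P₀ = P₀ * Y := by
      rw [hP₀, ← Matrix.mul_assoc, h1, Matrix.mul_assoc, hCg, Matrix.mul_assoc]
    obtain ⟨c, hc0, hc⟩ := exists_root hco (P₀.det)⁻¹ (inv_ne_zero hP₀d)
    obtain ⟨P, hPdef⟩ : ∃ P : Matrix (Fin n) (Fin n) F, P = c • P₀ := ⟨_, rfl⟩
    have hPdet : P.det = 1 := by
      rw [hPdef, Matrix.det_smul, Fintype.card_fin, hc, inv_mul_cancel₀ hP₀d]
    have hxP : (x : Matrix (Fin n) (Fin n) F) * P = P * (l • Y) := by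
      calc (x : Matrix (Fin n) (Fin n) F) * P = l • c • (x' * P₀) := by
            rw [hxx, hPdef, Matrix.smul_mul, Matrix.mul_smul]
        _ = l • c • (P₀ * Y) := by rw [hxP₀]
        _ = P * (l • Y) := by rw [hPdef, Matrix.smul_mul, Matrix.mul_smul, smul_comm]
    refine finish K (l • Y) ?_ x P hPdet hxP
    intro Zg hZg
    exact smul_mem_norm K _ Zg l hl0 hZg hYN

end main

end Cfsg.Agent.Helper15.SN
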