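import Mathlib
import Cfsg.Agent.Helper15.SN

/-!
# Obstructions to being a similarity of a symplectic form (for S5968)
-/

set_option autoImplicit false
open scoped MatrixGroups Matrix
open Cfsg

universe u

namespace Cfsg.Agent.Helper15.SP

section basics
variable {F : Type u} [Field F] {n : ℕ}

/-- a bilinear form as a bilinear map -/
noncomputable def bil (f : (Fin n → F) → (Fin n → F) → F) (hf : Geo.IsBilinearForm f) :
    (Fin n → F) →ₗ[F] (Fin n → F) →ₗ[F] F :=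
  LinearMap.mk₂ F f hf.add_left hf.smul_left hf.add_right hf.smul_right

theorem bil_apply (f : (Fin n → F) → (Fin n → F) → F) (hf : Geo.IsBilinearForm f)
    (u v : Fin n → F) : bil f hf u v = f u v := rfl

theorem f_sum (f : (Fin n → F) → (Fin n → F) → F) (hf : Geo.IsBilinearForm f)
    {ι κ : Type*} [Fintype ι] [Fintype κ] (a : ι → F) (x : ι → (Fin n → F)) (c : κ → F)
    (y : κ → (Fin n → F)) :
    f (∑ j, a j • x j) (∑ k, c k • y k) = ∑ j, ∑ k, a j * c k * f (x j) (y k) := by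
  rw [← bil_apply f hf]
  simp only [map_sum, LinearMap.sum_apply, map_smul, LinearMap.smul_apply, smul_eq_mul, bil_apply]
  simp only [Finset.mul_sum]
  rw [Finset.sum_comm]
  apply Finset.sum_congr rfl
  intro j _
  apply Finset.sum_congr rfl
  intro k _
  ring

theorem f_sum_left (f : (Fin n → F) → (Fin n → F) → F) (hf : Geo.IsBilinearForm f)
    {ι : Type*} (s : Finset ι) (x : ι → (Fin n → F)) (v : Fin n → F) :
    f (∑ j ∈ s, x j) v = ∑ j ∈ s, f (x j) v := by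
  rw [← bil_apply f hf]
  simp only [map_sum, LinearMap.sum_apply, bil_apply]

theorem vec_expand (x : Fin n → F) : x = ∑ j, x j • (Pi.single j (1 : F) : Fin n → F) := by
  funext i
  simp [Finset.sum_apply, Pi.single_apply]

/-- if `f u` vanishes on the standard basis then it vanishes -/
theorem f_zero_of_basis (f : (Fin n → F) → (Fin n → F) → F) (hf : Geo.IsBilinearForm f)
    (u : Fin n → F) (h : ∀ j, f u (Pi.single j 1) = 0) (x : Fin n → F) : f u x = 0 := by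
  have hu : u = ∑ k : Unit, (1 : F) • u := by simp
  rw [vec_expand x, hu, f_sum f hf]
  apply Finset.sum_eq_zero
  intro k _
  apply Finset.sum_eq_zero
  intro j _
  rw [h j, mul_zero]

theorem symp_transport (f : (Fin n → F) → (Fin n → F) → F) (hf : Geo.IsSymplecticForm f)
    (P : Matrix (Fin n) (Fin n) F) (hP : IsUnit P.det) :
    Geo.IsSymplecticForm (fun u v => f (P⁻¹ *ᵥ u) (P⁻¹ *ᵥ v)) := by
  refine ⟨⟨?_, ?_, ?_, ?_⟩, ?_, ?_, ?_⟩
  · intro x y v
    simp only [Matrix.mulVec_add]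
    exact hf.bilinear.add_left _ _ _
  · intro c x v
    simp only [Matrix.mulVec_smul]
    exact hf.bilinear.smul_left _ _ _
  · intro v x y
    simp only [Matrix.mulVec_add]
    exact hf.bilinear.add_right _ _ _
  · intro c v x
    simp only [Matrix.mulVec_smul]
    exact hf.bilinear.smul_right _ _ _
  · intro v w
    exact hf.skew _ _
  · intro v
    exact hf.alternating _
  · intro v hv
    have hv' : P⁻¹ *ᵥ v ≠ 0 := by
      intro h
      apply hv
      have h1 := congrArg (fun w => P *ᵥ w) h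
      simp only [Matrix.mulVec_mulVec, Matrix.mul_nonsing_inv P hP, Matrix.one_mulVec,
        Matrix.mulVec_zero] at h1
      exact h1
    obtain ⟨⟨x, hx⟩, ⟨y, hy⟩⟩ := hf.nondegenerate _ hv'
    refine ⟨⟨P *ᵥ x, ?_⟩, ⟨P *ᵥ y, ?_⟩⟩
    · show f (P⁻¹ *ᵥ (P *ᵥ x)) (P⁻¹ *ᵥ v) ≠ 0
      rw [Matrix.mulVec_mulVec, Matrix.nonsing_inv_mul P hP, Matrix.one_mulVec]
      exact hx
    · show f (P⁻¹ *ᵥ v) (P⁻¹ *ᵥ (P *ᵥ y)) ≠ 0
      rw [Matrix.mulVec_mulVec, Matrix.nonsing_inv_mul P hP, Matrix.one_mulVec]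
      exact hy

theorem coe_conj' (P x : Matrix.SpecialLinearGroup (Fin n) F) :
    ((Matrix.SpecialLinearGroup.toGL (P⁻¹ * x * P) : GL (Fin n) F) : Matrix (Fin n) (Fin n) F)
      = (P : Matrix (Fin n) (Fin n) F)⁻¹ * (x : Matrix (Fin n) (Fin n) F)
        * (P : Matrix (Fin n) (Fin n) F) := by
  have h1 : ((Matrix.SpecialLinearGroup.toGL (P⁻¹ * x * P) : GL (Fin n) F) :
      Matrix (Fin n) (Fin n) F)
      = ((P⁻¹ * x * P : Matrix.SpecialLinearGroup (Fin n) F) : Matrix (Fin n) (Fin n) F) := rfl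
  rw [h1, Matrix.SpecialLinearGroup.coe_mul, Matrix.SpecialLinearGroup.coe_mul,
    Matrix.SpecialLinearGroup.coe_inv]
  congr 2
  rw [Matrix.inv_def, P.det_coe, Ring.inverse_one, one_smul]

/-- a conjugate in the similarity group gives a similarity of the transported form -/
theorem sim_of_conj (f : (Fin n → F) → (Fin n → F) → F)
    (x P : Matrix.SpecialLinearGroup (Fin n) F)
    (h : P⁻¹ * x * P ∈ (Cfsg.Geo.similarityGroup f).comap
      (Matrix.SpecialLinearGroup.toGL : Matrix.SpecialLinearGroup (Fin n) F →* GL (Fin n) F)) :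
    ∃ μ : F, μ ≠ 0 ∧ ∀ u v,
      f ((P : Matrix (Fin n) (Fin n) F)⁻¹ *ᵥ ((x : Matrix (Fin n) (Fin n) F) *ᵥ u))
        ((P : Matrix (Fin n) (Fin n) F)⁻¹ *ᵥ ((x : Matrix (Fin n) (Fin n) F) *ᵥ v)) =
      μ * f ((P : Matrix (Fin n) (Fin n) F)⁻¹ *ᵥ u) ((P : Matrix (Fin n) (Fin n) F)⁻¹ *ᵥ v) := by
  rw [Subgroup.mem_comap] at h
  obtain ⟨c, hc⟩ := h
  refine ⟨c, c.ne_zero, ?_⟩
  intro u v
  have hPu : IsUnit (P : Matrix (Fin n) (Fin n) F).det := by
    rw [P.det_coe]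
    exact isUnit_one
  have h1 := hc ((P : Matrix (Fin n) (Fin n) F)⁻¹ *ᵥ u) ((P : Matrix (Fin n) (Fin n) F)⁻¹ *ᵥ v)
  rw [coe_conj'] at h1
  have e : ∀ w : Fin n → F, ((P : Matrix (Fin n) (Fin n) F)⁻¹ * (x : Matrix (Fin n) (Fin n) F)
      * (P : Matrix (Fin n) (Fin n) F)) *ᵥ ((P : Matrix (Fin n) (Fin n) F)⁻¹ *ᵥ w) =
      (P : Matrix (Fin n) (Fin n) F)⁻¹ *ᵥ ((x : Matrix (Fin n) (Fin n) F) *ᵥ w) := by
    intro w
    rw [Matrix.mulVec_mulVec, Matrix.mul_assoc, Matrix.mul_nonsing_inv _ hPu, Matrix.mul_one,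
      ← Matrix.mulVec_mulVec]
  rw [e, e] at h1
  exact h1

theorem sim_pow (f : (Fin n → F) → (Fin n → F) → F) (x : Matrix (Fin n) (Fin n) F) (μ : F)
    (hsim : ∀ u v, f (x *ᵥ u) (x *ᵥ v) = μ * f u v) (k : ℕ) :
    ∀ u v, f (x ^ k *ᵥ u) (x ^ k *ᵥ v) = μ ^ k * f u v := by
  induction k with
  | zero => intro u v; simp
  | succ k ih =>
    intro u v
    rw [pow_succ, ← Matrix.mulVec_mulVec, ← Matrix.mulVec_mulVec, ih, hsim, pow_succ]
    ring

theorem mu_pow (f : (Fin n → F) → (Fin n → F) → F) (hf : Geo.IsSymplecticForm f) (hn : 0 < n)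
    (x : Matrix (Fin n) (Fin n) F) (μ : F)
    (hsim : ∀ u v, f (x *ᵥ u) (x *ᵥ v) = μ * f u v) (r : ℕ) (hxr : x ^ r = 1) : μ ^ r = 1 := by
  classical
  have he0 : (Pi.single (⟨0, hn⟩ : Fin n) (1 : F) : Fin n → F) ≠ 0 := by
    intro h
    have := congrFun h ⟨0, hn⟩
    simp at this
  obtain ⟨w, hw⟩ := (hf.nondegenerate _ he0).2
  have h1 := sim_pow f x μ hsim r (Pi.single (⟨0, hn⟩ : Fin n) (1 : F)) w
  rw [hxr, Matrix.one_mulVec, Matrix.one_mulVec] at h1
  have h2 : (μ ^ r - 1) * f (Pi.single (⟨0, hn⟩ : Fin n) (1 : F)) w = 0 := by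
    linear_combination -h1
  rcases mul_eq_zero.mp h2 with h | h
  · exact sub_eq_zero.mp h
  · exact absurd h hw

end basics

end Cfsg.Agent.Helper15.SP
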