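import Mathlib
import Cfsg.Agent.Helper15.SP

/-!
# S5968: the unipotent case
-/

set_option autoImplicit false
open scoped MatrixGroups Matrix
open Cfsg

universe u

namespace Cfsg.Agent.Helper15.SP

section unip
variable {F : Type u} [Field F] {n : ℕ}

/-- the unipotent matrix `1 + E01 + E12 + E02` -/
def xU (i0 i1 i2 : Fin n) : Matrix (Fin n) (Fin n) F :=
  1 + Matrix.single i0 i1 1 + Matrix.single i1 i2 1 + Matrix.single i0 i2 1

theorem xU_eq (i0 i1 i2 : Fin n) :
    (xU i0 i1 i2 : Matrix (Fin n) (Fin n) F) =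
      Matrix.transvection i0 i1 1 * Matrix.transvection i1 i2 1 := by
  unfold xU Matrix.transvection
  simp only [mul_add, add_mul, one_mul, mul_one, Matrix.single_mul_single_same]
  abel

theorem xU_det (i0 i1 i2 : Fin n) (h01 : i0 ≠ i1) (h12 : i1 ≠ i2) :
    (xU i0 i1 i2 : Matrix (Fin n) (Fin n) F).det = 1 := by
  rw [xU_eq, Matrix.det_mul, Matrix.det_transvection_of_ne i0 i1 h01,
    Matrix.det_transvection_of_ne i1 i2 h12, one_mul]

theorem xU_pow (p : ℕ) [Fact p.Prime] [CharP F p] (hp2 : p ≠ 2) (hn : 0 < n)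
    (i0 i1 i2 : Fin n) (h01 : i0 ≠ i1) (h12 : i1 ≠ i2) (h02 : i0 ≠ i2) :
    (xU i0 i1 i2 : Matrix (Fin n) (Fin n) F) ^ p = 1 := by
  haveI : Nonempty (Fin n) := ⟨⟨0, hn⟩⟩
  obtain ⟨M, hM⟩ : ∃ M : Matrix (Fin n) (Fin n) F,
      M = Matrix.single i0 i1 1 + Matrix.single i1 i2 1 + Matrix.single i0 i2 1 := ⟨_, rfl⟩
  have hx : (xU i0 i1 i2 : Matrix (Fin n) (Fin n) F) = 1 + M := by
    rw [hM]
    unfold xU
    abel
  have hM2 : M * M = Matrix.single i0 i2 1 := by
    rw [hM]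
    simp [mul_add, add_mul, h01.symm, h12.symm, h02.symm]
  have hM3 : M * M * M = 0 := by
    rw [hM2, hM]
    simp [mul_add, h12.symm, h02.symm]
  have h3 : M ^ 3 = 0 := by rw [pow_succ, pow_two, hM3]
  have hp3 : 3 ≤ p := by
    have := (Fact.out : p.Prime).two_le
    omega
  obtain ⟨k, hk⟩ : ∃ k, p = 3 + k := ⟨p - 3, by omega⟩
  rw [hx, add_pow_char_of_commute p (Commute.one_left M), one_pow]
  rw [hk, pow_add, h3, zero_mul, add_zero]

theorem char_pow_one (p : ℕ) [Fact p.Prime] [CharP F p] (μ : F) (h : μ ^ p = 1) : μ = 1 := by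
  have h1 := add_pow_char_of_commute p (Commute.one_right (μ - 1))
  rw [sub_add_cancel, one_pow, h] at h1
  have h2 : (μ - 1) ^ p = 0 := by linear_combination -h1
  exact sub_eq_zero.mp ((pow_eq_zero_iff (Fact.out : p.Prime).ne_zero).mp h2)

theorem xU_mulVec (i0 i1 i2 : Fin n) (u : Fin n → F) :
    (xU i0 i1 i2 : Matrix (Fin n) (Fin n) F) *ᵥ u =
      u + (u i1 + u i2) • Pi.single i0 1 + u i2 • Pi.single i1 1 := by
  unfold xU
  rw [Matrix.add_mulVec, Matrix.add_mulVec, Matrix.add_mulVec, Matrix.one_mulVec,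
    Matrix.single_mulVec_eq, Matrix.single_mulVec_eq, Matrix.single_mulVec_eq, one_mul, one_mul,
    add_smul]
  abel

theorem xU_not_sim (f : (Fin n → F) → (Fin n → F) → F) (hf : Geo.IsSymplecticForm f)
    (i0 i1 i2 : Fin n) (h01 : i0 ≠ i1) (h12 : i1 ≠ i2) (h02 : i0 ≠ i2)
    (hsim : ∀ u v, f ((xU i0 i1 i2 : Matrix (Fin n) (Fin n) F) *ᵥ u)
      ((xU i0 i1 i2 : Matrix (Fin n) (Fin n) F) *ᵥ v) = f u v) : False := by
  classical
  obtain ⟨e, he⟩ : ∃ e : Fin n → (Fin n → F), e = fun k => Pi.single k 1 := ⟨_, rfl⟩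
  have hx0 : (xU i0 i1 i2 : Matrix (Fin n) (Fin n) F) *ᵥ e i0 = e i0 := by
    rw [xU_mulVec, he]
    simp [h01.symm, h02.symm]
  have hx1 : (xU i0 i1 i2 : Matrix (Fin n) (Fin n) F) *ᵥ e i1 = e i1 + e i0 := by
    rw [xU_mulVec, he]
    simp [h12.symm]
  have hx2 : (xU i0 i1 i2 : Matrix (Fin n) (Fin n) F) *ᵥ e i2 = e i2 + e i0 + e i1 := by
    rw [xU_mulVec, he]
    simp [h12]
  have hxk : ∀ k, k ≠ i1 → k ≠ i2 →
      (xU i0 i1 i2 : Matrix (Fin n) (Fin n) F) *ᵥ e k = e k := by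
    intro k hk1 hk2
    rw [xU_mulVec, he]
    simp [hk1.symm, hk2.symm]
  have halt := hf.alternating
  have hskew := hf.skew
  have hB01 : f (e i0) (e i1) = 0 := by
    have h := hsim (e i0) (e i2)
    rw [hx0, hx2, hf.bilinear.add_right, hf.bilinear.add_right, halt (e i0)] at h
    linear_combination h
  have hB02 : f (e i0) (e i2) = 0 := by
    have h := hsim (e i1) (e i2)
    rw [hx1, hx2, hf.bilinear.add_left, hf.bilinear.add_right, hf.bilinear.add_right,
      hf.bilinear.add_right, hf.bilinear.add_right, halt (e i0), halt (e i1), hB01,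
      hskew (e i1) (e i0), hB01] at h
    linear_combination h
  have hB0k : ∀ k, k ≠ i1 → k ≠ i2 → f (e i0) (e k) = 0 := by
    intro k hk1 hk2
    have h := hsim (e i1) (e k)
    rw [hx1, hxk k hk1 hk2, hf.bilinear.add_left] at h
    linear_combination h
  have hall : ∀ j, f (e i0) (Pi.single j 1) = 0 := by
    intro j
    have hej : (Pi.single j 1 : Fin n → F) = e j := by rw [he]
    rw [hej]
    by_cases hj1 : j = i1
    · rw [hj1]; exact hB01
    · by_cases hj2 : j = i2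
      · rw [hj2]; exact hB02
      · exact hB0k j hj1 hj2
  have hne : e i0 ≠ 0 := by
    intro h
    have h1 := congrFun h i0
    rw [he] at h1
    simp at h1
  obtain ⟨y, hy⟩ := (hf.nondegenerate _ hne).2
  exact hy (f_zero_of_basis f hf.bilinear (e i0) hall y)

end unip

end Cfsg.Agent.Helper15.SP
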