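import Mathlib
import Cfsg.Agent.Helper15.SP

/-!
# S5968: the diagonal case
-/

set_option autoImplicit false
open scoped MatrixGroups Matrix
open Cfsg

universe u

namespace Cfsg.Agent.Helper15.SP

section diag
variable {F : Type u} [Field F] {n : ℕ}

/-- exponent vector -/
def aD (r : ℕ) (i0 i1 i2 : Fin n) (i : Fin n) : ℕ :=
  (if i = i0 then 1 else 0) + (if i = i1 then 1 else 0) + (if i = i2 then r - 2 else 0)

/-- the diagonal element -/
def xD (ζ : F) (r : ℕ) (i0 i1 i2 : Fin n) : Matrix (Fin n) (Fin n) F :=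
  Matrix.diagonal (fun i => ζ ^ aD r i0 i1 i2 i)

theorem aD_sum (r : ℕ) (hr : 2 ≤ r) (i0 i1 i2 : Fin n) : ∑ i, aD r i0 i1 i2 i = r := by
  unfold aD
  rw [Finset.sum_add_distrib, Finset.sum_add_distrib, Finset.sum_ite_eq', Finset.sum_ite_eq',
    Finset.sum_ite_eq']
  simp only [Finset.mem_univ, if_true]
  omega

theorem xD_det (ζ : F) (r : ℕ) (hr : 2 ≤ r) (hζ : ζ ^ r = 1) (i0 i1 i2 : Fin n) :
    (xD ζ r i0 i1 i2).det = 1 := by
  unfold xD
  rw [Matrix.det_diagonal, Finset.prod_pow_eq_pow_sum, aD_sum r hr, hζ]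

theorem xD_pow (ζ : F) (r : ℕ) (hζ : ζ ^ r = 1) (i0 i1 i2 : Fin n) :
    (xD ζ r i0 i1 i2) ^ r = 1 := by
  unfold xD
  rw [Matrix.diagonal_pow, ← Matrix.diagonal_one]
  congr 1
  funext i
  show (ζ ^ aD r i0 i1 i2 i) ^ r = 1
  rw [← pow_mul, mul_comm, pow_mul, hζ, one_pow]

theorem xD_not_scalar (ζ : F) (hζ1 : ζ ≠ 1) (r : ℕ) (i0 i1 i2 i3 : Fin n) (h01 : i0 ≠ i1)
    (h02 : i0 ≠ i2) (h30 : i3 ≠ i0) (h31 : i3 ≠ i1) (h32 : i3 ≠ i2) (z : F) :
    xD ζ r i0 i1 i2 ≠ z • (1 : Matrix (Fin n) (Fin n) F) := by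
  intro h
  have h0 := congrFun (congrFun h i0) i0
  have h3 := congrFun (congrFun h i3) i3
  unfold xD aD at h0 h3
  simp [h01, h02, h30, h31, h32] at h0 h3
  exact hζ1 (h0.trans h3.symm)

theorem modeq_cases (r A B : ℕ) (h : A ≡ B [MOD r]) (hA : A < 2 * r) (hB : B < r) :
    A = B ∨ A = B + r := by
  have h1 : A % r = B % r := h
  rw [Nat.mod_eq_of_lt hB] at h1
  rcases Nat.lt_or_ge A r with h2 | h2
  · left
    rw [Nat.mod_eq_of_lt h2] at h1
    exact h1
  · right
    have h3 : A % r = (A - r) % r := Nat.mod_eq_sub_mod h2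
    rw [h3, Nat.mod_eq_of_lt (by omega)] at h1
    omega

theorem no_pairing (f : (Fin n → F) → (Fin n → F) → F) (hf : Geo.IsSymplecticForm f)
    (S : Finset (Fin n))
    (hiso : ∀ i j, (i ∈ S ↔ j ∈ S) → f (Pi.single i 1) (Pi.single j 1) = 0)
    (hcard : 2 * S.card < n) : False := by
  classical
  obtain ⟨L, hL⟩ : ∃ L : (Fin n → F) →ₗ[F] ((S → F) × (S → F)),
      L = LinearMap.prod (LinearMap.funLeft F F (Subtype.val : S → Fin n))
        (LinearMap.pi fun j : S => (bil f hf.bilinear).flip (Pi.single j.val 1)) := ⟨_, rfl⟩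
  have hlt : Module.finrank F ((S → F) × (S → F)) < Module.finrank F (Fin n → F) := by
    rw [Module.finrank_prod, Module.finrank_fintype_fun_eq_card, Module.finrank_fin_fun,
      Fintype.card_coe]
    omega
  have hker := LinearMap.ker_ne_bot_of_finrank_lt (f := L) hlt
  obtain ⟨v, hvker, hv0⟩ := (Submodule.ne_bot_iff _).mp hker
  rw [LinearMap.mem_ker, hL] at hvker
  have hv1 : ∀ k ∈ S, v k = 0 := by
    intro k hk
    have := congrFun (congrArg Prod.fst hvker) ⟨k, hk⟩
    exact this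
  have hv2 : ∀ j ∈ S, f v (Pi.single j 1) = 0 := by
    intro j hj
    have := congrFun (congrArg Prod.snd hvker) ⟨j, hj⟩
    exact this
  have hv3 : ∀ j, f v (Pi.single j 1) = 0 := by
    intro j
    by_cases hj : j ∈ S
    · exact hv2 j hj
    · have hc : (Pi.single j 1 : Fin n → F) = ∑ k : Unit, (1 : F) • Pi.single j 1 := by simp
      rw [vec_expand v, hc, f_sum f hf.bilinear]
      apply Finset.sum_eq_zero
      intro k _
      apply Finset.sum_eq_zero
      intro _ _
      by_cases hk : k ∈ S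
      · rw [hv1 k hk]
        ring
      · rw [hiso k j (by simp [hk, hj])]
        ring
  obtain ⟨y, hy⟩ := (hf.nondegenerate v hv0).2
  exact hy (f_zero_of_basis f hf.bilinear v hv3 y)

theorem xD_not_sim (f : (Fin n → F) → (Fin n → F) → F) (hf : Geo.IsSymplecticForm f) (ζ : F)
    (r : ℕ) (hrp : r.Prime) (hr2 : r ≠ 2) (hζ : orderOf ζ = r) (hn6 : ¬ (n = 6 ∧ r = 3))
    (hne : Even n) (hn4 : 4 ≤ n)
    (i0 i1 i2 i3 : Fin n) (h01 : i0 ≠ i1) (h02 : i0 ≠ i2) (h12 : i1 ≠ i2) (h30 : i3 ≠ i0)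
    (h31 : i3 ≠ i1) (h32 : i3 ≠ i2) (μ : F)
    (hsim : ∀ u v, f (xD ζ r i0 i1 i2 *ᵥ u) (xD ζ r i0 i1 i2 *ᵥ v) = μ * f u v) : False := by
  classical
  have hr3 : 3 ≤ r := by
    have := hrp.two_le
    omega
  have hr4 : r ≠ 4 := by
    intro h
    rw [h] at hrp
    norm_num at hrp
  obtain ⟨a, ha⟩ : ∃ a : Fin n → ℕ, a = aD r i0 i1 i2 := ⟨_, rfl⟩
  obtain ⟨e, he⟩ : ∃ e : Fin n → (Fin n → F), e = fun k => Pi.single k 1 := ⟨_, rfl⟩
  have hes : ∀ j, (Pi.single j 1 : Fin n → F) = e j := by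
    intro j
    rw [he]
  have hxe : ∀ k, xD ζ r i0 i1 i2 *ᵥ e k = ζ ^ a k • e k := by
    intro k
    rw [he, ha]
    unfold xD
    rw [Matrix.diagonal_mulVec_single, mul_one]
    funext j
    simp [Pi.single_apply]
  have hpair : ∀ i j, f (e i) (e j) ≠ 0 → ζ ^ (a i + a j) = μ := by
    intro i j hij
    have h := hsim (e i) (e j)
    rw [hxe, hxe, hf.bilinear.smul_left, hf.bilinear.smul_right] at h
    have h2 : (ζ ^ (a i + a j) - μ) * f (e i) (e j) = 0 := by
      rw [pow_add]
      linear_combination h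
    rcases mul_eq_zero.mp h2 with h3 | h3
    · exact sub_eq_zero.mp h3
    · exact absurd h3 hij
  have hpartner : ∀ i, ∃ j, f (e i) (e j) ≠ 0 := by
    intro i
    by_contra hcon
    simp only [not_exists, not_not] at hcon
    have hne0 : e i ≠ 0 := by
      intro h
      have h1 := congrFun h i
      rw [he] at h1
      simp at h1
    obtain ⟨y, hy⟩ := (hf.nondegenerate _ hne0).2
    apply hy
    apply f_zero_of_basis f hf.bilinear (e i)
    intro j
    rw [hes j]
    exact hcon j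
  have ha_0 : a i0 = 1 := by
    rw [ha]
    unfold aD
    simp [h01, h02]
  have ha_1 : a i1 = 1 := by
    rw [ha]
    unfold aD
    simp [h01.symm, h12]
  have ha_2 : a i2 = r - 2 := by
    rw [ha]
    unfold aD
    simp [h02.symm, h12.symm]
  have ha_out : ∀ i, i ≠ i0 → i ≠ i1 → i ≠ i2 → a i = 0 := by
    intro i h0 h1 h2
    rw [ha]
    unfold aD
    simp [h0, h1, h2]
  have haval : ∀ i, a i = 0 ∨ a i = 1 ∨ (i = i2 ∧ a i = r - 2) := by
    intro i
    by_cases h0 : i = i0
    · right; left; rw [h0]; exact ha_0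
    · by_cases h1 : i = i1
      · right; left; rw [h1]; exact ha_1
      · by_cases h2 : i = i2
        · right; right; exact ⟨h2, by rw [h2]; exact ha_2⟩
        · left; exact ha_out i h0 h1 h2
  have ha_3 : a i3 = 0 := ha_out i3 h30 h31 h32
  have hζr : ζ ^ r = 1 := by
    rw [← hζ]
    exact pow_orderOf_eq_one ζ
  have hζ0 : ζ ≠ 0 := by
    intro h
    rw [h, zero_pow (by omega)] at hζr
    exact zero_ne_one hζr
  have hmod : ∀ A B : ℕ, ζ ^ A = ζ ^ B → A ≡ B [MOD r] := by
    intro A B h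
    have h1 : (Units.mk0 ζ hζ0) ^ A = (Units.mk0 ζ hζ0) ^ B := by
      apply Units.ext
      rw [Units.val_pow_eq_pow_val, Units.val_pow_eq_pow_val]
      exact h
    have h2 := pow_eq_pow_iff_modEq.mp h1
    rw [← orderOf_units, Units.val_mk0, hζ] at h2
    exact h2
  obtain ⟨j0, hj0⟩ := hpartner i3
  obtain ⟨j1, hj1⟩ := hpartner i0
  obtain ⟨j2, hj2⟩ := hpartner i2
  have hμ := hpair i3 j0 hj0
  rw [ha_3, zero_add] at hμ
  have h1 := hpair i0 j1 hj1
  have h2 := hpair i2 j2 hj2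
  have hj2ne : j2 ≠ i2 := by
    intro h
    rw [h] at hj2
    exact hj2 (hf.alternating _)
  have v0 := haval j0
  have v1 := haval j1
  have v2 := haval j2
  have c1 := modeq_cases r (a i0 + a j1) (a j0) (hmod _ _ (by rw [h1, ← hμ])) (by omega) (by omega)
  by_cases hr3' : r = 3
  · have hj0v : a j0 = 1 := by omega
    have hpair1 : ∀ i j, f (e i) (e j) ≠ 0 → a i + a j = 1 := by
      intro i j hij
      have h3 := hpair i j hij
      have vi := haval i
      have vj := haval j
      have c := modeq_cases r (a i + a j) (a j0) (hmod _ _ (by rw [h3, ← hμ])) (by omega)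
        (by omega)
      omega
    obtain ⟨S, hS⟩ : ∃ S : Finset (Fin n), S = {i0, i1, i2} := ⟨_, rfl⟩
    have hScard : S.card = 3 := by
      rw [hS]
      exact Finset.card_eq_three.mpr ⟨i0, i1, i2, h01, h02, h12, rfl⟩
    have haS : ∀ i, i ∈ S → a i = 1 := by
      intro i hi
      rw [hS] at hi
      simp only [Finset.mem_insert, Finset.mem_singleton] at hi
      rcases hi with h | h | h
      · rw [h]; exact ha_0
      · rw [h]; exact ha_1
      · rw [h, ha_2, hr3']
    have haS' : ∀ i, i ∉ S → a i = 0 := by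
      intro i hi
      rw [hS] at hi
      simp only [Finset.mem_insert, Finset.mem_singleton, not_or] at hi
      exact ha_out i hi.1 hi.2.1 hi.2.2
    have hiso : ∀ i j, (i ∈ S ↔ j ∈ S) → f (Pi.single i 1) (Pi.single j 1) = 0 := by
      intro i j hij
      by_contra hne0
      rw [hes i, hes j] at hne0
      have h3 := hpair1 i j hne0
      by_cases hi : i ∈ S
      · have := haS i hi
        have := haS j (hij.mp hi)
        omega
      · have := haS' i hi
        have := haS' j (fun h => hi (hij.mpr h))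
        omega
    have hn48 : n = 4 ∨ 8 ≤ n := by
      obtain ⟨k, hk⟩ := hne
      have : n ≠ 6 := fun h => hn6 ⟨h, hr3'⟩
      omega
    rcases hn48 with h4 | h8
    · refine no_pairing f hf Sᶜ (fun i j hij => hiso i j ?_) ?_
      · rw [Finset.mem_compl, Finset.mem_compl] at hij
        exact not_iff_not.mp hij
      · rw [Finset.card_compl, hScard, Fintype.card_fin]
        omega
    · exact no_pairing f hf S hiso (by rw [hScard]; omega)
  · have c2 := modeq_cases r (a i2 + a j2) (a j0) (hmod _ _ (by rw [h2, ← hμ])) (by omega)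
      (by omega)
    omega

end diag

end Cfsg.Agent.Helper15.SP
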