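import Mathlib
import Cfsg.Agent.Helper15.SP
import Cfsg.Agent.Helper15.SN

/-!
# S5968: the case of odd order of `q` modulo `r`
-/

set_option autoImplicit false
open scoped MatrixGroups Matrix
open Cfsg

universe u

namespace Cfsg.Agent.Helper15.SP

section parity
variable {F : Type u} [Field F]

/-- a space with a nondegenerate alternating form has even dimension -/
theorem even_finrank_of_alt (d : ℕ) : ∀ (V : Type u) [AddCommGroup V] [Module F V]
    [FiniteDimensional F V] (B : V →ₗ[F] V →ₗ[F] F), (∀ v, B v v = 0) →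
    (∀ v, v ≠ 0 → ∃ w, B v w ≠ 0) → Module.finrank F V = d → Even d := by
  induction d using Nat.strong_induction_on with
  | _ d ih =>
    intro V _ _ _ B halt hnd hd
    rcases Nat.eq_zero_or_pos d with h0 | hpos
    · rw [h0]
      exact ⟨0, rfl⟩
    · have hskew : ∀ x y, B x y = - B y x := by
        intro x y
        have h := halt (x + y)
        simp only [map_add, LinearMap.add_apply, halt x, halt y] at h
        linear_combination h
      obtain ⟨v, hv⟩ := (Module.finrank_pos_iff_exists_ne_zero (R := F) (M := V)).mp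
        (by rw [hd]; exact hpos)
      obtain ⟨w, hw⟩ := hnd v hv
      have hwv : B w v ≠ 0 := by
        rw [hskew w v]
        exact neg_ne_zero.mpr hw
      obtain ⟨π, hπ⟩ : ∃ π : V →ₗ[F] F × F, π = LinearMap.prod (B v) (B w) := ⟨_, rfl⟩
      have hsurj : LinearMap.range π = ⊤ := by
        rw [LinearMap.range_eq_top]
        rintro ⟨a, b⟩
        refine ⟨(a / B v w) • w + (b / B w v) • v, ?_⟩
        have e1 : B v ((a / B v w) • w + (b / B w v) • v) = a := by
          simp only [map_add, map_smul, smul_eq_mul, halt v, mul_zero, add_zero]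
          rw [div_mul_cancel₀ _ hw]
        have e2 : B w ((a / B v w) • w + (b / B w v) • v) = b := by
          simp only [map_add, map_smul, smul_eq_mul, halt w, mul_zero, zero_add]
          rw [div_mul_cancel₀ _ hwv]
        rw [hπ]
        show (B v _, B w _) = (a, b)
        rw [e1, e2]
      have hrn := LinearMap.finrank_range_add_finrank_ker π
      rw [hsurj, finrank_top, Module.finrank_prod, Module.finrank_self, hd] at hrn
      obtain ⟨V', hV'⟩ : ∃ V' : Submodule F V, V' = LinearMap.ker π := ⟨_, rfl⟩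
      have hmem : ∀ x, x ∈ V' ↔ B v x = 0 ∧ B w x = 0 := by
        intro x
        rw [hV', LinearMap.mem_ker, hπ]
        show (B v x, B w x) = 0 ↔ _
        rw [Prod.mk_eq_zero]
      have hev := ih (d - 2) (by omega) V' (B.compl₁₂ V'.subtype V'.subtype) ?_ ?_ ?_
      · obtain ⟨k, hk⟩ := hev
        exact ⟨k + 1, by omega⟩
      · intro x
        exact halt x.1
      · intro x hx
        have hx0 : (x : V) ≠ 0 := fun h => hx (Subtype.ext h)
        obtain ⟨y, hy⟩ := hnd x.1 hx0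
        obtain ⟨hx1, hx2⟩ := (hmem x.1).mp x.2
        refine ⟨⟨y - (B v y / B v w) • w - (B w y / B w v) • v, ?_⟩, ?_⟩
        · rw [hmem]
          constructor
          · simp only [map_sub, map_smul, smul_eq_mul, halt v, mul_zero, sub_zero]
            rw [div_mul_cancel₀ _ hw, sub_self]
          · simp only [map_sub, map_smul, smul_eq_mul, halt w, mul_zero, sub_zero]
            rw [div_mul_cancel₀ _ hwv, sub_self]
        · show B x.1 (y - (B v y / B v w) • w - (B w y / B w v) • v) ≠ 0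
          simp only [map_sub, map_smul, smul_eq_mul]
          rw [hskew x.1 w, hx2, hskew x.1 v, hx1]
          simpa using hy
      · rw [hV']
        omega

end parity

section geom
variable {F : Type u} [Field F] {n : ℕ}

theorem geom_fix_r (r : ℕ) (M : Matrix (Fin n) (Fin n) F) (hMn : M ^ r = 1) :
    M * (∑ i ∈ Finset.range r, M ^ i) = ∑ i ∈ Finset.range r, M ^ i := by
  have h := mul_geom_sum M r
  rw [hMn, sub_self, sub_mul, one_mul] at h
  exact sub_eq_zero.mp h

theorem geom_fix_r' (r : ℕ) (M : Matrix (Fin n) (Fin n) F) (hMn : M ^ r = 1) :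
    (∑ i ∈ Finset.range r, M ^ i) * M = ∑ i ∈ Finset.range r, M ^ i := by
  have h : ∀ i : ℕ, M ^ i * M = M * M ^ i := fun i => by rw [← pow_succ, ← pow_succ']
  rw [Finset.sum_mul, Finset.sum_congr rfl (fun i _ => h i), ← Finset.mul_sum]
  exact geom_fix_r r M hMn

theorem pow_geom_fix_r (r : ℕ) (M : Matrix (Fin n) (Fin n) F) (hMn : M ^ r = 1) (j : ℕ) :
    M ^ j * (∑ i ∈ Finset.range r, M ^ i) = ∑ i ∈ Finset.range r, M ^ i := by
  induction j with
  | zero => simp
  | succ j ih => rw [pow_succ, Matrix.mul_assoc, geom_fix_r r M hMn, ih]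

theorem geom_sq_r (r : ℕ) (M : Matrix (Fin n) (Fin n) F) (hMn : M ^ r = 1) :
    (∑ i ∈ Finset.range r, M ^ i) * (∑ i ∈ Finset.range r, M ^ i) =
      (r : F) • ∑ i ∈ Finset.range r, M ^ i := by
  conv_lhs => rw [Finset.sum_mul]
  rw [Finset.sum_congr rfl (fun j _ => pow_geom_fix_r r M hMn j), Finset.sum_const,
    Finset.card_range, Nat.cast_smul_eq_nsmul]

theorem pow_fixed_vec_r (M : Matrix (Fin n) (Fin n) F) (v : Fin n → F) (hv : M *ᵥ v = v)
    (j : ℕ) : M ^ j *ᵥ v = v := by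
  induction j with
  | zero => simp
  | succ j ih => rw [pow_succ, ← Matrix.mulVec_mulVec, hv, ih]

theorem geom_fixed_vec_r (r : ℕ) (M : Matrix (Fin n) (Fin n) F) (v : Fin n → F)
    (hv : M *ᵥ v = v) : (∑ i ∈ Finset.range r, M ^ i) *ᵥ v = (r : F) • v := by
  rw [Matrix.sum_mulVec, Finset.sum_congr rfl (fun j _ => pow_fixed_vec_r M v hv j),
    Finset.sum_const, Finset.card_range, Nat.cast_smul_eq_nsmul]

theorem card_inv_modEq_r [Fintype F] (r : ℕ) (hnp : r.Prime) (hnF : (r : F) ≠ 0)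
    (M : Matrix (Fin n) (Fin n) F)
    (hMn : M ^ r = 1) (W : Submodule F (Fin n → F)) (hW : ∀ w ∈ W, M *ᵥ w ∈ W)
    (hWN : ∀ w ∈ W, (∑ i ∈ Finset.range r, M ^ i) *ᵥ w = 0) :
    Nat.card W ≡ 1 [MOD r] := by
  classical
  haveI : Fact r.Prime := ⟨hnp⟩
  haveI : Fintype W := Fintype.ofFinite _
  let f : Function.End W := fun w => ⟨M *ᵥ w.1, hW w.1 w.2⟩
  have hfpow : ∀ (j : ℕ) (w : W), ((f ^ j) w : Fin n → F) = M ^ j *ᵥ (w : Fin n → F) := by
    intro j
    induction j with
    | zero =>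
      intro w
      rw [pow_zero, pow_zero, Matrix.one_mulVec]
      rfl
    | succ j ih =>
      intro w
      rw [pow_succ]
      show ((f ^ j) (f w) : Fin n → F) = _
      rw [ih (f w)]
      show M ^ j *ᵥ (M *ᵥ (w : Fin n → F)) = _
      rw [Matrix.mulVec_mulVec, ← pow_succ]
  have hf : f ^ r ^ 1 = 1 := by
    rw [pow_one]
    funext w
    apply Subtype.ext
    rw [hfpow, hMn, Matrix.one_mulVec]
    rfl
  have h := Equiv.Perm.card_fixedPoints_modEq (p := r) (n := 1) hf
  have hfix : Fintype.card (Function.fixedPoints f) = 1 := by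
    rw [Fintype.card_eq_one_iff]
    refine ⟨⟨0, ?_⟩, ?_⟩
    · show f 0 = 0
      apply Subtype.ext
      show M *ᵥ (0 : Fin n → F) = 0
      exact Matrix.mulVec_zero M
    · rintro ⟨w, hw⟩
      apply Subtype.ext
      apply Subtype.ext
      have h1 : M *ᵥ (w : Fin n → F) = w := congrArg Subtype.val hw
      have h2 := geom_fixed_vec_r r M _ h1
      rw [hWN w.1 w.2] at h2
      exact (smul_eq_zero.mp h2.symm).resolve_left hnF
  rw [hfix] at h
  rw [Nat.card_eq_fintype_card]
  exact h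

end geom

section blk
variable {F : Type u} [Field F] [Fintype F] {n : ℕ}

theorem not_dvd_pred (r : ℕ) (hrp : r.Prime)
    (h1 : orderOf ((Fintype.card F : ℕ) : ZMod r) ≠ 1) : ¬ r ∣ Fintype.card F - 1 := by
  haveI : Fact r.Prime := ⟨hrp⟩
  have hq2 : 2 ≤ Fintype.card F := Fintype.one_lt_card
  intro h
  have h4 : ((Fintype.card F : ℕ) : ZMod r) ^ 1 = 1 := by
    rw [pow_one]
    have h5 : (((Fintype.card F - 1 : ℕ)) : ZMod r) = 0 := (ZMod.natCast_eq_zero_iff _ _).mpr h
    rw [Nat.cast_sub (by omega), Nat.cast_one, sub_eq_zero] at h5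
    exact h5
  have h6 := orderOf_dvd_of_pow_eq_one h4
  exact h1 (Nat.dvd_one.mp h6)

theorem dvd_card_SL_e (r : ℕ) (hrp : r.Prime) (e : ℕ)
    (he : e = orderOf ((Fintype.card F : ℕ) : ZMod r)) (he2 : 2 ≤ e) :
    r ∣ Nat.card (Matrix.SpecialLinearGroup (Fin e) F) := by
  haveI : Fact r.Prime := ⟨hrp⟩
  have hq2 : 2 ≤ Fintype.card F := Fintype.one_lt_card
  have hpow : ((Fintype.card F : ℕ) : ZMod r) ^ e = 1 := by rw [he]; exact pow_orderOf_eq_one _
  have hnd : r ∣ Fintype.card F ^ e - 1 := by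
    have h1 : 1 ≤ Fintype.card F ^ e := Nat.one_le_pow _ _ (by omega)
    rw [← ZMod.natCast_eq_zero_iff, Nat.cast_sub h1, Nat.cast_pow, hpow, Nat.cast_one, sub_self]
  have hprod := Cfsg.Agent.S0242.result (F := F) rfl e (by omega)
  have h2 : r ∣ ∏ i : Fin e, (Fintype.card F ^ e - Fintype.card F ^ (i : ℕ)) := by
    refine Dvd.dvd.trans ?_ (Finset.dvd_prod_of_mem _ (Finset.mem_univ (⟨0, by omega⟩ : Fin e)))
    simpa using hnd
  rw [← hprod] at h2
  have h3 : ¬ r ∣ Fintype.card F - 1 := not_dvd_pred r hrp (by rw [← he]; omega)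
  exact (hrp.dvd_mul.mp h2).resolve_left h3

theorem exists_blk (n r : ℕ) (hrp : r.Prime) (m : ℕ) (hmn : m ≤ n)
    (hdvd : r ∣ Nat.card (Matrix.SpecialLinearGroup (Fin m) F)) :
    ∃ x : Matrix.SpecialLinearGroup (Fin n) F,
      (x : Matrix (Fin n) (Fin n) F) ^ r = 1 ∧ (x : Matrix (Fin n) (Fin n) F) ≠ 1 ∧
      n - m ≤ Module.finrank F
        (LinearMap.ker (Matrix.mulVecLin ((x : Matrix (Fin n) (Fin n) F) - 1))) := by
  classical
  haveI : Fact r.Prime := ⟨hrp⟩
  obtain ⟨g, hg⟩ := exists_prime_orderOf_dvd_card' r hdvd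
  have hsum : (n - m) + m = n := by omega
  obtain ⟨e, he⟩ : ∃ e : Fin (n - m) ⊕ Fin m ≃ Fin n,
      e = finSumFinEquiv.trans (finCongr hsum) := ⟨_, rfl⟩
  obtain ⟨B, hB⟩ : ∃ B : Matrix (Fin (n - m) ⊕ Fin m) (Fin (n - m) ⊕ Fin m) F,
      B = Matrix.fromBlocks 1 0 0 (g : Matrix (Fin m) (Fin m) F) := ⟨_, rfl⟩
  obtain ⟨X, hX⟩ : ∃ X : Matrix (Fin n) (Fin n) F, X = Matrix.reindexAlgEquiv F F e B :=
    ⟨_, rfl⟩
  have hXdet : X.det = 1 := by
    rw [hX, Matrix.det_reindexAlgEquiv, hB, Matrix.det_fromBlocks_zero₂₁, Matrix.det_one, one_mul]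
    exact g.prop
  have hBn : B ^ r = 1 := by
    rw [hB, SN.fromBlocks_pow, ← Matrix.SpecialLinearGroup.coe_pow, ← hg, pow_orderOf_eq_one,
      Matrix.SpecialLinearGroup.coe_one, Matrix.fromBlocks_one]
  have hXn : X ^ r = 1 := by rw [hX, ← map_pow, hBn, map_one]
  have hX1 : X ≠ 1 := by
    intro h
    rw [hX] at h
    have h1 : B = 1 := by
      apply (Matrix.reindexAlgEquiv F F e).injective
      rw [h, map_one]
    rw [hB, ← Matrix.fromBlocks_one, Matrix.fromBlocks_inj] at h1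
    have h2 : g = 1 := Subtype.ext h1.2.2.2
    rw [h2, orderOf_one] at hg
    exact hrp.one_lt.ne hg
  obtain ⟨x, hx⟩ : ∃ x : Matrix.SpecialLinearGroup (Fin n) F,
      (x : Matrix (Fin n) (Fin n) F) = X := ⟨⟨X, hXdet⟩, rfl⟩
  refine ⟨x, by rw [hx]; exact hXn, by rw [hx]; exact hX1, ?_⟩
  rw [hx]
  obtain ⟨W, hW⟩ : ∃ W : Submodule F (Fin n → F),
      W = LinearMap.ker (Matrix.mulVecLin (X - 1)) := ⟨_, rfl⟩
  rw [← hW]
  have hWmem : ∀ u, u ∈ W ↔ X *ᵥ u = u := by
    intro u
    rw [hW, LinearMap.mem_ker, Matrix.mulVecLin_apply, Matrix.sub_mulVec, Matrix.one_mulVec,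
      sub_eq_zero]
  have hfix : ∀ a : Fin (n - m),
      X *ᵥ Pi.single (e (Sum.inl a)) 1 = Pi.single (e (Sum.inl a)) 1 := by
    intro a
    rw [Matrix.mulVec_single_one]
    funext i
    show X i (e (Sum.inl a)) = _
    rw [hX, Matrix.reindexAlgEquiv_apply, Matrix.reindex_apply, Matrix.submatrix_apply,
      Equiv.symm_apply_apply, hB]
    rcases h : e.symm i with a' | c
    · rw [Matrix.fromBlocks_apply₁₁, Matrix.one_apply, Pi.single_apply]
      have hi : i = e (Sum.inl a') := by rw [← h, Equiv.apply_symm_apply]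
      rw [hi]
      simp [e.injective.eq_iff]
    · rw [Matrix.fromBlocks_apply₂₁, Matrix.zero_apply, Pi.single_apply]
      have hi : i = e (Sum.inr c) := by rw [← h, Equiv.apply_symm_apply]
      rw [hi]
      simp [e.injective.eq_iff]
  have hinj : Function.Injective (fun a : Fin (n - m) => e (Sum.inl a)) := by
    intro a b hab
    exact Sum.inl_injective (e.injective hab)
  have hli : LinearIndependent F (fun a : Fin (n - m) =>
      (Pi.basisFun F (Fin n)) (e (Sum.inl a))) :=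
    (Pi.basisFun F (Fin n)).linearIndependent.comp _ hinj
  have hspan : Submodule.span F (Set.range (fun a : Fin (n - m) =>
      (Pi.basisFun F (Fin n)) (e (Sum.inl a)))) ≤ W := by
    rw [Submodule.span_le]
    rintro _ ⟨a, rfl⟩
    show (Pi.basisFun F (Fin n)) (e (Sum.inl a)) ∈ W
    rw [Pi.basisFun_apply]
    exact (hWmem _).mpr (hfix a)
  have := Submodule.finrank_mono hspan
  rw [finrank_span_eq_card hli, Fintype.card_fin] at this
  exact this

theorem blk_not_sim (f : (Fin n → F) → (Fin n → F) → F) (hf : Geo.IsSymplecticForm f)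
    (hn : 0 < n) (r : ℕ) (hrp : r.Prime) (hrF : (r : F) ≠ 0)
    (e : ℕ) (he : e = orderOf ((Fintype.card F : ℕ) : ZMod r)) (hodd : Odd e) (he3 : 3 ≤ e)
    (X : Matrix (Fin n) (Fin n) F) (hXr : X ^ r = 1) (hX1 : X ≠ 1)
    (hfix : n - e ≤ Module.finrank F (LinearMap.ker (Matrix.mulVecLin (X - 1))))
    (μ : F) (hμ0 : μ ≠ 0) (hsim : ∀ u v, f (X *ᵥ u) (X *ᵥ v) = μ * f u v) : False := by
  classical
  haveI : Fact r.Prime := ⟨hrp⟩
  have hq2 : 2 ≤ Fintype.card F := Fintype.one_lt_card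
  have hnd1 : ¬ r ∣ Fintype.card F - 1 := not_dvd_pred r hrp (by rw [← he]; omega)
  have hμr : μ ^ r = 1 := mu_pow f hf hn X μ hsim r hXr
  have hμq : μ ^ (Fintype.card F - 1) = 1 := FiniteField.pow_card_sub_one_eq_one μ hμ0
  have hμ1 : μ = 1 := by
    have h1 := orderOf_dvd_of_pow_eq_one hμr
    have h2 := orderOf_dvd_of_pow_eq_one hμq
    have h3 : Nat.Coprime r (Fintype.card F - 1) := (Nat.Prime.coprime_iff_not_dvd hrp).mpr hnd1
    have h4 := Nat.dvd_gcd h1 h2
    rw [Nat.Coprime.gcd_eq_one h3] at h4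
    exact orderOf_eq_one_iff.mp (Nat.dvd_one.mp h4)
  have hisoj : ∀ (j : ℕ) u v, f (X ^ j *ᵥ u) (X ^ j *ᵥ v) = f u v := by
    intro j u v
    have := sim_pow f X μ hsim j u v
    rw [hμ1, one_pow, one_mul] at this
    exact this
  obtain ⟨N, hN⟩ : ∃ N : Matrix (Fin n) (Fin n) F, N = ∑ i ∈ Finset.range r, X ^ i := ⟨_, rfl⟩
  have hXN : X * N = N := by rw [hN]; exact geom_fix_r r X hXr
  have hNX : N * X = N := by rw [hN]; exact geom_fix_r' r X hXr
  have hNN : N * N = (r : F) • N := by rw [hN]; exact geom_sq_r r X hXr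
  have hNfix : ∀ v, X *ᵥ v = v → N *ᵥ v = (r : F) • v := by
    intro v hv
    rw [hN]
    exact geom_fixed_vec_r r X v hv
  obtain ⟨W1, hW1⟩ : ∃ W : Submodule F (Fin n → F),
      W = LinearMap.ker (Matrix.mulVecLin (X - 1)) := ⟨_, rfl⟩
  obtain ⟨W2, hW2⟩ : ∃ W : Submodule F (Fin n → F),
      W = LinearMap.ker (Matrix.mulVecLin N) := ⟨_, rfl⟩
  have hW1mem : ∀ u, u ∈ W1 ↔ X *ᵥ u = u := by
    intro u
    rw [hW1, LinearMap.mem_ker, Matrix.mulVecLin_apply, Matrix.sub_mulVec, Matrix.one_mulVec,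
      sub_eq_zero]
  have hW2mem : ∀ u, u ∈ W2 ↔ N *ᵥ u = 0 := by
    intro u
    rw [hW2, LinearMap.mem_ker, Matrix.mulVecLin_apply]
  have hproj : ∀ y, (r : F) • y - N *ᵥ y ∈ W2 := by
    intro y
    rw [hW2mem, Matrix.mulVec_sub, Matrix.mulVec_smul, Matrix.mulVec_mulVec, hNN,
      Matrix.smul_mulVec, sub_self]
  have hdisj : Disjoint W1 W2 := by
    rw [Submodule.disjoint_def]
    intro v h1 h2
    have h3 := hNfix v ((hW1mem v).mp h1)
    rw [(hW2mem v).mp h2] at h3
    exact (smul_eq_zero.mp h3.symm).resolve_left hrF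
  have hW2inv : ∀ w ∈ W2, X *ᵥ w ∈ W2 := by
    intro w hw
    rw [hW2mem, Matrix.mulVec_mulVec, hNX]
    exact (hW2mem w).mp hw
  have hcard := card_inv_modEq_r r hrp hrF X hXr W2 hW2inv
    (fun w hw => by rw [← hN]; exact (hW2mem w).mp hw)
  obtain ⟨d, hd⟩ : ∃ d, d = Module.finrank F W2 := ⟨_, rfl⟩
  have hcardW : Nat.card W2 = Fintype.card F ^ d := by
    rw [hd, ← Nat.card_eq_fintype_card (α := F), ← Module.natCard_eq_pow_finrank (K := F) (V := W2)]
  have hed : e ∣ d := by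
    rw [hcardW] at hcard
    have h1 : ((Fintype.card F : ℕ) : ZMod r) ^ d = 1 := by
      have := (ZMod.natCast_eq_natCast_iff _ _ _).mpr hcard
      rw [Nat.cast_pow, Nat.cast_one] at this
      exact this
    rw [he]
    exact orderOf_dvd_of_pow_eq_one h1
  have hdle : d ≤ e := by
    have h1 := Submodule.finrank_add_finrank_le_of_disjoint hdisj
    rw [Module.finrank_fin_fun, ← hd, hW1] at h1
    omega
  have hd0 : d ≠ 0 := by
    intro h0
    have hbot : W2 = ⊥ := Submodule.finrank_eq_zero.mp (by rw [← hd, h0])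
    apply hX1
    apply SN.mat_ext
    intro y
    rw [Matrix.one_mulVec]
    have h1 := hproj y
    rw [hbot, Submodule.mem_bot, sub_eq_zero] at h1
    have h2 : X *ᵥ ((r : F) • y) = (r : F) • y := by
      rw [h1, Matrix.mulVec_mulVec, hXN]
    rw [Matrix.mulVec_smul] at h2
    exact smul_right_injective _ hrF h2
  have hde : d = e := by
    obtain ⟨c, hc⟩ := hed
    rcases c with _ | _ | c
    · omega
    · omega
    · exfalso
      have : e * 2 ≤ e * (c + 1 + 1) := Nat.mul_le_mul_left e (by omega)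
      omega
  have hperp : ∀ w ∈ W2, ∀ u, X *ᵥ u = u → f w u = 0 := by
    intro w hw u hu
    have h1 : ∀ j : ℕ, f (X ^ j *ᵥ w) u = f w u := by
      intro j
      have := hisoj j w u
      rw [pow_fixed_vec_r X u hu j] at this
      exact this
    have h2 : f (N *ᵥ w) u = (r : F) * f w u := by
      rw [hN, Matrix.sum_mulVec, f_sum_left f hf.bilinear, Finset.sum_congr rfl (fun j _ => h1 j),
        Finset.sum_const, Finset.card_range, nsmul_eq_mul]
    rw [(hW2mem w).mp hw] at h2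
    have h3 : f 0 u = 0 := by
      have := hf.bilinear.smul_left 0 0 u
      rw [zero_smul, zero_mul] at this
      exact this
    rw [h3] at h2
    exact (mul_eq_zero.mp h2.symm).resolve_left hrF
  have hnd2 : ∀ w : W2, w ≠ 0 → ∃ w' : W2, f w.1 w'.1 ≠ 0 := by
    intro w hw
    have hw0 : (w : Fin n → F) ≠ 0 := fun h => hw (Subtype.ext h)
    obtain ⟨y, hy⟩ := (hf.nondegenerate _ hw0).2
    refine ⟨⟨(r : F) • y - N *ᵥ y, hproj y⟩, ?_⟩
    show f w.1 ((r : F) • y - N *ᵥ y) ≠ 0
    have h1 : f w.1 (N *ᵥ y) = 0 := hperp w.1 w.2 _ (by rw [Matrix.mulVec_mulVec, hXN])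
    have h2 : f w.1 ((r : F) • y - N *ᵥ y) = (r : F) * f w.1 y := by
      have h3 : (r : F) • y - N *ᵥ y = (r : F) • y + (-1 : F) • (N *ᵥ y) := by
        rw [neg_one_smul, sub_eq_add_neg]
      rw [h3, hf.bilinear.add_right, hf.bilinear.smul_right, hf.bilinear.smul_right, h1, mul_zero,
        add_zero]
    rw [h2]
    exact mul_ne_zero hrF hy
  have hev := even_finrank_of_alt d W2 ((bil f hf.bilinear).compl₁₂ W2.subtype W2.subtype)
    (fun v => hf.alternating v.1) (fun v hv => hnd2 v hv) hd.symm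
  rw [hde] at hev
  exact (Nat.not_even_iff_odd.mpr hodd) hev

end blk

end Cfsg.Agent.Helper15.SP
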