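import Mathlib
import Cfsg.Agent.Helper15.SP
import Cfsg.Agent.Helper15.SPc
import Cfsg.Agent.Helper16.SpInvA
import Cfsg.Agent.Helper6.SpCard

/-!
# S5968: the index of the similarity group of a symplectic form in `SL_n(q)`
-/

set_option autoImplicit false
open scoped MatrixGroups Matrix
open Cfsg Module

universe u

namespace Cfsg.Agent.Helper15.SP

section transfer
variable {F : Type u} [Field F]

theorem exists_darboux {n m : ℕ} (hnm : n = 2 * m) (f : (Fin n → F) → (Fin n → F) → F)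
    (hf : Geo.IsSymplecticForm f) :
    ∃ φ : (Fin m ⊕ Fin m → F) ≃ₗ[F] (Fin n → F),
      ∀ u v, f (φ u) (φ v) = Cfsg.sympForm m F u v := by
  classical
  obtain ⟨b, hb⟩ := Cfsg.Agent.Helper16.SpInv.exists_planes f hf (Fin m)
    (by rw [Fintype.card_fin]; exact hnm)
  have hc : ∀ i : Fin m, f (b (Sum.inr i)) (b (Sum.inl i)) ≠ 0 := by
    intro i h0
    obtain ⟨x, hx⟩ := (hf.nondegenerate (b (Sum.inl i)) (b.ne_zero _)).1
    apply hx
    have hxs : x = ∑ j, b.repr x j • b j := (b.sum_repr x).symm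
    have h1 : b (Sum.inl i) = ∑ k : Unit, (1 : F) • b (Sum.inl i) := by simp
    rw [hxs, h1, f_sum f hf.bilinear]
    apply Finset.sum_eq_zero
    intro j _
    apply Finset.sum_eq_zero
    intro k _
    by_cases hj : j = Sum.inr i
    · rw [hj, h0, mul_zero]
    · rw [hb j (Sum.inl i) (fun h => hj (by rw [← Sum.swap_swap j, ← h]; rfl)), mul_zero]
  obtain ⟨w, hwdef⟩ : ∃ w : Fin m ⊕ Fin m → F,
      w = Sum.elim (fun _ => 1) (fun i => (f (b (Sum.inr i)) (b (Sum.inl i)))⁻¹) := ⟨_, rfl⟩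
  have hw : ∀ j, IsUnit (w j) := by
    intro j
    rw [hwdef]
    rcases j with i | i
    · exact isUnit_one
    · exact isUnit_iff_ne_zero.mpr (inv_ne_zero (hc i))
  have hwl : ∀ i, w (Sum.inl i) = 1 := by
    intro i
    rw [hwdef]
    rfl
  have hwr : ∀ i, w (Sum.inr i) = (f (b (Sum.inr i)) (b (Sum.inl i)))⁻¹ := by
    intro i
    rw [hwdef]
    rfl
  have hG : ∀ j k, f (w j • b j) (w k • b k) = Matrix.J (Fin m) F j k := by
    intro j k
    rw [hf.bilinear.smul_left, hf.bilinear.smul_right]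
    rcases j with i | i <;> rcases k with i' | i'
    · rw [hb (Sum.inl i) (Sum.inl i') (by simp), mul_zero, mul_zero]
      simp [Matrix.J]
    · by_cases hii : i' = i
      · subst hii
        rw [hf.skew, hwl, hwr, one_mul, mul_neg, inv_mul_cancel₀ (hc i')]
        simp [Matrix.J]
      · rw [hb (Sum.inl i) (Sum.inr i') (by simpa using hii), mul_zero, mul_zero]
        simp [Matrix.J, Matrix.one_apply_ne (Ne.symm hii)]
    · by_cases hii : i' = i
      · subst hii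
        rw [hwl, hwr, one_mul, inv_mul_cancel₀ (hc i')]
        simp [Matrix.J]
      · rw [hb (Sum.inr i) (Sum.inl i') (by simpa using hii), mul_zero, mul_zero]
        simp [Matrix.J, Matrix.one_apply_ne (Ne.symm hii)]
    · rw [hb (Sum.inr i) (Sum.inr i') (by simp), mul_zero, mul_zero]
      simp [Matrix.J]
  refine ⟨(b.isUnitSMul hw).equivFun.symm, ?_⟩
  intro u v
  rw [Basis.equivFun_symm_apply, Basis.equivFun_symm_apply]
  simp only [Basis.isUnitSMul_apply]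
  rw [f_sum f hf.bilinear]
  unfold Cfsg.sympForm
  simp only [dotProduct, Matrix.mulVec, Finset.mul_sum]
  apply Finset.sum_congr rfl
  intro j _
  apply Finset.sum_congr rfl
  intro k _
  rw [hG j k]
  ring

theorem mat_ext' {ι : Type*} [Fintype ι] [DecidableEq ι] (A B : Matrix ι ι F)
    (h : ∀ u, A *ᵥ u = B *ᵥ u) : A = B := by
  apply Matrix.toLin'.injective
  apply LinearMap.ext
  intro u
  rw [Matrix.toLin'_apply, Matrix.toLin'_apply]
  exact h u

/-- transport of a matrix along a linear equivalence -/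
noncomputable def Tf {n m : ℕ} (φ : (Fin m ⊕ Fin m → F) ≃ₗ[F] (Fin n → F))
    (A : Matrix (Fin m ⊕ Fin m) (Fin m ⊕ Fin m) F) : Matrix (Fin n) (Fin n) F :=
  LinearMap.toMatrix' (φ.toLinearMap ∘ₗ Matrix.toLin' A ∘ₗ φ.symm.toLinearMap)

theorem Tf_mulVec {n m : ℕ} (φ : (Fin m ⊕ Fin m → F) ≃ₗ[F] (Fin n → F))
    (A : Matrix (Fin m ⊕ Fin m) (Fin m ⊕ Fin m) F) (v : Fin n → F) :
    Tf φ A *ᵥ v = φ (A *ᵥ φ.symm v) := by
  unfold Tf
  rw [← Matrix.toLin'_apply, Matrix.toLin'_toMatrix']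
  show φ (Matrix.toLin' A (φ.symm v)) = _
  rw [Matrix.toLin'_apply]

theorem Tf_one {n m : ℕ} (φ : (Fin m ⊕ Fin m → F) ≃ₗ[F] (Fin n → F)) : Tf φ 1 = 1 := by
  apply mat_ext'
  intro u
  rw [Tf_mulVec, Matrix.one_mulVec, Matrix.one_mulVec, LinearEquiv.apply_symm_apply]

theorem Tf_mul {n m : ℕ} (φ : (Fin m ⊕ Fin m → F) ≃ₗ[F] (Fin n → F))
    (A B : Matrix (Fin m ⊕ Fin m) (Fin m ⊕ Fin m) F) : Tf φ (A * B) = Tf φ A * Tf φ B := by
  apply mat_ext'
  intro u
  have h1 : (Tf φ A * Tf φ B) *ᵥ u = Tf φ A *ᵥ (Tf φ B *ᵥ u) := (Matrix.mulVec_mulVec u _ _).symm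
  have h2 : (A * B) *ᵥ (φ.symm u) = A *ᵥ (B *ᵥ φ.symm u) := (Matrix.mulVec_mulVec _ _ _).symm
  rw [h1, Tf_mulVec, Tf_mulVec, Tf_mulVec, h2, LinearEquiv.symm_apply_apply]

theorem Tf_inj {n m : ℕ} (φ : (Fin m ⊕ Fin m → F) ≃ₗ[F] (Fin n → F))
    (A B : Matrix (Fin m ⊕ Fin m) (Fin m ⊕ Fin m) F) (h : Tf φ A = Tf φ B) : A = B := by
  apply mat_ext'
  intro u
  have h1 := congrArg (fun M => M *ᵥ φ u) h
  simp only [Tf_mulVec, LinearEquiv.symm_apply_apply] at h1
  exact φ.injective h1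

theorem Tf_preserves {n m : ℕ} (φ : (Fin m ⊕ Fin m → F) ≃ₗ[F] (Fin n → F))
    (f : (Fin n → F) → (Fin n → F) → F)
    (hφ : ∀ u v, f (φ u) (φ v) = Cfsg.sympForm m F u v)
    (A : Matrix.symplecticGroup (Fin m) F) (u v : Fin n → F) :
    f (Tf φ A.1 *ᵥ u) (Tf φ A.1 *ᵥ v) = f u v := by
  rw [Tf_mulVec, Tf_mulVec, hφ, Cfsg.Agent.Helper6.sp_preserves, ← hφ,
    LinearEquiv.apply_symm_apply, LinearEquiv.apply_symm_apply]

end transfer

section arith

theorem prod_split (g : ℕ → ℕ) (m : ℕ) :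
    ∏ k ∈ Finset.range (2 * m), g k =
      (∏ i ∈ Finset.range m, g (2 * i)) * ∏ i ∈ Finset.range m, g (2 * i + 1) := by
  induction m with
  | zero => simp
  | succ m ih =>
    have h : 2 * (m + 1) = 2 * m + 1 + 1 := by ring
    rw [h]
    simp only [Finset.prod_range_succ]
    rw [ih]
    ring

theorem prod_gl (q n : ℕ) (hq : 1 ≤ q) :
    ∏ i : Fin n, (q ^ n - q ^ (i : ℕ)) =
      q ^ (∑ i ∈ Finset.range n, i) * ∏ k ∈ Finset.range n, (q ^ (k + 1) - 1) := by
  rw [Fin.prod_univ_eq_prod_range (fun i => q ^ n - q ^ i) n]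
  rw [← Finset.prod_range_reflect (fun k => q ^ (k + 1) - 1) n, ← Finset.prod_pow_eq_pow_sum,
    ← Finset.prod_mul_distrib]
  apply Finset.prod_congr rfl
  intro i hi
  rw [Finset.mem_range] at hi
  have h1 : n - 1 - i + 1 = n - i := by omega
  rw [h1, Nat.mul_sub, mul_one, ← pow_add]
  congr 2
  omega

end arith

section index
variable {F : Type u} [Field F] [Fintype F]

theorem not_dvd_q (p : ℕ) [Fact p.Prime] [CharP F p] (r : ℕ) (hrp : r.Prime) (hne : r ≠ p) :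
    ¬ r ∣ Fintype.card F := by
  obtain ⟨k, -, hk⟩ := FiniteField.card F p
  intro h
  rw [hk] at h
  have := hrp.dvd_of_dvd_pow h
  exact hne ((Nat.prime_dvd_prime_iff_eq hrp (Fact.out)).mp this)

theorem ord_dvd_of_dvd (r : ℕ) (hrp : r.Prime) (j : ℕ) (h : r ∣ Fintype.card F ^ j - 1) :
    orderOf ((Fintype.card F : ℕ) : ZMod r) ∣ j := by
  haveI : Fact r.Prime := ⟨hrp⟩
  have hq2 : 2 ≤ Fintype.card F := Fintype.one_lt_card
  have h1 : 1 ≤ Fintype.card F ^ j := Nat.one_le_pow _ _ (by omega)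
  have h2 : ((Fintype.card F ^ j - 1 : ℕ) : ZMod r) = 0 := (ZMod.natCast_eq_zero_iff _ _).mpr h
  rw [Nat.cast_sub h1, Nat.cast_pow, Nat.cast_one, sub_eq_zero] at h2
  exact orderOf_dvd_of_pow_eq_one h2

theorem ord_le_of_dvd_card (p : ℕ) [Fact p.Prime] [CharP F p] (n : ℕ) (hn : 1 ≤ n) (r : ℕ)
    (hrp : r.Prime) (hne : r ≠ p)
    (h : r ∣ Nat.card (Matrix.SpecialLinearGroup (Fin n) F)) :
    1 ≤ orderOf ((Fintype.card F : ℕ) : ZMod r) ∧
      orderOf ((Fintype.card F : ℕ) : ZMod r) ≤ n := by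
  have hq2 : 2 ≤ Fintype.card F := Fintype.one_lt_card
  have hprod := Cfsg.Agent.S0242.result (F := F) rfl n hn
  have h1 : r ∣ ∏ i : Fin n, (Fintype.card F ^ n - Fintype.card F ^ (i : ℕ)) := by
    rw [← hprod]
    exact Dvd.dvd.mul_left h _
  rw [prod_gl _ n (by omega)] at h1
  rcases (Nat.Prime.dvd_mul hrp).mp h1 with h2 | h2
  · exact absurd (hrp.dvd_of_dvd_pow h2) (not_dvd_q p r hrp hne)
  · obtain ⟨k, hk, h3⟩ := (Prime.dvd_finsetProd_iff (Nat.Prime.prime hrp) _).mp h2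
    rw [Finset.mem_range] at hk
    have h4 := ord_dvd_of_dvd r hrp (k + 1) h3
    have h5 := Nat.le_of_dvd (by omega) h4
    constructor
    · exact Nat.pos_of_dvd_of_pos h4 (by omega)
    · omega

theorem odd_of_dvd_index (p : ℕ) [Fact p.Prime] [CharP F p] (n m : ℕ) (hnm : n = 2 * m)
    (hm : 1 ≤ m) (f : (Fin n → F) → (Fin n → F) → F) (hf : Geo.IsSymplecticForm f)
    (r : ℕ) (hrp : r.Prime) (hne : r ≠ p)
    (hΩ : r ∣ ((Cfsg.Geo.similarityGroup f).comap
      (Matrix.SpecialLinearGroup.toGL :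
        Matrix.SpecialLinearGroup (Fin n) F →* GL (Fin n) F)).index) :
    Odd (orderOf ((Fintype.card F : ℕ) : ZMod r)) := by
  classical
  haveI : Fact r.Prime := ⟨hrp⟩
  by_contra hodd
  rw [Nat.not_odd_iff_even] at hodd
  have hq2 : 2 ≤ Fintype.card F := Fintype.one_lt_card
  obtain ⟨H, hH⟩ : ∃ H : Subgroup (Matrix.SpecialLinearGroup (Fin n) F),
      H = (Cfsg.Geo.similarityGroup f).comap Matrix.SpecialLinearGroup.toGL := ⟨_, rfl⟩
  rw [← hH] at hΩ
  obtain ⟨φ, hφ⟩ := exists_darboux hnm f hf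
  have he1 : orderOf ((Fintype.card F : ℕ) : ZMod r) ≠ 1 := by
    intro h
    rw [h] at hodd
    exact absurd hodd (by decide)
  have hnd1 : ¬ r ∣ Fintype.card F - 1 := not_dvd_pred r hrp he1
  have hcop : Nat.Coprime r (Fintype.card F - 1) := (Nat.Prime.coprime_iff_not_dvd hrp).mpr hnd1
  obtain ⟨P⟩ : Nonempty (Sylow r (Matrix.symplecticGroup (Fin m) F)) := inferInstance
  obtain ⟨a, ha⟩ : ∃ a, a = (Nat.card (Matrix.symplecticGroup (Fin m) F)).factorization r :=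
    ⟨_, rfl⟩
  have hPcard : Nat.card P = r ^ a := by
    rw [ha]
    exact P.card_eq_multiplicity
  have hdet : ∀ A : P, (Tf φ A.1.1).det = 1 := by
    intro A
    obtain ⟨D, hD⟩ : ∃ D : ↥P →* F, ∀ B : P, D B = (Tf φ B.1.1).det := by
      refine ⟨{ toFun := fun B => (Tf φ B.1.1).det, map_one' := ?_, map_mul' := ?_ },
        fun B => rfl⟩
      · show (Tf φ (1 : Matrix (Fin m ⊕ Fin m) (Fin m ⊕ Fin m) F)).det = 1
        rw [Tf_one, Matrix.det_one]
      · intro B C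
        show (Tf φ (B.1.1 * C.1.1)).det = _
        rw [Tf_mul, Matrix.det_mul]
    rw [← hD]
    have h1 : orderOf (D A) ∣ orderOf A := orderOf_map_dvd D A
    have h2 : orderOf A ∣ r ^ a := by
      rw [← hPcard]
      exact orderOf_dvd_natCard A
    have h3 : 0 < orderOf A := orderOf_pos A
    have h4 : orderOf (D A) ≠ 0 := fun h => by
      rw [h] at h1
      have := Nat.eq_zero_of_zero_dvd h1
      omega
    have h5 : D A ≠ 0 := by
      intro h
      have h6 := pow_orderOf_eq_one (D A)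
      rw [h] at h6 h4
      rw [zero_pow h4] at h6
      exact zero_ne_one h6
    have h7 : orderOf (D A) ∣ Fintype.card F - 1 :=
      orderOf_dvd_of_pow_eq_one (FiniteField.pow_card_sub_one_eq_one (D A) h5)
    have h8 := Nat.dvd_gcd (h1.trans h2) h7
    rw [Nat.Coprime.gcd_eq_one (Nat.Coprime.pow_left a hcop)] at h8
    exact orderOf_eq_one_iff.mp (Nat.dvd_one.mp h8)
  obtain ⟨θ, hθ⟩ : ∃ θ : ↥P →* Matrix.SpecialLinearGroup (Fin n) F,
      ∀ B : P, (θ B : Matrix (Fin n) (Fin n) F) = Tf φ B.1.1 := by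
    refine ⟨{ toFun := fun B => ⟨Tf φ B.1.1, hdet B⟩, map_one' := ?_, map_mul' := ?_ },
      fun B => rfl⟩
    · apply Subtype.ext
      show Tf φ (1 : Matrix (Fin m ⊕ Fin m) (Fin m ⊕ Fin m) F) = 1
      exact Tf_one φ
    · intro B C
      apply Subtype.ext
      show Tf φ (B.1.1 * C.1.1) = Tf φ B.1.1 * Tf φ C.1.1
      exact Tf_mul φ _ _
  have hθinj : Function.Injective θ := by
    intro B C hBC
    have h1 : Tf φ B.1.1 = Tf φ C.1.1 := by rw [← hθ, ← hθ, hBC]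
    exact Subtype.ext (Subtype.ext (Tf_inj φ _ _ h1))
  have hθmem : ∀ B : P, θ B ∈ H := by
    intro B
    rw [hH, Subgroup.mem_comap]
    refine ⟨1, fun u v => ?_⟩
    rw [Units.val_one, one_mul]
    show f ((θ B : Matrix (Fin n) (Fin n) F) *ᵥ u) ((θ B : Matrix (Fin n) (Fin n) F) *ᵥ v) = f u v
    rw [hθ]
    exact Tf_preserves φ f hφ B.1 u v
  have hdvdH : r ^ a ∣ Nat.card H := by
    rw [← hPcard]
    exact Subgroup.card_dvd_of_injective (θ.codRestrict H hθmem)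
      (fun B C hBC => hθinj (congrArg Subtype.val hBC))
  have hdvdSL : r ^ (a + 1) ∣ Nat.card (Matrix.SpecialLinearGroup (Fin n) F) := by
    rw [← Subgroup.card_mul_index H, pow_succ]
    exact Nat.mul_dvd_mul hdvdH hΩ
  have hprod := Cfsg.Agent.S0242.result (F := F) rfl n (by omega)
  have h1 : r ^ (a + 1) ∣ ∏ i : Fin n, (Fintype.card F ^ n - Fintype.card F ^ (i : ℕ)) := by
    rw [← hprod]
    exact Dvd.dvd.mul_left hdvdSL _
  rw [prod_gl _ n (by omega), hnm, prod_split] at h1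
  have hcop1 : Nat.Coprime (r ^ (a + 1))
      (Fintype.card F ^ (∑ i ∈ Finset.range (2 * m), i)) :=
    Nat.Coprime.pow _ _ ((Nat.Prime.coprime_iff_not_dvd hrp).mpr (not_dvd_q p r hrp hne))
  have hcop2 : Nat.Coprime (r ^ (a + 1))
      (∏ i ∈ Finset.range m, (Fintype.card F ^ (2 * i + 1) - 1)) := by
    apply Nat.Coprime.pow_left
    rw [Nat.coprime_prod_right_iff]
    intro i _
    rw [Nat.Prime.coprime_iff_not_dvd hrp]
    intro h
    have h2 := ord_dvd_of_dvd r hrp (2 * i + 1) h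
    obtain ⟨c, hc⟩ := hodd
    rw [hc] at h2
    obtain ⟨d, hd⟩ := h2
    have : (c + c) * d = 2 * (c * d) := by ring
    omega
  have h2 : r ^ (a + 1) ∣ ∏ i ∈ Finset.range m, (Fintype.card F ^ (2 * i + 1 + 1) - 1) := by
    have h3 := Nat.Coprime.dvd_of_dvd_mul_left hcop1 h1
    exact Nat.Coprime.dvd_of_dvd_mul_left hcop2 h3
  have hsp := Cfsg.Agent.Helper6.sp_card (F := F) rfl m
  have h4 : r ^ (a + 1) ∣ Nat.card (Matrix.symplecticGroup (Fin m) F) := by
    rw [hsp]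
    apply Dvd.dvd.mul_left
    have h5 : ∏ i ∈ Finset.range m, (Fintype.card F ^ (2 * (i + 1)) - 1) =
        ∏ i ∈ Finset.range m, (Fintype.card F ^ (2 * i + 1 + 1) - 1) :=
      Finset.prod_congr rfl (fun i _ => by rw [show 2 * (i + 1) = 2 * i + 1 + 1 by ring])
    rw [h5]
    exact h2
  have hne0 : Nat.card (Matrix.symplecticGroup (Fin m) F) ≠ 0 := Nat.card_pos.ne'
  rw [ha] at h4
  exact Nat.pow_succ_factorization_not_dvd hne0 hrp h4

end index

end Cfsg.Agent.Helper15.SP
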