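import Mathlib
import Cfsg.Agent.Helper15.SP
import Cfsg.Agent.Helper15.SPa
import Cfsg.Agent.Helper15.SPb
import Cfsg.Agent.Helper15.SPc
import Cfsg.Agent.Helper15.SPd

/-!
# S5968: the main theorem
-/

set_option autoImplicit false
open scoped MatrixGroups Matrix
open Cfsg

universe u

namespace Cfsg.Agent.Helper15.SP

theorem key {F : Type u} [Field F] [Fintype F] (p : ℕ) [Fact p.Prime] [CharP F p]
    (n : ℕ) (hn : 4 ≤ n) (he : Even n) (f : (Fin n → F) → (Fin n → F) → F)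
    (hf : Cfsg.Geo.IsSymplecticForm f)
    (r : ℕ) [Fact r.Prime] (hr2 : r ≠ 2) (hgap : ¬ (n = 6 ∧ r = 3))
    (hΩ : r ∣ ((Cfsg.Geo.similarityGroup f).comap
      (Matrix.SpecialLinearGroup.toGL :
        Matrix.SpecialLinearGroup (Fin n) F →* GL (Fin n) F)).index) :
    ∃ x : Matrix.SpecialLinearGroup (Fin n) F,
      (∃ z : F, ((x ^ r : Matrix.SpecialLinearGroup (Fin n) F) : Matrix (Fin n) (Fin n) F) =
        z • (1 : Matrix (Fin n) (Fin n) F)) ∧
      (∀ z : F, (x : Matrix (Fin n) (Fin n) F) ≠ z • (1 : Matrix (Fin n) (Fin n) F)) ∧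
      ∀ P : Matrix.SpecialLinearGroup (Fin n) F, P⁻¹ * x * P ∉
        ((Cfsg.Geo.similarityGroup f).comap
          (Matrix.SpecialLinearGroup.toGL :
            Matrix.SpecialLinearGroup (Fin n) F →* GL (Fin n) F)) := by
  classical
  have hrp : r.Prime := Fact.out
  have hpp : p.Prime := Fact.out
  obtain ⟨i0, i1, i2, i3, h01, h02, h12, h30, h31, h32⟩ : ∃ i0 i1 i2 i3 : Fin n,
      i0 ≠ i1 ∧ i0 ≠ i2 ∧ i1 ≠ i2 ∧ i3 ≠ i0 ∧ i3 ≠ i1 ∧ i3 ≠ i2 :=
    ⟨⟨0, by omega⟩, ⟨1, by omega⟩, ⟨2, by omega⟩, ⟨3, by omega⟩,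
      Fin.ne_of_val_ne (by simp), Fin.ne_of_val_ne (by simp), Fin.ne_of_val_ne (by simp),
      Fin.ne_of_val_ne (by simp), Fin.ne_of_val_ne (by simp), Fin.ne_of_val_ne (by simp)⟩
  have hred : ∀ X : Matrix (Fin n) (Fin n) F, X.det = 1 → X ^ r = 1 →
      (∀ z : F, X ≠ z • (1 : Matrix (Fin n) (Fin n) F)) →
      (∀ (f' : (Fin n → F) → (Fin n → F) → F), Geo.IsSymplecticForm f' → ∀ μ : F, μ ≠ 0 →
        (∀ u v, f' (X *ᵥ u) (X *ᵥ v) = μ * f' u v) → False) →
      ∃ x : Matrix.SpecialLinearGroup (Fin n) F,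
        (∃ z : F, ((x ^ r : Matrix.SpecialLinearGroup (Fin n) F) : Matrix (Fin n) (Fin n) F) =
          z • (1 : Matrix (Fin n) (Fin n) F)) ∧
        (∀ z : F, (x : Matrix (Fin n) (Fin n) F) ≠ z • (1 : Matrix (Fin n) (Fin n) F)) ∧
        ∀ P : Matrix.SpecialLinearGroup (Fin n) F, P⁻¹ * x * P ∉
          ((Cfsg.Geo.similarityGroup f).comap
            (Matrix.SpecialLinearGroup.toGL :
              Matrix.SpecialLinearGroup (Fin n) F →* GL (Fin n) F)) := by
    intro X hdet hpow hns hno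
    obtain ⟨x, hx⟩ : ∃ x : Matrix.SpecialLinearGroup (Fin n) F,
        (x : Matrix (Fin n) (Fin n) F) = X := ⟨⟨X, hdet⟩, rfl⟩
    refine ⟨x, ⟨1, ?_⟩, ?_, ?_⟩
    · rw [Matrix.SpecialLinearGroup.coe_pow, one_smul, hx]
      exact hpow
    · rw [hx]
      exact hns
    · intro P hP
      obtain ⟨μ, hμ0, hμ⟩ := sim_of_conj f x P hP
      rw [hx] at hμ
      have hPu : IsUnit (P : Matrix (Fin n) (Fin n) F).det := by
        rw [P.det_coe]
        exact isUnit_one
      exact hno (fun u v => f ((P : Matrix (Fin n) (Fin n) F)⁻¹ *ᵥ u)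
        ((P : Matrix (Fin n) (Fin n) F)⁻¹ *ᵥ v)) (symp_transport f hf _ hPu) μ hμ0 hμ
  by_cases hrpe : r = p
  · have hxp : (xU i0 i1 i2 : Matrix (Fin n) (Fin n) F) ^ p = 1 :=
      xU_pow p (by rw [← hrpe]; exact hr2) (by omega) i0 i1 i2 h01 h12 h02
    apply hred (xU i0 i1 i2) (xU_det i0 i1 i2 h01 h12) (by rw [hrpe]; exact hxp)
    · intro z hz
      have h1 := congrFun (congrFun hz i0) i1
      unfold xU at h1
      simp [h01, h12.symm, h01.symm] at h1
    · intro f' hf' μ hμ0 hsim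
      have hμp : μ ^ p = 1 := mu_pow f' hf' (by omega) _ μ hsim p hxp
      have hμ1 : μ = 1 := char_pow_one p μ hμp
      exact xU_not_sim f' hf' i0 i1 i2 h01 h12 h02 (fun u v => by rw [hsim, hμ1, one_mul])
  · have hrF : (r : F) ≠ 0 := by
      intro h
      have h1 := (CharP.cast_eq_zero_iff F p r).mp h
      exact hrpe ((Nat.prime_dvd_prime_iff_eq hpp hrp).mp h1).symm
    have hSL : r ∣ Nat.card (Matrix.SpecialLinearGroup (Fin n) F) :=
      hΩ.trans (Subgroup.index_dvd_card _)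
    obtain ⟨he1, hen⟩ := ord_le_of_dvd_card p n (by omega) r hrp hrpe hSL
    obtain ⟨m, hm⟩ := he
    have hodd := odd_of_dvd_index p n m (by omega) (by omega) f hf r hrp hrpe hΩ
    obtain ⟨e, hedef⟩ : ∃ e, e = orderOf ((Fintype.card F : ℕ) : ZMod r) := ⟨_, rfl⟩
    rw [← hedef] at he1 hen hodd
    have hq2 : 2 ≤ Fintype.card F := Fintype.one_lt_card
    by_cases he1' : e = 1
    · have hdvd : r ∣ Fintype.card F - 1 := by
        have h1 : ((Fintype.card F : ℕ) : ZMod r) ^ e = 1 := by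
          rw [hedef]
          exact pow_orderOf_eq_one _
        rw [he1', pow_one] at h1
        rw [← ZMod.natCast_eq_zero_iff, Nat.cast_sub (by omega), Nat.cast_one, h1, sub_self]
      have hcardU : Nat.card Fˣ = Fintype.card F - 1 := by
        rw [Nat.card_eq_fintype_card, Fintype.card_units]
      obtain ⟨ζu, hζu⟩ := exists_prime_orderOf_dvd_card' (G := Fˣ) r
        (by rw [hcardU]; exact hdvd)
      obtain ⟨ζ, hζ⟩ : ∃ ζ : F, orderOf ζ = r := ⟨(ζu : F), by rw [orderOf_units]; exact hζu⟩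
      have hζr : ζ ^ r = 1 := by
        rw [← hζ]
        exact pow_orderOf_eq_one ζ
      have hζ1 : ζ ≠ 1 := by
        intro h
        rw [h, orderOf_one] at hζ
        exact hrp.one_lt.ne hζ
      apply hred (xD ζ r i0 i1 i2) (xD_det ζ r hrp.two_le hζr i0 i1 i2)
        (xD_pow ζ r hζr i0 i1 i2) (xD_not_scalar ζ hζ1 r i0 i1 i2 i3 h01 h02 h30 h31 h32)
      intro f' hf' μ hμ0 hsim
      exact xD_not_sim f' hf' ζ r hrp hr2 hζ hgap ⟨m, hm⟩ hn i0 i1 i2 i3 h01 h02 h12 h30 h31 h32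
        μ hsim
    · have he3 : 3 ≤ e := by
        obtain ⟨c, hc⟩ := hodd
        omega
      have hen1 : e + 1 ≤ n := by
        obtain ⟨c, hc⟩ := hodd
        omega
      have hdvdSLe := dvd_card_SL_e (F := F) r hrp e hedef (by omega)
      obtain ⟨x, hxr, hx1, hxfix⟩ := exists_blk (F := F) n r hrp e hen hdvdSLe
      apply hred (x : Matrix (Fin n) (Fin n) F) x.2 hxr
      · intro z hz
        have hpos : 0 < Module.finrank F
            (LinearMap.ker (Matrix.mulVecLin ((x : Matrix (Fin n) (Fin n) F) - 1))) := by omega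
        obtain ⟨⟨v, hvmem⟩, hv0⟩ := Module.finrank_pos_iff_exists_ne_zero.mp hpos
        have hv0' : v ≠ 0 := fun h => hv0 (Subtype.ext h)
        rw [LinearMap.mem_ker, Matrix.mulVecLin_apply, hz, Matrix.sub_mulVec, Matrix.one_mulVec,
          Matrix.smul_mulVec, Matrix.one_mulVec] at hvmem
        have h1 : (z - 1) • v = 0 := by
          rw [sub_smul, one_smul]
          exact hvmem
        rcases smul_eq_zero.mp h1 with h2 | h2
        · apply hx1
          rw [hz, sub_eq_zero.mp h2, one_smul]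
        · exact hv0' h2
      · intro f' hf' μ hμ0 hsim
        exact blk_not_sim f' hf' (by omega) r hrp hrF e hedef hodd he3 _ hxr hx1 hxfix μ hμ0 hsim

end Cfsg.Agent.Helper15.SP
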