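import Mathlib
import Cfsg.Agent.Helper15.SPc

/-!
# Commuting elements of orders `r` and `p` in a symplectic group (for S2472)
-/

set_option autoImplicit false
set_option linter.unusedSectionVars false
set_option linter.style.haveILetI false
set_option linter.unusedSimpArgs false
set_option linter.unusedVariables false

namespace Cfsg.Agent.Helper15.SQ

open scoped Matrix

universe u

section abs
variable {F : Type u} [Field F] [Fintype F]

theorem cnt {V : Type*} [AddCommGroup V] [Module F V] [FiniteDimensional F V]
    (f : V →ₗ[F] V) (r : ℕ) (hr : r.Prime) (hfr : f ^ r = 1)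
    (S : Submodule F V) (hS : ∀ v ∈ S, f v ∈ S) (hfree : ∀ v ∈ S, f v = v → v = 0) :
    r ∣ Fintype.card F ^ Module.finrank F S - 1 := by
  classical
  haveI : Finite V := Module.finite_of_finite F
  haveI : Fintype S := Fintype.ofFinite _
  haveI : Fact r.Prime := ⟨hr⟩
  let g : Function.End S := fun v => ⟨f v.1, hS v.1 v.2⟩
  have hgpow : ∀ (j : ℕ) (v : S), ((g ^ j) v : V) = (f ^ j) (v : V) := by
    intro j
    induction j with
    | zero =>
      intro v
      rw [pow_zero, pow_zero]
      rfl
    | succ j ih =>
      intro v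
      rw [pow_succ, pow_succ]
      show ((g ^ j) (g v) : V) = (f ^ j) (f (v : V))
      rw [ih (g v)]
  have hg : g ^ r ^ 1 = 1 := by
    rw [pow_one]
    funext v
    apply Subtype.ext
    rw [hgpow, hfr]
    rfl
  have h := Equiv.Perm.card_fixedPoints_modEq (p := r) (n := 1) hg
  have hfix : Fintype.card (Function.fixedPoints g) = 1 := by
    rw [Fintype.card_eq_one_iff]
    refine ⟨⟨0, ?_⟩, ?_⟩
    · show g 0 = 0
      apply Subtype.ext
      show f ((0 : S) : V) = ((0 : S) : V)
      rw [Submodule.coe_zero, map_zero]
    · rintro ⟨v, hv⟩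
      apply Subtype.ext
      have h1 : f (v : V) = v := congrArg Subtype.val hv
      have h2 := hfree _ v.2 h1
      exact Subtype.ext h2
  rw [hfix] at h
  have hc : Fintype.card S = Fintype.card F ^ Module.finrank F S :=
    Module.card_eq_pow_finrank (K := F) (V := S)
  rw [hc] at h
  exact (Nat.modEq_iff_dvd' (Nat.one_le_pow _ _ Fintype.card_pos)).mp h.symm

theorem mainL {V : Type u} [AddCommGroup V] [Module F V] [FiniteDimensional F V]
    (p : ℕ) [Fact p.Prime] [CharP F p]
    (B : V →ₗ[F] V →ₗ[F] F) (halt : ∀ v, B v v = 0) (hnd : ∀ v, v ≠ 0 → ∃ w, B v w ≠ 0)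
    (n : ℕ) (hn : 2 ≤ n) (hdim : Module.finrank F V = 2 * n)
    (f a : V →ₗ[F] V) (hf : ∀ u v, B (f u) (f v) = B u v) (ha : ∀ u v, B (a u) (a v) = B u v)
    (r : ℕ) (hr : r.Prime) (hr2 : r ≠ 2) (hrF : (r : F) ≠ 0) (hfr : f ^ r = 1) (hf1 : f ≠ 1)
    (hap : a ^ p = 1) (ha1 : a ≠ 1) (hfa : f * a = a * f)
    (k : ℕ) (hk0 : 0 < k) (hK : ∀ j, r ∣ Fintype.card F ^ j - 1 → k ∣ j) :
    (Odd k → k ≤ n - 1) ∧ (Even k → k ≤ 2 * (n - 1)) := by
  classical
  have hp : p.Prime := Fact.out
  have hskew : ∀ x y, B x y = - B y x := by
    intro x y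
    have h := halt (x + y)
    simp only [map_add, LinearMap.add_apply, halt x, halt y] at h
    linear_combination h
  have hI : ∀ S : Submodule F V, (∀ v ∈ S, f v ∈ S) → (∀ v ∈ S, f v = v → v = 0) →
      k ∣ Module.finrank F S := fun S h1 h2 => hK _ (cnt f r hr hfr S h1 h2)
  obtain ⟨Sg, hSg⟩ : ∃ Sg : V →ₗ[F] V, Sg = ∑ i ∈ Finset.range r, f ^ i := ⟨_, rfl⟩
  have hSg1 : Sg * (f - 1) = 0 := by
    rw [hSg, geom_sum_mul, hfr, sub_self]
  have hfSg : f * Sg = Sg := by
    have h1 : (f - 1) * Sg = 0 := by
      rw [hSg, mul_geom_sum, hfr, sub_self]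
    rw [sub_mul, one_mul, sub_eq_zero] at h1
    exact h1
  have hpowfix : ∀ (v : V), f v = v → ∀ i : ℕ, (f ^ i) v = v := by
    intro v hv i
    induction i with
    | zero =>
      rw [pow_zero]
      rfl
    | succ i ih =>
      rw [pow_succ]
      show (f ^ i) (f v) = v
      rw [hv, ih]
  have hSgfix : ∀ v, f v = v → Sg v = (r : F) • v := by
    intro v hv
    rw [hSg, LinearMap.sum_apply, Finset.sum_congr rfl (fun i _ => hpowfix v hv i),
      Finset.sum_const, Finset.card_range]
    exact (Nat.cast_smul_eq_nsmul F r v).symm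
  obtain ⟨V1, hV1⟩ : ∃ V1 : Submodule F V, V1 = LinearMap.ker Sg := ⟨_, rfl⟩
  have hV1mem : ∀ v, v ∈ V1 ↔ Sg v = 0 := by
    intro v
    rw [hV1, LinearMap.mem_ker]
  have hSgf : ∀ v, Sg (f v) = Sg v := by
    intro v
    have h1 : (Sg * (f - 1)) v = 0 := by
      rw [hSg1]
      rfl
    have h2 : (Sg * (f - 1)) v = Sg (f v) - Sg v := by
      show Sg ((f - 1) v) = _
      rw [LinearMap.sub_apply, map_sub]
      rfl
    rw [h2, sub_eq_zero] at h1
    exact h1
  have hfSg' : ∀ v, f (Sg v) = Sg v := by
    intro v
    have : (f * Sg) v = Sg v := by rw [hfSg]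
    exact this
  have hV1inv : ∀ v ∈ V1, f v ∈ V1 := by
    intro v hv
    rw [hV1mem] at hv ⊢
    rw [hSgf, hv]
  have hV1free : ∀ v ∈ V1, f v = v → v = 0 := by
    intro v hv hfix
    have h3 := hSgfix v hfix
    rw [(hV1mem v).mp hv] at h3
    exact (smul_eq_zero.mp h3.symm).resolve_left hrF
  have hSgSg : ∀ v, Sg (Sg v) = (r : F) • Sg v := fun v => hSgfix (Sg v) (hfSg' v)
  have hproj : ∀ y, (r : F) • y - Sg y ∈ V1 := by
    intro y
    rw [hV1mem, map_sub, map_smul, hSgSg, sub_self]
  have hfpres : ∀ (i : ℕ) u v, B ((f ^ i) u) ((f ^ i) v) = B u v := by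
    intro i
    induction i with
    | zero =>
      intro u v
      rw [pow_zero]
      rfl
    | succ i ih =>
      intro u v
      rw [pow_succ]
      show B ((f ^ i) (f u)) ((f ^ i) (f v)) = B u v
      rw [ih, hf]
  have horth : ∀ w0 v, f w0 = w0 → v ∈ V1 → B v w0 = 0 := by
    intro w0 v hw0 hv
    have h2 : ∀ i ∈ Finset.range r, B ((f ^ i) v) w0 = B v w0 := by
      intro i _
      have := hfpres i v w0
      rw [hpowfix w0 hw0 i] at this
      exact this
    have h1 : B (Sg v) w0 = (r : F) * B v w0 := by
      rw [hSg, LinearMap.sum_apply, map_sum, LinearMap.sum_apply, Finset.sum_congr rfl h2,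
        Finset.sum_const, Finset.card_range, nsmul_eq_mul]
    rw [(hV1mem v).mp hv, map_zero, LinearMap.zero_apply] at h1
    exact (mul_eq_zero.mp h1.symm).resolve_left hrF
  have hV1nd : ∀ v ∈ V1, v ≠ 0 → ∃ w ∈ V1, B v w ≠ 0 := by
    intro v hv hv0
    obtain ⟨w, hw⟩ := hnd v hv0
    refine ⟨(r : F) • w - Sg w, hproj w, ?_⟩
    rw [map_sub, map_smul, horth (Sg w) v (hfSg' w) hv, sub_zero, smul_eq_mul]
    exact mul_ne_zero hrF hw
  obtain ⟨d1, hd1⟩ : ∃ d1, Module.finrank F V1 = d1 := ⟨_, rfl⟩
  have hd1even : Even d1 := by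
    refine SP.even_finrank_of_alt d1 V1 (B.domRestrict₁₂ V1 V1) ?_ ?_ hd1
    · intro v
      rw [LinearMap.domRestrict₁₂_apply]
      exact halt _
    · intro v hv
      obtain ⟨w, hw, hne⟩ := hV1nd v.1 v.2 (fun h => hv (Subtype.ext h))
      exact ⟨⟨w, hw⟩, by rw [LinearMap.domRestrict₁₂_apply]; exact hne⟩
  have hkd1 : k ∣ d1 := by
    rw [← hd1]
    exact hI V1 hV1inv hV1free
  have hd1pos : 0 < d1 := by
    rw [← hd1]
    apply Module.finrank_pos_iff_exists_ne_zero.mpr
    by_contra hcon
    push Not at hcon
    apply hf1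
    ext u
    have h1 : f u - u ∈ V1 := by
      rw [hV1mem, map_sub, hSgf, sub_self]
    have h2 := hcon ⟨_, h1⟩
    have h3 : f u - u = 0 := congrArg Subtype.val h2
    rw [sub_eq_zero] at h3
    rw [h3]
    rfl
  have hrk := LinearMap.finrank_range_add_finrank_ker Sg
  rw [hdim, ← hV1, hd1] at hrk
  by_cases hfixV : ∃ w0 : V, w0 ≠ 0 ∧ f w0 = w0
  · obtain ⟨w0, hw0, hfw0⟩ := hfixV
    have hrange : 0 < Module.finrank F (LinearMap.range Sg) := by
      apply Module.finrank_pos_iff_exists_ne_zero.mpr
      refine ⟨⟨Sg w0, LinearMap.mem_range_self Sg w0⟩, ?_⟩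
      intro h
      have h1 : Sg w0 = 0 := congrArg Subtype.val h
      rw [hSgfix w0 hfw0] at h1
      exact hw0 ((smul_eq_zero.mp h1).resolve_left hrF)
    obtain ⟨b, hb⟩ := hd1even
    have hb1 : b ≤ n - 1 := by omega
    constructor
    · intro hodd
      have hcop : Nat.Coprime 2 k :=
        (Nat.Prime.coprime_iff_not_dvd Nat.prime_two).mpr hodd.not_two_dvd_nat
      have h1 : k ∣ b :=
        Nat.Coprime.dvd_of_dvd_mul_right hcop.symm (by rw [mul_two, ← hb]; exact hkd1)
      have := Nat.le_of_dvd (by omega) h1
      omega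
    · intro _
      have := Nat.le_of_dvd hd1pos hkd1
      omega
  · push Not at hfixV
    have hfree : ∀ v, f v = v → v = 0 := by
      intro v hv
      by_contra h0
      exact hfixV v h0 hv
    have hI' : ∀ S : Submodule F V, (∀ v ∈ S, f v ∈ S) → k ∣ Module.finrank F S :=
      fun S h1 => hI S h1 (fun v _ hv => hfree v hv)
    obtain ⟨N, hN⟩ : ∃ N : V →ₗ[F] V, N = a - 1 := ⟨_, rfl⟩
    have hNapp : ∀ v, N v = a v - v := by
      intro v
      rw [hN]
      rfl
    have hfN : ∀ v, f (N v) = N (f v) := by
      intro v
      rw [hNapp, hNapp, map_sub]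
      have : (f * a) v = (a * f) v := by rw [hfa]
      rw [show f (a v) = a (f v) from this]
    have hN0 : N ≠ 0 := by
      intro h
      apply ha1
      rw [hN, sub_eq_zero] at h
      exact h
    have hNp : N ^ p = 0 := by
      haveI : Nontrivial V := Module.nontrivial_of_finrank_pos (R := F) (by rw [hdim]; omega)
      haveI : CharP (Module.End F V) p :=
        charP_of_injective_algebraMap (algebraMap F (Module.End F V)).injective p
      rw [hN, sub_pow_char_of_commute p (Commute.one_right a), hap, one_pow, sub_self]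
    obtain ⟨w0, hw0, hw0N, v0, hv0⟩ : ∃ w0 : V, w0 ≠ 0 ∧ N w0 = 0 ∧ ∃ v0, N v0 = w0 := by
      have hex : ∃ j, N ^ j = 0 := ⟨p, hNp⟩
      obtain ⟨j, hj, hjmin⟩ : ∃ j, N ^ j = 0 ∧ ∀ i < j, N ^ i ≠ 0 :=
        ⟨Nat.find hex, Nat.find_spec hex, fun i hi => Nat.find_min hex hi⟩
      have hj2 : 2 ≤ j := by
        by_contra hlt
        have : j = 0 ∨ j = 1 := by omega
        rcases this with h | h
        · rw [h, pow_zero] at hj
          apply hN0
          have : N = N * 1 := (mul_one N).symm
          rw [this, hj, mul_zero]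
        · rw [h, pow_one] at hj
          exact hN0 hj
      have hne := hjmin (j - 1) (by omega)
      obtain ⟨u, hu⟩ : ∃ u, (N ^ (j - 1)) u ≠ 0 := by
        by_contra hcon
        push Not at hcon
        apply hne
        ext u
        exact hcon u
      refine ⟨(N ^ (j - 1)) u, hu, ?_, (N ^ (j - 2)) u, ?_⟩
      · have : N * N ^ (j - 1) = N ^ j := by
          rw [← pow_succ']
          congr 1
          omega
        show (N * N ^ (j - 1)) u = 0
        rw [this, hj]
        rfl
      · have : N * N ^ (j - 2) = N ^ (j - 1) := by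
          rw [← pow_succ']
          congr 1
          omega
        show (N * N ^ (j - 2)) u = _
        rw [this]
    obtain ⟨W, hW⟩ : ∃ W : Submodule F V, W = LinearMap.ker N := ⟨_, rfl⟩
    have hWmem : ∀ v, v ∈ W ↔ N v = 0 := by
      intro v
      rw [hW, LinearMap.mem_ker]
    have hWinv : ∀ v ∈ W, f v ∈ W := by
      intro v hv
      rw [hWmem] at hv ⊢
      rw [← hfN, hv, map_zero]
    obtain ⟨Rg, hRg⟩ : ∃ Rg : Submodule F V, Rg = LinearMap.range N := ⟨_, rfl⟩
    have hRgmem : ∀ v, v ∈ Rg ↔ ∃ u, N u = v := by
      intro v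
      rw [hRg, LinearMap.mem_range]
    have hRginv : ∀ v ∈ Rg, f v ∈ Rg := by
      intro v hv
      rw [hRgmem] at hv ⊢
      obtain ⟨u, rfl⟩ := hv
      exact ⟨f u, (hfN u).symm⟩
    obtain ⟨w, hwd⟩ : ∃ w, Module.finrank F W = w := ⟨_, rfl⟩
    have hrkN := LinearMap.finrank_range_add_finrank_ker N
    rw [hdim, ← hW, ← hRg, hwd] at hrkN
    have hkw : k ∣ w := by
      rw [← hwd]
      exact hI' W hWinv
    have hkR : k ∣ Module.finrank F Rg := hI' Rg hRginv
    have hwpos : 0 < w := by
      rw [← hwd]
      exact Module.finrank_pos_iff_exists_ne_zero.mpr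
        ⟨⟨w0, (hWmem w0).mpr hw0N⟩, fun h => hw0 (congrArg Subtype.val h)⟩
    have hRpos : 0 < Module.finrank F Rg :=
      Module.finrank_pos_iff_exists_ne_zero.mpr
        ⟨⟨w0, (hRgmem w0).mpr ⟨v0, hv0⟩⟩, fun h => hw0 (congrArg Subtype.val h)⟩
    have hk1 := Nat.le_of_dvd hwpos hkw
    have hk2 := Nat.le_of_dvd hRpos hkR
    constructor
    swap
    · intro _
      omega
    intro hodd
    by_contra hcon
    have hkn : k = n := by omega
    have hwn : w = n := by
      obtain ⟨c, hc⟩ := hkw
      obtain ⟨c', hc'⟩ := hkR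
      rw [hkn] at hc hc'
      have hc1 : c = 1 := by
        have h1 : n * (c' + c) = n * 2 := by
          rw [mul_add, ← hc, ← hc']
          omega
        have h2 : c' + c = 2 := Nat.eq_of_mul_eq_mul_left (by omega) h1
        have h3 : c ≠ 0 := by
          rintro rfl
          omega
        have h4 : c' ≠ 0 := by
          rintro rfl
          omega
        omega
      rw [hc, hc1, mul_one]
    have hRgn : Module.finrank F Rg = n := by omega
    have hRinf : k ∣ Module.finrank F (W ⊓ Rg : Submodule F V) :=
      hI' _ (fun v hv => ⟨hWinv v hv.1, hRginv v hv.2⟩)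
    have hRinfpos : 0 < Module.finrank F (W ⊓ Rg : Submodule F V) :=
      Module.finrank_pos_iff_exists_ne_zero.mpr
        ⟨⟨w0, ⟨(hWmem w0).mpr hw0N, (hRgmem w0).mpr ⟨v0, hv0⟩⟩⟩,
          fun h => hw0 (congrArg Subtype.val h)⟩
    have hWR : (W ⊓ Rg : Submodule F V) = W := by
      apply Submodule.eq_of_le_of_finrank_le inf_le_left
      have := Nat.le_of_dvd hRinfpos hRinf
      omega
    have hWleR : W ≤ Rg := by
      rw [← hWR]
      exact inf_le_right
    have hWeqR : W = Rg := Submodule.eq_of_le_of_finrank_le hWleR (by omega)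
    have hNN : ∀ v, N (N v) = 0 := by
      intro v
      have : N v ∈ W := by
        rw [hWeqR, hRgmem]
        exact ⟨v, rfl⟩
      exact (hWmem _).mp this
    have hNa : ∀ u v, B (N u) (a v) = - B u (N v) := by
      intro u v
      simp only [hNapp, map_sub, LinearMap.sub_apply, ha]
      ring
    have haW : ∀ v, N v = 0 → a v = v := by
      intro v hv
      rw [hNapp, sub_eq_zero] at hv
      exact hv
    have hNW : ∀ u v, N v = 0 → B (N u) v = 0 := by
      intro u v hv
      have h1 := hNa u v
      rw [haW v hv, hv, map_zero, neg_zero] at h1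
      exact h1
    have hsym : ∀ u v, B (N u) v = B (N v) u := by
      intro u v
      have h1 : B (N u) v = B (N u) (a v) - B (N u) (N v) := by
        rw [hNapp v, map_sub]
        ring
      rw [h1, hNa, hNW u (N v) (hNN v), sub_zero, hskew u (N v), neg_neg]
    have hrad : ∀ u, (∀ v, B (N u) v = 0) → N u = 0 := by
      intro u hu
      by_contra h0
      obtain ⟨w', hw'⟩ := hnd _ h0
      exact hw' (hu w')
    by_cases hp2 : p = 2
    · have h2F : (2 : F) = 0 := by
        have h1 := CharP.cast_eq_zero F p
        rw [hp2] at h1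
        exact_mod_cast h1
      have hinj : Function.Injective (fun x : F => x ^ 2) := by
        intro x y hxy
        simp only at hxy
        have h : (x - y) ^ 2 = 0 := by
          have h1 : (x - y) ^ 2 = x ^ 2 - y ^ 2 - 2 * (y * (x - y)) := by ring
          rw [h1, hxy, h2F]
          ring
        exact sub_eq_zero.mp ((pow_eq_zero_iff (two_ne_zero)).mp h)
      have hsurj : Function.Surjective (fun x : F => x ^ 2) :=
        Finite.injective_iff_surjective.mp hinj
      choose σ hσ using hsurj
      simp only at hσ
      have hφadd : ∀ u v, B (N (u + v)) (u + v) = B (N u) u + B (N v) v := by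
        intro u v
        simp only [map_add, LinearMap.add_apply]
        rw [hsym v u]
        linear_combination (B (N u) v) * h2F
      have hφsmul : ∀ (c : F) u, B (N (c • u)) (c • u) = c ^ 2 * B (N u) u := by
        intro c u
        simp only [map_smul, LinearMap.smul_apply, smul_eq_mul]
        ring
      obtain ⟨ψ, hψ⟩ : ∃ ψ : V →ₗ[F] F, ∀ u, ψ u = σ (B (N u) u) := by
        refine ⟨{ toFun := fun u => σ (B (N u) u), map_add' := ?_, map_smul' := ?_ }, fun u => rfl⟩
        · intro u v
          apply hinj
          show σ (B (N (u + v)) (u + v)) ^ 2 = (σ (B (N u) u) + σ (B (N v) v)) ^ 2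
          rw [hσ, hφadd, add_sq, hσ, hσ]
          linear_combination (- σ (B (N u) u) * σ (B (N v) v)) * h2F
        · intro c u
          apply hinj
          show σ (B (N (c • u)) (c • u)) ^ 2 = (c • σ (B (N u) u)) ^ 2
          rw [hσ, hφsmul, smul_eq_mul, mul_pow, hσ]
      have hψ0 : ∀ u, ψ u = 0 ↔ B (N u) u = 0 := by
        intro u
        rw [hψ]
        constructor
        · intro h
          have := hσ (B (N u) u)
          rw [h] at this
          rw [← this]
          ring
        · intro h
          rw [h]
          exact (pow_eq_zero_iff (two_ne_zero)).mp (hσ 0)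
      have hSinv : ∀ v ∈ LinearMap.ker ψ, f v ∈ LinearMap.ker ψ := by
        intro v hv
        rw [LinearMap.mem_ker, hψ0] at hv ⊢
        rw [← hfN, hf]
        exact hv
      have hkS := hI' _ hSinv
      have hrkψ := LinearMap.finrank_range_add_finrank_ker ψ
      rw [hdim] at hrkψ
      have hrle : Module.finrank F (LinearMap.range ψ) ≤ 1 := by
        have := Submodule.finrank_le (LinearMap.range ψ)
        rw [Module.finrank_self] at this
        exact this
      have hSdim : Module.finrank F (LinearMap.ker ψ) = 2 * n := by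
        by_contra hne
        have h1 : Module.finrank F (LinearMap.ker ψ) = 2 * n - 1 := by omega
        rw [h1, hkn] at hkS
        have h2 : n ∣ 2 * n - (2 * n - 1) := Nat.dvd_sub (dvd_mul_left n 2) hkS
        have h3 : 2 * n - (2 * n - 1) = 1 := by omega
        rw [h3] at h2
        have := Nat.le_of_dvd one_pos h2
        omega
      have hStop : LinearMap.ker ψ = ⊤ := Submodule.eq_top_of_finrank_eq (by rw [hSdim, hdim])
      have hφ0 : ∀ u, B (N u) u = 0 := by
        intro u
        rw [← hψ0, ← LinearMap.mem_ker, hStop]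
        trivial
      obtain ⟨U, hU⟩ := Submodule.exists_isCompl W
      have hUdim := Submodule.finrank_add_eq_of_isCompl hU
      rw [hdim, hwd, hwn] at hUdim
      have hUn : Module.finrank F U = n := by omega
      have heven : Even n := by
        refine SP.even_finrank_of_alt n U ((B.comp N).domRestrict₁₂ U U) ?_ ?_ hUn
        · intro v
          rw [LinearMap.domRestrict₁₂_apply, LinearMap.comp_apply]
          exact hφ0 _
        · intro v hv
          have hNv : N (v : V) ≠ 0 := by
            intro h
            have h1 : (v : V) ∈ W := (hWmem _).mpr h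
            have h2 := Submodule.disjoint_def.mp hU.disjoint _ h1 v.2
            exact hv (Subtype.ext h2)
          obtain ⟨y, hy⟩ := hnd _ hNv
          have hyt : y ∈ W ⊔ U := by
            rw [hU.sup_eq_top]
            trivial
          obtain ⟨y1, hy1, y2, hy2, rfl⟩ := Submodule.mem_sup.mp hyt
          refine ⟨⟨y2, hy2⟩, ?_⟩
          rw [LinearMap.domRestrict₁₂_apply, LinearMap.comp_apply]
          rw [map_add, hNW _ y1 ((hWmem y1).mp hy1), zero_add] at hy
          exact hy
      rw [← hkn] at heven
      exact (Nat.not_even_iff_odd.mpr hodd) heven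
    · have h2F : (2 : F) ≠ 0 := by
        intro h
        have h1 : ((2 : ℕ) : F) = 0 := by exact_mod_cast h
        have h2 := (CharP.cast_eq_zero_iff F p 2).mp h1
        exact hp2 ((Nat.prime_dvd_prime_iff_eq hp Nat.prime_two).mp h2)
      obtain ⟨b⟩ : Nonempty (Module.Basis (Fin n) F W) :=
        ⟨Module.finBasisOfFinrankEq F W (by rw [hwd, hwn])⟩
      have hex : ∀ j, ∃ u, N u = (b j : V) := by
        intro j
        have : (b j : V) ∈ Rg := hWleR (b j).2
        exact (hRgmem _).mp this
      choose uu huu using hex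
      obtain ⟨M, hM⟩ : ∃ M : Matrix (Fin n) (Fin n) F,
          M = fun i j => b.repr ⟨f (b j), hWinv _ (b j).2⟩ i := ⟨_, rfl⟩
      have hfb : ∀ j, f (b j : V) = ∑ i, M i j • (b i : V) := by
        intro j
        have h1 := b.sum_repr ⟨f (b j), hWinv _ (b j).2⟩
        have h2 := congrArg Subtype.val h1
        simp only [Submodule.coe_sum, Submodule.coe_smul] at h2
        rw [hM]
        exact h2.symm
      obtain ⟨G, hG⟩ : ∃ G : Matrix (Fin n) (Fin n) F, G = fun i j => B (b i : V) (uu j) :=
        ⟨_, rfl⟩
      have hfM : ∀ c : Fin n → F,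
          f (∑ j, c j • (b j : V)) = ∑ i, (M *ᵥ c) i • (b i : V) := by
        intro c
        rw [map_sum]
        simp only [map_smul, hfb, Finset.smul_sum, smul_smul]
        rw [Finset.sum_comm]
        apply Finset.sum_congr rfl
        intro i _
        rw [← Finset.sum_smul]
        congr 1
        simp only [Matrix.mulVec, dotProduct]
        apply Finset.sum_congr rfl
        intro j _
        ring
      have hMG : M.transpose * G * M = G := by
        ext i j
        have hW1 : ∀ y : V, N y = 0 → B (f (b i : V)) y = 0 := by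
          intro y hy
          have h1 : f (b i : V) ∈ Rg := hWleR (hWinv _ (b i).2)
          obtain ⟨u', hu'⟩ := (hRgmem _).mp h1
          rw [← hu']
          exact hNW u' y hy
        have h1 : N (f (uu j) - ∑ c, M c j • uu c) = 0 := by
          rw [map_sub, ← hfN, huu, hfb, map_sum]
          simp only [map_smul, huu, sub_self]
        have h2 : B (f (b i : V)) (∑ c, M c j • uu c) = B (b i : V) (uu j) := by
          have h3 := hW1 _ h1
          rw [map_sub, sub_eq_zero, hf] at h3
          exact h3.symm
        rw [hfb] at h2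
        simp only [map_sum, map_smul, LinearMap.sum_apply, LinearMap.smul_apply,
          smul_eq_mul] at h2
        simp only [Matrix.mul_apply, Matrix.transpose_apply]
        simp only [hG]
        rw [← h2]
        simp only [Finset.sum_mul, Finset.mul_sum]
        first
          | (apply Finset.sum_congr rfl
             intro a' _
             apply Finset.sum_congr rfl
             intro c _
             ring)
          | (rw [Finset.sum_comm]
             apply Finset.sum_congr rfl
             intro a' _
             apply Finset.sum_congr rfl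
             intro c _
             ring)
      have hli : ∀ c : Fin n → F, ∑ j, c j • (b j : V) = 0 → c = 0 := by
        intro c h5
        have h6 : ∑ j, c j • b j = 0 := by
          apply Subtype.ext
          simp only [Submodule.coe_sum, Submodule.coe_smul]
          exact h5
        funext j
        exact Fintype.linearIndependent_iff.mp b.linearIndependent c h6 j
      have hGdet : G.det ≠ 0 := by
        intro hdet
        obtain ⟨c, hc0, hc⟩ := Matrix.exists_mulVec_eq_zero_iff.mpr hdet
        apply hc0
        have h1 : ∀ i, B (b i : V) (∑ j, c j • uu j) = 0 := by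
          intro i
          have h0 := congrFun hc i
          simp only [Matrix.mulVec, dotProduct, hG, Pi.zero_apply] at h0
          rw [map_sum]
          simp only [map_smul, smul_eq_mul]
          rw [← h0]
          apply Finset.sum_congr rfl
          intro j _
          ring
        have h2 : ∀ y : V, N y = 0 → B y (∑ j, c j • uu j) = 0 := by
          intro y hy
          have hyW : y ∈ W := (hWmem y).mpr hy
          have h3 := b.sum_repr ⟨y, hyW⟩
          have h4 : y = ∑ i, b.repr ⟨y, hyW⟩ i • (b i : V) := by
            have h := congrArg Subtype.val h3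
            simp only [Submodule.coe_sum, Submodule.coe_smul] at h
            exact h.symm
          have h5 : B (∑ i, b.repr ⟨y, hyW⟩ i • (b i : V)) (∑ j, c j • uu j) = 0 := by
            rw [map_sum B, LinearMap.sum_apply]
            apply Finset.sum_eq_zero
            intro i _
            rw [map_smul, LinearMap.smul_apply, h1, smul_zero]
          rw [h4]
          exact h5
        have h5 : N (∑ j, c j • uu j) = 0 := by
          apply hrad
          intro v
          rw [hsym]
          exact h2 _ (hNN v)
        rw [map_sum] at h5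
        simp only [map_smul, huu] at h5
        exact hli c h5
      have hdetM : M.det * M.det = 1 := by
        have h1 := congrArg Matrix.det hMG
        rw [Matrix.det_mul, Matrix.det_mul, Matrix.det_transpose] at h1
        have h2 : (M.det * M.det - 1) * G.det = 0 := by linear_combination h1
        rcases mul_eq_zero.mp h2 with h | h
        · exact sub_eq_zero.mp h
        · exact absurd h hGdet
      obtain ⟨M2, hM2⟩ : ∃ M2 : Matrix (Fin n) (Fin n) F, M2 = M * M := ⟨_, rfl⟩
      have hM2G : M2.transpose * G * M2 = G := by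
        rw [hM2, Matrix.transpose_mul]
        calc M.transpose * M.transpose * G * (M * M)
            = M.transpose * (M.transpose * G * M) * M := by simp only [Matrix.mul_assoc]
          _ = G := by rw [hMG, hMG]
      have hM2det : M2.det = 1 := by rw [hM2, Matrix.det_mul, hdetM]
      have hkey : (M2 - 1).transpose * G * M2 = - (G * (M2 - 1)) := by
        rw [Matrix.transpose_sub, Matrix.transpose_one, Matrix.sub_mul, Matrix.sub_mul, hM2G,
          Matrix.one_mul, Matrix.mul_sub, Matrix.mul_one]
        abel
      have hdet0 : (M2 - 1).det = 0 := by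
        have h1 := congrArg Matrix.det hkey
        rw [Matrix.det_mul, Matrix.det_mul, Matrix.det_transpose, hM2det, Matrix.det_neg,
          Matrix.det_mul, Fintype.card_fin] at h1
        have hodd' : (-1 : F) ^ n = -1 := by
          rw [← hkn]
          exact hodd.neg_one_pow
        rw [hodd'] at h1
        have h2 : 2 * G.det * (M2 - 1).det = 0 := by linear_combination h1
        rcases mul_eq_zero.mp h2 with h | h
        · rcases mul_eq_zero.mp h with h | h
          · exact absurd h h2F
          · exact absurd h hGdet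
        · exact h
      obtain ⟨c, hc0, hc⟩ := Matrix.exists_mulVec_eq_zero_iff.mpr hdet0
      have hc' : M *ᵥ (M *ᵥ c) = c := by
        rw [Matrix.sub_mulVec, Matrix.one_mulVec, sub_eq_zero] at hc
        rw [Matrix.mulVec_mulVec, ← hM2]
        exact hc
      obtain ⟨wc, hwc⟩ : ∃ wc : V, wc = ∑ j, c j • (b j : V) := ⟨_, rfl⟩
      have hffw : f (f wc) = wc := by
        rw [hwc, hfM, hfM, hc']
      have hpow2 : ∀ i : ℕ, (f ^ (2 * i)) wc = wc := by
        intro i
        induction i with
        | zero =>
          rw [mul_zero, pow_zero]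
          rfl
        | succ i ih =>
          rw [show 2 * (i + 1) = 2 * i + 1 + 1 by ring, pow_succ, pow_succ]
          show (f ^ (2 * i)) (f (f wc)) = wc
          rw [hffw, ih]
      have hfw : f wc = wc := by
        obtain ⟨i, hi⟩ := hr.eq_two_or_odd'.resolve_left hr2
        have h1 : (f ^ r) wc = wc := by
          rw [hfr]
          rfl
        rw [hi, pow_succ'] at h1
        have h2 : f ((f ^ (2 * i)) wc) = wc := h1
        rw [hpow2] at h2
        exact h2
      have hwc0 := hfree wc hfw
      apply hc0
      apply hli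
      rw [← hwc]
      exact hwc0

end abs

end Cfsg.Agent.Helper15.SQ
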