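import Mathlib
import Cfsg.Agent.Helper15.SQ
import Cfsg.Agent.Helper15.PG
import Cfsg.Agent.Helper6.SpCard
import Cfsg.Agent.S0246

/-!
# Adjacency of an odd prime and the characteristic in `PSp(2n, q)` (for S2472)
-/

set_option autoImplicit false
set_option linter.unusedSectionVars false
set_option linter.style.haveILetI false
set_option linter.unusedSimpArgs false
set_option linter.unusedVariables false

namespace Cfsg.Agent.Helper15.SQ

open Cfsg Cfsg.Agent.Helper6
open scoped Matrix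

universe u

section conc
variable {F : Type u} [Field F] [Fintype F]

theorem sp_bound (p : ℕ) [Fact p.Prime] [CharP F p] (n : ℕ) (hn : 2 ≤ n)
    (X A : Matrix.symplecticGroup (Fin n) F) (r : ℕ) (hr : r.Prime) (hr2 : r ≠ 2) (hrp : r ≠ p)
    (hX : orderOf X = r) (hA : orderOf A = p) (hXA : X * A = A * X)
    (k : ℕ) (hk0 : 0 < k) (hK : ∀ j, r ∣ Fintype.card F ^ j - 1 → k ∣ j) :
    (Odd k → k ≤ n - 1) ∧ (Even k → k ≤ 2 * (n - 1)) := by
  classical
  have hp : p.Prime := Fact.out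
  obtain ⟨B, hB⟩ : ∃ B : (Fin n ⊕ Fin n → F) →ₗ[F] (Fin n ⊕ Fin n → F) →ₗ[F] F,
      ∀ u v, B u v = Cfsg.sympForm n F u v := by
    refine ⟨LinearMap.mk₂ F (Cfsg.sympForm n F) sf_add_left (fun c u v => ?_) sf_add_right
      (fun c u v => ?_), fun u v => rfl⟩
    · rw [sf_swap (c • u) v, sf_smul_right, sf_swap u v, smul_eq_mul]
      ring
    · rw [sf_smul_right, smul_eq_mul]
  have halt : ∀ v, B v v = 0 := fun v => by rw [hB]; exact sf_self v
  have hnd : ∀ v, v ≠ 0 → ∃ w, B v w ≠ 0 := by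
    intro v hv
    by_contra hcon
    push Not at hcon
    apply hv
    funext idx
    rcases idx with i | i
    · have h1 := hcon (Pi.single (Sum.inr i) 1)
      rw [hB, sf_single_inr, neg_eq_zero] at h1
      exact h1
    · have h1 := hcon (Pi.single (Sum.inl i) 1)
      rw [hB, sf_single_inl] at h1
      exact h1
  have hdim : Module.finrank F (Fin n ⊕ Fin n → F) = 2 * n := by
    rw [Module.finrank_fintype_fun_eq_card, Fintype.card_sum, Fintype.card_fin]
    ring
  obtain ⟨f, hfd⟩ : ∃ f : (Fin n ⊕ Fin n → F) →ₗ[F] (Fin n ⊕ Fin n → F),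
      f = Matrix.toLinAlgEquiv' (X : Matrix (Fin n ⊕ Fin n) (Fin n ⊕ Fin n) F) := ⟨_, rfl⟩
  obtain ⟨a, had⟩ : ∃ a : (Fin n ⊕ Fin n → F) →ₗ[F] (Fin n ⊕ Fin n → F),
      a = Matrix.toLinAlgEquiv' (A : Matrix (Fin n ⊕ Fin n) (Fin n ⊕ Fin n) F) := ⟨_, rfl⟩
  have hfapp : ∀ v, f v = (X : Matrix (Fin n ⊕ Fin n) (Fin n ⊕ Fin n) F) *ᵥ v := by
    intro v
    rw [hfd, Matrix.toLinAlgEquiv'_apply]
  have haapp : ∀ v, a v = (A : Matrix (Fin n ⊕ Fin n) (Fin n ⊕ Fin n) F) *ᵥ v := by
    intro v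
    rw [had, Matrix.toLinAlgEquiv'_apply]
  have hf : ∀ u v, B (f u) (f v) = B u v := by
    intro u v
    rw [hB, hB, hfapp, hfapp]
    exact sp_preserves X u v
  have ha : ∀ u v, B (a u) (a v) = B u v := by
    intro u v
    rw [hB, hB, haapp, haapp]
    exact sp_preserves A u v
  have hfr : f ^ r = 1 := by
    rw [hfd, ← map_pow]
    have h1 : ((X : Matrix (Fin n ⊕ Fin n) (Fin n ⊕ Fin n) F)) ^ r = 1 := by
      have h2 := congrArg Subtype.val (pow_orderOf_eq_one X)
      rw [hX] at h2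
      rw [SubmonoidClass.coe_pow] at h2
      exact h2
    rw [h1, map_one]
  have hap : a ^ p = 1 := by
    rw [had, ← map_pow]
    have h1 : ((A : Matrix (Fin n ⊕ Fin n) (Fin n ⊕ Fin n) F)) ^ p = 1 := by
      have h2 := congrArg Subtype.val (pow_orderOf_eq_one A)
      rw [hA] at h2
      rw [SubmonoidClass.coe_pow] at h2
      exact h2
    rw [h1, map_one]
  have hf1 : f ≠ 1 := by
    intro h
    rw [hfd, ← map_one (Matrix.toLinAlgEquiv' (R := F) (n := Fin n ⊕ Fin n))] at h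
    have h1 := (Matrix.toLinAlgEquiv' (R := F) (n := Fin n ⊕ Fin n)).injective h
    have h2 : X = 1 := Subtype.ext h1
    rw [h2, orderOf_one] at hX
    exact hr.one_lt.ne hX
  have ha1 : a ≠ 1 := by
    intro h
    rw [had, ← map_one (Matrix.toLinAlgEquiv' (R := F) (n := Fin n ⊕ Fin n))] at h
    have h1 := (Matrix.toLinAlgEquiv' (R := F) (n := Fin n ⊕ Fin n)).injective h
    have h2 : A = 1 := Subtype.ext h1
    rw [h2, orderOf_one] at hA
    exact hp.one_lt.ne hA
  have hfa : f * a = a * f := by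
    rw [hfd, had, ← map_mul, ← map_mul]
    congr 1
    exact congrArg Subtype.val hXA
  have hrF : (r : F) ≠ 0 := by
    intro h
    have h1 := (CharP.cast_eq_zero_iff F p r).mp h
    exact hrp ((Nat.prime_dvd_prime_iff_eq hp hr).mp h1).symm
  exact mainL p B halt hnd n hn hdim f a hf ha r hr hr2 hrF hfr hf1 hap ha1 hfa k hk0 hK

theorem no_elt (p : ℕ) [Fact p.Prime] [CharP F p] (n : ℕ) (hn : 2 ≤ n)
    (r : ℕ) (hr : r.Prime) (hr2 : r ≠ 2) (hrp : r ≠ p)
    (k : ℕ) (hk0 : 0 < k) (hK : ∀ j, r ∣ Fintype.card F ^ j - 1 → k ∣ j)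
    (g : Cfsg.PSp n F) (hg : orderOf g = r * p) :
    (Odd k → k ≤ n - 1) ∧ (Even k → k ≤ 2 * (n - 1)) := by
  classical
  obtain ⟨g0, rfl⟩ := QuotientGroup.mk_surjective g
  have h1 : r * p ∣ orderOf g0 := by
    rw [← hg]
    apply orderOf_dvd_of_pow_eq_one
    rw [← QuotientGroup.mk_pow, pow_orderOf_eq_one]
    rfl
  have hfin : orderOf g0 ≠ 0 := (orderOf_pos g0).ne'
  have hrd : r ∣ orderOf g0 := (dvd_mul_right r p).trans h1
  have hpd : p ∣ orderOf g0 := (dvd_mul_left p r).trans h1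
  exact sp_bound p n hn (g0 ^ (orderOf g0 / r)) (g0 ^ (orderOf g0 / p)) r hr hr2 hrp
    (orderOf_pow_orderOf_div hfin hrd) (orderOf_pow_orderOf_div hfin hpd)
    ((Commute.pow_pow (Commute.refl g0) _ _).eq) k hk0 hK

theorem exists_elt (p : ℕ) [Fact p.Prime] [CharP F p] (n : ℕ) (hn : 2 ≤ n)
    (r : ℕ) (hr : r.Prime) (hr2 : r ≠ 2) (hrp : r ≠ p)
    (hdiv : r ∣ Nat.card (Matrix.symplecticGroup (Fin (n - 1)) F)) :
    ∃ g : Cfsg.PSp n F, orderOf g = r * p := by
  classical
  have hp : p.Prime := Fact.out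
  haveI : Fact r.Prime := ⟨hr⟩
  obtain ⟨x0, hx0⟩ := exists_prime_orderOf_dvd_card' r hdiv
  have hpdiv : p ∣ Nat.card (Matrix.symplecticGroup (Fin (n - (n - 1))) F) := by
    rw [sp_card (F := F) rfl]
    have h1 : n - (n - 1) = 1 := by omega
    rw [h1]
    apply Dvd.dvd.mul_right
    rw [one_pow, pow_one]
    obtain ⟨e, -, he⟩ := FiniteField.card F p
    rw [he]
    exact dvd_pow_self p e.ne_zero
  obtain ⟨t0, ht0⟩ := exists_prime_orderOf_dvd_card' p hpdiv
  have hle : n - 1 ≤ n := by omega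
  obtain ⟨g0, hg0⟩ : ∃ g0, g0 = Cfsg.Agent.S0776.Psi n (n - 1) hle (x0, t0) := ⟨_, rfl⟩
  have hinj : Function.Injective (Cfsg.Agent.S0776.Psi (F := F) n (n - 1) hle) := by
    intro x y hxy
    have h := congrArg Subtype.val hxy
    rw [Cfsg.Agent.S0776.Psi_val, Cfsg.Agent.S0776.Psi_val] at h
    obtain ⟨h1, h2⟩ := Cfsg.Agent.S0776.emb_inj n (n - 1) hle _ _ _ _ h
    exact Prod.ext (Subtype.ext h1) (Subtype.ext h2)
  have hord : orderOf g0 = r * p := by
    rw [hg0, orderOf_injective _ hinj, Prod.orderOf_mk, hx0, ht0]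
    exact Nat.Coprime.lcm_eq_mul ((Nat.coprime_primes hr hp).mpr hrp)
  refine ⟨QuotientGroup.mk g0, ?_⟩
  apply Nat.dvd_antisymm
  · apply orderOf_dvd_of_pow_eq_one
    rw [← QuotientGroup.mk_pow, ← hord, pow_orderOf_eq_one]
    rfl
  · obtain ⟨d, hd⟩ : ∃ d, d = orderOf (QuotientGroup.mk g0 : Cfsg.PSp n F) := ⟨_, rfl⟩
    rw [← hd]
    have h1 : (QuotientGroup.mk (g0 ^ d) : Cfsg.PSp n F) = 1 := by
      rw [QuotientGroup.mk_pow, hd, pow_orderOf_eq_one]
    have h2 : g0 ^ d ∈ Subgroup.center (Matrix.symplecticGroup (Fin n) F) :=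
      (QuotientGroup.eq_one_iff _).mp h1
    have hone : ∀ y : Matrix.symplecticGroup (Fin n) F,
        (y : Matrix (Fin n ⊕ Fin n) (Fin n ⊕ Fin n) F) = 1 → y = 1 := fun y hy => Subtype.ext hy
    rcases Cfsg.Agent.S0246.center_scalar n (by omega) _ h2 with h | h
    · rw [← hord]
      exact orderOf_dvd_of_pow_eq_one (hone _ h)
    · by_cases hp2 : p = 2
      · have h2F : (2 : F) = 0 := by
          have h1 := CharP.cast_eq_zero F p
          rw [hp2] at h1
          exact_mod_cast h1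
        have hneg : (-1 : F) = 1 := by linear_combination (-1 : F) * h2F
        have h4 : (-1 : Matrix (Fin n ⊕ Fin n) (Fin n ⊕ Fin n) F) = 1 := by
          ext i j
          rw [Matrix.neg_apply, Matrix.one_apply]
          split_ifs
          · exact hneg
          · exact neg_zero
        rw [← hord]
        exact orderOf_dvd_of_pow_eq_one (hone _ (h.trans h4))
      · have h3 : g0 ^ (d * 2) = 1 := by
          rw [pow_mul]
          apply hone
          rw [SubmonoidClass.coe_pow, h]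
          simp
        have h4 : r * p ∣ d * 2 := by
          rw [← hord]
          exact orderOf_dvd_of_pow_eq_one h3
        have hcop : Nat.Coprime (r * p) 2 :=
          Nat.Coprime.mul_left ((Nat.coprime_primes hr Nat.prime_two).mpr hr2)
            ((Nat.coprime_primes hp Nat.prime_two).mpr hp2)
        exact hcop.dvd_of_dvd_mul_right h4

theorem key (p : ℕ) [Fact p.Prime] [CharP F p] (n : ℕ) (hn : 2 ≤ n)
    (r : ℕ) (hr : r.Prime) (hr2 : r ≠ 2) (hrp : r ≠ p)
    (k ηk : ℕ) (hk : k = orderOf ((Fintype.card F : ℕ) : ZMod r))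
    (hηk : (Odd k ∧ ηk = k) ∨ (Even k ∧ 2 * ηk = k)) :
    (r * p ∉ Set.range (orderOf : Cfsg.PSp n F → ℕ)) ↔ n - 1 < ηk := by
  classical
  haveI : Fact r.Prime := ⟨hr⟩
  have hp : p.Prime := Fact.out
  have hq1 : 1 ≤ Fintype.card F := Fintype.card_pos
  have hrq : ¬ r ∣ Fintype.card F := by
    obtain ⟨e, -, he⟩ := FiniteField.card F p
    rw [he]
    intro h
    exact hrp ((Nat.prime_dvd_prime_iff_eq hr hp).mp (hr.dvd_of_dvd_pow h))
  have hk0 : 0 < k := by
    rw [hk]
    exact PG.order_pos _ hrq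
  have hK : ∀ j, r ∣ Fintype.card F ^ j - 1 → k ∣ j := by
    intro j hj
    rw [hk, PG.order_dvd_iff _ _ hq1]
    exact hj
  constructor
  · intro hno
    by_contra hcon
    push Not at hcon
    apply hno
    have hη0 : 0 < ηk := by
      rcases hηk with ⟨_, h⟩ | ⟨_, h⟩ <;> omega
    have hr1 : r ∣ Fintype.card F ^ (2 * ηk) - 1 := by
      rw [← PG.order_dvd_iff _ _ hq1, ← hk]
      rcases hηk with ⟨_, h⟩ | ⟨_, h⟩
      · rw [h]
        exact dvd_mul_left k 2
      · rw [h]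
    have hdiv : r ∣ Nat.card (Matrix.symplecticGroup (Fin (n - 1)) F) := by
      rw [sp_card (F := F) rfl]
      apply Dvd.dvd.mul_left
      have hmem : ηk - 1 ∈ Finset.range (n - 1) := by
        rw [Finset.mem_range]
        omega
      have h1 := Finset.dvd_prod_of_mem (fun i => Fintype.card F ^ (2 * (i + 1)) - 1) hmem
      have h2 : ηk - 1 + 1 = ηk := by omega
      simp only [h2] at h1
      exact hr1.trans h1
    obtain ⟨g, hg⟩ := exists_elt p n hn r hr hr2 hrp hdiv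
    exact ⟨g, hg⟩
  · rintro hlt ⟨g, hg⟩
    have h := no_elt p n hn r hr hr2 hrp k hk0 hK g hg
    rcases hηk with ⟨ho, h1⟩ | ⟨he, h1⟩
    · have := h.1 ho
      omega
    · have := h.2 he
      omega

end conc

end Cfsg.Agent.Helper15.SQ
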