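import Mathlib
import Cfsg.Agent.Helper15.PU
import Cfsg.Agent.Helper15.SPc

/-!
# Isometries of prime order of hermitian spaces (for S2365)
-/

set_option autoImplicit false
set_option linter.unusedSectionVars false
set_option linter.style.haveILetI false
set_option linter.unusedSimpArgs false
set_option linter.unusedVariables false

namespace Cfsg.Agent.Helper15.UA

open Cfsg Cfsg.Agent.Helper3

section onb
variable {F : Type*} [Field F]

theorem exists_orthonormal' {V : Type*} [AddCommGroup V] [Module F V] [FiniteDimensional F V]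
    (φ : F →+* F) (B : V → V → F)
    (hadd : ∀ x x' y, B (x + x') y = B x y + B x' y)
    (hsmul : ∀ (c : F) x y, B (c • x) y = c * B x y)
    (hsymm : ∀ x y, B y x = φ (B x y)) (hnd : ∀ x, (∀ y, B x y = 0) → x = 0)
    (hnorm : ∀ s : F, s ≠ 0 → φ s = s → ∃ c, c * φ c = s) (h2 : ∃ l : F, l + φ l ≠ 0) :
    ∀ k : ℕ, k ≤ Module.finrank F V →
      ∃ v : Fin k → V, ∀ i j, B (v i) (v j) = if i = j then 1 else 0 := by
  classical
  have hradd : ∀ x y y', B x (y + y') = B x y + B x y' := by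
    intro x y y'
    rw [hsymm (y + y') x, hadd, map_add, ← hsymm, ← hsymm]
  have hrsub : ∀ x y y', B x (y - y') = B x y - B x y' := by
    intro x y y'
    rw [hsymm (y - y') x, PU.B_sub B hadd hsmul, map_sub, ← hsymm, ← hsymm]
  have hrsmul : ∀ (c : F) x y, B x (c • y) = φ c * B x y := by
    intro c x y
    rw [hsymm (c • y) x, hsmul, map_mul, ← hsymm]
  have hrsum : ∀ (k : ℕ) (f : Fin k → V) x, B x (∑ i, f i) = ∑ i, B x (f i) := by
    intro k f x
    rw [hsymm (∑ i, f i) x, PU.B_sum B hadd hsmul, map_sum]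
    apply Finset.sum_congr rfl
    intro i _
    rw [← hsymm]
  intro k
  induction k with
  | zero =>
    intro _
    exact ⟨fun i => i.elim0, fun i => i.elim0⟩
  | succ k ih =>
    intro hk
    obtain ⟨v, hv⟩ := ih (by omega)
    obtain ⟨pr, hprdef⟩ : ∃ pr : V → V, ∀ x, pr x = x - ∑ i, B x (v i) • v i := ⟨_, fun _ => rfl⟩
    have hpr : ∀ x j, B (pr x) (v j) = 0 := by
      intro x j
      rw [hprdef, PU.B_sub B hadd hsmul, PU.B_sum B hadd hsmul]
      simp only [hsmul, hv]
      simp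
    have hprB : ∀ w x, (∀ j, B w (v j) = 0) → B w (pr x) = B w x := by
      intro w x hw
      rw [hprdef, hrsub, hrsum]
      simp only [hrsmul, hw, mul_zero, Finset.sum_const_zero, sub_zero]
    have hspan : Submodule.span F (Set.range v) ≠ ⊤ := by
      intro htop
      have h1 : Module.finrank F V ≤ k := by
        rw [← finrank_top F V, ← htop]
        exact (finrank_range_le_card v).trans_eq (Fintype.card_fin k)
      omega
    obtain ⟨x₀, hx₀⟩ : ∃ x₀, x₀ ∉ Submodule.span F (Set.range v) := by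
      by_contra hcon
      push Not at hcon
      exact hspan (Submodule.eq_top_iff'.mpr hcon)
    have hw0 : pr x₀ ≠ 0 := by
      intro h0
      apply hx₀
      rw [hprdef] at h0
      have : x₀ = ∑ i, B x₀ (v i) • v i := sub_eq_zero.mp h0
      rw [this]
      exact Submodule.sum_mem _
        (fun i _ => Submodule.smul_mem _ _ (Submodule.subset_span ⟨i, rfl⟩))
    obtain ⟨y, hy⟩ : ∃ y, B (pr x₀) y ≠ 0 := by
      by_contra hcon
      push Not at hcon
      exact hw0 (hnd _ hcon)
    have hy' : B (pr x₀) (pr y) ≠ 0 := by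
      rw [hprB _ _ (hpr x₀)]
      exact hy
    obtain ⟨w, hwv, hww⟩ : ∃ w, (∀ j, B w (v j) = 0) ∧ B w w ≠ 0 := by
      by_cases h1 : B (pr x₀) (pr x₀) = 0
      swap
      · exact ⟨pr x₀, hpr x₀, h1⟩
      by_cases h3 : B (pr y) (pr y) = 0
      swap
      · exact ⟨pr y, hpr y, h3⟩
      obtain ⟨s, hs⟩ : ∃ s, s = B (pr x₀) (pr y) := ⟨_, rfl⟩
      have hs0 : s ≠ 0 := by
        rw [hs]
        exact hy'
      obtain ⟨l, hl⟩ := h2
      refine ⟨(l * s⁻¹) • pr x₀ + pr y, ?_, ?_⟩
      · intro j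
        rw [hadd, hsmul, hpr, hpr, mul_zero, add_zero]
      · have e1 : B ((l * s⁻¹) • pr x₀) ((l * s⁻¹) • pr x₀) = 0 := by
          rw [hsmul, hrsmul, h1, mul_zero, mul_zero]
        have e2 : B ((l * s⁻¹) • pr x₀) (pr y) = l := by
          rw [hsmul, ← hs, mul_assoc, inv_mul_cancel₀ hs0, mul_one]
        have e3 : B (pr y) ((l * s⁻¹) • pr x₀) = φ l := by
          rw [hsymm ((l * s⁻¹) • pr x₀) (pr y), e2]
        rw [hadd, hradd, hradd, e1, e2, e3, h3]
        have : (0 : F) + l + (φ l + 0) = l + φ l := by ring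
        rw [this]
        exact hl
    have hfix : φ (B w w) = B w w := (hsymm w w).symm
    have hfix' : φ ((B w w)⁻¹) = (B w w)⁻¹ := by rw [map_inv₀, hfix]
    obtain ⟨c, hc⟩ := hnorm _ (inv_ne_zero hww) hfix'
    have huu : B (c • w) (c • w) = 1 := by
      rw [hsmul, hrsmul, ← mul_assoc, hc, inv_mul_cancel₀ hww]
    have huv : ∀ j, B (c • w) (v j) = 0 := by
      intro j
      rw [hsmul, hwv, mul_zero]
    have hvu : ∀ j, B (v j) (c • w) = 0 := by
      intro j
      rw [hsymm (c • w) (v j), huv, map_zero]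
    refine ⟨Fin.cons (c • w) v, ?_⟩
    intro i j
    refine Fin.cases ?_ (fun i' => ?_) i <;> refine Fin.cases ?_ (fun j' => ?_) j
    · simp [huu]
    · simp [huv, (Fin.succ_ne_zero j').symm]
    · simp [hvu, Fin.succ_ne_zero]
    · simp [hv, Fin.succ_inj]

theorem exists_onb' {V : Type*} [AddCommGroup V] [Module F V] [FiniteDimensional F V]
    (φ : F →+* F) (B : V → V → F)
    (hadd : ∀ x x' y, B (x + x') y = B x y + B x' y)
    (hsmul : ∀ (c : F) x y, B (c • x) y = c * B x y)
    (hsymm : ∀ x y, B y x = φ (B x y)) (hnd : ∀ x, (∀ y, B x y = 0) → x = 0)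
    (hnorm : ∀ s : F, s ≠ 0 → φ s = s → ∃ c, c * φ c = s) (h2 : ∃ l : F, l + φ l ≠ 0)
    {n : ℕ} (hn : Module.finrank F V = n) (hn0 : 0 < n) :
    ∃ b : Module.Basis (Fin n) F V, ∀ i j, B (b i) (b j) = if i = j then 1 else 0 := by
  classical
  obtain ⟨v, hv⟩ := exists_orthonormal' φ B hadd hsmul hsymm hnd hnorm h2 n (le_of_eq hn.symm)
  have hli : LinearIndependent F v := by
    rw [Fintype.linearIndependent_iff]
    intro c hc j
    have h1 : B (∑ i, c i • v i) (v j) = 0 := by
      rw [hc]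
      have := hsmul 0 (0 : V) (v j)
      rw [zero_smul, zero_mul] at this
      exact this
    rw [PU.B_sum B hadd hsmul] at h1
    simp only [hsmul, hv] at h1
    simpa using h1
  haveI : Nonempty (Fin n) := ⟨⟨0, hn0⟩⟩
  refine ⟨basisOfLinearIndependentOfCardEqFinrank hli (by rw [Fintype.card_fin, hn]), ?_⟩
  rw [coe_basisOfLinearIndependentOfCardEqFinrank]
  exact hv

end onb

section lemU
variable {F : Type*} [Field F] [Fintype F] {q : ℕ}

theorem gen_pow_ne (hF : Fintype.card F = q ^ 2) :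
    ∃ γ : F, γ ≠ 0 ∧ γ ^ q ≠ γ ∧ γ ^ q ≠ - γ := by
  have hq2 : 2 ≤ q := two_le_q hF
  obtain ⟨γ, hγ⟩ := PU.exists_gen hF
  have h7 : q ^ 2 = q * q := sq q
  have h9 : 2 * q ≤ q * q := Nat.mul_le_mul_right q hq2
  refine ⟨(γ : F), γ.ne_zero, ?_, ?_⟩
  · intro h1
    have h3 : γ ^ q = γ ^ 1 := by
      apply Units.ext
      rw [Units.val_pow_eq_pow_val, Units.val_pow_eq_pow_val, pow_one]
      exact h1
    have h4 := pow_eq_pow_iff_modEq.mp h3
    rw [hγ] at h4
    have h5 : q ^ 2 - 1 ∣ q - 1 := (Nat.modEq_iff_dvd' (by omega)).mp h4.symm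
    have h6 := Nat.le_of_dvd (by omega) h5
    omega
  · intro h1
    have h2 : (γ : F) ^ (2 * q) = (γ : F) ^ 2 := by
      rw [mul_comm, pow_mul, h1, neg_sq]
    have h3 : γ ^ (2 * q) = γ ^ 2 := by
      apply Units.ext
      rw [Units.val_pow_eq_pow_val, Units.val_pow_eq_pow_val]
      exact h2
    have h4 := pow_eq_pow_iff_modEq.mp h3
    rw [hγ] at h4
    have h5 : q ^ 2 - 1 ∣ 2 * q - 2 := (Nat.modEq_iff_dvd' (by omega)).mp h4.symm
    have h6 := Nat.le_of_dvd (by omega) h5
    omega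

theorem exists_trace (hF : Fintype.card F = q ^ 2) : ∃ l : F, l + l ^ q ≠ 0 := by
  obtain ⟨γ, -, -, h⟩ := gen_pow_ne hF
  exact ⟨γ, fun h1 => h (by linear_combination h1)⟩

theorem exists_eps (hF : Fintype.card F = q ^ 2) : ∃ ε : F, ε ≠ 0 ∧ ε ^ q = - ε := by
  obtain ⟨φ, hφ, hφ2⟩ := exists_frob hF
  obtain ⟨γ, -, h, -⟩ := gen_pow_ne hF
  refine ⟨γ - γ ^ q, fun h1 => h (by linear_combination -h1), ?_⟩
  rw [← hφ, ← hφ, map_sub, hφ2]
  ring

/-- an isometry of prime order `s` without nonzero fixed vectors: `s` divides the number of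
vectors of norm one -/
theorem lemU (hF : Fintype.card F = q ^ 2) {V : Type*} [AddCommGroup V] [Module F V]
    [FiniteDimensional F V] (B : V → V → F)
    (hadd : ∀ x x' y, B (x + x') y = B x y + B x' y)
    (hsmul : ∀ (c : F) x y, B (c • x) y = c * B x y)
    (hsymm : ∀ x y, B y x = (B x y) ^ q) (hnd : ∀ x, (∀ y, B x y = 0) → x = 0)
    (T : V →ₗ[F] V) (hT : ∀ x y, B (T x) (T y) = B x y) (s : ℕ) (hs : s.Prime) (hTs : T ^ s = 1)
    (hfree : ∀ v, T v = v → v = 0) :
    s ∣ hcount (F := F) q (Module.finrank F V) 1 := by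
  classical
  obtain ⟨φ, hφ, hφ2⟩ := exists_frob hF
  obtain ⟨k, hk⟩ : ∃ k, Module.finrank F V = k := ⟨_, rfl⟩
  rw [hk]
  rcases Nat.eq_zero_or_pos k with h0 | hpos
  · rw [h0, hcount_zero, if_neg one_ne_zero]
    exact dvd_zero s
  have hsymm' : ∀ x y, B y x = φ (B x y) := fun x y => by
    rw [hφ]
    exact hsymm x y
  have hnorm : ∀ r : F, r ≠ 0 → φ r = r → ∃ c, c * φ c = r := by
    intro r hr0 hr
    obtain ⟨μ, hμ⟩ := PU.exists_norm hF r hr0 (by rw [← hφ]; exact hr)
    exact ⟨μ, by rw [hφ]; exact hμ⟩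
  obtain ⟨l, hl⟩ := exists_trace hF
  obtain ⟨b, hb⟩ := exists_onb' φ B hadd hsmul hsymm' hnd hnorm ⟨l, by rw [hφ]; exact hl⟩ hk hpos
  have hBb : ∀ x : V, B x x = ∑ i, b.repr x i * (b.repr x i) ^ q := by
    intro x
    have hx : x = ∑ i, b.repr x i • b i := (b.sum_repr x).symm
    have hxb : ∀ j, B x (b j) = b.repr x j := by
      intro j
      conv_lhs => rw [hx]
      rw [PU.B_sum B hadd hsmul]
      simp only [hsmul, hb]
      simp
    calc B x x = B (∑ i, b.repr x i • b i) x := by rw [← hx]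
      _ = ∑ i, b.repr x i * B (b i) x := by
          rw [PU.B_sum B hadd hsmul]
          simp only [hsmul]
      _ = ∑ i, b.repr x i * (b.repr x i) ^ q := by
          apply Finset.sum_congr rfl
          intro i _
          rw [hsymm x (b i), hxb]
  have hcard : Nat.card {v : V // B v v = 1} = hcount (F := F) q k 1 := by
    rw [← hcount_eq_card]
    apply Nat.card_congr
    exact b.equivFun.toEquiv.subtypeEquiv (fun v => by
      rw [hBb v]
      exact Iff.rfl)
  haveI : Finite V := Module.finite_of_finite F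
  haveI : Fintype {v : V // B v v = 1} := Fintype.ofFinite _
  haveI : Fact s.Prime := ⟨hs⟩
  let f : Function.End {v : V // B v v = 1} := fun v => ⟨T v.1, by rw [hT]; exact v.2⟩
  have hfpow : ∀ (j : ℕ) (v : {v : V // B v v = 1}), ((f ^ j) v : V) = (T ^ j) (v : V) := by
    intro j
    induction j with
    | zero =>
      intro v
      rw [pow_zero, pow_zero]
      rfl
    | succ j ih =>
      intro v
      rw [pow_succ, pow_succ]
      show ((f ^ j) (f v) : V) = (T ^ j) (T (v : V))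
      rw [ih (f v)]
  have hf : f ^ s ^ 1 = 1 := by
    rw [pow_one]
    funext v
    apply Subtype.ext
    rw [hfpow, hTs]
    rfl
  have h := Equiv.Perm.card_fixedPoints_modEq (p := s) (n := 1) hf
  have hfix : Fintype.card (Function.fixedPoints f) = 0 := by
    rw [Fintype.card_eq_zero_iff]
    refine ⟨?_⟩
    rintro ⟨v, hv⟩
    have h1 : T (v : V) = v := congrArg Subtype.val hv
    have h2 := hfree _ h1
    have h3 := v.2
    rw [h2] at h3
    have h4 : B 0 0 = 0 := by
      have := hsmul 0 (0 : V) 0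
      rw [zero_smul, zero_mul] at this
      exact this
    rw [h4] at h3
    exact zero_ne_one h3
  rw [hfix] at h
  rw [← hcard, Nat.card_eq_fintype_card]
  exact (Nat.modEq_zero_iff_dvd).mp h

/-- matrix version on an invariant subspace -/
theorem lemUM (hF : Fintype.card F = q ^ 2) {m : ℕ} (X : Matrix (Fin m) (Fin m) F)
    (U : Submodule F (Fin m → F)) (hU : ∀ w ∈ U, X.mulVec w ∈ U)
    (B : U → U → F)
    (hadd : ∀ x x' y, B (x + x') y = B x y + B x' y)
    (hsmul : ∀ (c : F) x y, B (c • x) y = c * B x y)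
    (hsymm : ∀ x y, B y x = (B x y) ^ q) (hnd : ∀ x, (∀ y, B x y = 0) → x = 0)
    (hB : ∀ x y : U, B ⟨X.mulVec x.1, hU x.1 x.2⟩ ⟨X.mulVec y.1, hU y.1 y.2⟩ = B x y)
    (s : ℕ) (hs : s.Prime) (hXs : X ^ s = 1) (hfree : ∀ v ∈ U, X.mulVec v = v → v = 0) :
    s ∣ hcount (F := F) q (Module.finrank F U) 1 := by
  obtain ⟨T, hTdef⟩ : ∃ T : U →ₗ[F] U, ∀ x : U, T x = ⟨X.mulVec x.1, hU x.1 x.2⟩ :=
    ⟨(Matrix.mulVecLin X).restrict hU, fun x => rfl⟩
  have hTpow : ∀ (j : ℕ) (x : U), (((T ^ j) x : U) : Fin m → F) = (X ^ j).mulVec (x : Fin m → F) := by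
    intro j
    induction j with
    | zero =>
      intro x
      rw [pow_zero, pow_zero, Matrix.one_mulVec]
      rfl
    | succ j ih =>
      intro x
      rw [pow_succ, Module.End.mul_apply, ih, hTdef, pow_succ, ← Matrix.mulVec_mulVec]
  exact lemU hF B hadd hsmul hsymm hnd T (fun x y => by rw [hTdef, hTdef]; exact hB x y) s hs
    (by
      apply LinearMap.ext
      intro x
      apply Subtype.ext
      rw [hTpow, hXs, Matrix.one_mulVec]
      rfl)
    (fun v hv => by
      apply Subtype.ext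
      have h1 : X.mulVec (v : Fin m → F) = v := by
        have := congrArg Subtype.val hv
        rw [hTdef] at this
        exact this
      exact hfree v.1 v.2 h1)

end lemU

end Cfsg.Agent.Helper15.UA
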