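import Mathlib
import Cfsg.Agent.Helper15.UA
import Cfsg.Agent.Helper15.SPa

/-!
# Commuting elements of orders `s` and `p` in a unitary group (for S2365)
-/

set_option autoImplicit false
set_option linter.unusedSectionVars false
set_option linter.style.haveILetI false
set_option linter.unusedSimpArgs false
set_option linter.unusedVariables false

namespace Cfsg.Agent.Helper15.UA

open Cfsg Cfsg.Agent.Helper3
open scoped Matrix

section mat
variable {F : Type*} [Field F] [Fintype F] {q : ℕ}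

theorem main_mat (hF : Fintype.card F = q ^ 2) (p : ℕ) [Fact p.Prime] [CharP F p] {m : ℕ}
    (hm : 4 ≤ m)
    (X A : Matrix (Fin m) (Fin m) F) (hX : HPres m q X) (hA : HPres m q A) (s : ℕ) (hs : s.Prime)
    (hXs : X ^ s = 1) (hX1 : X ≠ 1) (hAp : A ^ p = 1) (hA1 : A ≠ 1) (hXA : X * A = A * X)
    (hsF : (s : F) ≠ 0) (d : ℕ) (hd3 : 3 ≤ d)
    (hD : ∀ k : ℕ, s ∣ hcount (F := F) q k 1 → d ∣ k)
    (hQ : ∀ k : ℕ, s ∣ (q ^ 2) ^ k - 1 → d ∣ 2 * k) :
    d ≤ m - 2 := by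
  classical
  haveI : Fact s.Prime := ⟨hs⟩
  haveI : Nonempty (Fin m) := ⟨⟨0, by omega⟩⟩
  have hq2 : 2 ≤ q := two_le_q hF
  obtain ⟨φ, hφ, hφ2⟩ := exists_frob hF
  obtain ⟨h, hh⟩ : ∃ h : (Fin m → F) → (Fin m → F) → F, h = hermForm m F q := ⟨_, rfl⟩
  have hadd : ∀ x x' y, h (x + x') y = h x y + h x' y := by
    intro x x' y
    rw [hh]
    unfold hermForm
    simp only [Pi.add_apply, add_mul, Finset.sum_add_distrib]
  have hsmul : ∀ (c : F) x y, h (c • x) y = c * h x y := by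
    intro c x y
    rw [hh]
    unfold hermForm
    simp only [Pi.smul_apply, smul_eq_mul, mul_assoc, Finset.mul_sum]
  have hsymm : ∀ x y, h y x = (h x y) ^ q := by
    intro x y
    rw [hh, ← hφ, herm_conj φ hφ hφ2]
  have hsub : ∀ x x' y, h (x - x') y = h x y - h x' y := PU.B_sub h hadd hsmul
  have hzero : ∀ y, h 0 y = 0 := by
    intro y
    have := hsmul 0 0 y
    rw [zero_smul, zero_mul] at this
    exact this
  have hradd : ∀ x y y', h x (y + y') = h x y + h x y' := by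
    intro x y y'
    rw [hsymm (y + y') x, hadd, ← hφ, map_add, hφ, hφ, ← hsymm, ← hsymm]
  have hrsub : ∀ x y y', h x (y - y') = h x y - h x y' := by
    intro x y y'
    rw [hsymm (y - y') x, hsub, ← hφ, map_sub, hφ, hφ, ← hsymm, ← hsymm]
  have hstd : ∀ (w : Fin m → F) (i : Fin m), h w (Pi.single i 1) = w i := by
    intro w i
    rw [hh]
    unfold hermForm
    rw [Finset.sum_eq_single i]
    · rw [Pi.single_eq_same, one_pow, mul_one]
    · intro j _ hji
      rw [Pi.single_eq_of_ne hji, zero_pow (by omega), mul_zero]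
    · intro hi
      exact absurd (Finset.mem_univ i) hi
  have hndV : ∀ w : Fin m → F, w ≠ 0 → ∃ y, h w y ≠ 0 := by
    intro w hw
    by_contra hcon
    simp only [not_exists, not_not] at hcon
    apply hw
    funext i
    rw [← hstd w i, hcon]
    rfl
  have hXiso : ∀ u v, h (X *ᵥ u) (X *ᵥ v) = h u v := by
    intro u v
    rw [hh]
    exact hX u v
  have hAiso : ∀ u v, h (A *ᵥ u) (A *ᵥ v) = h u v := by
    intro u v
    rw [hh]
    exact hA u v
  have hXpres : ∀ (j : ℕ) u v, h (X ^ j *ᵥ u) (X ^ j *ᵥ v) = h u v := by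
    intro j
    induction j with
    | zero =>
      intro u v
      rw [pow_zero, Matrix.one_mulVec, Matrix.one_mulVec]
    | succ j ih =>
      intro u v
      rw [pow_succ, ← Matrix.mulVec_mulVec, ← Matrix.mulVec_mulVec, ih, hXiso]
  obtain ⟨N, hN⟩ : ∃ N : Matrix (Fin m) (Fin m) F, N = ∑ i ∈ Finset.range s, X ^ i := ⟨_, rfl⟩
  have hXN : X * N = N := by rw [hN]; exact SP.geom_fix_r s X hXs
  have hNX : N * X = N := by rw [hN]; exact SP.geom_fix_r' s X hXs
  have hNN : N * N = (s : F) • N := by rw [hN]; exact SP.geom_sq_r s X hXs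
  have hNfix : ∀ v, X *ᵥ v = v → N *ᵥ v = (s : F) • v := by
    intro v hv
    rw [hN]
    exact SP.geom_fixed_vec_r s X v hv
  have hNA : N * A = A * N := by
    rw [hN, Finset.sum_mul, Finset.mul_sum]
    apply Finset.sum_congr rfl
    intro i _
    exact (Commute.pow_left (show Commute X A from hXA) i).eq
  obtain ⟨V1, hV1⟩ : ∃ W : Submodule F (Fin m → F),
      W = LinearMap.ker (Matrix.mulVecLin (X - 1)) := ⟨_, rfl⟩
  obtain ⟨V2, hV2⟩ : ∃ W : Submodule F (Fin m → F),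
      W = LinearMap.ker (Matrix.mulVecLin N) := ⟨_, rfl⟩
  have hV1mem : ∀ u, u ∈ V1 ↔ X *ᵥ u = u := by
    intro u
    rw [hV1, LinearMap.mem_ker, Matrix.mulVecLin_apply, Matrix.sub_mulVec, Matrix.one_mulVec,
      sub_eq_zero]
  have hV2mem : ∀ u, u ∈ V2 ↔ N *ᵥ u = 0 := by
    intro u
    rw [hV2, LinearMap.mem_ker, Matrix.mulVecLin_apply]
  have hproj : ∀ y, (s : F) • y - N *ᵥ y ∈ V2 := by
    intro y
    rw [hV2mem, Matrix.mulVec_sub, Matrix.mulVec_smul, Matrix.mulVec_mulVec, hNN,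
      Matrix.smul_mulVec, sub_self]
  have hfree2 : ∀ v ∈ V2, X *ᵥ v = v → v = 0 := by
    intro v hv hfix
    have h3 := hNfix v hfix
    rw [(hV2mem v).mp hv] at h3
    exact (smul_eq_zero.mp h3.symm).resolve_left hsF
  have hdisj : Disjoint V1 V2 := by
    rw [Submodule.disjoint_def]
    intro v h1 h2
    exact hfree2 v h2 ((hV1mem v).mp h1)
  have hV2inv : ∀ w ∈ V2, X *ᵥ w ∈ V2 := by
    intro w hw
    rw [hV2mem, Matrix.mulVec_mulVec, hNX]
    exact (hV2mem w).mp hw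
  have hperp : ∀ w ∈ V2, ∀ u, X *ᵥ u = u → h w u = 0 := by
    intro w hw u hu
    have h1 : ∀ j : ℕ, h (X ^ j *ᵥ w) u = h w u := by
      intro j
      have := hXpres j w u
      rw [SP.pow_fixed_vec_r X u hu j] at this
      exact this
    have h2 : h (N *ᵥ w) u = (s : F) * h w u := by
      rw [hN, Matrix.sum_mulVec, PU.B_sum h hadd hsmul, Finset.sum_congr rfl (fun j _ => h1 j),
        Finset.sum_const, Finset.card_range, nsmul_eq_mul]
    rw [(hV2mem w).mp hw, hzero] at h2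
    exact (mul_eq_zero.mp h2.symm).resolve_left hsF
  have hnd2 : ∀ w ∈ V2, w ≠ 0 → ∃ w' ∈ V2, h w w' ≠ 0 := by
    intro w hw hw0
    obtain ⟨y, hy⟩ := hndV w hw0
    refine ⟨(s : F) • y - N *ᵥ y, hproj y, ?_⟩
    have h1 : h w (N *ᵥ y) = 0 := hperp w hw _ (by rw [Matrix.mulVec_mulVec, hXN])
    have hyw : h y w ≠ 0 := by
      intro h0
      apply hy
      rw [hsymm y w, h0, zero_pow (by omega)]
    have h2 : h ((s : F) • y - N *ᵥ y) w ≠ 0 := by
      rw [hsub, hsmul, hsymm w (N *ᵥ y), h1, zero_pow (by omega), sub_zero]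
      exact mul_ne_zero hsF hyw
    intro h0
    apply h2
    rw [hsymm w _, h0, zero_pow (by omega)]
  have hA2 := lemUM hF X V2 hV2inv (fun u v => h u.1 v.1)
    (fun x x' y => by
      show h (x.1 + x'.1) y.1 = _
      exact hadd _ _ _)
    (fun c x y => by
      show h (c • x.1) y.1 = _
      exact hsmul _ _ _)
    (fun x y => hsymm _ _)
    (fun x hx => by
      by_contra hx0
      have hx0' : (x : Fin m → F) ≠ 0 := fun h0 => hx0 (Subtype.ext h0)
      obtain ⟨w', hw', hne⟩ := hnd2 x.1 x.2 hx0'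
      exact hne (hx ⟨w', hw'⟩))
    (fun x y => by
      show h (X *ᵥ x.1) (X *ᵥ y.1) = h x.1 y.1
      exact hXiso _ _) s hs hXs hfree2
  obtain ⟨k2, hk2⟩ : ∃ k2, k2 = Module.finrank F V2 := ⟨_, rfl⟩
  rw [← hk2] at hA2
  have hdk2 : d ∣ k2 := hD k2 hA2
  have hk20 : k2 ≠ 0 := by
    intro h0
    have hbot : V2 = ⊥ := Submodule.finrank_eq_zero.mp (by rw [← hk2, h0])
    apply hX1
    apply SN.mat_ext
    intro y
    rw [Matrix.one_mulVec]
    have h1 := hproj y
    rw [hbot, Submodule.mem_bot, sub_eq_zero] at h1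
    have h2 : X *ᵥ ((s : F) • y) = (s : F) • y := by
      rw [h1, Matrix.mulVec_mulVec, hXN]
    rw [Matrix.mulVec_smul] at h2
    exact smul_right_injective _ hsF h2
  have hsumle := Submodule.finrank_add_finrank_le_of_disjoint hdisj
  rw [Module.finrank_fin_fun, ← hk2] at hsumle
  by_contra hcon
  have hk2d : k2 = d := by
    obtain ⟨c, hc⟩ := hdk2
    rcases c with _ | _ | c
    · omega
    · omega
    · exfalso
      have : d * 2 ≤ d * (c + 1 + 1) := Nat.mul_le_mul_left d (by omega)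
      omega
  have hV1le : Module.finrank F V1 ≤ 1 := by omega
  have hAV1mem : ∀ v ∈ V1, A *ᵥ v ∈ V1 := by
    intro v hv
    rw [hV1mem, Matrix.mulVec_mulVec, hXA, ← Matrix.mulVec_mulVec, (hV1mem v).mp hv]
  have hApow : ∀ (j : ℕ) (v : Fin m → F) (b : F), A *ᵥ v = b • v → A ^ j *ᵥ v = b ^ j • v := by
    intro j v b hb
    induction j with
    | zero => rw [pow_zero, Matrix.one_mulVec, pow_zero, one_smul]
    | succ j ih =>
      rw [pow_succ, ← Matrix.mulVec_mulVec, hb, Matrix.mulVec_smul, ih, smul_smul, pow_succ,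
        mul_comm]
  have hAV1 : ∀ v ∈ V1, A *ᵥ v = v := by
    obtain ⟨⟨v0, hv0mem⟩, hv0⟩ := finrank_le_one_iff.mp hV1le
    obtain ⟨b, hb⟩ := hv0 ⟨A *ᵥ v0, hAV1mem v0 hv0mem⟩
    have hb' : A *ᵥ v0 = b • v0 := (congrArg Subtype.val hb).symm
    have hb1 : b = 1 ∨ v0 = 0 := by
      have h1 := hApow p v0 b hb'
      rw [hAp, Matrix.one_mulVec] at h1
      have h2 : (b ^ p - 1) • v0 = 0 := by rw [sub_smul, one_smul, ← h1, sub_self]
      rcases smul_eq_zero.mp h2 with h3 | h3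
      · left
        exact SP.char_pow_one p b (sub_eq_zero.mp h3)
      · right
        exact h3
    intro v hv
    obtain ⟨c, hc⟩ := hv0 ⟨v, hv⟩
    have hc' : v = c • v0 := (congrArg Subtype.val hc).symm
    rw [hc', Matrix.mulVec_smul, hb']
    rcases hb1 with h1 | h1
    · rw [h1, one_smul]
    · rw [h1, smul_zero, smul_zero]
  have hAV2mem : ∀ v ∈ V2, A *ᵥ v ∈ V2 := by
    intro v hv
    rw [hV2mem, Matrix.mulVec_mulVec, hNA, ← Matrix.mulVec_mulVec, (hV2mem v).mp hv,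
      Matrix.mulVec_zero]
  obtain ⟨v1, hv1mem, hv1⟩ : ∃ v ∈ V2, A *ᵥ v ≠ v := by
    by_contra hcon2
    simp only [not_exists, not_and, not_not] at hcon2
    apply hA1
    apply SN.mat_ext
    intro y
    rw [Matrix.one_mulVec]
    have h1 : N *ᵥ y ∈ V1 := by rw [hV1mem, Matrix.mulVec_mulVec, hXN]
    have h2 : A *ᵥ ((s : F) • y) = (s : F) • y := by
      have e : (s : F) • y = N *ᵥ y + ((s : F) • y - N *ᵥ y) := by abel
      rw [e, Matrix.mulVec_add, hAV1 _ h1, hcon2 _ (hproj y)]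
    rw [Matrix.mulVec_smul] at h2
    exact smul_right_injective _ hsF h2
  have hAnil : (A - 1) ^ p = 0 := by
    rw [sub_pow_char_of_commute p (Commute.one_right A), hAp, one_pow, sub_self]
  have hunip : ∀ U : Submodule F (Fin m → F), (∀ u ∈ U, A *ᵥ u ∈ U) → U ≠ ⊥ →
      ∃ u ∈ U, u ≠ 0 ∧ A *ᵥ u = u := by
    intro U hUA hU0
    by_contra hcon2
    simp only [not_exists, not_and] at hcon2
    obtain ⟨u0, hu0mem, hu0⟩ := (Submodule.ne_bot_iff U).mp hU0
    have hind : ∀ j : ℕ, (A - 1) ^ j *ᵥ u0 ∈ U ∧ (A - 1) ^ j *ᵥ u0 ≠ 0 := by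
      intro j
      induction j with
      | zero =>
        rw [pow_zero, Matrix.one_mulVec]
        exact ⟨hu0mem, hu0⟩
      | succ j ih =>
        have e : (A - 1) ^ (j + 1) *ᵥ u0 =
            A *ᵥ ((A - 1) ^ j *ᵥ u0) - (A - 1) ^ j *ᵥ u0 := by
          rw [pow_succ', ← Matrix.mulVec_mulVec, Matrix.sub_mulVec, Matrix.one_mulVec]
        rw [e]
        refine ⟨U.sub_mem (hUA _ ih.1) ih.1, ?_⟩
        intro h0
        exact hcon2 _ ih.1 ih.2 (sub_eq_zero.mp h0)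
    have := (hind p).2
    rw [hAnil, Matrix.zero_mulVec] at this
    exact this rfl
  obtain ⟨W, hW⟩ : ∃ W : Submodule F (Fin m → F),
      W = V2 ⊓ LinearMap.ker (Matrix.mulVecLin (A - 1)) := ⟨_, rfl⟩
  have hWmem : ∀ u, u ∈ W ↔ u ∈ V2 ∧ A *ᵥ u = u := by
    intro u
    rw [hW, Submodule.mem_inf, LinearMap.mem_ker, Matrix.mulVecLin_apply, Matrix.sub_mulVec,
      Matrix.one_mulVec, sub_eq_zero]
  have hWle : W ≤ V2 := by
    rw [hW]
    exact inf_le_left
  have hWinv : ∀ w ∈ W, X *ᵥ w ∈ W := by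
    intro w hw
    obtain ⟨h1, h2⟩ := (hWmem w).mp hw
    refine (hWmem _).mpr ⟨hV2inv w h1, ?_⟩
    rw [Matrix.mulVec_mulVec, ← hXA, ← Matrix.mulVec_mulVec, h2]
  have hV2ne : V2 ≠ ⊥ := by
    intro h0
    apply hv1
    rw [h0, Submodule.mem_bot] at hv1mem
    rw [hv1mem, Matrix.mulVec_zero]
  have hWne : W ≠ ⊥ := by
    obtain ⟨u, hu, hu0, hAu⟩ := hunip V2 hAV2mem hV2ne
    intro h0
    have : u ∈ W := (hWmem u).mpr ⟨hu, hAu⟩
    rw [h0, Submodule.mem_bot] at this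
    exact hu0 this
  have hWlt : W < V2 := by
    refine lt_of_le_of_ne hWle ?_
    intro h0
    have : v1 ∈ W := by
      rw [h0]
      exact hv1mem
    exact hv1 ((hWmem v1).mp this).2
  have hdim : ∀ U : Submodule F (Fin m → F), (∀ w ∈ U, X *ᵥ w ∈ U) → U ≤ V2 →
      d ∣ 2 * Module.finrank F U := by
    intro U hUinv hle
    have hc := SP.card_inv_modEq_r s hs hsF X hXs U hUinv
      (fun w hw => by rw [← hN]; exact (hV2mem w).mp (hle hw))
    rw [Module.natCard_eq_pow_finrank (K := F) (V := U), Nat.card_eq_fintype_card, hF] at hc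
    apply hQ
    exact (Nat.modEq_iff_dvd' (Nat.one_le_pow _ _ (by positivity))).mp hc.symm
  obtain ⟨w, hw⟩ : ∃ w, w = Module.finrank F W := ⟨_, rfl⟩
  have hw0 : 1 ≤ w := by
    rw [hw]
    exact Submodule.one_le_finrank_iff.mpr hWne
  have hwlt : w < d := by
    rw [hw, ← hk2d, hk2]
    exact Submodule.finrank_lt_finrank_of_lt hWlt
  have h2w : 2 * w = d := by
    obtain ⟨c, hc⟩ := hdim W hWinv hWle
    rw [← hw] at hc
    rcases c with _ | _ | c
    · omega
    · omega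
    · exfalso
      have : d * 2 ≤ d * (c + 1 + 1) := Nat.mul_le_mul_left d (by omega)
      omega
  obtain ⟨I, hI⟩ : ∃ I : Submodule F (Fin m → F), I = V2.map (Matrix.mulVecLin (A - 1)) :=
    ⟨_, rfl⟩
  have hImem : ∀ x, x ∈ I ↔ ∃ u ∈ V2, A *ᵥ u - u = x := by
    intro x
    rw [hI, Submodule.mem_map]
    constructor
    · rintro ⟨u, hu, rfl⟩
      exact ⟨u, hu, by rw [Matrix.mulVecLin_apply, Matrix.sub_mulVec, Matrix.one_mulVec]⟩
    · rintro ⟨u, hu, rfl⟩
      exact ⟨u, hu, by rw [Matrix.mulVecLin_apply, Matrix.sub_mulVec, Matrix.one_mulVec]⟩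
  have hIle : I ≤ V2 := by
    intro x hx
    obtain ⟨u, hu, rfl⟩ := (hImem x).mp hx
    exact V2.sub_mem (hAV2mem u hu) hu
  have hIinv : ∀ x ∈ I, X *ᵥ x ∈ I := by
    intro x hx
    obtain ⟨u, hu, rfl⟩ := (hImem x).mp hx
    refine (hImem _).mpr ⟨X *ᵥ u, hV2inv u hu, ?_⟩
    rw [Matrix.mulVec_sub, Matrix.mulVec_mulVec, Matrix.mulVec_mulVec, hXA]
  have hIA : ∀ x ∈ I, A *ᵥ x ∈ I := by
    intro x hx
    obtain ⟨u, hu, rfl⟩ := (hImem x).mp hx
    refine (hImem _).mpr ⟨A *ᵥ u, hAV2mem u hu, ?_⟩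
    rw [Matrix.mulVec_sub]
  have hIne : I ≠ ⊥ := by
    intro h0
    have : A *ᵥ v1 - v1 ∈ I := (hImem _).mpr ⟨v1, hv1mem, rfl⟩
    rw [h0, Submodule.mem_bot] at this
    exact hv1 (sub_eq_zero.mp this)
  have hIW : ∀ x ∈ I, ∀ y ∈ W, h x y = 0 := by
    intro x hx y hy
    obtain ⟨u, hu, rfl⟩ := (hImem x).mp hx
    obtain ⟨-, hAy⟩ := (hWmem y).mp hy
    rw [hsub]
    have := hAiso u y
    rw [hAy] at this
    rw [this, sub_self]
  obtain ⟨x0, hx0I, hx00, hAx0⟩ := hunip I hIA hIne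
  have hWI : W ⊓ I ≠ ⊥ := by
    intro h0
    have : x0 ∈ W ⊓ I := ⟨(hWmem x0).mpr ⟨hIle hx0I, hAx0⟩, hx0I⟩
    rw [h0, Submodule.mem_bot] at this
    exact hx00 this
  have hWIinv : ∀ x ∈ W ⊓ I, X *ᵥ x ∈ W ⊓ I := fun x hx => ⟨hWinv x hx.1, hIinv x hx.2⟩
  have hWIdim := hdim (W ⊓ I) hWIinv (inf_le_left.trans hWle)
  have hWIpos : 1 ≤ Module.finrank F ↥(W ⊓ I) := Submodule.one_le_finrank_iff.mpr hWI
  have hWIle : Module.finrank F ↥(W ⊓ I) ≤ w := by
    rw [hw]
    exact Submodule.finrank_mono inf_le_left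
  have hWIeq : Module.finrank F ↥(W ⊓ I) = w := by
    obtain ⟨c, hc⟩ := hWIdim
    rcases c with _ | _ | c
    · omega
    · omega
    · exfalso
      have : d * 2 ≤ d * (c + 1 + 1) := Nat.mul_le_mul_left d (by omega)
      omega
  have hWleI : W ≤ I := by
    have h1 : W ⊓ I = W := Submodule.eq_of_le_of_finrank_eq inf_le_left (by rw [hWIeq, hw])
    rw [← h1]
    exact inf_le_right
  have hWiso : ∀ x ∈ W, ∀ y ∈ W, h x y = 0 := fun x hx y hy => hIW x (hWleI hx) y hy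
  have hIdim := hdim I hIinv hIle
  have hIpos : 1 ≤ Module.finrank F I := Submodule.one_le_finrank_iff.mpr hIne
  have hIle' : Module.finrank F I ≤ d := by
    rw [← hk2d, hk2]
    exact Submodule.finrank_mono hIle
  have hIneV2 : I ≠ V2 := by
    intro h0
    obtain ⟨u, hu, hu0⟩ := (Submodule.ne_bot_iff W).mp hWne
    obtain ⟨w', hw', hne⟩ := hnd2 u (hWle hu) hu0
    apply hne
    rw [hsymm w' u, hIW w' (by rw [h0]; exact hw') u hu, zero_pow (by omega)]
  have hIeqw : Module.finrank F I = w := by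
    obtain ⟨c, hc⟩ := hIdim
    have hne : Module.finrank F I ≠ d := by
      intro h0
      apply hIneV2
      exact Submodule.eq_of_le_of_finrank_eq hIle (by rw [h0, ← hk2, hk2d])
    rcases c with _ | _ | c
    · omega
    · omega
    · exfalso
      rcases c with _ | c
      · omega
      · have : d * 3 ≤ d * (c + 1 + 1 + 1) := Nat.mul_le_mul_left d (by omega)
        omega
  have hIeqW : I = W := (Submodule.eq_of_le_of_finrank_eq hWleI (by rw [hIeqw, hw])).symm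
  obtain ⟨ε, hε0, hε⟩ := exists_eps hF
  have hpre : ∀ y : W, ∃ u, u ∈ V2 ∧ A *ᵥ u - u = y.1 := by
    intro y
    exact (hImem y.1).mp (hWleI y.2)
  choose σ hσ2 hσ using hpre
  have hdiffW : ∀ (u u' : Fin m → F), u ∈ V2 → u' ∈ V2 → A *ᵥ u - u = A *ᵥ u' - u' →
      u - u' ∈ W := by
    intro u u' hu hu' he
    refine (hWmem _).mpr ⟨V2.sub_mem hu hu', ?_⟩
    rw [Matrix.mulVec_sub]
    have h1 : A *ᵥ u - A *ᵥ u' - (u - u') = 0 := by
      have h2 := sub_eq_zero.mpr he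
      rw [← h2]
      abel
    exact sub_eq_zero.mp h1
  have hkey : ∀ u u' : Fin m → F, u ∈ V2 → u' ∈ V2 →
      h (A *ᵥ u' - u') u = - h u' (A *ᵥ u - u) := by
    intro u u' hu hu'
    have h1 : h (A *ᵥ u' - u') (A *ᵥ u - u) = 0 :=
      hWiso _ (by rw [← hIeqW]; exact (hImem _).mpr ⟨u', hu', rfl⟩) _
        (by rw [← hIeqW]; exact (hImem _).mpr ⟨u, hu, rfl⟩)
    rw [hsub, hrsub, hrsub, hAiso] at h1
    rw [hsub, hrsub]
    linear_combination -h1
  have hWfree : ∀ v ∈ W, X *ᵥ v = v → v = 0 := fun v hv hfix => hfree2 v (hWle hv) hfix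
  have hC := lemUM hF X W hWinv (fun x y => ε * h x.1 (σ y))
    (fun x x' y => by
      show ε * h (x.1 + x'.1) (σ y) = _
      rw [hadd]
      ring)
    (fun c x y => by
      show ε * h (c • x.1) (σ y) = _
      rw [hsmul]
      ring)
    (fun x y => by
      show ε * h y.1 (σ x) = (ε * h x.1 (σ y)) ^ q
      rw [mul_pow, hε, ← hsymm x.1 (σ y)]
      have h1 := hkey (σ x) (σ y) (hσ2 x) (hσ2 y)
      rw [hσ y, hσ x] at h1
      rw [h1]
      ring)
    (fun x hx => by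
      by_contra hx0
      have hx0' : (x : Fin m → F) ≠ 0 := fun h0 => hx0 (Subtype.ext h0)
      obtain ⟨v, hv, hne⟩ := hnd2 x.1 (hWle x.2) hx0'
      apply hne
      have hyW : A *ᵥ v - v ∈ W := by
        rw [← hIeqW]
        exact (hImem _).mpr ⟨v, hv, rfl⟩
      have h1 := hx ⟨A *ᵥ v - v, hyW⟩
      have h2 : h x.1 (σ ⟨A *ᵥ v - v, hyW⟩) = 0 := (mul_eq_zero.mp h1).resolve_left hε0
      have h3 : σ ⟨A *ᵥ v - v, hyW⟩ - v ∈ W := hdiffW _ _ (hσ2 _) hv (hσ _)
      have h4 := hWiso x.1 x.2 _ h3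
      rw [hrsub, h2, zero_sub, neg_eq_zero] at h4
      exact h4)
    (fun x y => by
      show ε * h (X *ᵥ x.1) (σ ⟨X *ᵥ y.1, hWinv y.1 y.2⟩) = ε * h x.1 (σ y)
      have h3 : σ ⟨X *ᵥ y.1, hWinv y.1 y.2⟩ - X *ᵥ σ y ∈ W := by
        apply hdiffW _ _ (hσ2 _) (hV2inv _ (hσ2 y))
        rw [hσ]
        show X *ᵥ y.1 = A *ᵥ (X *ᵥ σ y) - X *ᵥ σ y
        rw [← hσ y, Matrix.mulVec_sub, Matrix.mulVec_mulVec, Matrix.mulVec_mulVec, hXA]
      have h4 := hWiso (X *ᵥ x.1) (hWinv x.1 x.2) _ h3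
      rw [hrsub, hXiso] at h4
      rw [sub_eq_zero.mp h4])
    s hs hXs hWfree
  rw [← hw] at hC
  have hdw : d ∣ w := hD w hC
  have := Nat.le_of_dvd (by omega) hdw
  omega

end mat

end Cfsg.Agent.Helper15.UA
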