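import Mathlib
import Cfsg.Agent.Helper15.UB
import Cfsg.Agent.S0278

/-!
# S2365: primes dividing the order of an element commuting with an element of order `p` in `PSU`
-/

set_option autoImplicit false
set_option linter.unusedSectionVars false
set_option linter.style.haveILetI false
set_option linter.unusedSimpArgs false
set_option linter.unusedVariables false

namespace Cfsg.Agent.Helper15.UA

open Cfsg Cfsg.Agent.Helper3

theorem commute_of_center {G : Type*} [Group G] (g k : G) (p s : ℕ) (hps : Nat.Coprime p s)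
    (hg : g ^ p = 1) (hk : k ^ s = 1)
    (hz : g * k * g⁻¹ * k⁻¹ ∈ Subgroup.center G) : g * k = k * g := by
  obtain ⟨z, hzdef⟩ : ∃ z, z = g * k * g⁻¹ * k⁻¹ := ⟨_, rfl⟩
  rw [← hzdef] at hz
  have hzc : ∀ x : G, x * z = z * x := fun x => Subgroup.mem_center_iff.mp hz x
  have h1 : g * k * g⁻¹ = z * k := by
    rw [hzdef]
    group
  have h2 : z ^ s = 1 := by
    have h3 : (g * k * g⁻¹) ^ s = 1 := by rw [conj_pow, hk, mul_one, mul_inv_cancel]
    rw [h1, (show Commute z k from (hzc k).symm).mul_pow, hk, mul_one] at h3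
    exact h3
  have h4 : k * g * k⁻¹ = z⁻¹ * g := by
    rw [hzdef]
    group
  have h5 : z ^ p = 1 := by
    have h6 : (k * g * k⁻¹) ^ p = 1 := by rw [conj_pow, hg, mul_one, mul_inv_cancel]
    have hzic : Commute z⁻¹ g := (show Commute z g from (hzc g).symm).inv_left
    rw [h4, hzic.mul_pow, hg, mul_one, inv_pow, inv_eq_one] at h6
    exact h6
  have h7 : z = 1 := by
    have ho1 := orderOf_dvd_of_pow_eq_one h5
    have ho2 := orderOf_dvd_of_pow_eq_one h2
    have := Nat.dvd_gcd ho1 ho2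
    rw [Nat.Coprime.gcd_eq_one hps] at this
    exact orderOf_eq_one_iff.mp (Nat.dvd_one.mp this)
  rw [h7] at h1
  have h8 : g * k = (g * k * g⁻¹) * g := by group
  rw [h8, h1, one_mul]

theorem nt (s q : ℕ) (hs : s.Prime) (hsq : ¬ s ∣ q) (hs2 : ¬ s ∣ q ^ 2 - 1) (hq : 2 ≤ q) :
    ∃ d : ℕ, 3 ≤ d ∧
      (∀ k : ℕ, s ∣ (if Even k then q ^ (k - 1) * (q ^ k - 1) else q ^ (k - 1) * (q ^ k + 1)) →
        d ∣ k) ∧
      (∀ k : ℕ, s ∣ (q ^ 2) ^ k - 1 → d ∣ 2 * k) ∧
      s ∣ (if Even d then q ^ d - 1 else q ^ d + 1) := by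
  haveI : Fact s.Prime := ⟨hs⟩
  obtain ⟨t, ht⟩ : ∃ t : ZMod s, t = -(q : ZMod s) := ⟨_, rfl⟩
  have hq0 : (q : ZMod s) ≠ 0 := by
    intro h
    exact hsq ((ZMod.natCast_eq_zero_iff _ _).mp h)
  have ht0 : t ≠ 0 := by
    rw [ht]
    exact neg_ne_zero.mpr hq0
  have hkey : ∀ k : ℕ, t ^ k = 1 ↔ s ∣ (if Even k then q ^ k - 1 else q ^ k + 1) := by
    intro k
    have h1 : 1 ≤ q ^ k := Nat.one_le_pow _ _ (by omega)
    split_ifs with hk
    · rw [ht, Even.neg_pow hk, ← ZMod.natCast_eq_zero_iff, Nat.cast_sub h1, Nat.cast_pow,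
        Nat.cast_one, sub_eq_zero]
    · rw [ht, Odd.neg_pow (Nat.not_even_iff_odd.mp hk), ← ZMod.natCast_eq_zero_iff, Nat.cast_add,
        Nat.cast_pow, Nat.cast_one]
      constructor
      · intro h
        linear_combination -h
      · intro h
        linear_combination -h
  obtain ⟨d, hd⟩ : ∃ d, d = orderOf t := ⟨_, rfl⟩
  have hfer : t ^ (s - 1) = 1 := ZMod.pow_card_sub_one_eq_one ht0
  have hdpos : 0 < d := by
    rw [hd]
    exact Nat.pos_of_dvd_of_pos (orderOf_dvd_of_pow_eq_one hfer) (by have := hs.two_le; omega)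
  have hd2 : ¬ d ∣ 2 := by
    intro h
    have h1 : t ^ 2 = 1 := by
      rw [hd] at h
      exact orderOf_dvd_iff_pow_eq_one.mp h
    have h2 := (hkey 2).mp h1
    rw [if_pos (by decide)] at h2
    exact hs2 h2
  have hd3 : 3 ≤ d := by
    rcases d with _ | _ | _ | d
    · omega
    · exact absurd (one_dvd 2) hd2
    · exact absurd (dvd_refl 2) hd2
    · omega
  refine ⟨d, hd3, ?_, ?_, ?_⟩
  · intro k hk
    rw [hd]
    apply orderOf_dvd_of_pow_eq_one
    rw [hkey]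
    by_cases hev : Even k
    · rw [if_pos hev] at hk ⊢
      exact ((Nat.Prime.dvd_mul hs).mp hk).resolve_left (fun h => hsq (hs.dvd_of_dvd_pow h))
    · rw [if_neg hev] at hk ⊢
      exact ((Nat.Prime.dvd_mul hs).mp hk).resolve_left (fun h => hsq (hs.dvd_of_dvd_pow h))
  · intro k hk
    rw [hd]
    apply orderOf_dvd_of_pow_eq_one
    have h1 : 1 ≤ (q ^ 2) ^ k := Nat.one_le_pow _ _ (by positivity)
    have h2 : (((q ^ 2) ^ k - 1 : ℕ) : ZMod s) = 0 := (ZMod.natCast_eq_zero_iff _ _).mpr hk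
    rw [Nat.cast_sub h1, Nat.cast_pow, Nat.cast_pow, Nat.cast_one, sub_eq_zero] at h2
    rw [pow_mul, ht, neg_sq]
    exact h2
  · rw [← hkey, hd]
    exact pow_orderOf_eq_one t

section grp
variable {F : Type*} [Field F] [Fintype F] {q : ℕ}

theorem center_pow (hF : Fintype.card F = q ^ 2) {n : ℕ} (hn : 1 ≤ n) (z : SU n F q)
    (hz : z ∈ Subgroup.center (SU n F q)) : z ^ (q + 1) = 1 := by
  obtain ⟨c, -, hc, hzc⟩ := SU_center_scalar hF hn z hz
  apply Subtype.ext
  apply Subtype.ext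
  rw [PU.coe_pow', hzc]
  show (c • (1 : Matrix (Fin n) (Fin n) F)) ^ (q + 1) = 1
  rw [smul_pow, one_pow, pow_succ, mul_comm, hc, one_smul]

theorem exists_lift (hF : Fintype.card F = q ^ 2) {n : ℕ} (hn : 1 ≤ n) (x : PSU n F q) (r : ℕ)
    (hr : r.Prime) (hx : orderOf x = r) (hcop : Nat.Coprime (q + 1) r) :
    ∃ g : SU n F q, (QuotientGroup.mk g : PSU n F q) = x ∧ g ^ r = 1 := by
  obtain ⟨g0, hg0⟩ := QuotientGroup.mk_surjective x
  have hz : g0 ^ r ∈ Subgroup.center (SU n F q) := by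
    rw [← QuotientGroup.eq_one_iff, QuotientGroup.mk_pow, hg0, ← hx, pow_orderOf_eq_one]
  have hz1 := center_pow hF hn _ hz
  obtain ⟨j, -, hj⟩ := Nat.exists_mul_mod_eq_one_of_coprime hcop hr.one_lt
  refine ⟨g0 ^ ((q + 1) * j), ?_, ?_⟩
  · rw [QuotientGroup.mk_pow, hg0, ← pow_mod_orderOf, hx, hj, pow_one]
  · have h1 : (g0 ^ ((q + 1) * j)) ^ r = ((g0 ^ r) ^ (q + 1)) ^ j := by
      rw [← pow_mul, ← pow_mul, ← pow_mul]
      congr 1
      ring
    rw [h1, hz1, one_pow]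

theorem card_su_factor (hF : Fintype.card F = q ^ 2) (k : ℕ) (hk : 2 ≤ k) :
    Nat.card (SU k F q) = q ^ (k * (k - 1) / 2) *
      ∏ i ∈ Finset.range (k - 1),
        (if Even (i + 1) then q ^ (i + 1 + 1) + 1 else q ^ (i + 1 + 1) - 1) := by
  have h := Cfsg.Agent.S0278.result hF k (by omega)
  obtain ⟨j, hj⟩ : ∃ j, k = j + 1 := ⟨k - 1, by omega⟩
  rw [hj] at h ⊢
  rw [Finset.prod_range_succ'] at h
  simp only [Nat.add_sub_cancel] at h ⊢
  have h0 : Even 0 := ⟨0, rfl⟩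
  rw [if_pos h0] at h
  simp only [zero_add, pow_one] at h
  have hpos : 0 < q + 1 := by omega
  apply Nat.eq_of_mul_eq_mul_left hpos
  rw [h]
  ring

theorem key (hF : Fintype.card F = q ^ 2) (p : ℕ) [Fact p.Prime] [CharP F p] (m : ℕ) (hm : 4 ≤ m)
    (a b : PSU m F q) (ha : orderOf a = p) (hab : Commute a b) :
    (orderOf b).primeFactors ⊆ (Nat.card ↥(SU (m - 2) F q)).primeFactors := by
  classical
  intro s hs
  rw [Nat.mem_primeFactors] at hs ⊢
  obtain ⟨hsp, hsdvd, hb0⟩ := hs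
  have hpp : p.Prime := Fact.out
  have hq2 : 2 ≤ q := two_le_q hF
  refine ⟨hsp, ?_, Nat.card_pos.ne'⟩
  have hcard := card_su_factor hF (m - 2) (by omega)
  obtain ⟨e, he⟩ := PU.q_eq_pow p hF
  have he0 : e ≠ 0 := by
    intro h
    rw [h, pow_zero] at he
    omega
  have hpq : p ∣ q := by
    rw [he]
    exact dvd_pow_self p he0
  have hN : 1 ≤ (m - 2) * (m - 2 - 1) / 2 := by
    have h3 : 2 ≤ (m - 2) * (m - 2 - 1) := by
      have h1 : 2 ≤ m - 2 := by omega
      have h2 : 1 ≤ m - 2 - 1 := by omega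
      calc 2 = 2 * 1 := rfl
        _ ≤ (m - 2) * (m - 2 - 1) := Nat.mul_le_mul h1 h2
    omega
  have hqdvd : q ∣ Nat.card ↥(SU (m - 2) F q) := by
    rw [hcard]
    exact Dvd.dvd.mul_right (dvd_pow_self q (by omega)) _
  have hcdvd : ∀ i, i < m - 2 - 1 →
      (if Even (i + 1) then q ^ (i + 1 + 1) + 1 else q ^ (i + 1 + 1) - 1) ∣
        Nat.card ↥(SU (m - 2) F q) := by
    intro i hi
    rw [hcard]
    exact Dvd.dvd.mul_left (Finset.dvd_prod_of_mem _ (Finset.mem_range.mpr hi)) _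
  by_cases hsq : s ∣ q
  · exact hsq.trans hqdvd
  by_cases hs2 : s ∣ q ^ 2 - 1
  · have h1 := hcdvd 0 (by omega)
    rw [if_neg (by decide)] at h1
    exact hs2.trans h1
  have hsp' : s ≠ p := fun h => hsq (h ▸ hpq)
  obtain ⟨d, hd3, hD, hQ, hdd⟩ := nt s q hsp hsq hs2 hq2
  obtain ⟨c, hc⟩ : ∃ c : PSU m F q, c = b ^ (orderOf b / s) := ⟨_, rfl⟩
  have hcs : orderOf c = s := by
    rw [hc]
    exact orderOf_pow_orderOf_div hb0 hsdvd
  have hac : Commute a c := by
    rw [hc]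
    exact hab.pow_right _
  have hcop_p : Nat.Coprime (q + 1) p := by
    rw [Nat.coprime_comm, Nat.Prime.coprime_iff_not_dvd hpp]
    intro h
    have h1 := (Nat.dvd_add_right hpq).mp h
    exact hpp.one_lt.ne' (Nat.dvd_one.mp h1)
  have hcop_s : Nat.Coprime (q + 1) s := by
    rw [Nat.coprime_comm, Nat.Prime.coprime_iff_not_dvd hsp]
    intro h
    apply hs2
    have h1 : q ^ 2 - 1 = (q + 1) * (q - 1) := by
      obtain ⟨j, hj⟩ : ∃ j, q = j + 1 := ⟨q - 1, by omega⟩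
      rw [hj]
      simp only [Nat.add_sub_cancel]
      have h2 : (j + 1) ^ 2 = (j + 1 + 1) * j + 1 := by ring
      omega
    rw [h1]
    exact Dvd.dvd.mul_right h _
  obtain ⟨ga, hga, hgap⟩ := exists_lift hF (by omega) a p hpp ha hcop_p
  obtain ⟨gc, hgc, hgcs⟩ := exists_lift hF (by omega) c s hsp hcs hcop_s
  have hcomm : ga * gc = gc * ga := by
    apply commute_of_center ga gc p s ((Nat.coprime_primes hpp hsp).mpr (Ne.symm hsp')) hgap hgcs
    rw [← QuotientGroup.eq_one_iff, QuotientGroup.mk_mul, QuotientGroup.mk_mul,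
      QuotientGroup.mk_mul, QuotientGroup.mk_inv, QuotientGroup.mk_inv, hga, hgc, hac.eq]
    group
  obtain ⟨X, hXdef⟩ : ∃ X : Matrix (Fin m) (Fin m) F, X = gc.1.1 := ⟨_, rfl⟩
  obtain ⟨A, hAdef⟩ : ∃ A : Matrix (Fin m) (Fin m) F, A = ga.1.1 := ⟨_, rfl⟩
  have hXs : X ^ s = 1 := by
    rw [hXdef, ← PU.coe_pow', hgcs]
    rfl
  have hAp : A ^ p = 1 := by
    rw [hAdef, ← PU.coe_pow', hgap]
    rfl
  have hX1 : X ≠ 1 := by
    intro h
    have h1 : gc = 1 := by
      apply Subtype.ext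
      apply Subtype.ext
      rw [← hXdef, h]
      rfl
    rw [h1] at hgc
    rw [← hgc, QuotientGroup.mk_one, orderOf_one] at hcs
    exact hsp.one_lt.ne hcs
  have hA1 : A ≠ 1 := by
    intro h
    have h1 : ga = 1 := by
      apply Subtype.ext
      apply Subtype.ext
      rw [← hAdef, h]
      rfl
    rw [h1] at hga
    rw [← hga, QuotientGroup.mk_one, orderOf_one] at ha
    exact hpp.one_lt.ne ha
  have hXA : X * A = A * X := by
    rw [hXdef, hAdef]
    have h1 := congrArg (fun g : SU m F q => g.1.1) hcomm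
    exact h1.symm
  have hsF : (s : F) ≠ 0 := by
    intro h
    have h1 := (CharP.cast_eq_zero_iff F p s).mp h
    exact hsp' ((Nat.prime_dvd_prime_iff_eq hpp hsp).mp h1).symm
  have hXP : HPres m q X := by
    rw [hXdef]
    exact (mem_SU_iff gc.1).mp gc.2
  have hAP : HPres m q A := by
    rw [hAdef]
    exact (mem_SU_iff ga.1).mp ga.2
  have hdle := main_mat hF p hm X A hXP hAP s hsp hXs hX1 hAp hA1 hXA hsF d hd3
    (fun k hk => hD k (by rw [← hcount_one hF k]; exact hk)) hQ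
  have h1 := hcdvd (d - 2) (by omega)
  have hexp : d - 2 + 1 + 1 = d := by omega
  rw [hexp] at h1
  rcases Nat.even_or_odd d with hde | hdo
  · rw [if_pos hde] at hdd
    have hodd1 : ¬ Even (d - 2 + 1) := by
      rw [Nat.not_even_iff_odd]
      obtain ⟨j, hj⟩ := hde
      exact ⟨j - 1, by omega⟩
    rw [if_neg hodd1] at h1
    exact hdd.trans h1
  · rw [if_neg (Nat.not_even_iff_odd.mpr hdo)] at hdd
    have hev1 : Even (d - 2 + 1) := by
      obtain ⟨j, hj⟩ := hdo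
      exact ⟨j, by omega⟩
    rw [if_pos hev1] at h1
    exact hdd.trans h1

end grp

end Cfsg.Agent.Helper15.UA
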