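import Mathlib
import Cfsg.Agent.Helper15.UI

/-! Rank-one description of the involutions of `SU 3 F q` (odd `q`) and commutation. -/

namespace Cfsg.Agent.Helper15.UJ

open Cfsg Cfsg.Agent.Helper3 Cfsg.Agent.Helper15.PU Cfsg.Agent.Helper15.UI

variable {F : Type*} [Field F] [Fintype F] {q : ℕ}

/-- `X = 2 w w^* - 1` for a unit vector `w` -/
def IsVec (q : ℕ) (X : Matrix (Fin 3) (Fin 3) F) (w : Fin 3 → F) : Prop :=
  hermForm 3 F q w w = 1 ∧ ∀ i j, X i j = 2 * w i * (w j) ^ q - (if i = j then 1 else 0)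

theorem herm_sub' {n : ℕ} (a b c : Fin n → F) :
    hermForm n F q (a - b) c = hermForm n F q a c - hermForm n F q b c := by
  unfold hermForm
  simp only [Pi.sub_apply, sub_mul, Finset.sum_sub_distrib]

theorem herm_conj (hF : Fintype.card F = q ^ 2) {n : ℕ} (u w : Fin n → F) :
    hermForm n F q u w ^ q = hermForm n F q w u := by
  obtain ⟨φ, hφ, hφ2⟩ := exists_frob hF
  rw [← hφ, herm_phi φ hφ, herm_phi φ hφ, map_sum]
  apply Finset.sum_congr rfl
  intro i _
  rw [map_mul, hφ2, mul_comm]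

theorem vec_mulVec (X : Matrix (Fin 3) (Fin 3) F) (w : Fin 3 → F) (hX : IsVec q X w)
    (v : Fin 3 → F) : X.mulVec v = (2 * hermForm 3 F q v w) • w - v := by
  funext i
  rw [Matrix.mulVec, dotProduct]
  simp only [hX.2, Pi.sub_apply, Pi.smul_apply, smul_eq_mul]
  unfold hermForm
  rw [Fin.sum_univ_three, Fin.sum_univ_three]
  fin_cases i <;> simp <;> ring

theorem vec_fix (X : Matrix (Fin 3) (Fin 3) F) (w : Fin 3 → F) (hX : IsVec q X w) :
    X.mulVec w = w := by
  rw [vec_mulVec X w hX, hX.1, mul_one, two_smul]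
  abel

/-- orthogonal vectors give commuting involutions -/
theorem comm_of_orth (hF : Fintype.card F = q ^ 2) (X Y : Matrix (Fin 3) (Fin 3) F)
    (w u : Fin 3 → F) (hX : IsVec q X w) (hY : IsVec q Y u) (h : hermForm 3 F q u w = 0) :
    X * Y = Y * X := by
  have h' : hermForm 3 F q w u = 0 := by
    rw [← herm_conj hF, h, zero_pow]
    have := two_le_q hF; omega
  have key : ∀ v : Fin 3 → F, (X * Y).mulVec v = (Y * X).mulVec v := by
    intro v
    rw [← Matrix.mulVec_mulVec, ← Matrix.mulVec_mulVec, vec_mulVec Y u hY v, vec_mulVec X w hX v,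
      vec_mulVec X w hX, vec_mulVec Y u hY, herm_sub', herm_sub', herm_smul_left,
      herm_smul_left, h, h']
    funext i
    simp only [Pi.sub_apply, Pi.smul_apply, smul_eq_mul]
    ring
  ext i j
  have := congrFun (key (Pi.single j 1)) i
  rw [Matrix.mulVec_single_one, Matrix.mulVec_single_one] at this
  exact this

/-- commuting distinct involutions have orthogonal vectors -/
theorem orth_of_comm (hF : Fintype.card F = q ^ 2) (h2F : (2 : F) ≠ 0)
    (X Y : Matrix (Fin 3) (Fin 3) F)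
    (w u : Fin 3 → F) (hX : IsVec q X w) (hY : IsVec q Y u) (hc : X * Y = Y * X)
    (hne : X ≠ Y) : hermForm 3 F q w u = 0 := by
  by_contra h0
  apply hne
  have h1 : X.mulVec (Y.mulVec w) = Y.mulVec w := by
    rw [Matrix.mulVec_mulVec, hc, ← Matrix.mulVec_mulVec, vec_fix X w hX]
  rw [vec_mulVec X w hX (Y.mulVec w)] at h1
  set c := hermForm 3 F q (Y.mulVec w) w with hc'
  have h2 : Y.mulVec w = c • w := by
    funext i
    have := congrFun h1 i
    simp only [Pi.sub_apply, Pi.smul_apply, smul_eq_mul] at this ⊢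
    have h3 : (2 : F) * (Y.mulVec w i - c * w i) = 0 := by linear_combination -this
    have := (mul_eq_zero.mp h3).resolve_left h2F
    linear_combination this
  rw [vec_mulVec Y u hY w] at h2
  set κ := (2 * hermForm 3 F q w u)⁻¹ * (1 + c) with hκ
  have hu : u = κ • w := by
    funext i
    have := congrFun h2 i
    simp only [Pi.sub_apply, Pi.smul_apply, smul_eq_mul] at this ⊢
    have hne2 : 2 * hermForm 3 F q w u ≠ 0 := mul_ne_zero h2F h0
    rw [hκ]
    field_simp
    linear_combination this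
  have hκ1 : κ * κ ^ q = 1 := by
    have := hY.1
    rw [hu, herm_smul_left, herm_smul_right, hX.1, mul_one] at this
    exact this
  ext i j
  rw [hX.2, hY.2, hu]
  simp only [Pi.smul_apply, smul_eq_mul, mul_pow]
  linear_combination (-2 * w i * w j ^ q) * hκ1

theorem conj_entries (φ : F →+* F) (M : Matrix (Fin 3) (Fin 3) F)
    (hM : M.transpose * M.map φ = 1) (i j : Fin 3) :
    (M * (D0 : Matrix (Fin 3) (Fin 3) F) * (M.map φ).transpose) i j =
      2 * M i 2 * φ (M j 2) - (if i = j then 1 else 0) := by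
  have h1 : (M.map φ).transpose * M = 1 := by
    have := congrArg Matrix.transpose hM
    rw [Matrix.transpose_mul, Matrix.transpose_transpose, Matrix.transpose_one] at this
    exact this
  have h2 : M * (M.map φ).transpose = 1 := mul_eq_one_comm.mp h1
  have e := congrFun (congrFun h2 i) j
  simp only [Matrix.mul_apply, Fin.sum_univ_three, Matrix.transpose_apply, Matrix.map_apply,
    Matrix.one_apply] at e
  simp [Matrix.mul_apply, Fin.sum_univ_three, D0]
  linear_combination -e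

theorem inv_coe (g : SU 3 F q) (hF : Fintype.card F = q ^ 2) (φ : F →+* F)
    (hφ : ∀ x, φ x = x ^ q) : (g⁻¹).1.1 = (g.1.1.map φ).transpose := by
  have hq : q ≠ 0 := by have := two_le_q hF; omega
  have hM := (hpres_iff φ hφ hq g.1.1).mp g.2
  have h1 : (g.1.1.map φ).transpose * g.1.1 = 1 := by
    have := congrArg Matrix.transpose hM
    rw [Matrix.transpose_mul, Matrix.transpose_transpose, Matrix.transpose_one] at this
    exact this
  have h2 : g.1.1 * (g⁻¹).1.1 = 1 := congrArg (fun x : SU 3 F q => x.1.1) (mul_inv_cancel g)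
  calc (g⁻¹).1.1 = ((g.1.1.map φ).transpose * g.1.1) * (g⁻¹).1.1 := by rw [h1, one_mul]
    _ = (g.1.1.map φ).transpose := by rw [mul_assoc, h2, mul_one]

theorem vec_of_conj (hq : Odd q) (hF : Fintype.card F = q ^ 2) (g : SU 3 F q) :
    IsVec q (g * d0 hq * g⁻¹).1.1 (fun i => g.1.1 i 2) := by
  have hq0 : q ≠ 0 := by have := two_le_q hF; omega
  obtain ⟨φ, hφ, hφ2⟩ := exists_frob hF
  have hM := (hpres_iff φ hφ hq0 g.1.1).mp g.2
  constructor
  · have := congrFun (congrFun hM 2) 2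
    rw [Matrix.mul_apply] at this
    simp only [Matrix.transpose_apply, Matrix.map_apply, Matrix.one_apply_eq] at this
    rw [herm_phi φ hφ]
    exact this
  · intro i j
    have e : (g * d0 hq * g⁻¹).1.1 = g.1.1 * D0 * (g.1.1.map φ).transpose := by
      rw [← inv_coe g hF φ hφ]; rfl
    rw [e, conj_entries φ g.1.1 hM i j, hφ]

/-- every involution has a vector -/
theorem exists_vec (hq : Odd q) (hF : Fintype.card F = q ^ 2) (x : SU 3 F q) (hx : x ≠ 1)
    (hx2 : x * x = 1) : ∃ w, IsVec q x.1.1 w := by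
  obtain ⟨g, hg⟩ := conj_d0 hq hF (two_ne hq hF) x hx hx2
  exact ⟨_, hg ▸ vec_of_conj hq hF g⟩

theorem d0_ne_one (hq : Odd q) (hF : Fintype.card F = q ^ 2) : (d0 hq : SU 3 F q) ≠ 1 := by
  intro h
  exact D0_ne_one (two_ne hq hF) (congrArg (fun x : SU 3 F q => x.1.1) h)

theorem d0_sq (hq : Odd q) : (d0 hq : SU 3 F q) * d0 hq = 1 := ext_SU D0_sq

/-- every unit vector is the vector of an involution -/
theorem exists_inv_of_vec (hq : Odd q) (hF : Fintype.card F = q ^ 2) (w : Fin 3 → F)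
    (hw : hermForm 3 F q w w = 1) :
    ∃ x : SU 3 F q, x ≠ 1 ∧ x * x = 1 ∧ IsVec q x.1.1 w := by
  have hq0 : q ≠ 0 := by have := two_le_q hF; omega
  have he : hermForm 3 F q (Pi.single 2 1 : Fin 3 → F) (Pi.single 2 1) = 1 := by
    rw [herm_single hq0]; simp
  obtain ⟨M, hM, hMe⟩ := exists_pres hF (Pi.single 2 1 : Fin 3 → F) w he hw
  have hδ := det_norm hF M hM
  have hδ0 : M.det ≠ 0 := by
    intro h0; rw [h0, zero_mul] at hδ; exact zero_ne_one hδ
  set Δ : Matrix (Fin 3) (Fin 3) F := Matrix.diagonal ![(M.det)⁻¹, 1, 1] with hΔ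
  have hΔp : HPres 3 q Δ := by
    apply diag_pres
    intro i
    fin_cases i
    · show (M.det)⁻¹ * ((M.det)⁻¹) ^ q = 1
      rw [inv_pow, ← mul_inv, hδ, inv_one]
    · simp
    · simp
  have hdet : (M * Δ).det = 1 := by
    rw [Matrix.det_mul, hΔ, Matrix.det_diagonal, Fin.prod_univ_three]
    simp only [Matrix.cons_val_zero, Matrix.cons_val_one, Matrix.cons_val_two,
      Matrix.head_cons, Matrix.tail_cons, mul_one]
    exact mul_inv_cancel₀ hδ0
  let g : SU 3 F q := ⟨⟨M * Δ, hdet⟩, hM.mul hΔp⟩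
  have hcol : ∀ i, g.1.1 i 2 = w i := by
    intro i
    show (M * Δ) i 2 = w i
    rw [hΔ, Matrix.mul_diagonal]
    have := congrFun hMe i
    rw [Matrix.mulVec_single_one] at this
    simpa using this
  refine ⟨g * d0 hq * g⁻¹, ?_, ?_, ?_⟩
  · intro h
    apply d0_ne_one hq hF
    have : d0 hq = g⁻¹ * (g * d0 hq * g⁻¹) * g := by group
    rw [this, h]; group
  · calc g * d0 hq * g⁻¹ * (g * d0 hq * g⁻¹) = g * (d0 hq * d0 hq) * g⁻¹ := by group
      _ = 1 := by rw [d0_sq]; group
  · have := vec_of_conj hq hF g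
    have e : (fun i => g.1.1 i 2) = w := funext hcol
    rw [e] at this
    exact this

theorem d0_vec (hq : Odd q) (hF : Fintype.card F = q ^ 2) :
    IsVec q (d0 hq : SU 3 F q).1.1 (Pi.single 2 1) := by
  have h := vec_of_conj hq hF (1 : SU 3 F q)
  have e1 : (1 : SU 3 F q) * d0 hq * (1 : SU 3 F q)⁻¹ = d0 hq := by group
  have e2 : (fun i => (1 : SU 3 F q).1.1 i 2) = (Pi.single 2 1 : Fin 3 → F) := by
    funext i
    show (1 : Matrix (Fin 3) (Fin 3) F) i 2 = _
    rw [Matrix.one_apply, Pi.single_apply]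
  rw [e1, e2] at h
  exact h

/-- normalisation of a non-isotropic vector -/
theorem exists_unit (hF : Fintype.card F = q ^ 2) (a : Fin 3 → F)
    (ha : hermForm 3 F q a a ≠ 0) :
    ∃ μ : F, μ ≠ 0 ∧ hermForm 3 F q (μ⁻¹ • a) (μ⁻¹ • a) = 1 := by
  obtain ⟨μ, hμ⟩ := exists_norm hF _ ha (herm_conj hF a a)
  have hμ0 : μ ≠ 0 := by
    rintro rfl
    rw [zero_mul] at hμ
    exact ha hμ.symm
  refine ⟨μ, hμ0, ?_⟩
  rw [herm_smul_left, herm_smul_right, ← hμ, inv_pow]
  field_simp


theorem herm3 (u v : Fin 3 → F) :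
    hermForm 3 F q u v = u 0 * v 0 ^ q + u 1 * v 1 ^ q + u 2 * v 2 ^ q := by
  unfold hermForm
  rw [Fin.sum_univ_three]

theorem vec_scale (X : Matrix (Fin 3) (Fin 3) F) (w : Fin 3 → F) (hX : IsVec q X w) (c : F)
    (hc : c * c ^ q = 1) : IsVec q X (c • w) := by
  constructor
  · rw [herm_smul_left, herm_smul_right, hX.1, mul_one, hc]
  · intro i j
    rw [hX.2]
    simp only [Pi.smul_apply, smul_eq_mul, mul_pow]
    linear_combination (-2 * w i * w j ^ q) * hc

theorem vec_ext (X Y : Matrix (Fin 3) (Fin 3) F) (w : Fin 3 → F) (hX : IsVec q X w)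
    (hY : IsVec q Y w) : X = Y := by
  ext i j
  rw [hX.2, hY.2]

/-- group-level commutation from orthogonality -/
theorem comm_grp (hF : Fintype.card F = q ^ 2) (x y : SU 3 F q) (w u : Fin 3 → F)
    (hX : IsVec q x.1.1 w) (hY : IsVec q y.1.1 u) (h : hermForm 3 F q u w = 0) : Commute x y :=
  ext_SU (comm_of_orth hF x.1.1 y.1.1 w u hX hY h)

/-- group-level orthogonality from commutation -/
theorem orth_grp (hq : Odd q) (hF : Fintype.card F = q ^ 2) (x y : SU 3 F q) (w u : Fin 3 → F)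
    (hX : IsVec q x.1.1 w) (hY : IsVec q y.1.1 u) (hc : Commute x y) (hne : x ≠ y) :
    hermForm 3 F q w u = 0 :=
  orth_of_comm hF (two_ne hq hF) x.1.1 y.1.1 w u hX hY
    (congrArg (fun z : SU 3 F q => z.1.1) hc.eq) (fun h => hne (ext_SU h))

/-- involution from a non-isotropic vector -/
theorem exists_inv_of_ne (hq : Odd q) (hF : Fintype.card F = q ^ 2) (a : Fin 3 → F)
    (ha : hermForm 3 F q a a ≠ 0) :
    ∃ (y : SU 3 F q) (μ : F), y ≠ 1 ∧ y * y = 1 ∧ IsVec q y.1.1 (μ⁻¹ • a) := by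
  obtain ⟨μ, hμ0, hμ⟩ := exists_unit hF a ha
  obtain ⟨y, hy, hy2, hY⟩ := exists_inv_of_vec hq hF _ hμ
  exact ⟨y, μ, hy, hy2, hY⟩

/-- `d0` commutes with the involution of a vector with vanishing last coordinate -/
theorem comm_d0_of (hq : Odd q) (hF : Fintype.card F = q ^ 2) (x : SU 3 F q) (w : Fin 3 → F)
    (hX : IsVec q x.1.1 w) (h : w 2 = 0) : Commute (d0 hq) x := by
  apply comm_grp hF (d0 hq) x (Pi.single 2 1) w (d0_vec hq hF) hX
  rw [herm3]
  have hq0 : q ≠ 0 := by have := two_le_q hF; omega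
  simp [h, hq0]

/-- an involution commuting with `d0` other than `d0` has vanishing last coordinate -/
theorem w2_of_comm (hq : Odd q) (hF : Fintype.card F = q ^ 2) (x : SU 3 F q) (w : Fin 3 → F)
    (hX : IsVec q x.1.1 w) (hc : Commute (d0 hq) x) (hne : x ≠ d0 hq) : w 2 = 0 := by
  have h := orth_grp hq hF x (d0 hq) w (Pi.single 2 1) hX (d0_vec hq hF) hc.symm hne
  rw [herm3] at h
  have hq0 : q ≠ 0 := by have := two_le_q hF; omega
  simpa [hq0] using h

end Cfsg.Agent.Helper15.UJ
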