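import Mathlib
import Cfsg.Agent.Helper15.UJ

/-! The commuting involution graph of `SU 3 F q` (odd `q`) at the standard involution. -/

namespace Cfsg.Agent.Helper15.UK

open Cfsg Cfsg.Agent.Helper3 Cfsg.Agent.Helper15.PU Cfsg.Agent.Helper15.UI
  Cfsg.Agent.Helper15.UJ

section generic

theorem card_split {α : Type*} [Finite α] (p r : α → Prop) :
    Nat.card {x // p x} = Nat.card {x // p x ∧ r x} + Nat.card {x // p x ∧ ¬ r x} := by
  classical
  haveI := Fintype.ofFinite α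
  simp only [Nat.card_eq_fintype_card, Fintype.card_subtype]
  rw [← Finset.filter_filter, ← Finset.filter_filter,
    Finset.card_filter_add_card_filter_not]

theorem card_one {α : Type*} (p : α → Prop) (t : α) (ht : p t) :
    Nat.card {x // p x ∧ x = t} = 1 := by
  rw [Nat.card_eq_one_iff_unique]
  exact ⟨⟨fun a b => Subtype.ext (a.2.2.trans b.2.2.symm)⟩, ⟨⟨t, ht, rfl⟩⟩⟩

/-- partition of the involutions relative to an involution `t` -/
theorem partition {G : Type*} [Group G] [Finite G] (t : G) (ht : t ≠ 1) (ht2 : t * t = 1) :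
    Nat.card {x : G // x ≠ 1 ∧ x * x = 1} =
      1 + Nat.card {x : G // x ≠ 1 ∧ x * x = 1 ∧ x ≠ t ∧ Commute t x} +
      Nat.card {x : G // x ≠ 1 ∧ x * x = 1 ∧ ¬ Commute t x ∧
        ∃ y : G, y ≠ 1 ∧ y * y = 1 ∧ Commute t y ∧ Commute y x} +
      Nat.card {x : G // x ≠ 1 ∧ x * x = 1 ∧ ¬ Commute t x ∧
        ∀ y : G, y ≠ 1 → y * y = 1 → ¬ (Commute t y ∧ Commute y x)} := by
  rw [card_split (fun x : G => x ≠ 1 ∧ x * x = 1) (fun x => x = t),
    card_one (fun x : G => x ≠ 1 ∧ x * x = 1) t ⟨ht, ht2⟩,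
    card_split (fun x : G => (x ≠ 1 ∧ x * x = 1) ∧ ¬ x = t) (fun x => Commute t x),
    card_split (fun x : G => ((x ≠ 1 ∧ x * x = 1) ∧ ¬ x = t) ∧ ¬ Commute t x)
      (fun x => ∃ y : G, y ≠ 1 ∧ y * y = 1 ∧ Commute t y ∧ Commute y x)]
  have e1 : Nat.card {x : G // ((x ≠ 1 ∧ x * x = 1) ∧ ¬ x = t) ∧ Commute t x} =
      Nat.card {x : G // x ≠ 1 ∧ x * x = 1 ∧ x ≠ t ∧ Commute t x} :=
    Nat.card_congr (Equiv.subtypeEquivRight (fun x => by tauto))
  have e2 : Nat.card {x : G // (((x ≠ 1 ∧ x * x = 1) ∧ ¬ x = t) ∧ ¬ Commute t x) ∧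
        ∃ y : G, y ≠ 1 ∧ y * y = 1 ∧ Commute t y ∧ Commute y x} =
      Nat.card {x : G // x ≠ 1 ∧ x * x = 1 ∧ ¬ Commute t x ∧
        ∃ y : G, y ≠ 1 ∧ y * y = 1 ∧ Commute t y ∧ Commute y x} := by
    apply Nat.card_congr (Equiv.subtypeEquivRight (fun x => ?_))
    constructor
    · rintro ⟨⟨⟨h1, -⟩, h2⟩, h3⟩
      exact ⟨h1.1, h1.2, h2, h3⟩
    · rintro ⟨h1, h2, h3, h4⟩
      exact ⟨⟨⟨⟨h1, h2⟩, fun h => h3 (h ▸ Commute.refl t)⟩, h3⟩, h4⟩
  have e3 : Nat.card {x : G // (((x ≠ 1 ∧ x * x = 1) ∧ ¬ x = t) ∧ ¬ Commute t x) ∧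
        ¬ ∃ y : G, y ≠ 1 ∧ y * y = 1 ∧ Commute t y ∧ Commute y x} =
      Nat.card {x : G // x ≠ 1 ∧ x * x = 1 ∧ ¬ Commute t x ∧
        ∀ y : G, y ≠ 1 → y * y = 1 → ¬ (Commute t y ∧ Commute y x)} := by
    apply Nat.card_congr (Equiv.subtypeEquivRight (fun x => ?_))
    constructor
    · rintro ⟨⟨⟨h1, -⟩, h2⟩, h3⟩
      exact ⟨h1.1, h1.2, h2, fun y hy hy2 hc => h3 ⟨y, hy, hy2, hc.1, hc.2⟩⟩
    · rintro ⟨h1, h2, h3, h4⟩
      refine ⟨⟨⟨⟨h1, h2⟩, fun h => h3 (h ▸ Commute.refl t)⟩, h3⟩, ?_⟩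
      rintro ⟨y, hy, hy2, hc1, hc2⟩
      exact h4 y hy hy2 ⟨hc1, hc2⟩
  rw [e1, e2, e3]
  ring

section transport

variable {G : Type*} [Group G] (e : G ≃* G)

theorem tr_ne (x : G) : e x ≠ 1 ↔ x ≠ 1 := by
  rw [Ne, Ne, MulEquiv.map_eq_one_iff]

theorem tr_sq (x : G) : e x * e x = 1 ↔ x * x = 1 := by
  rw [← map_mul, MulEquiv.map_eq_one_iff]

theorem tr_comm (a b : G) : Commute (e a) (e b) ↔ Commute a b := by
  constructor
  · intro h
    have := h.eq
    rw [← map_mul, ← map_mul] at this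
    exact e.injective this
  · intro h
    exact h.map e

end transport

/-- the statement about the commuting involution graph at `t` -/
def Stmt {G : Type*} [Group G] (t : G) (n1 n2 n3 : ℕ) : Prop :=
    Nat.card {x : G // x ≠ 1 ∧ x * x = 1 ∧ x ≠ t ∧ Commute t x} = n1 ∧
    Nat.card {x : G // x ≠ 1 ∧ x * x = 1 ∧ ¬ Commute t x ∧
        ∃ y : G, y ≠ 1 ∧ y * y = 1 ∧ Commute t y ∧ Commute y x} = n2 ∧
    Nat.card {x : G // x ≠ 1 ∧ x * x = 1 ∧ ¬ Commute t x ∧
        ∀ y : G, y ≠ 1 → y * y = 1 → ¬ (Commute t y ∧ Commute y x)} = n3 ∧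
    ∀ x : G, x ≠ 1 → x * x = 1 →
      ∃ y z : G, y ≠ 1 ∧ y * y = 1 ∧ z ≠ 1 ∧ z * z = 1 ∧
        Commute t y ∧ Commute y z ∧ Commute z x

theorem transport {G : Type*} [Group G] (e : G ≃* G) (t : G) (n1 n2 n3 : ℕ)
    (h : Stmt (e t) n1 n2 n3) : Stmt t n1 n2 n3 := by
  obtain ⟨h1, h2, h3, h4⟩ := h
  refine ⟨?_, ?_, ?_, ?_⟩
  · rw [← h1]
    apply Nat.card_congr (e.toEquiv.subtypeEquiv (fun x => ?_))
    show _ ↔ e x ≠ 1 ∧ e x * e x = 1 ∧ e x ≠ e t ∧ Commute (e t) (e x)
    rw [tr_ne, tr_sq, tr_comm, e.injective.ne_iff]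
  · rw [← h2]
    apply Nat.card_congr (e.toEquiv.subtypeEquiv (fun x => ?_))
    show _ ↔ e x ≠ 1 ∧ e x * e x = 1 ∧ ¬ Commute (e t) (e x) ∧
      ∃ y, y ≠ 1 ∧ y * y = 1 ∧ Commute (e t) y ∧ Commute y (e x)
    have hex : (∃ y, y ≠ 1 ∧ y * y = 1 ∧ Commute (e t) y ∧ Commute y (e x)) ↔
        ∃ y, y ≠ 1 ∧ y * y = 1 ∧ Commute t y ∧ Commute y x := by
      rw [e.surjective.exists]
      simp only [tr_ne, tr_sq, tr_comm]
    rw [hex, tr_ne, tr_sq, tr_comm]
  · rw [← h3]
    apply Nat.card_congr (e.toEquiv.subtypeEquiv (fun x => ?_))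
    show _ ↔ e x ≠ 1 ∧ e x * e x = 1 ∧ ¬ Commute (e t) (e x) ∧
      ∀ y, y ≠ 1 → y * y = 1 → ¬ (Commute (e t) y ∧ Commute y (e x))
    have hall : (∀ y, y ≠ 1 → y * y = 1 → ¬ (Commute (e t) y ∧ Commute y (e x))) ↔
        ∀ y, y ≠ 1 → y * y = 1 → ¬ (Commute t y ∧ Commute y x) := by
      rw [e.surjective.forall]
      simp only [tr_ne, tr_sq, tr_comm]
    rw [hall, tr_ne, tr_sq, tr_comm]
  · intro x hx hx2
    obtain ⟨y, z, hy, hy2, hz, hz2, c1, c2, c3⟩ :=
      h4 (e x) ((tr_ne e x).mpr hx) ((tr_sq e x).mpr hx2)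
    obtain ⟨y, rfl⟩ := e.surjective y
    obtain ⟨z, rfl⟩ := e.surjective z
    exact ⟨y, z, (tr_ne e y).mp hy, (tr_sq e y).mp hy2, (tr_ne e z).mp hz, (tr_sq e z).mp hz2,
      (tr_comm e t y).mp c1, (tr_comm e y z).mp c2, (tr_comm e z x).mp c3⟩

end generic

variable {F : Type*} [Field F] [Fintype F] {q : ℕ}

open scoped Classical

/-- fixed points of the Frobenius map -/
theorem card_fix (hF : Fintype.card F = q ^ 2) :
    (Finset.univ.filter (fun a : F => a ^ q = a)).card = q := by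
  classical
  have hq2 := two_le_q hF
  have h := Finset.card_eq_sum_card_fiberwise (s := (Finset.univ : Finset F))
    (t := Finset.univ.filter (fun a : F => a ^ q = a)) (f := fun x => x * x ^ q)
    (fun x _ => by simp [norm_fixed hF x])
  rw [Finset.card_univ, hF] at h
  have hfib : ∀ c ∈ Finset.univ.filter (fun a : F => a ^ q = a),
      (Finset.univ.filter (fun x : F => x * x ^ q = c)).card + (if c = 0 then q else 0) =
        q + 1 := by
    intro c hc
    rw [Finset.mem_filter] at hc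
    by_cases hc0 : c = 0
    · subst hc0
      rw [if_pos rfl]
      have : Finset.univ.filter (fun x : F => x * x ^ q = 0) = {0} := by
        ext x
        simp only [Finset.mem_filter, Finset.mem_univ, true_and, Finset.mem_singleton]
        constructor
        · intro h
          rcases mul_eq_zero.mp h with h | h
          · exact h
          · exact pow_eq_zero_iff (by omega) |>.mp h
        · rintro rfl; simp
      rw [this, Finset.card_singleton]; ring
    · rw [if_neg hc0, norm_fiber hF c hc0 hc.2, add_zero]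
  have h2 : ∑ c ∈ Finset.univ.filter (fun a : F => a ^ q = a),
      ((Finset.univ.filter (fun x : F => x * x ^ q = c)).card + (if c = 0 then q else 0)) =
      (Finset.univ.filter (fun a : F => a ^ q = a)).card * (q + 1) := by
    rw [Finset.sum_congr rfl hfib, Finset.sum_const, smul_eq_mul]
  rw [Finset.sum_add_distrib, ← h, Finset.sum_ite_eq'] at h2
  have h0 : (0 : F) ∈ Finset.univ.filter (fun a : F => a ^ q = a) := by
    simp; omega
  rw [if_pos h0] at h2
  have h3 : q * (q + 1) = (Finset.univ.filter (fun a : F => a ^ q = a)).card * (q + 1) := by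
    rw [← h2]; ring
  exact (Nat.eq_of_mul_eq_mul_right (by omega) h3).symm


theorem norm_zero (hF : Fintype.card F = q ^ 2) (x : F) (h : x * x ^ q = 0) : x = 0 := by
  have hq2 := two_le_q hF
  rcases mul_eq_zero.mp h with h | h
  · exact h
  · exact pow_eq_zero_iff (by omega) |>.mp h

/-- the number of pairs `(a, b)` with `a` Frobenius-fixed and `a ^ 2 + b * b ^ q = 1` -/
theorem card_P (hq : Odd q) (hF : Fintype.card F = q ^ 2) (h2F : (2 : F) ≠ 0) :
    Nat.card {p : F × F // p.1 ^ q = p.1 ∧ p.1 ^ 2 + p.2 * p.2 ^ q = 1} = q * (q - 1) := by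
  have hq2 := two_le_q hF
  have hne : (1 : F) ≠ -1 := by
    intro h
    apply h2F
    linear_combination h
  rw [Nat.card_eq_fintype_card, Fintype.card_subtype, Finset.card_filter, Fintype.sum_prod_type]
  have hinner : ∀ a : F, (∑ b : F, if a ^ q = a ∧ a ^ 2 + b * b ^ q = 1 then 1 else 0) =
      if a ^ q = a then (Finset.univ.filter (fun b : F => a ^ 2 + b * b ^ q = 1)).card else 0 := by
    intro a
    by_cases ha : a ^ q = a
    · rw [if_pos ha, Finset.card_filter]
      simp only [ha, true_and]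
    · simp [ha]
  rw [Finset.sum_congr rfl (fun a _ => hinner a), ← Finset.sum_filter]
  have hfib : ∀ a ∈ Finset.univ.filter (fun a : F => a ^ q = a),
      (Finset.univ.filter (fun b : F => a ^ 2 + b * b ^ q = 1)).card +
        ((if a = 1 then q else 0) + (if a = -1 then q else 0)) = q + 1 := by
    intro a ha
    rw [Finset.mem_filter] at ha
    have ha := ha.2
    by_cases h1 : a = 1
    · subst h1
      rw [if_pos rfl, if_neg hne]
      have : Finset.univ.filter (fun b : F => (1 : F) ^ 2 + b * b ^ q = 1) = {0} := by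
        ext x
        simp only [Finset.mem_filter, Finset.mem_univ, true_and, Finset.mem_singleton]
        constructor
        · intro h
          apply norm_zero hF
          linear_combination h
        · rintro rfl
          simp
      rw [this, Finset.card_singleton]; ring
    by_cases h2 : a = -1
    · subst h2
      rw [if_neg h1, if_pos rfl]
      have : Finset.univ.filter (fun b : F => (-1 : F) ^ 2 + b * b ^ q = 1) = {0} := by
        ext x
        simp only [Finset.mem_filter, Finset.mem_univ, true_and, Finset.mem_singleton]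
        constructor
        · intro h
          apply norm_zero hF
          linear_combination h
        · rintro rfl
          simp
      rw [this, Finset.card_singleton]; ring
    rw [if_neg h1, if_neg h2, add_zero, add_zero]
    have hc0 : 1 - a ^ 2 ≠ 0 := by
      intro h
      have : (a - 1) * (a + 1) = 0 := by linear_combination -h
      rcases mul_eq_zero.mp this with h | h
      · exact h1 (by linear_combination h)
      · exact h2 (by linear_combination h)
    have hc : (1 - a ^ 2) ^ q = 1 - a ^ 2 := by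
      apply sub_fixed hF
      · exact one_pow q
      · rw [← pow_mul, mul_comm, pow_mul, ha]
    rw [← norm_fiber hF (1 - a ^ 2) hc0 hc]
    congr 1
    apply Finset.filter_congr
    intro b _
    constructor
    · intro h; linear_combination h
    · intro h; linear_combination h
  have hsum : ∑ a ∈ Finset.univ.filter (fun a : F => a ^ q = a),
      ((Finset.univ.filter (fun b : F => a ^ 2 + b * b ^ q = 1)).card +
        ((if a = 1 then q else 0) + (if a = -1 then q else 0))) = q * (q + 1) := by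
    rw [Finset.sum_congr rfl hfib, Finset.sum_const, smul_eq_mul, card_fix hF]
  rw [Finset.sum_add_distrib, Finset.sum_add_distrib, Finset.sum_ite_eq', Finset.sum_ite_eq']
    at hsum
  have m1 : (1 : F) ∈ Finset.univ.filter (fun a : F => a ^ q = a) := by simp
  have m2 : (-1 : F) ∈ Finset.univ.filter (fun a : F => a ^ q = a) := by
    simp [hq.neg_one_pow]
  rw [if_pos m1, if_pos m2] at hsum
  obtain ⟨r, rfl⟩ : ∃ r, q = r + 1 := ⟨q - 1, by omega⟩
  rw [Nat.add_sub_cancel]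
  have : ∀ T : ℕ, T + (r + 1 + (r + 1)) = (r + 1) * (r + 1 + 1) → T = (r + 1) * r := by
    intro T hT
    have : T + (r + 1 + (r + 1)) = (r + 1) * r + (r + 1 + (r + 1)) := by rw [hT]; ring
    exact Nat.add_right_cancel this
  exact this _ hsum


/-- shape of an involution commuting with `d0` -/
theorem n1_shape (hq : Odd q) (hF : Fintype.card F = q ^ 2) (x : SU 3 F q) (hx : x ≠ 1)
    (hx2 : x * x = 1) (hxd : x ≠ d0 hq) (hc : Commute (d0 hq) x) :
    (x.1.1 0 2 = 0 ∧ x.1.1 1 2 = 0 ∧ x.1.1 2 0 = 0 ∧ x.1.1 2 1 = 0) ∧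
      x.1.1 2 2 = -1 ∧ x.1.1 1 1 = - x.1.1 0 0 ∧ x.1.1 1 0 = x.1.1 0 1 ^ q ∧
      x.1.1 0 0 ^ q = x.1.1 0 0 ∧ x.1.1 0 0 ^ 2 + x.1.1 0 1 * x.1.1 0 1 ^ q = 1 := by
  have h2F := two_ne hq hF
  have hq0 : q ≠ 0 := by have := two_le_q hF; omega
  obtain ⟨φ, hφ, hφ2⟩ := exists_frob hF
  have hcm : x.1.1 * D0 = D0 * x.1.1 := (congrArg (fun z : SU 3 F q => z.1.1) hc.eq).symm
  have hsq : x.1.1 * x.1.1 = 1 := congrArg (fun z : SU 3 F q => z.1.1) hx2
  obtain ⟨h02, h12, h20, h21⟩ := comm_D0 h2F x.1.1 hcm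
  have hherm := herm_of_inv φ x.1.1 ((hpres_iff φ hφ hq0 x.1.1).mp x.2) hsq
  have e00 := congrFun (congrFun hherm 0) 0
  have e10 := congrFun (congrFun hherm 0) 1
  simp only [Matrix.transpose_apply, Matrix.map_apply, hφ] at e00 e10
  rcases blk_inv h2F x.1.1 h02 h12 h20 h21 hsq x.1.2 with (h | h) | ⟨h22, h11, hqd⟩
  · exact absurd (ext_SU h) hx
  · exact absurd (ext_SU h) hxd
  · refine ⟨⟨h02, h12, h20, h21⟩, h22, h11, e10, e00.symm, ?_⟩
    rw [← e10]
    exact hqd


/-- the involution matrix with parameters `(a, b)` -/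
def Nmat (q : ℕ) (a b : F) : Matrix (Fin 3) (Fin 3) F := !![a, b, 0; b ^ q, -a, 0; 0, 0, -1]

theorem Nmat_det (a b : F) (h : a ^ 2 + b * b ^ q = 1) : (Nmat q a b).det = 1 := by
  rw [Matrix.det_fin_three]
  simp [Nmat]
  linear_combination h

theorem Nmat_sq (a b : F) (h : a ^ 2 + b * b ^ q = 1) : Nmat q a b * Nmat q a b = 1 := by
  ext i j
  fin_cases i <;> fin_cases j <;> simp [Nmat, Matrix.mul_apply, Fin.sum_univ_three] <;>
    first | linear_combination h | ring

theorem Nmat_pres (hF : Fintype.card F = q ^ 2) (a b : F) (ha : a ^ q = a)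
    (h : a ^ 2 + b * b ^ q = 1) : HPres 3 q (Nmat q a b) := by
  have hq0 : q ≠ 0 := by have := two_le_q hF; omega
  obtain ⟨φ, hφ, hφ2⟩ := exists_frob hF
  rw [hpres_iff φ hφ hq0]
  have hb : φ (b ^ q) = b := by rw [hφ, pow_card_sq hF]
  have ha' : φ a = a := by rw [hφ, ha]
  have hb' : φ b = b ^ q := hφ b
  ext i j
  fin_cases i <;> fin_cases j <;>
    simp [Nmat, Matrix.mul_apply, Fin.sum_univ_three, Matrix.map_apply, hb, ha'] <;>
    first | (rw [hb']; linear_combination h) | (rw [hb']; ring) | linear_combination h | ring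

theorem Nmat_comm (a b : F) : D0 * Nmat q a b = Nmat q a b * D0 := by
  ext i j
  fin_cases i <;> fin_cases j <;> simp [Nmat, D0, Matrix.mul_apply, Fin.sum_univ_three]


/-- the number of involutions commuting with `d0`, other than `d0` -/
theorem card_n1 (hq : Odd q) (hF : Fintype.card F = q ^ 2) :
    Nat.card {x : SU 3 F q // x ≠ 1 ∧ x * x = 1 ∧ x ≠ d0 hq ∧ Commute (d0 hq) x} =
      q * (q - 1) := by
  have h2F := two_ne hq hF
  rw [← card_P hq hF h2F]
  apply Nat.card_congr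
  refine Equiv.ofBijective (fun x => ⟨(x.1.1.1 0 0, x.1.1.1 0 1), ?_⟩) ⟨?_, ?_⟩
  · obtain ⟨-, -, -, -, h1, h2⟩ := n1_shape hq hF x.1 x.2.1 x.2.2.1 x.2.2.2.1 x.2.2.2.2
    exact ⟨h1, h2⟩
  · intro x y hxy
    have e := congrArg Subtype.val hxy
    simp only [Prod.mk.injEq] at e
    obtain ⟨⟨a02, a12, a20, a21⟩, a22, a11, a10, -, -⟩ :=
      n1_shape hq hF x.1 x.2.1 x.2.2.1 x.2.2.2.1 x.2.2.2.2
    obtain ⟨⟨b02, b12, b20, b21⟩, b22, b11, b10, -, -⟩ :=
      n1_shape hq hF y.1 y.2.1 y.2.2.1 y.2.2.2.1 y.2.2.2.2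
    apply Subtype.ext
    apply ext_SU
    ext i j
    fin_cases i <;> fin_cases j <;>
      simp [a02, a12, a20, a21, a22, a11, a10, b02, b12, b20, b21, b22, b11, b10, e.1, e.2]
  · rintro ⟨⟨a, b⟩, ha, hab⟩
    simp only at ha hab
    refine ⟨⟨⟨⟨Nmat q a b, Nmat_det a b hab⟩, Nmat_pres hF a b ha hab⟩, ?_, ?_, ?_, ?_⟩, ?_⟩
    · intro h
      have h' : Nmat q a b 2 2 = (1 : Matrix (Fin 3) (Fin 3) F) 2 2 :=
        congrArg (fun z : SU 3 F q => z.1.1 2 2) h
      simp [Nmat] at h'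
      apply h2F
      linear_combination -h'
    · exact ext_SU (Nmat_sq a b hab)
    · intro h
      have h' : Nmat q a b 2 2 = (D0 : Matrix (Fin 3) (Fin 3) F) 2 2 :=
        congrArg (fun z : SU 3 F q => z.1.1 2 2) h
      simp [Nmat, D0] at h'
      apply h2F
      linear_combination -h'
    · exact ext_SU (Nmat_comm a b)
    · apply Subtype.ext
      simp [Nmat]


/-- an involution far from `d0` has a normalised isotropic-tangent vector -/
theorem n3_vec (hq : Odd q) (hF : Fintype.card F = q ^ 2) (x : SU 3 F q) (hx : x ≠ 1)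
    (hx2 : x * x = 1) (hnc : ¬ Commute (d0 hq) x)
    (hno : ∀ y : SU 3 F q, y ≠ 1 → y * y = 1 → ¬ (Commute (d0 hq) y ∧ Commute y x)) :
    IsVec q x.1.1 ![x.1.1 0 2 / 2, x.1.1 1 2 / 2, 1] ∧
      (x.1.1 0 2 / 2) * (x.1.1 0 2 / 2) ^ q + (x.1.1 1 2 / 2) * (x.1.1 1 2 / 2) ^ q = 0 ∧
      ¬ (x.1.1 0 2 = 0 ∧ x.1.1 1 2 = 0) := by
  have h2F := two_ne hq hF
  have hq0 : q ≠ 0 := by have := two_le_q hF; omega
  obtain ⟨w, hX⟩ := exists_vec hq hF x hx hx2
  have hw2 : w 2 ≠ 0 := fun h => hnc (comm_d0_of hq hF x w hX h)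
  have hN : w 0 * w 0 ^ q + w 1 * w 1 ^ q = 0 := by
    by_contra hc
    have haa : hermForm 3 F q ![w 1 ^ q, - w 0 ^ q, 0] ![w 1 ^ q, - w 0 ^ q, 0] ≠ 0 := by
      rw [herm3]
      simp only [Matrix.cons_val_zero, Matrix.cons_val_one, Matrix.cons_val_two,
        Matrix.head_cons, Matrix.tail_cons]
      rw [hq.neg_pow, pow_card_sq hF, pow_card_sq hF, zero_pow hq0]
      intro h; apply hc; linear_combination h
    obtain ⟨y, μ, hy, hy2, hY⟩ := exists_inv_of_ne hq hF _ haa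
    apply hno y hy hy2
    constructor
    · apply comm_d0_of hq hF y _ hY
      simp
    · apply comm_grp hF y x _ w hY hX
      rw [herm_smul_right, herm3]
      simp only [Matrix.cons_val_zero, Matrix.cons_val_one, Matrix.cons_val_two,
        Matrix.head_cons, Matrix.tail_cons]
      rw [hq.neg_pow, pow_card_sq hF, pow_card_sq hF, zero_pow hq0]
      ring
  have hone := hX.1
  rw [herm3] at hone
  have hN2 : w 2 * w 2 ^ q = 1 := by linear_combination hone - hN
  have hc : w 2 ^ q * (w 2 ^ q) ^ q = 1 := by rw [pow_card_sq hF]; linear_combination hN2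
  have hX' := vec_scale x.1.1 w hX (w 2 ^ q) hc
  have e02 : x.1.1 0 2 = 2 * w 0 * w 2 ^ q := by rw [hX.2]; simp
  have e12 : x.1.1 1 2 = 2 * w 1 * w 2 ^ q := by rw [hX.2]; simp
  have hdiv : ∀ z : F, (2 * z * w 2 ^ q / 2) = z * w 2 ^ q := by intro z; field_simp
  have evec : (w 2 ^ q) • w = ![x.1.1 0 2 / 2, x.1.1 1 2 / 2, 1] := by
    funext i
    fin_cases i
    · simp [e02, hdiv]; ring
    · simp [e12, hdiv]; ring
    · simp; linear_combination hN2
  rw [evec] at hX'
  refine ⟨hX', ?_, ?_⟩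
  · rw [e02, e12, hdiv, hdiv, mul_pow, mul_pow, pow_card_sq hF]
    linear_combination (w 2 * w 2 ^ q) * hN
  · rintro ⟨h0, h1⟩
    have hpw : w 2 ^ q ≠ 0 := pow_ne_zero q hw2
    have hw0 : w 0 = 0 := by
      rw [e02] at h0
      rcases mul_eq_zero.mp h0 with h | h
      · exact (mul_eq_zero.mp h).resolve_left h2F
      · exact absurd h hpw
    have hw1 : w 1 = 0 := by
      rw [e12] at h1
      rcases mul_eq_zero.mp h1 with h | h
      · exact (mul_eq_zero.mp h).resolve_left h2F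
      · exact absurd h hpw
    apply hnc
    have : x = d0 hq := by
      apply ext_SU
      ext i j
      rw [hX.2]
      show _ = (D0 : Matrix (Fin 3) (Fin 3) F) i j
      fin_cases i <;> fin_cases j <;> simp [D0, hw0, hw1, hq0]
      linear_combination 2 * hN2
    rw [this]


/-- every nonzero isotropic vector of the plane gives an involution far from `d0` -/
theorem n3_surj (hq : Odd q) (hF : Fintype.card F = q ^ 2) (v0 v1 : F)
    (hv : v0 * v0 ^ q + v1 * v1 ^ q = 0) (hv0 : ¬ (v0 = 0 ∧ v1 = 0)) :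
    ∃ x : SU 3 F q, x ≠ 1 ∧ x * x = 1 ∧ ¬ Commute (d0 hq) x ∧
      (∀ y : SU 3 F q, y ≠ 1 → y * y = 1 → ¬ (Commute (d0 hq) y ∧ Commute y x)) ∧
      IsVec q x.1.1 ![v0, v1, 1] := by
  have h2F := two_ne hq hF
  have hq0 : q ≠ 0 := by have := two_le_q hF; omega
  have hunit : hermForm 3 F q ![v0, v1, 1] ![v0, v1, 1] = 1 := by
    rw [herm3]
    simp only [Matrix.cons_val_zero, Matrix.cons_val_one, Matrix.cons_val_two,
      Matrix.head_cons, Matrix.tail_cons]
    rw [one_pow]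
    linear_combination hv
  obtain ⟨x, hx, hx2, hX⟩ := exists_inv_of_vec hq hF _ hunit
  have e0 : x.1.1 0 2 = 2 * v0 := by rw [hX.2]; simp
  have e1 : x.1.1 1 2 = 2 * v1 := by rw [hX.2]; simp
  have hnc : ¬ Commute (d0 hq) x := by
    intro hc
    by_cases hxd : x = d0 hq
    · apply hv0
      have d02 : x.1.1 0 2 = 0 := by
        rw [hxd]; show (D0 : Matrix (Fin 3) (Fin 3) F) 0 2 = 0; simp [D0]
      have d12 : x.1.1 1 2 = 0 := by
        rw [hxd]; show (D0 : Matrix (Fin 3) (Fin 3) F) 1 2 = 0; simp [D0]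
      rw [e0] at d02
      rw [e1] at d12
      exact ⟨(mul_eq_zero.mp d02).resolve_left h2F, (mul_eq_zero.mp d12).resolve_left h2F⟩
    · have := w2_of_comm hq hF x _ hX hc hxd
      simp at this
  refine ⟨x, hx, hx2, hnc, ?_, hX⟩
  rintro y hy hy2 ⟨c1, c2⟩
  obtain ⟨u, hY⟩ := exists_vec hq hF y hy hy2
  have hyd : y ≠ d0 hq := by rintro rfl; exact hnc c2
  have hyx : y ≠ x := by rintro rfl; exact hnc c1
  have hu2 := w2_of_comm hq hF y u hY c1 hyd
  have horth := orth_grp hq hF y x u _ hY hX c2 hyx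
  rw [herm3] at horth
  simp only [Matrix.cons_val_zero, Matrix.cons_val_one, Matrix.cons_val_two,
    Matrix.head_cons, Matrix.tail_cons, hu2, zero_mul, add_zero] at horth
  have hu1 := hY.1
  rw [herm3, hu2, zero_mul, add_zero] at hu1
  have hA : u 0 * v0 ^ q = -(u 1 * v1 ^ q) := by linear_combination horth
  have hA2 := congrArg (fun z => z * z ^ q) hA
  simp only [mul_pow, hq.neg_pow, pow_card_sq hF] at hA2
  have h3 : v0 * v0 ^ q * (u 0 * u 0 ^ q + u 1 * u 1 ^ q) = 0 := by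
    linear_combination hA2 + (u 1 * u 1 ^ q) * hv
  rw [hu1, mul_one] at h3
  have hv00 : v0 = 0 := norm_zero hF v0 h3
  have hv10 : v1 = 0 := by
    apply norm_zero hF
    rw [hv00] at hv
    linear_combination hv
  exact hv0 ⟨hv00, hv10⟩


/-- the number of nonzero isotropic vectors of the Hermitian plane -/
theorem card_iso (hF : Fintype.card F = q ^ 2) :
    Nat.card {v : Fin 2 → F // (∑ i, v i * v i ^ q = 0) ∧ ¬ v = 0} = (q + 1) * (q ^ 2 - 1) := by
  have hq0 : q ≠ 0 := by have := two_le_q hF; omega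
  have h1 := card_split (fun v : Fin 2 → F => ∑ i, v i * v i ^ q = 0) (fun v => v = 0)
  rw [hcount_eq_card, hcount_isotropic hF 2,
    card_one (fun v : Fin 2 → F => ∑ i, v i * v i ^ q = 0) 0 (by simp [hq0])] at h1
  simp only [even_two, if_true] at h1
  have h2 : (q ^ 2 - 1) * (q ^ (2 - 1) + 1) =
      Nat.card {v : Fin 2 → F // (∑ i, v i * v i ^ q = 0) ∧ ¬ v = 0} := by omega
  rw [← h2]
  simp only [Nat.add_one_sub_one, pow_one]
  ring

/-- the number of involutions at distance three from `d0` -/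
theorem card_n3 (hq : Odd q) (hF : Fintype.card F = q ^ 2) :
    Nat.card {x : SU 3 F q // x ≠ 1 ∧ x * x = 1 ∧ ¬ Commute (d0 hq) x ∧
        ∀ y : SU 3 F q, y ≠ 1 → y * y = 1 → ¬ (Commute (d0 hq) y ∧ Commute y x)} =
      (q + 1) * (q ^ 2 - 1) := by
  have h2F := two_ne hq hF
  rw [← card_iso hF]
  apply Nat.card_congr
  refine Equiv.ofBijective (fun x => ⟨![x.1.1.1 0 2 / 2, x.1.1.1 1 2 / 2], ?_⟩) ⟨?_, ?_⟩
  · obtain ⟨-, h1, h2⟩ := n3_vec hq hF x.1 x.2.1 x.2.2.1 x.2.2.2.1 x.2.2.2.2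
    refine ⟨?_, ?_⟩
    · rw [Fin.sum_univ_two]
      exact h1
    · intro h
      apply h2
      have a0 := congrFun h 0
      have a1 := congrFun h 1
      simp only [Matrix.cons_val_zero, Matrix.cons_val_one, Pi.zero_apply,
        div_eq_zero_iff] at a0 a1
      exact ⟨a0.resolve_right h2F, a1.resolve_right h2F⟩
  · intro x y hxy
    have e := congrArg Subtype.val hxy
    simp only at e
    have e0 := congrFun e 0
    have e1 := congrFun e 1
    simp only [Matrix.cons_val_zero, Matrix.cons_val_one] at e0 e1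
    obtain ⟨hX, -, -⟩ := n3_vec hq hF x.1 x.2.1 x.2.2.1 x.2.2.2.1 x.2.2.2.2
    obtain ⟨hY, -, -⟩ := n3_vec hq hF y.1 y.2.1 y.2.2.1 y.2.2.2.1 y.2.2.2.2
    rw [e0, e1] at hX
    exact Subtype.ext (ext_SU (vec_ext _ _ _ hX hY))
  · rintro ⟨v, hv, hv0⟩
    rw [Fin.sum_univ_two] at hv
    have hv0' : ¬ (v 0 = 0 ∧ v 1 = 0) := by
      rintro ⟨a0, a1⟩
      apply hv0
      funext i
      fin_cases i
      · exact a0
      · exact a1
    obtain ⟨x, hx, hx2, hnc, hno, hX⟩ := n3_surj hq hF (v 0) (v 1) hv hv0'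
    refine ⟨⟨x, hx, hx2, hnc, hno⟩, ?_⟩
    apply Subtype.ext
    funext i
    have e0 : x.1.1 0 2 = 2 * v 0 := by rw [hX.2]; simp
    have e1 : x.1.1 1 2 = 2 * v 1 := by rw [hX.2]; simp
    fin_cases i
    · show x.1.1 0 2 / 2 = v 0
      rw [e0]; field_simp
    · show x.1.1 1 2 / 2 = v 1
      rw [e1]; field_simp


/-- every involution is within distance three of `d0` -/
theorem path_d0 (hq : Odd q) (hF : Fintype.card F = q ^ 2) (x : SU 3 F q) (hx : x ≠ 1)
    (hx2 : x * x = 1) :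
    ∃ y z : SU 3 F q, y ≠ 1 ∧ y * y = 1 ∧ z ≠ 1 ∧ z * z = 1 ∧
      Commute (d0 hq) y ∧ Commute y z ∧ Commute z x := by
  have h2F := two_ne hq hF
  have hq0 : q ≠ 0 := by have := two_le_q hF; omega
  by_cases hc : Commute (d0 hq) x
  · exact ⟨d0 hq, x, d0_ne_one hq hF, d0_sq hq, hx, hx2, Commute.refl _, hc, Commute.refl _⟩
  by_cases hex : ∃ y : SU 3 F q, y ≠ 1 ∧ y * y = 1 ∧ Commute (d0 hq) y ∧ Commute y x
  · obtain ⟨y, hy, hy2, c1, c2⟩ := hex
    exact ⟨y, x, hy, hy2, hx, hx2, c1, c2, Commute.refl _⟩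
  have hno : ∀ y : SU 3 F q, y ≠ 1 → y * y = 1 → ¬ (Commute (d0 hq) y ∧ Commute y x) :=
    fun y hy hy2 h => hex ⟨y, hy, hy2, h.1, h.2⟩
  obtain ⟨hX, hN, -⟩ := n3_vec hq hF x hx hx2 hc hno
  generalize x.1.1 0 2 / 2 = v0 at hX hN
  generalize x.1.1 1 2 / 2 = v1 at hX hN
  have key : ∀ e a : Fin 3 → F, hermForm 3 F q e e = 1 → e 2 = 0 → hermForm 3 F q a a ≠ 0 →
      hermForm 3 F q a e = 0 → hermForm 3 F q a ![v0, v1, 1] = 0 →
      ∃ y z : SU 3 F q, y ≠ 1 ∧ y * y = 1 ∧ z ≠ 1 ∧ z * z = 1 ∧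
        Commute (d0 hq) y ∧ Commute y z ∧ Commute z x := by
    intro e a he he2 ha hae hav
    obtain ⟨y, hy, hy2, hY⟩ := exists_inv_of_vec hq hF e he
    obtain ⟨z, μ, hz, hz2, hZ⟩ := exists_inv_of_ne hq hF a ha
    refine ⟨y, z, hy, hy2, hz, hz2, comm_d0_of hq hF y e hY he2, ?_, ?_⟩
    · apply comm_grp hF y z e _ hY hZ
      rw [herm_smul_left, hae, mul_zero]
    · apply Commute.symm
      apply comm_grp hF x z _ _ hX hZ
      rw [herm_smul_left, hav, mul_zero]
  by_cases h1 : 1 + v1 * v1 ^ q = 0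
  · apply key (Pi.single 1 1) ![1, 0, - v0 ^ q]
    · rw [herm_single hq0]; simp
    · simp
    · rw [herm3]
      simp only [Matrix.cons_val_zero, Matrix.cons_val_one, Matrix.cons_val_two,
        Matrix.head_cons, Matrix.tail_cons]
      rw [hq.neg_pow, pow_card_sq hF, zero_pow hq0, one_pow]
      intro h
      apply h2F
      linear_combination h + h1 - hN
    · rw [herm3]
      simp [hq0]
    · rw [herm3]
      simp only [Matrix.cons_val_zero, Matrix.cons_val_one, Matrix.cons_val_two,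
        Matrix.head_cons, Matrix.tail_cons]
      ring
  · apply key (Pi.single 0 1) ![0, 1, - v1 ^ q]
    · rw [herm_single hq0]; simp
    · simp
    · rw [herm3]
      simp only [Matrix.cons_val_zero, Matrix.cons_val_one, Matrix.cons_val_two,
        Matrix.head_cons, Matrix.tail_cons]
      rw [hq.neg_pow, pow_card_sq hF, zero_pow hq0, one_pow]
      intro h
      apply h1
      linear_combination h
    · rw [herm3]
      simp [hq0]
    · rw [herm3]
      simp only [Matrix.cons_val_zero, Matrix.cons_val_one, Matrix.cons_val_two,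
        Matrix.head_cons, Matrix.tail_cons]
      ring

end Cfsg.Agent.Helper15.UK
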